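import Mathlib
import Groth.Agent.Lib.Helper58.HenselPairIdem
import Groth.Agent.S0525

/-!
# Integral local algebras over henselian local rings, universe-polymorphic version (helper69)

* `henselianRing_of_isIntegral` : Stacks 09XK with the two rings in different universes.
* `henselianLocalRing_of_isIntegral` : a local ring `D : Type v` integral over a henselian local
  ring `S : Type u` is henselian.
* `isSepClosed_residueField_of_isIntegral` : its residue field is separably closed if that of `S` is.
-/

set_option autoImplicit false
universe u v

namespace Groth.Agent.Lib.Helper69.HensIntegralU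

open IsLocalRing

/-- Stacks 09XK, universe-polymorphic: an integral extension of a henselian pair is henselian. -/
theorem henselianRing_of_isIntegral {A : Type u} [CommRing A] (I : Ideal A) [HenselianRing A I]
    (B : Type v) [CommRing B] [Algebra A B] [Algebra.IsIntegral A B] :
    HenselianRing B (Ideal.map (algebraMap A B) I) := by
  refine Groth.Agent.Lib.Helper58.HenselPair.henselian_of_bijOn_finite fun C _ _ hfin => ?_
  let _ : Algebra A C := ((algebraMap B C).comp (algebraMap A B)).toAlgebra
  have : IsScalarTower A B C := IsScalarTower.of_algebraMap_eq' rfl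
  have : Algebra.IsIntegral B C := Algebra.IsIntegral.of_finite B C
  have : Algebra.IsIntegral A C := Algebra.IsIntegral.trans B
  have h := Groth.Agent.Lib.Helper58.HenselPair.bijOn_idempotents_of_isIntegral
    (A := A) (I := I) (B := C)
  have e : (I.map (algebraMap A B)).map (algebraMap B C) = I.map (algebraMap A C) := by
    rw [Ideal.map_map]; rfl
  rw [e]; exact h

/-- A local ring integral over a henselian local ring is henselian (universe-polymorphic). -/
theorem henselianLocalRing_of_isIntegral (S : Type u) (D : Type v) [CommRing S]
    [HenselianLocalRing S] [CommRing D] [IsLocalRing D] [Algebra S D] [Algebra.IsIntegral S D] :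
    HenselianLocalRing D := by
  have hS : HenselianRing S (maximalIdeal S) := inferInstance
  have hpair : HenselianRing D ((maximalIdeal S).map (algebraMap S D)) :=
    henselianRing_of_isIntegral (maximalIdeal S) D
  set I : Ideal D := (maximalIdeal S).map (algebraMap S D) with hIdef
  have hjac : I ≤ Ideal.jacobson ⊥ := hpair.jac
  have hI : I ≠ ⊤ := by
    intro h
    rw [h, top_le_iff] at hjac
    have : (1 : D) ∈ Ideal.jacobson (⊥ : Ideal D) := by rw [hjac]; trivial
    have h0 := (Ideal.mem_jacobson_bot.mp this) (-1)
    rw [one_mul, neg_add_cancel] at h0
    exact not_isUnit_zero h0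
  have hIle : I ≤ maximalIdeal D := IsLocalRing.le_maximalIdeal hI
  have hrad : I.radical = (maximalIdeal D).radical := by
    rw [(Ideal.IsPrime.isRadical (inferInstance : (maximalIdeal D).IsPrime)).radical]
    apply le_antisymm
    · exact (Ideal.IsPrime.radical_le_iff inferInstance).mpr hIle
    · rw [Ideal.radical_eq_sInf]
      apply le_sInf
      rintro P ⟨hIP, hP⟩
      have h1 : maximalIdeal S ≤ P.comap (algebraMap S D) :=
        Ideal.map_le_iff_le_comap.mp hIP
      have h2 : (P.comap (algebraMap S D)).IsPrime := Ideal.comap_isPrime _ _
      have h3 : P.comap (algebraMap S D) = maximalIdeal S :=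
        ((maximalIdeal.isMaximal S).eq_of_le h2.ne_top h1).symm
      have h4 : P.IsMaximal :=
        Ideal.isMaximal_of_isIntegral_of_isMaximal_comap P (by rw [h3]; infer_instance)
      rw [IsLocalRing.eq_maximalIdeal h4]
  have hpair' : HenselianRing D (maximalIdeal D) :=
    (Groth.Agent.S0525.result _ I _ hrad).mp hpair
  exact
    { is_henselian := fun f hf a₀ h₁ h₂ =>
        HenselianRing.is_henselian (R := D) (I := maximalIdeal D) f hf a₀ h₁ (h₂.map _) }

/-- The structure map of a local ring integral over a local ring is local. -/
theorem isLocalHom_of_isIntegral (S : Type u) (D : Type v) [CommRing S] [IsLocalRing S]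
    [CommRing D] [IsLocalRing D] [Algebra S D] [Algebra.IsIntegral S D] :
    IsLocalHom (algebraMap S D) := by
  have h1 : ((maximalIdeal D).comap (algebraMap S D)).IsMaximal :=
    Ideal.isMaximal_comap_of_isIntegral_of_isMaximal (maximalIdeal D)
  have h2 : (maximalIdeal D).comap (algebraMap S D) = maximalIdeal S :=
    IsLocalRing.eq_maximalIdeal h1
  exact ((local_hom_TFAE (algebraMap S D)).out 0 4).mpr h2

/-- The residue field of a local ring integral over a local ring with separably closed residue
field is separably closed. -/
theorem isSepClosed_residueField_of_isIntegral (S : Type u) (D : Type v) [CommRing S]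
    [IsLocalRing S] [IsSepClosed (ResidueField S)] [CommRing D] [IsLocalRing D] [Algebra S D]
    [Algebra.IsIntegral S D] : IsSepClosed (ResidueField D) := by
  haveI := isLocalHom_of_isIntegral S D
  haveI : Algebra.IsIntegral S (ResidueField D) := Algebra.IsIntegral.trans D
  haveI : Algebra.IsIntegral (ResidueField S) (ResidueField D) :=
    Algebra.IsIntegral.tower_top S
  haveI : Algebra.IsAlgebraic (ResidueField S) (ResidueField D) :=
    Algebra.IsIntegral.isAlgebraic
  exact Algebra.IsAlgebraic.isSepClosed (F := ResidueField S)

end Groth.Agent.Lib.Helper69.HensIntegralU
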