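import Mathlib
import Groth.Prelude.Def_Hensel
import Groth.Agent.Lib.Helper87.HensStrictProps
import Groth.Agent.Lib.Helper9.HenselSplit
import Groth.Agent.S0526
import Groth.Agent.S0525

set_option autoImplicit false
universe u

/-!
# Strict henselization of a finite local algebra (helper69)

* `henselianLocalRing_of_isIntegral`: a local ring integral over a henselian local ring is henselian.
* `surjective_algebraMap_atPrime`: for `C` finite over a henselian local ring and `q` maximal,
  `C → C_q` is surjective.
* `isStrictHenselization_atPrime`: for `B` a finite local `A`-algebra, `S` a strict henselization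
  of `A`, and `q` a maximal ideal of `B ⊗[A] S`, the local ring `(B ⊗[A] S)_q` is a strict
  henselization of `B`.
-/

namespace Groth.Agent.Lib.Helper69.HensFinite

open IsLocalRing TensorProduct

/-- A local ring integral over a henselian local ring is henselian. -/
theorem henselianLocalRing_of_isIntegral (S D : Type u) [CommRing S] [HenselianLocalRing S]
    [CommRing D] [IsLocalRing D] [Algebra S D] [Algebra.IsIntegral S D] :
    HenselianLocalRing D := by
  have hpair : HenselianRing D ((maximalIdeal S).map (algebraMap S D)) :=
    Groth.Agent.S0526.result S (maximalIdeal S) D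
  set I : Ideal D := (maximalIdeal S).map (algebraMap S D) with hIdef
  have hjac : I ≤ Ideal.jacobson ⊥ := hpair.jac
  have hI : I ≠ ⊤ := by
    intro h
    rw [h, top_le_iff] at hjac
    have : (1 : D) ∈ Ideal.jacobson (⊥ : Ideal D) := by rw [hjac]; trivial
    have h0 := (Ideal.mem_jacobson_bot.mp this) (-1)
    rw [one_mul, neg_add_cancel] at h0
    exact not_isUnit_zero h0
  have hIle : I ≤ maximalIdeal D := IsLocalRing.le_maximalIdeal hI
  have hrad : I.radical = (maximalIdeal D).radical := by
    rw [(Ideal.IsPrime.isRadical (inferInstance : (maximalIdeal D).IsPrime)).radical]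
    apply le_antisymm
    · exact (Ideal.IsPrime.radical_le_iff inferInstance).mpr hIle
    · rw [Ideal.radical_eq_sInf]
      apply le_sInf
      rintro P ⟨hIP, hP⟩
      have h1 : maximalIdeal S ≤ P.comap (algebraMap S D) :=
        Ideal.map_le_iff_le_comap.mp hIP
      have h2 : (P.comap (algebraMap S D)).IsPrime := Ideal.comap_isPrime _ _
      have h3 : P.comap (algebraMap S D) = maximalIdeal S :=
        ((maximalIdeal.isMaximal S).eq_of_le h2.ne_top h1).symm
      have h4 : P.IsMaximal :=
        Ideal.isMaximal_of_isIntegral_of_isMaximal_comap P (by rw [h3]; infer_instance)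
      rw [IsLocalRing.eq_maximalIdeal h4]
  have hpair' : HenselianRing D (maximalIdeal D) :=
    (Groth.Agent.S0525.result _ I _ hrad).mp hpair
  exact
    { is_henselian := fun f hf a₀ h₁ h₂ =>
        HenselianRing.is_henselian (R := D) (I := maximalIdeal D) f hf a₀ h₁ (h₂.map _) }

/-- For `C` finite over a henselian local ring and `q` a maximal ideal, `C → C_q` is surjective. -/
theorem surjective_algebraMap_atPrime (S C : Type u) [CommRing S] [HenselianLocalRing S]
    [CommRing C] [Algebra S C] [Module.Finite S C] (q : Ideal C) [hq : q.IsMaximal] :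
    Function.Surjective (algebraMap C (Localization.AtPrime q)) := by
  obtain ⟨n, e, he, hloc⟩ :=
    Groth.Agent.Lib.Helper9.exists_completeOrthogonalIdempotents_of_finite (R := S) C
  -- some `e i ∉ q`
  obtain ⟨i, hi⟩ : ∃ i, e i ∉ q := by
    by_contra h
    push_neg at h
    have : (1 : C) ∈ q := by
      rw [← he.complete]
      exact Ideal.sum_mem _ fun i _ => h i
    exact hq.ne_top ((Ideal.eq_top_iff_one _).mpr this)
  have hidem : IsIdempotentElem (e i) := he.idem i
  have h1e : 1 - e i ∈ q := by
    have : e i * (1 - e i) ∈ q := by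
      have : e i * (1 - e i) = 0 := by
        rw [mul_sub, mul_one, hidem.eq, sub_self]
      rw [this]; exact zero_mem _
    exact (hq.isPrime.mem_or_mem this).resolve_left hi
  haveI := hloc i
  set D' := C ⧸ Ideal.span {1 - e i} with hD'
  -- comap of the maximal ideal of D' is q
  have hcomap : (maximalIdeal D').comap (Ideal.Quotient.mk (Ideal.span {1 - e i})) = q := by
    have hle : q ≤ (maximalIdeal D').comap (Ideal.Quotient.mk (Ideal.span {1 - e i})) := by
      intro x hx
      rw [Ideal.mem_comap]
      by_contra hx'
      have hu : IsUnit (Ideal.Quotient.mk (Ideal.span {1 - e i}) x) := by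
        by_contra hnu
        exact hx' ((IsLocalRing.mem_maximalIdeal _).mpr hnu)
      obtain ⟨y, hy⟩ := hu.exists_right_inv
      obtain ⟨y, rfl⟩ := Ideal.Quotient.mk_surjective y
      rw [← map_mul, ← map_one (Ideal.Quotient.mk (Ideal.span {1 - e i})), Ideal.Quotient.eq,
        Ideal.mem_span_singleton'] at hy
      obtain ⟨r, hr⟩ := hy
      have : (1 : C) ∈ q := by
        have h2 : (1 : C) = x * y - r * (1 - e i) := by rw [hr]; ring
        rw [h2]
        exact sub_mem (Ideal.mul_mem_right _ _ hx) (Ideal.mul_mem_left _ _ h1e)
      exact hq.ne_top ((Ideal.eq_top_iff_one _).mpr this)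
    have hne : (maximalIdeal D').comap (Ideal.Quotient.mk (Ideal.span {1 - e i})) ≠ ⊤ :=
      (Ideal.comap_isPrime _ _).ne_top
    exact (hq.eq_of_le hne hle).symm
  -- `e i` becomes `1` in the localization
  have he1 : algebraMap C (Localization.AtPrime q) (e i) = 1 := by
    have hu : IsUnit (algebraMap C (Localization.AtPrime q) (e i)) :=
      IsLocalization.map_units (Localization.AtPrime q) (⟨e i, hi⟩ : q.primeCompl)
    have hid : algebraMap C (Localization.AtPrime q) (e i) *
        algebraMap C (Localization.AtPrime q) (e i) = algebraMap C (Localization.AtPrime q) (e i) := by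
      rw [← map_mul, hidem.eq]
    exact (hu.mul_left_cancel (by rw [hid, mul_one]))
  intro z
  obtain ⟨c, s, rfl⟩ := IsLocalization.exists_mk'_eq q.primeCompl z
  -- `s` is a unit in D'
  have hs : IsUnit (Ideal.Quotient.mk (Ideal.span {1 - e i}) (s : C)) := by
    by_contra hnu
    have : (s : C) ∈ (maximalIdeal D').comap (Ideal.Quotient.mk (Ideal.span {1 - e i})) :=
      (IsLocalRing.mem_maximalIdeal _).mpr hnu
    rw [hcomap] at this
    exact s.2 this
  obtain ⟨t, ht⟩ := hs.exists_right_inv
  obtain ⟨t, rfl⟩ := Ideal.Quotient.mk_surjective t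
  rw [← map_mul, ← map_one (Ideal.Quotient.mk (Ideal.span {1 - e i})), Ideal.Quotient.eq,
    Ideal.mem_span_singleton'] at ht
  obtain ⟨r, hr⟩ := ht
  have hst : algebraMap C (Localization.AtPrime q) (s : C) *
      algebraMap C (Localization.AtPrime q) t = 1 := by
    have h2 : (s : C) * t = 1 + r * (1 - e i) := by rw [hr]; ring
    rw [← map_mul, h2, map_add, map_one, map_mul, map_sub, map_one, he1, sub_self, mul_zero,
      add_zero]
  refine ⟨c * t, ?_⟩
  rw [IsLocalization.eq_mk'_iff_mul_eq, map_mul, mul_assoc, mul_comm (algebraMap C _ t), hst,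
    mul_one]

section Main

variable (A B S : Type u) [CommRing A] [IsLocalRing A] [CommRing B] [IsLocalRing B] [Algebra A B]
  [Module.Finite A B]
  [CommRing S] [IsLocalRing S] [Algebra A S] [IsLocalHom (algebraMap A S)]
  [Hensel.IsStrictHenselization A S]

attribute [local instance] Algebra.TensorProduct.rightAlgebra

omit [IsLocalRing A] [IsLocalRing B] [IsLocalRing S] [IsLocalHom (algebraMap A S)]
  [Hensel.IsStrictHenselization A S] in
theorem finite_right : Module.Finite S (B ⊗[A] S) := by
  have h : (algebraMap A B).Finite := RingHom.finite_algebraMap.mpr inferInstance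
  have := RingHom.finite_isStableUnderBaseChange A B S (B ⊗[A] S) h
  exact RingHom.finite_algebraMap.mp this

variable (q : Ideal (B ⊗[A] S)) [q.IsMaximal]

theorem surjective_atPrime :
    Function.Surjective (algebraMap (B ⊗[A] S) (Localization.AtPrime q)) := by
  have : HenselianLocalRing S := Hensel.IsStrictHenselization.henselian A
  have := finite_right A B S
  exact surjective_algebraMap_atPrime S (B ⊗[A] S) q

theorem finite_atPrime : Module.Finite S (Localization.AtPrime q) := by
  have := finite_right A B S
  exact Module.Finite.of_surjective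
    (IsScalarTower.toAlgHom S (B ⊗[A] S) (Localization.AtPrime q)).toLinearMap
    (surjective_atPrime A B S q)

theorem henselian_atPrime : HenselianLocalRing (Localization.AtPrime q) := by
  have : HenselianLocalRing S := Hensel.IsStrictHenselization.henselian A
  have := finite_atPrime A B S q
  exact henselianLocalRing_of_isIntegral S (Localization.AtPrime q)

theorem isLocalHom_S_atPrime : IsLocalHom (algebraMap S (Localization.AtPrime q)) := by
  have := finite_atPrime A B S q
  exact Groth.Agent.Lib.Helper9.isLocalHom_of_isIntegral

theorem isLocalHom_A_B : IsLocalHom (algebraMap A B) :=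
  Groth.Agent.Lib.Helper9.isLocalHom_of_isIntegral

theorem isLocalHom_B_atPrime : IsLocalHom (algebraMap B (Localization.AtPrime q)) := by
  have := finite_atPrime A B S q
  have := isLocalHom_S_atPrime A B S q
  set D := Localization.AtPrime q
  have h1 : (maximalIdeal D).comap (algebraMap S D) = maximalIdeal S :=
    ((local_hom_TFAE (algebraMap S D)).out 0 4).mp (inferInstance : IsLocalHom (algebraMap S D))
  have h2 : (maximalIdeal S).comap (algebraMap A S) = maximalIdeal A :=
    ((local_hom_TFAE (algebraMap A S)).out 0 4).mp (inferInstance : IsLocalHom (algebraMap A S))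
  set P := (maximalIdeal D).comap (algebraMap B D) with hP
  have hPp : P.IsPrime := Ideal.comap_isPrime _ _
  have h3 : P.comap (algebraMap A B) = maximalIdeal A := by
    rw [hP, Ideal.comap_comap, ← IsScalarTower.algebraMap_eq, IsScalarTower.algebraMap_eq A S D,
      ← Ideal.comap_comap, h1, h2]
  have h4 : P.IsMaximal :=
    Ideal.isMaximal_of_isIntegral_of_isMaximal_comap P (by rw [h3]; infer_instance)
  exact ((local_hom_TFAE (algebraMap B D)).out 0 4).mpr (IsLocalRing.eq_maximalIdeal h4)

theorem isSepClosure_atPrime [IsLocalHom (algebraMap B (Localization.AtPrime q))] :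
    IsSepClosure (ResidueField B) (ResidueField (Localization.AtPrime q)) := by
  set D := Localization.AtPrime q with hD
  have hfin := finite_atPrime A B S q
  have hlS := isLocalHom_S_atPrime A B S q
  have hlAB := isLocalHom_A_B A B
  have hlAD : IsLocalHom (algebraMap A D) := by
    rw [IsScalarTower.algebraMap_eq A S D]; exact RingHom.isLocalHom_comp _ _
  have hsc : IsSepClosure (ResidueField A) (ResidueField S) :=
    Hensel.IsStrictHenselization.isSepClosure
  have : IsSepClosed (ResidueField S) := hsc.sep_closed
  have : Algebra.IsAlgebraic (ResidueField S) (ResidueField D) := Algebra.IsAlgebraic.of_finite _ _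
  refine ⟨Algebra.IsAlgebraic.isSepClosed (F := ResidueField S), ⟨fun x => ?_⟩⟩
  obtain ⟨d, rfl⟩ := residue_surjective x
  obtain ⟨c, rfl⟩ := surjective_atPrime A B S q d
  rw [← mem_separableClosure_iff]
  induction c with
  | zero => rw [map_zero, map_zero]; exact zero_mem _
  | add x y hx hy => rw [map_add, map_add]; exact add_mem hx hy
  | tmul b s =>
    have e : b ⊗ₜ[A] s = algebraMap B (B ⊗[A] S) b * algebraMap S (B ⊗[A] S) s := by
      rw [Algebra.TensorProduct.algebraMap_apply, Algebra.TensorProduct.right_algebraMap_apply,
        Algebra.TensorProduct.tmul_mul_tmul, mul_one, Algebra.algebraMap_self, RingHom.id_apply,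
        one_mul]
    rw [e, map_mul, map_mul, ← IsScalarTower.algebraMap_apply, ← IsScalarTower.algebraMap_apply]
    refine mul_mem ?_ ?_
    · exact (separableClosure (ResidueField B) (ResidueField D)).algebraMap_mem (residue B b)
    · rw [mem_separableClosure_iff]
      have h1 : IsSeparable (ResidueField A) (residue S s) := hsc.separable.isSeparable _ _
      have h2 : IsSeparable (ResidueField A)
          (algebraMap (ResidueField S) (ResidueField D) (residue S s)) :=
        h1.map (IsScalarTower.toAlgHom (ResidueField A) (ResidueField S) (ResidueField D))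
          (algebraMap (ResidueField S) (ResidueField D)).injective
      exact h2.tower_top (L := ResidueField B)

omit [IsLocalRing A] [IsLocalRing B] [Module.Finite A B] [IsLocalRing S]
  [IsLocalHom (algebraMap A S)] [Hensel.IsStrictHenselization A S] [q.IsMaximal] in
theorem tmul_eq (b : B) (s : S) :
    b ⊗ₜ[A] s = algebraMap B (B ⊗[A] S) b * algebraMap S (B ⊗[A] S) s := by
  rw [Algebra.TensorProduct.algebraMap_apply, Algebra.TensorProduct.right_algebraMap_apply,
    Algebra.TensorProduct.tmul_mul_tmul, mul_one, Algebra.algebraMap_self, RingHom.id_apply,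
    one_mul]

theorem universal_atPrime [IsLocalHom (algebraMap B (Localization.AtPrime q))]
    (T : Type u) [CommRing T] [HenselianLocalRing T] (f : B →+* T) [IsLocalHom f]
    (τ : ResidueField (Localization.AtPrime q) →+* ResidueField T)
    (hτ : τ.comp (ResidueField.map (algebraMap B (Localization.AtPrime q))) =
      ResidueField.map f) :
    ∃! g : Localization.AtPrime q →+* T, g.comp (algebraMap B (Localization.AtPrime q)) = f ∧
      ∀ x, residue T (g x) = τ (residue _ x) := by
  set D := Localization.AtPrime q with hD
  have hlS := isLocalHom_S_atPrime A B S q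
  have hlAB := isLocalHom_A_B A B
  have hsurj := surjective_atPrime A B S q
  -- compatibility on `B`
  have hτB : ∀ b : B, τ (residue D (algebraMap B D b)) = residue T (f b) := fun b => by
    have := congr($hτ (residue B b))
    rwa [RingHom.comp_apply, ResidueField.map_residue, ResidueField.map_residue] at this
  let f' : A →+* T := f.comp (algebraMap A B)
  have hf' : IsLocalHom f' := RingHom.isLocalHom_comp _ _
  let τ' : ResidueField S →+* ResidueField T := τ.comp (ResidueField.map (algebraMap S D))
  have hτ' : τ'.comp (ResidueField.map (algebraMap A S)) = ResidueField.map f' := by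
    refine RingHom.ext fun x => ?_
    obtain ⟨a, rfl⟩ := residue_surjective x
    rw [RingHom.comp_apply, ResidueField.map_residue, RingHom.comp_apply,
      ResidueField.map_residue, ResidueField.map_residue, ← IsScalarTower.algebraMap_apply,
      IsScalarTower.algebraMap_apply A B D, hτB]
    rfl
  obtain ⟨h, ⟨hh, hh'⟩, hhu⟩ := Hensel.IsStrictHenselization.universal (R := A) (S := S) T f' τ' hτ'
  letI : Algebra A T := f'.toAlgebra
  let fB : B →ₐ[A] T := { f with commutes' := fun a => rfl }
  let hS : S →ₐ[A] T := { h with commutes' := fun a => congr($hh a) }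
  let g₀ : B ⊗[A] S →ₐ[A] T := Algebra.TensorProduct.lift fB hS (fun _ _ => Commute.all _ _)
  have hg₀ : ∀ b s, g₀ (b ⊗ₜ[A] s) = f b * h s := fun b s => by
    rw [Algebra.TensorProduct.lift_tmul]; rfl
  have hmapD : ∀ b s, algebraMap (B ⊗[A] S) D (b ⊗ₜ[A] s) = algebraMap B D b * algebraMap S D s :=
    fun b s => by
      rw [tmul_eq, map_mul, ← IsScalarTower.algebraMap_apply, ← IsScalarTower.algebraMap_apply]
  have key : ∀ c : B ⊗[A] S, residue T (g₀ c) = τ (residue D (algebraMap (B ⊗[A] S) D c)) := by
    intro c
    induction c with
    | zero => simp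
    | add x y hx hy => rw [map_add, map_add, hx, hy, map_add, map_add, map_add]
    | tmul b s =>
      rw [hg₀, hmapD, map_mul, map_mul, map_mul, hτB, hh' s]
      rfl
  have hunits : ∀ y : q.primeCompl, IsUnit (g₀.toRingHom (y : B ⊗[A] S)) := by
    intro y
    have hu : IsUnit (algebraMap (B ⊗[A] S) D (y : B ⊗[A] S)) := IsLocalization.map_units D y
    have h1 : residue D (algebraMap (B ⊗[A] S) D (y : B ⊗[A] S)) ≠ 0 :=
      (residue_ne_zero_iff_isUnit _).mpr hu
    have h2 : residue T (g₀ (y : B ⊗[A] S)) ≠ 0 := by
      rw [key]
      exact (map_ne_zero τ).mpr h1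
    exact (residue_ne_zero_iff_isUnit _).mp h2
  let g : D →+* T := IsLocalization.lift (M := q.primeCompl) (g := g₀.toRingHom) hunits
  have hg : ∀ c, g (algebraMap (B ⊗[A] S) D c) = g₀ c := fun c => IsLocalization.lift_eq _ _
  refine ⟨g, ⟨?_, ?_⟩, ?_⟩
  · refine RingHom.ext fun b => ?_
    rw [RingHom.comp_apply, IsScalarTower.algebraMap_apply B (B ⊗[A] S) D, hg,
      Algebra.TensorProduct.algebraMap_apply, Algebra.algebraMap_self, RingHom.id_apply, hg₀,
      map_one, mul_one]
  · intro x
    obtain ⟨c, rfl⟩ := hsurj x
    rw [hg, key]
  · rintro g' ⟨hg'1, hg'2⟩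
    have hS' : g'.comp (algebraMap S D) = h := by
      apply hhu
      refine ⟨?_, fun s => ?_⟩
      · refine RingHom.ext fun a => ?_
        rw [RingHom.comp_apply, RingHom.comp_apply, ← IsScalarTower.algebraMap_apply,
          IsScalarTower.algebraMap_apply A B D]
        exact congr($hg'1 (algebraMap A B a))
      · rw [RingHom.comp_apply, hg'2]
        rfl
    refine IsLocalization.ringHom_ext q.primeCompl (RingHom.ext fun c => ?_)
    rw [RingHom.comp_apply, RingHom.comp_apply, hg]
    induction c with
    | zero => simp
    | add x y hx hy => rw [map_add, map_add, map_add, hx, hy]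
    | tmul b s =>
      rw [hmapD, map_mul, hg₀]
      congr 1
      · exact congr($hg'1 b)
      · exact congr($hS' s)

/-- For `B` a finite local `A`-algebra, `S` a strict henselization of `A` and `q` a maximal ideal
of `B ⊗[A] S`, the local ring `(B ⊗[A] S)_q` is a strict henselization of `B`. -/
theorem isStrictHenselization_atPrime [IsLocalHom (algebraMap B (Localization.AtPrime q))] :
    Hensel.IsStrictHenselization B (Localization.AtPrime q) :=
  { henselian := henselian_atPrime A B S q
    isSepClosure := isSepClosure_atPrime A B S q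
    universal := fun T _ _ f _ τ hτ => universal_atPrime A B S q T f τ hτ }

omit [Module.Finite A B] [IsLocalRing B] in
theorem nontrivial_tensor [Nontrivial B] : Nontrivial (B ⊗[A] S) := by
  have hff : Module.FaithfullyFlat A S :=
    Groth.Agent.Lib.Helper87.Hens.faithfullyFlat_of_isStrictHenselization A S
  have hffB : Module.FaithfullyFlat B (B ⊗[A] S) := inferInstance
  exact (FaithfulSMul.algebraMap_injective B (B ⊗[A] S)).nontrivial

end Main

end Groth.Agent.Lib.Helper69.HensFinite
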