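import Mathlib.AlgebraicGeometry.Geometrically.Basic
import Mathlib.AlgebraicGeometry.Geometrically.Irreducible
import Mathlib.AlgebraicGeometry.Geometrically.Connected
import Mathlib.AlgebraicGeometry.Geometrically.Reduced
import Mathlib.AlgebraicGeometry.Morphisms.SchemeTheoreticallyDominant
import Mathlib.AlgebraicGeometry.Fiber
import Mathlib.AlgebraicGeometry.PullbackCarrier
import Mathlib.RingTheory.TensorProduct.Basic
import Mathlib.RingTheory.Ideal.Quotient.Basic

set_option autoImplicit false

universe u

open AlgebraicGeometry CategoryTheory Limits TensorProduct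

namespace Groth.Agent.Lib.Helper69

theorem exists_common_field_ext (k K L : Type u) [Field k] [Field K] [Field L]
    (φ : k →+* K) (ψ : k →+* L) :
    ∃ (Ω : Type u) (_ : Field Ω) (α : K →+* Ω) (β : L →+* Ω), α.comp φ = β.comp ψ := by
  algebraize [φ, ψ]
  have : Nontrivial (TensorProduct k K L) := inferInstance
  obtain ⟨m, hm⟩ := Ideal.exists_maximal (TensorProduct k K L)
  let := Ideal.Quotient.field m
  refine ⟨_ ⧸ m, inferInstance,
    (Ideal.Quotient.mk m).comp (Algebra.TensorProduct.includeLeftRingHom),
    (Ideal.Quotient.mk m).comp (Algebra.TensorProduct.includeRight (R := k) (A := K) (B := L)).toRingHom, ?_⟩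
  ext x
  simp only [RingHom.coe_comp, Function.comp_apply]
  congr 1
  change (φ x) ⊗ₜ[k] (1 : L) = (1 : K) ⊗ₜ[k] (ψ x)
  have h1 : φ x = x • (1 : K) := by rw [Algebra.smul_def, mul_one]; rfl
  have h2 : ψ x = x • (1 : L) := by rw [Algebra.smul_def, mul_one]; rfl
  rw [h1, h2, TensorProduct.smul_tmul]


instance surjective_specMap_field {K L : Type u} [Field K] [Field L] (β : K →+* L) :
    Surjective (Spec.map (CommRingCat.ofHom β)) := by
  constructor
  intro x
  have : Subsingleton (Spec (CommRingCat.of K)) :=
    inferInstanceAs (Subsingleton (PrimeSpectrum K))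
  have : Nonempty (Spec (CommRingCat.of L)) :=
    inferInstanceAs (Nonempty (PrimeSpectrum L))
  exact ⟨Classical.arbitrary _, Subsingleton.elim _ _⟩

theorem geometrically_descent'' (P : ObjectProperty Scheme.{u})
    (hP : ∀ {W : Scheme.{u}} {L Ω : Type u} [Field L] [Field Ω] (β : L →+* Ω)
      (snd : W ⟶ Spec (CommRingCat.of L)),
      P (pullback snd (Spec.map (CommRingCat.ofHom β))) → P W)
    {Z' Z : Scheme.{u}} {K k : CommRingCat.{u}} (hK : IsField K) (hk : IsField k) (φ : k ⟶ K)
    {p' : Z' ⟶ Spec K} {p : Z ⟶ Spec k} {q : Z' ⟶ Z}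
    (sq : IsPullback q p' p (Spec.map φ)) (h : geometrically P p') :
    geometrically P p := by
  intro L _ y W fst snd hW
  obtain ⟨ψ', rfl⟩ := Spec.map_surjective y
  let := hK.toField
  let := hk.toField
  obtain ⟨Ω, _, α, β, hαβ⟩ := exists_common_field_ext k K L φ.hom ψ'.hom
  let α' : K ⟶ CommRingCat.of Ω := CommRingCat.ofHom α
  let β' : CommRingCat.of L ⟶ CommRingCat.of Ω := CommRingCat.ofHom β
  have s1 : IsPullback (pullback.fst snd (Spec.map β'))
      (pullback.snd snd (Spec.map β')) snd (Spec.map β') :=
    IsPullback.of_hasPullback _ _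
  have big := s1.paste_horiz hW
  have hcomp : Spec.map β' ≫ Spec.map ψ' = Spec.map α' ≫ Spec.map φ := by
    rw [← Spec.map_comp, ← Spec.map_comp]
    congr 1
    ext x
    exact (congrFun (congrArg DFunLike.coe hαβ) x).symm
  rw [hcomp] at big
  let l : pullback snd (Spec.map β') ⟶ Z' :=
    sq.lift (pullback.fst snd (Spec.map β') ≫ fst)
      (pullback.snd snd (Spec.map β') ≫ Spec.map α')
      (by rw [Category.assoc, ← Category.assoc, big.w, Category.assoc])
  have hl1 : l ≫ q = pullback.fst snd (Spec.map β') ≫ fst := sq.lift_fst _ _ _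
  have hl2 : l ≫ p' = pullback.snd snd (Spec.map β') ≫ Spec.map α' := sq.lift_snd _ _ _
  rw [← hl1] at big
  have left := IsPullback.of_right big hl2 sq
  have hPW := h _ _ _ left
  exact hP β snd hPW

theorem geometrically_descent' (P : ObjectProperty Scheme.{u})
    (hP : ∀ {W Z : Scheme.{u}} (π : W ⟶ Z) [Surjective π], P W → P Z)
    {Z' Z : Scheme.{u}} {K k : CommRingCat.{u}} (hK : IsField K) (hk : IsField k) (φ : k ⟶ K)
    {p' : Z' ⟶ Spec K} {p : Z ⟶ Spec k} {q : Z' ⟶ Z}
    (sq : IsPullback q p' p (Spec.map φ)) (h : geometrically P p') :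
    geometrically P p := by
  refine geometrically_descent'' P (fun β snd hPW => ?_) hK hk φ sq h
  have : Surjective (Spec.map (CommRingCat.ofHom β)) := surjective_specMap_field β
  exact hP (pullback.fst snd (Spec.map (CommRingCat.ofHom β))) hPW

theorem geometricallyIrreducible_fibre_iff {X Y X' Y' : Scheme.{u}} (f : X ⟶ Y) (g : Y' ⟶ Y)
    (f' : X' ⟶ Y') (g' : X' ⟶ X) (hc : IsPullback g' f' f g) (y' : Y') :
    GeometricallyIrreducible (f'.fiberToSpecResidueField y') ↔
      GeometricallyIrreducible (f.fiberToSpecResidueField (g y')) := by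
  have sq := isPullback_fiberToSpecResidueField_of_isPullback hc y'
  constructor
  · intro h
    rw [geometricallyIrreducible_iff] at h ⊢
    refine geometrically_descent' _ (fun π _ hW => ?_) (Field.toIsField _) (Field.toIsField _)
      (g.residueFieldMap y') sq h
    have : IrreducibleSpace _ := hW
    exact π.surjective.irreducibleSpace π.continuous
  · intro h
    exact MorphismProperty.of_isPullback sq h

theorem geometricallyConnected_fibre_iff {X Y X' Y' : Scheme.{u}} (f : X ⟶ Y) (g : Y' ⟶ Y)
    (f' : X' ⟶ Y') (g' : X' ⟶ X) (hc : IsPullback g' f' f g) (y' : Y') :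
    GeometricallyConnected (f'.fiberToSpecResidueField y') ↔
      GeometricallyConnected (f.fiberToSpecResidueField (g y')) := by
  have sq := isPullback_fiberToSpecResidueField_of_isPullback hc y'
  constructor
  · intro h
    rw [geometricallyConnected_iff] at h ⊢
    refine geometrically_descent' _ (fun π _ hW => ?_) (Field.toIsField _) (Field.toIsField _)
      (g.residueFieldMap y') sq h
    have : ConnectedSpace _ := hW
    exact π.surjective.connectedSpace π.continuous
  · intro h
    exact MorphismProperty.of_isPullback sq h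


theorem geometricallyReduced_fibre_iff {X Y X' Y' : Scheme.{u}} (f : X ⟶ Y) (g : Y' ⟶ Y)
    (f' : X' ⟶ Y') (g' : X' ⟶ X) (hc : IsPullback g' f' f g) (y' : Y') :
    GeometricallyReduced (f'.fiberToSpecResidueField y') ↔
      GeometricallyReduced (f.fiberToSpecResidueField (g y')) := by
  have sq := isPullback_fiberToSpecResidueField_of_isPullback hc y'
  constructor
  · intro h
    rw [geometricallyReduced_iff] at h ⊢
    refine geometrically_descent'' _ (fun β snd hW => ?_) (Field.toIsField _) (Field.toIsField _)
      (g.residueFieldMap y') sq h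
    have : IsReduced (pullback snd (Spec.map (CommRingCat.ofHom β))) := hW
    have hs : Surjective (Spec.map (CommRingCat.ofHom β)) := surjective_specMap_field β
    have hd : IsSchemeTheoreticallyDominant (Spec.map (CommRingCat.ofHom β)) := by
      rw [isSchemeTheoreticallyDominant_iff_isDominant]
      infer_instance
    exact IsSchemeTheoreticallyDominant.isReduced (pullback.fst snd (Spec.map (CommRingCat.ofHom β)))
  · intro h
    exact MorphismProperty.of_isPullback sq h

end Groth.Agent.Lib.Helper69
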