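import Mathlib
import Groth.Prelude.Def_Hensel
import Groth.Agent.Lib.Helper69.HensFinite

set_option autoImplicit false
universe u

/-!
# Quasi-finite algebras over henselian local rings (helper69)

* `finite_atPrime_of_quasiFiniteAt`: `R` henselian local, `S` of finite type, `q` a prime over the
  maximal ideal at which `S` is quasi-finite: then `S_q` is a finite `R`-module.
* `isHenselization_self`, `isStrictHenselization_self`.
-/

namespace Groth.Agent.Lib.Helper69.HensQFinite

open IsLocalRing TensorProduct

theorem finite_atPrime_congr {R S : Type*} [CommRing R] [CommRing S] [Algebra R S]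
    {P q : Ideal S} [P.IsPrime] [q.IsPrime] (h : P = q)
    (hf : Module.Finite R (Localization.AtPrime P)) : Module.Finite R (Localization.AtPrime q) := by
  subst h; exact hf

/-- `R` henselian local, `S` of finite type over `R`, `q` a prime of `S` over the maximal ideal of
`R` at which `S` is quasi-finite: then `S_q` is a finite `R`-module. -/
theorem finite_atPrime_of_quasiFiniteAt (R : Type u) [CommRing R] [HenselianLocalRing R]
    (S : Type u) [CommRing S] [Algebra R S] [Algebra.FiniteType R S]
    (q : Ideal S) [hq : q.IsPrime] [hlo : q.LiesOver (maximalIdeal R)] [Algebra.QuasiFiniteAt R q] :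
    Module.Finite R (Localization.AtPrime q) := by
  obtain ⟨e, he, heq, hfin, -⟩ := Groth.Agent.Lib.Helper9.exists_idempotent_of_quasiFiniteAt (R := R) q
  set Se := Localization.Away e with hSe
  have hdisj : Disjoint (Submonoid.powers e : Set S) (q : Set S) := by
    rw [Set.disjoint_left]
    rintro x ⟨n, rfl⟩ hx
    exact heq (hq.mem_of_pow_mem n hx)
  set M : Ideal Se := q.map (algebraMap S Se) with hM
  have hMp : M.IsPrime := IsLocalization.isPrime_of_isPrime_disjoint (Submonoid.powers e) Se q hq hdisj
  have hcomap : M.comap (algebraMap S Se) = q :=
    IsLocalization.comap_map_of_isPrime_disjoint (Submonoid.powers e) Se hq hdisj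
  have hMR : M.comap (algebraMap R Se) = maximalIdeal R := by
    rw [IsScalarTower.algebraMap_eq R S Se, ← Ideal.comap_comap, hcomap]
    exact (hlo.over).symm
  have hMm : M.IsMaximal :=
    Ideal.isMaximal_of_isIntegral_of_isMaximal_comap M (by rw [hMR]; infer_instance)
  have hsurj := Groth.Agent.Lib.Helper69.HensFinite.surjective_algebraMap_atPrime R Se M
  have hfin2 : Module.Finite R (Localization.AtPrime M) :=
    Module.Finite.of_surjective
      (IsScalarTower.toAlgHom R Se (Localization.AtPrime M)).toLinearMap hsurj
  haveI hloc : IsLocalization.AtPrime (Localization.AtPrime M) (M.comap (algebraMap S Se)) :=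
    IsLocalization.isLocalization_isLocalization_atPrime_isLocalization (Submonoid.powers e) _ M
  refine finite_atPrime_congr hcomap ?_
  have hst : IsScalarTower R S (Localization.AtPrime M) := by
    refine IsScalarTower.of_algebraMap_eq fun r => ?_
    rw [IsScalarTower.algebraMap_apply R Se (Localization.AtPrime M),
      IsScalarTower.algebraMap_apply R S Se,
      ← IsScalarTower.algebraMap_apply S Se (Localization.AtPrime M)]
  let ε : Localization.AtPrime (M.comap (algebraMap S Se)) ≃ₐ[S] Localization.AtPrime M :=
    IsLocalization.algEquiv (M.comap (algebraMap S Se)).primeCompl _ _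
  exact Module.Finite.equiv (ε.restrictScalars R).symm.toLinearEquiv

/-- A henselian local ring is its own henselization. -/
theorem isHenselization_self (X : Type u) [CommRing X] [HenselianLocalRing X] :
    Hensel.IsHenselization X X :=
  { henselian := inferInstance
    universal := fun T _ _ f _ => ⟨f, by ext; simp, fun g hg => by
      rw [← hg]; ext; simp⟩ }

/-- A strictly henselian local ring is its own strict henselization. -/
theorem isStrictHenselization_self (X : Type u) [CommRing X] [HenselianLocalRing X]
    [IsSepClosed (ResidueField X)] :
    Hensel.IsStrictHenselization X X :=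
  { henselian := inferInstance
    isSepClosure := by
      refine @IsSepClosure.mk _ _ _ _ ResidueField.instAlgebra inferInstance ?_
      refine @Algebra.IsSeparable.mk _ _ _ _ ResidueField.instAlgebra fun x => ?_
      obtain ⟨y, rfl⟩ := residue_surjective x
      have h : residue X y = @algebraMap (ResidueField X) (ResidueField X) _ _
          ResidueField.instAlgebra (residue X y) := rfl
      rw [h]
      exact @isSeparable_algebraMap _ _ _ _ ResidueField.instAlgebra _
    universal := fun T _ _ f _ τ hτ => ⟨f, ⟨by ext; simp, fun x => by
        have := congr($hτ (residue X x))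
        rw [RingHom.comp_apply, ResidueField.map_residue, ResidueField.map_residue] at this
        simpa using this.symm⟩,
      fun g hg => by rw [← hg.1]; ext; simp⟩ }

end Groth.Agent.Lib.Helper69.HensQFinite
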