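import Mathlib

set_option autoImplicit false
set_option linter.style.haveILetI false
universe u
open TensorProduct

namespace Groth.Agent.Lib.Helper69.WEtFlat

section prod
variable {R M N : Type*} [CommRing R] [AddCommGroup M] [AddCommGroup N] [Module R M] [Module R N]

/-- Binary products of flat modules are flat. -/
lemma flat_prod [Module.Flat R M] [Module.Flat R N] : Module.Flat R (M × N) := by
  rw [Module.Flat.iff_rTensor_preserves_injective_linearMap]
  intro P Q _ _ _ _ f hf
  have h1 := Module.Flat.rTensor_preserves_injective_linearMap (M := M) f hf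
  have h2 := Module.Flat.rTensor_preserves_injective_linearMap (M := N) f hf
  have key : (TensorProduct.prodRight R R Q M N).toLinearMap ∘ₗ f.rTensor (M × N) =
      (LinearMap.prodMap (f.rTensor M) (f.rTensor N)) ∘ₗ
        (TensorProduct.prodRight R R P M N).toLinearMap := by
    ext <;> simp
  have h3 : Function.Injective ((TensorProduct.prodRight R R Q M N).toLinearMap ∘ₗ
      f.rTensor (M × N)) := by
    rw [key]
    exact (Prod.map_injective.mpr ⟨h1, h2⟩).comp (TensorProduct.prodRight R R P M N).injective
  exact Function.Injective.of_comp h3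

end prod

lemma flat_includeRight {A B E : Type*} [CommRing A] [CommRing B] [CommRing E] [Algebra A B]
    [Algebra A E] [Module.Flat A E] :
    (Algebra.TensorProduct.includeRight : B →ₐ[A] E ⊗[A] B).toRingHom.Flat := by
  have h1 : (algebraMap B (B ⊗[A] E)).Flat := RingHom.flat_algebraMap_iff.mpr inferInstance
  have h2 : ((Algebra.TensorProduct.comm A B E) : B ⊗[A] E →+* E ⊗[A] B).Flat :=
    .of_bijective (Algebra.TensorProduct.comm A B E).bijective
  have h3 := h1.comp h2
  convert h3 using 1
  ext b
  simp

/-- Stacks 092C (with `B` flat over `A`): if `B ⊗[A] B → B` is flat and `M` is a `B`-module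
which is flat over `A`, then `M` is flat over `B`. -/
theorem flat_of_flat_lmul' {A B : Type u} [CommRing A] [CommRing B] [Algebra A B]
    [Module.Flat A B] (h : (Algebra.TensorProduct.lmul' A (S := B)).Flat)
    (M : Type u) [AddCommGroup M] [Module A M] [Module B M] [IsScalarTower A B M]
    [Module.Flat A M] : Module.Flat B M := by
  letI : Module Bᵐᵒᵖ M := Module.compHom _ ((RingHom.id B).fromOpposite mul_comm)
  haveI : IsCentralScalar B M := ⟨fun r m => rfl⟩
  haveI : IsScalarTower A Bᵐᵒᵖ M := ⟨fun a b m => by
    show (a • b).unop • m = a • (b.unop • m)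
    simp⟩
  let E := TrivSqZeroExt B M
  -- E is flat over A
  haveI hEA : Module.Flat A E := by
    haveI : Module.Flat A (B × M) := flat_prod
    have e : (B × M) ≃ₗ[A] E := LinearEquiv.refl A (B × M)
    exact Module.Flat.of_linearEquiv e.symm
  have h1 := h.mapOfCompatibleSMul E B
  -- B → E ⊗[A] B is flat
  have h2 : (Algebra.TensorProduct.includeRight : B →ₐ[A] E ⊗[A] B).toRingHom.Flat :=
    flat_includeRight
  have h3 : (((Algebra.TensorProduct.rid B B E) : E ⊗[B] B →+* E).comp
      ((Algebra.TensorProduct.mapOfCompatibleSMul B A E E B).toRingHom.comp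
        (Algebra.TensorProduct.includeRight : B →ₐ[A] E ⊗[A] B).toRingHom)).Flat :=
    (h2.comp h1).comp (.of_bijective (Algebra.TensorProduct.rid B B E).bijective)
  have h4 : (algebraMap B E).Flat := by
    convert h3 using 1
    refine RingHom.ext fun b => ?_
    simp [Algebra.algebraMap_eq_smul_one]
  haveI : Module.Flat B E := RingHom.flat_algebraMap_iff.mp h4
  exact Module.Flat.of_retract (TrivSqZeroExt.inrHom B M) (TrivSqZeroExt.sndHom B M)
    (by ext m; simp)

end Groth.Agent.Lib.Helper69.WEtFlat

namespace Groth.Agent.Lib.Helper69.WEtFlat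

lemma lmul'_bijective_of_surjective (R S : Type*) [CommRing R] [CommRing S] [Algebra R S]
    (hs : Function.Surjective (algebraMap R S)) :
    Function.Bijective (Algebra.TensorProduct.lmul' R (S := S)) := by
  haveI := Algebra.isEpi_of_surjective_algebraMap R S hs
  refine ⟨?_, fun s => ⟨s ⊗ₜ 1, by simp⟩⟩
  have := Algebra.IsEpi.injective_lift_mul (R := R) (A := S)
  intro x y hxy
  apply this
  exact hxy

/-- if `ψ : R → S` is flat and surjective and `g ∘ ψ` is flat then `g` is flat -/
lemma flat_of_comp_flat_of_surjective {R S T : Type u} [CommRing R] [CommRing S] [CommRing T]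
    (ψ : R →+* S) (g : S →+* T) (hs : Function.Surjective ψ) (hψ : ψ.Flat)
    (hg : (g.comp ψ).Flat) : g.Flat := by
  algebraize [ψ, g, g.comp ψ]
  have h : (Algebra.TensorProduct.lmul' R (S := S)).Flat :=
    .of_bijective (lmul'_bijective_of_surjective R S hs)
  exact flat_of_flat_lmul' h T

end Groth.Agent.Lib.Helper69.WEtFlat

namespace Groth.Agent.Lib.Helper69.WEtFlat

/-- Stacks 092K: an algebra map between weakly étale `A`-algebras is weakly étale. -/
theorem weaklyEtale_of_tower (A B C : Type u) [CommRing A] [CommRing B] [CommRing C]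
    [Algebra A B] [Algebra A C] [Algebra B C] [IsScalarTower A B C] [Algebra.WeaklyEtale A B]
    [Algebra.WeaklyEtale A C] : Algebra.WeaklyEtale B C where
  flat := flat_of_flat_lmul' (Algebra.WeaklyEtale.flat_lmul' A B) C
  flat_lmul' := by
    have h1 := (Algebra.WeaklyEtale.flat_lmul' A B).mapOfCompatibleSMul C C
    have h2 : ((Algebra.TensorProduct.lmul' B (S := C)).toRingHom.comp
        (Algebra.TensorProduct.mapOfCompatibleSMul B A C C C).toRingHom).Flat := by
      convert Algebra.WeaklyEtale.flat_lmul' A C using 1
      refine RingHom.ext fun x => ?_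
      induction x using TensorProduct.induction_on with
      | zero => simp
      | tmul a b => simp
      | add x y hx hy => simp only [map_add, hx, hy]
    exact flat_of_comp_flat_of_surjective _ _
      (Algebra.TensorProduct.mapOfCompatibleSMul_surjective B A C C C) h1 h2

end Groth.Agent.Lib.Helper69.WEtFlat

universe v

namespace Groth.Agent.Lib.Helper69.WEtFlat

attribute [local instance] ULift.algebra' in
/-- Stacks 092C for weakly étale algebras, universe polymorphic in the module. -/
theorem flat_of_weaklyEtale {A B : Type u} [CommRing A] [CommRing B] [Algebra A B]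
    [Algebra.WeaklyEtale A B] (M : Type v) [AddCommGroup M] [Module A M] [Module B M]
    [IsScalarTower A B M] [Module.Flat A M] : Module.Flat B M := by
  haveI : Algebra.WeaklyEtale (ULift.{v} A) (ULift.{v} B) :=
    Algebra.WeaklyEtale.ulift_iff.mpr inferInstance
  haveI : IsScalarTower (ULift.{v} A) (ULift.{v} B) (ULift.{u} M) := ⟨fun a b m => by
    apply ULift.ext
    simp only [ULift.smul_down, ULift.smul_def]
    exact smul_assoc _ _ _⟩
  haveI : Module.Flat (ULift.{v} A) (ULift.{u} M) :=
    Module.Flat.ulift_left_iff.mpr (Module.Flat.ulift_right_iff.mpr inferInstance)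
  have h := flat_of_flat_lmul' (Algebra.WeaklyEtale.flat_lmul' (ULift.{v} A) (ULift.{v} B))
    (ULift.{u} M)
  exact Module.Flat.ulift_right_iff.mp (Module.Flat.ulift_left_iff.mp h)

end Groth.Agent.Lib.Helper69.WEtFlat
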