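import Mathlib
import Groth.Prelude.Def_DRing2
import Groth.Prelude.Def_DDual2
import Groth.Agent.Lib.Helper43.TorAmpDescent
import Groth.Agent.Lib.Helper15.PseudoCohRes
import Groth.Agent.Lib.Helper69.WEtFlat

/-!
# Tor amplitude and restriction of scalars along weakly étale ring maps (helper69)

* `torAmp_restrictD_of_flat`: for `φ : A → B` flat, tor amplitude in `[a, b]` over `B` implies
  tor amplitude in `[a, b]` over `A` after restriction of scalars.
* `torAmp_of_torAmp_restrictD`: for `φ : A → B` flat such that every `B`-module flat over `A` is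
  flat over `B`, the converse.
* `torAmp_restrictD_iff_of_weaklyEtale`: for `A → B` weakly étale,
  `K|_A` has tor amplitude in `[a, b]` iff `K` does.
-/

set_option autoImplicit false
set_option linter.style.haveILetI false
universe u

open CategoryTheory CategoryTheory.Limits CategoryTheory.Pretriangulated DerivedCategory
open CochainComplex

attribute [local instance] HasDerivedCategory.standard

namespace Groth.Agent.Lib.Helper69.TorAmpWEt

open DRing Groth.Agent.Lib.Helper43 Groth.Agent.Lib.Helper84 Groth.Agent.Lib.Helper84.FlatAmp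
  Groth.Agent.Lib.Helper84.TensCx Groth.Agent.Lib.Helper15.PseudoCohRes
  Groth.Agent.Lib.Helper15.ExactFunctorD

variable {A B : Type u} [CommRing A] [CommRing B] (φ : A →+* B)

/-- a flat `B`-module is flat over `A` when `φ : A → B` is flat -/
lemma flat_restrictScalars_of_flat (hφ : φ.Flat) (M : ModuleCat.{u} B) [Module.Flat B M] :
    Module.Flat A ((ModuleCat.restrictScalars.{u} φ).obj M) := by
  letI : Algebra A B := φ.toAlgebra
  haveI : Module.Flat A B := hφ
  letI : Module A M := Module.compHom M φ
  haveI : IsScalarTower A B M := IsScalarTower.of_algebraMap_smul fun r m => rfl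
  exact Module.Flat.trans A B M

/-- restriction of scalars along a flat ring map preserves tor amplitude -/
theorem torAmp_restrictD_of_flat (hφ : φ.Flat) {a b : ℤ} {K : Dual.D B}
    (h : HasTorAmplitudeIn B a b K) : HasTorAmplitudeIn A a b ((restrictD φ).obj K) := by
  obtain ⟨E, hE, hflat, ⟨e⟩⟩ := h
  refine ⟨(restrictCx φ).obj E, ?_, ?_, ⟨(restrictDQIso φ E).symm ≪≫ (restrictD φ).mapIso e⟩⟩
  · intro i hi
    exact Functor.map_isZero (ModuleCat.restrictScalars.{u} φ) (hE i hi)
  · intro i
    haveI := hflat i
    exact flat_restrictScalars_of_flat φ hφ (E.X i)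

/-- restriction of scalars commutes with `opcycles` -/
noncomputable def restrictOpcyclesIso (K : Cx B) (i : ℤ) :
    ((restrictCx φ).obj K).opcycles i ≅ (ModuleCat.restrictScalars.{u} φ).obj (K.opcycles i) :=
  (K.sc i).mapOpcyclesIso (ModuleCat.restrictScalars.{u} φ)

/-- If `φ : A → B` is flat and every `B`-module which is flat over `A` is flat over `B`, then
tor amplitude can be tested after restriction of scalars. -/
theorem torAmp_of_torAmp_restrictD (hφ : φ.Flat)
    (hW : ∀ M : ModuleCat.{u} B, Module.Flat A ((ModuleCat.restrictScalars.{u} φ).obj M) →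
      Module.Flat B M)
    {a b : ℤ} {K : Dual.D B} (h : HasTorAmplitudeIn A a b ((restrictD φ).obj K)) :
    HasTorAmplitudeIn B a b K := by
  haveI := torAmp_isLE h
  haveI hKle : K.IsLE b := (isLE_restrictD_iff φ K b).1 inferInstance
  obtain ⟨F, hFb, hFfree, ⟨e⟩⟩ := FreeRes.exists_free_representative K b
    (fun i hi => DerivedCategory.isZero_of_isLE K b i hi)
  have hFflat : TermwiseFlat F := fun i => by
    haveI := hFfree i
    infer_instance
  let G : Cx A := (restrictCx φ).obj F
  have hGb : VanishesAbove G b := fun i hi =>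
    Functor.map_isZero (ModuleCat.restrictScalars.{u} φ) (hFb i hi)
  have hGflat : TermwiseFlat G := fun i => by
    haveI := hFflat i
    exact flat_restrictScalars_of_flat φ hφ (F.X i)
  have hG : HasTorAmplitudeIn A a b (toD G) :=
    torAmp_of_iso h ((restrictD φ).mapIso e.symm ≪≫ restrictDQIso φ F)
  obtain ⟨hop, hex⟩ := TorAmpDescent.flat_opcycles_of_hasTorAmplitudeIn G b hGb hGflat a b hG
  refine torAmp_of_iso (TorAmpDescent.hasTorAmplitudeIn_of_flat_opcycles F a b hFb hFflat ?_ ?_) e
  · intro i hi
    exact (exactAt_map_iff (ModuleCat.restrictScalars.{u} φ) F i).1 (hex i hi)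
  · apply hW
    haveI := hop
    exact flat_of_iso (restrictOpcyclesIso φ F a)

section WeaklyEtale

variable (A B)
variable [Algebra A B]

/-- the hypothesis `hW` of `torAmp_of_torAmp_restrictD` for a weakly étale algebra -/
lemma flat_of_flat_restrictScalars_of_weaklyEtale [Algebra.WeaklyEtale A B]
    (M : ModuleCat.{u} B)
    (hM : Module.Flat A ((ModuleCat.restrictScalars.{u} (algebraMap A B)).obj M)) :
    Module.Flat B M := by
  letI : Module A M := Module.compHom M (algebraMap A B)
  haveI : IsScalarTower A B M := IsScalarTower.of_algebraMap_smul fun r m => rfl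
  haveI : Module.Flat A M := hM
  exact WEtFlat.flat_of_flat_lmul' (Algebra.WeaklyEtale.flat_lmul' A B) M

/-- **Tor amplitude along a weakly étale ring map**: for `A → B` weakly étale and `K` in `D(B)`,
`K` restricted to `A` has tor amplitude in `[a, b]` iff `K` has tor amplitude in `[a, b]` over
`B`. -/
theorem torAmp_restrictD_iff_of_weaklyEtale [Algebra.WeaklyEtale A B] (a b : ℤ) (K : Dual.D B) :
    HasTorAmplitudeIn A a b ((restrictD (algebraMap A B)).obj K) ↔ HasTorAmplitudeIn B a b K := by
  have hφ : (algebraMap A B).Flat := RingHom.flat_algebraMap_iff.mpr inferInstance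
  exact ⟨torAmp_of_torAmp_restrictD (algebraMap A B) hφ
    (flat_of_flat_restrictScalars_of_weaklyEtale A B),
    torAmp_restrictD_of_flat (algebraMap A B) hφ⟩

variable (C : Type u) [CommRing C] [Algebra A C] [Algebra B C] [IsScalarTower A B C]

/-- restriction of scalars in a tower -/
noncomputable def restrictDTowerIso (K : Dual.D C) :
    (restrictD (algebraMap A B)).obj ((restrictD (algebraMap B C)).obj K) ≅
      (restrictD (algebraMap A C)).obj K :=
  (restrictDComp (algebraMap A B) (algebraMap B C)).app K ≪≫
    (restrictDOfEq (IsScalarTower.algebraMap_eq A B C).symm).app K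

/-- In a tower `A → B → C` with `A → B` and `A → C` weakly étale, `B → C` is flat. -/
lemma flat_of_weaklyEtale_tower [Algebra.WeaklyEtale A B] [Module.Flat A C] :
    Module.Flat B C :=
  WEtFlat.flat_of_flat_lmul' (Algebra.WeaklyEtale.flat_lmul' A B) C

/-- **Tor amplitude in a weakly étale tower** `A → B → C` (`A → B`, `A → C` weakly étale):
for `K` in `D(C)`, the three conditions "tor amplitude in `[a, b]`" over `A`, `B`, `C`
are equivalent. -/
theorem torAmp_tower_tfae [Algebra.WeaklyEtale A B] [Algebra.WeaklyEtale A C] (a b : ℤ)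
    (K : Dual.D C) :
    [HasTorAmplitudeIn A a b ((restrictD (algebraMap A C)).obj K),
     HasTorAmplitudeIn B a b ((restrictD (algebraMap B C)).obj K),
     HasTorAmplitudeIn C a b K].TFAE := by
  haveI : Module.Flat B C := flat_of_weaklyEtale_tower A B C
  have hBC : (algebraMap B C).Flat := RingHom.flat_algebraMap_iff.mpr inferInstance
  have hAB : (algebraMap A B).Flat := RingHom.flat_algebraMap_iff.mpr inferInstance
  tfae_have 3 → 2 := torAmp_restrictD_of_flat (algebraMap B C) hBC
  tfae_have 2 → 1 := fun h =>
    torAmp_of_iso (torAmp_restrictD_of_flat (algebraMap A B) hAB h) (restrictDTowerIso A B C K)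
  tfae_have 1 → 3 := (torAmp_restrictD_iff_of_weaklyEtale A C a b K).1
  tfae_finish

end WeaklyEtale

end Groth.Agent.Lib.Helper69.TorAmpWEt
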