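import Mathlib
import Groth.Agent.Lib.Helper69.HensIntegralU
import Groth.Agent.Lib.Helper58.HenselPairIdem
/-!
# The unit component of a finite group scheme over a local ring (helper69)

`A` a commutative Hopf algebra over `R`, finite as a module, `e ∈ A` an idempotent with `ε(e) = 1`
such that `A₀ = A/(1-e)` is local.  Then `A₀ ⊗ A₀` has no idempotents `≠ 1` not killed by `ε̄ ⊗ ε̄`
(`Phi_comul_e`), `(1 - e)` is a Hopf ideal (`isHopfIdeal`), `A₀` is a direct summand of `A`
(`flat_quotient`) and has residue field `κ(R)` (`surjective_residue`).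
-/
set_option autoImplicit false
open TensorProduct IsLocalRing
universe u v

namespace Groth.Agent.Lib.Helper69.HopfUnit

theorem eq_zero_or_eq_one_of_isIdempotentElem {B : Type*} [CommRing B] [IsLocalRing B] {f : B}
    (hf : IsIdempotentElem f) : f = 0 ∨ f = 1 := by
  have h0 : f * (1 - f) = 0 := by rw [mul_sub, mul_one, hf.eq, sub_self]
  rcases IsLocalRing.isUnit_or_isUnit_one_sub_self f with h | h
  · right
    have := (h.mul_right_eq_zero).mp h0
    exact (sub_eq_zero.mp this).symm
  · left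
    rw [mul_comm] at h0
    exact (h.mul_right_eq_zero).mp h0

section Gen
variable (R : Type u) [CommRing R] (A : Type v) [CommRing A] [HopfAlgebra R A]

/-- `ε ⊗ ε : A ⊗ A → R`. -/
noncomputable def EE : A ⊗[R] A →ₐ[R] R :=
  Algebra.TensorProduct.lift (Bialgebra.counitAlgHom R A) (Bialgebra.counitAlgHom R A)
    (fun _ _ => Commute.all _ _)

theorem EE_tmul (a b : A) : EE R A (a ⊗ₜ[R] b) = Coalgebra.counit (R := R) a * Coalgebra.counit (R := R) b := by
  simp [EE]

theorem EE_comul (a : A) : EE R A (Coalgebra.comul (R := R) a) = Coalgebra.counit (R := R) a := by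
  have key : ∀ z : A ⊗[R] A, EE R A z =
      Coalgebra.counit (R := R) (TensorProduct.lid R A ((Coalgebra.counit (R := R)).rTensor A z)) := by
    intro z
    induction z with
    | zero => simp
    | add x y hx hy => rw [map_add, hx, hy]; simp
    | tmul a b => rw [EE_tmul]; simp
  rw [key, Coalgebra.rTensor_counit_comul]
  simp

theorem map_mkQ_eq (I : Ideal A) (z : A ⊗[R] A) :
    (TensorProduct.map (I.restrictScalars R).mkQ (I.restrictScalars R).mkQ z : (A ⧸ I) ⊗[R] (A ⧸ I)) =
      Algebra.TensorProduct.map (Ideal.Quotient.mkₐ R I) (Ideal.Quotient.mkₐ R I) z := by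
  induction z with
  | zero => rw [map_zero, map_zero]; rfl
  | add x y hx hy => rw [map_add, map_add, hx, hy]; rfl
  | tmul a b => rfl

end Gen

section Main

variable (R : Type u) [CommRing R]
    (A : Type v) [CommRing A] [HopfAlgebra R A]
    (e : A) (hε : Bialgebra.counitAlgHom R A e = 1)

local notation "II" => Ideal.span ({1 - e} : Set A)

include hε in
theorem span_le_ker : II ≤ RingHom.ker (Bialgebra.counitAlgHom R A) := by
  rw [Ideal.span_le, Set.singleton_subset_iff]
  change Bialgebra.counitAlgHom R A (1 - e) = 0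
  rw [map_sub, map_one, hε, sub_self]

/-- the induced counit `A/(1-e) → R`. -/
noncomputable def epsBar : (A ⧸ II) →ₐ[R] R :=
  Ideal.Quotient.liftₐ II (Bialgebra.counitAlgHom R A) (fun _ ha => span_le_ker R A e hε ha)

theorem epsBar_mk (a : A) : epsBar R A e hε (Ideal.Quotient.mk II a) = Coalgebra.counit (R := R) a := by
  rfl

theorem sub_mem_maximalIdeal [Nontrivial R] [IsLocalRing (A ⧸ II)] (x : A ⧸ II) :
    x - algebraMap R (A ⧸ II) (epsBar R A e hε x) ∈ maximalIdeal (A ⧸ II) := by
  have hker : RingHom.ker (epsBar R A e hε) ≠ ⊤ := by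
    intro h
    have : (1 : A ⧸ II) ∈ RingHom.ker (epsBar R A e hε) := by rw [h]; trivial
    rw [RingHom.mem_ker, map_one] at this
    exact one_ne_zero this
  apply IsLocalRing.le_maximalIdeal hker
  rw [RingHom.mem_ker, map_sub, AlgHom.commutes, Algebra.algebraMap_self, RingHom.id_apply, sub_self]

/-- `ε̄ ⊗ ε̄ : A₀ ⊗ A₀ → R`. -/
noncomputable def EEbar : (A ⧸ II) ⊗[R] (A ⧸ II) →ₐ[R] R :=
  Algebra.TensorProduct.lift (epsBar R A e hε) (epsBar R A e hε) (fun _ _ => Commute.all _ _)

theorem EEbar_tmul (x y : A ⧸ II) :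
    EEbar R A e hε (x ⊗ₜ[R] y) = epsBar R A e hε x * epsBar R A e hε y := by
  simp [EEbar]

/-- the projection `A ⊗ A → A₀ ⊗ A₀`. -/
noncomputable def Phi : A ⊗[R] A →ₐ[R] (A ⧸ II) ⊗[R] (A ⧸ II) :=
  Algebra.TensorProduct.map (Ideal.Quotient.mkₐ R II) (Ideal.Quotient.mkₐ R II)

theorem EEbar_Phi (z : A ⊗[R] A) : EEbar R A e hε (Phi R A e z) = EE R A z := by
  induction z with
  | zero => simp
  | add x y hx hy => rw [map_add, map_add, map_add, hx, hy]
  | tmul a b =>
    rw [EE_tmul]
    change EEbar R A e hε (Ideal.Quotient.mk II a ⊗ₜ[R] Ideal.Quotient.mk II b) = _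
    rw [EEbar_tmul, epsBar_mk, epsBar_mk]

theorem sub_mem_of_isMaximal [Nontrivial R] [IsLocalRing (A ⧸ II)] [Module.Finite R A]
    (M : Ideal ((A ⧸ II) ⊗[R] (A ⧸ II))) [hM : M.IsMaximal] (t : (A ⧸ II) ⊗[R] (A ⧸ II)) :
    t - algebraMap R _ (EEbar R A e hε t) ∈ M := by
  have hint : Algebra.IsIntegral R ((A ⧸ II) ⊗[R] (A ⧸ II)) := Algebra.IsIntegral.of_finite R _
  have hint0 : Algebra.IsIntegral R (A ⧸ II) := Algebra.IsIntegral.of_finite R _
  have hmax : (M.comap (algebraMap R ((A ⧸ II) ⊗[R] (A ⧸ II)))).IsMaximal :=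
    Ideal.isMaximal_comap_of_isIntegral_of_isMaximal M
  -- left contraction
  have h1 : ∀ x ∈ maximalIdeal (A ⧸ II), x ⊗ₜ[R] (1 : A ⧸ II) ∈ M := by
    let iL : (A ⧸ II) →ₐ[R] (A ⧸ II) ⊗[R] (A ⧸ II) := Algebra.TensorProduct.includeLeft
    have hq : (M.comap iL.toRingHom).IsPrime := Ideal.comap_isPrime _ _
    have hcomap : (M.comap iL.toRingHom).comap (algebraMap R (A ⧸ II)) =
        M.comap (algebraMap R ((A ⧸ II) ⊗[R] (A ⧸ II))) := by
      rw [Ideal.comap_comap]
      exact congrArg (fun f => Ideal.comap f M) iL.comp_algebraMap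
    have hqmax : (M.comap iL.toRingHom).IsMaximal :=
      Ideal.isMaximal_of_isIntegral_of_isMaximal_comap _ (by rw [hcomap]; exact hmax)
    have := IsLocalRing.eq_maximalIdeal hqmax
    intro x hx
    rw [← this] at hx
    exact hx
  have h2 : ∀ y ∈ maximalIdeal (A ⧸ II), (1 : A ⧸ II) ⊗ₜ[R] y ∈ M := by
    let iR : (A ⧸ II) →ₐ[R] (A ⧸ II) ⊗[R] (A ⧸ II) := Algebra.TensorProduct.includeRight
    have hq : (M.comap iR.toRingHom).IsPrime := Ideal.comap_isPrime _ _
    have hcomap : (M.comap iR.toRingHom).comap (algebraMap R (A ⧸ II)) =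
        M.comap (algebraMap R ((A ⧸ II) ⊗[R] (A ⧸ II))) := by
      rw [Ideal.comap_comap]
      exact congrArg (fun f => Ideal.comap f M) iR.comp_algebraMap
    have hqmax : (M.comap iR.toRingHom).IsMaximal :=
      Ideal.isMaximal_of_isIntegral_of_isMaximal_comap _ (by rw [hcomap]; exact hmax)
    have := IsLocalRing.eq_maximalIdeal hqmax
    intro x hx
    rw [← this] at hx
    exact hx
  induction t with
  | zero => simp
  | add x y hx hy =>
    have : x + y - algebraMap R _ (EEbar R A e hε (x + y)) =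
        (x - algebraMap R _ (EEbar R A e hε x)) + (y - algebraMap R _ (EEbar R A e hε y)) := by
      rw [map_add, map_add]; ring
    rw [this]
    exact M.add_mem hx hy
  | tmul x y =>
    rw [EEbar_tmul]
    have e1 : x ⊗ₜ[R] y - algebraMap R ((A ⧸ II) ⊗[R] (A ⧸ II)) (epsBar R A e hε x * epsBar R A e hε y) =
        ((x - algebraMap R (A ⧸ II) (epsBar R A e hε x)) ⊗ₜ[R] (1 : A ⧸ II)) * ((1 : A ⧸ II) ⊗ₜ[R] y) +
        algebraMap R ((A ⧸ II) ⊗[R] (A ⧸ II)) (epsBar R A e hε x) *
          ((1 : A ⧸ II) ⊗ₜ[R] (y - algebraMap R (A ⧸ II) (epsBar R A e hε y))) := by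
      have key1 : (algebraMap R (A ⧸ II) (epsBar R A e hε x * epsBar R A e hε y)) ⊗ₜ[R] (1 : A ⧸ II) =
          (algebraMap R (A ⧸ II) (epsBar R A e hε x)) ⊗ₜ[R]
            (algebraMap R (A ⧸ II) (epsBar R A e hε y)) := by
        rw [Algebra.algebraMap_eq_smul_one (epsBar R A e hε y), tmul_smul, smul_tmul',
          Algebra.smul_def, map_mul, mul_comm]
      rw [Algebra.TensorProduct.algebraMap_apply, Algebra.TensorProduct.algebraMap_apply,
        Algebra.TensorProduct.tmul_mul_tmul, mul_one, one_mul,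
        Algebra.TensorProduct.tmul_mul_tmul, mul_one, one_mul, sub_tmul, tmul_sub, key1]
      abel
    rw [e1]
    exact M.add_mem (M.mul_mem_right _ (h1 _ (sub_mem_maximalIdeal R A e hε x)))
      (M.mul_mem_left _ (h2 _ (sub_mem_maximalIdeal R A e hε y)))


include hε in
/-- Key fact: `Δ e ↦ 1` in `A₀ ⊗ A₀`. -/
theorem Phi_comul_e [Nontrivial R] [IsLocalRing (A ⧸ II)] [Module.Finite R A]
    (he : IsIdempotentElem e) :
    Phi R A e (Coalgebra.comul (R := R) e) = 1 := by
  set f := Phi R A e (Coalgebra.comul (R := R) e) with hf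
  have hfid : IsIdempotentElem f := by
    have h1 : IsIdempotentElem (Bialgebra.comulAlgHom R A e) := he.map _
    exact h1.map (Phi R A e)
  have hEf : EEbar R A e hε f = 1 := by
    rw [hf, EEbar_Phi, EE_comul]; exact hε
  have hg : IsIdempotentElem (1 - f) := hfid.one_sub
  have hjac : (1 - f) - 0 ∈ Ideal.jacobson (⊥ : Ideal ((A ⧸ II) ⊗[R] (A ⧸ II))) := by
    rw [sub_zero, Ideal.jacobson, Ideal.mem_sInf]
    rintro M ⟨-, hM⟩
    have := sub_mem_of_isMaximal R A e hε M (1 - f)
    rwa [map_sub, map_one, hEf, sub_self, map_zero, sub_zero] at this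
  have := Groth.Agent.Lib.Helper58.HenselPair.idempotent_eq_of_sub_mem_jacobson hg
    IsIdempotentElem.zero hjac
  exact (sub_eq_zero.mp this).symm

theorem mk_e : Ideal.Quotient.mk II e = 1 := by
  have : Ideal.Quotient.mk II (1 - e) = 0 :=
    Ideal.Quotient.eq_zero_iff_mem.mpr (Ideal.subset_span rfl)
  rw [map_sub, map_one, sub_eq_zero] at this
  exact this.symm

include hε in
/-- `(1 - e)` is a Hopf ideal. -/
theorem isHopfIdeal [Nontrivial R] [IsLocalRing (A ⧸ II)] [Module.Finite R A]
    (he : IsIdempotentElem e) : (II).IsHopfIdeal R := by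
  have hcounit : ∀ x ∈ II, Coalgebra.counit (R := R) x = 0 := fun x hx =>
    span_le_ker R A e hε hx
  refine @Ideal.IsHopfIdeal.mk _ _ _ _ _ _ ⟨fun x hx => hcounit x hx, fun x hx => ?_⟩ fun x hx => ?_
  · -- coideal
    change (TensorProduct.map ((II).restrictScalars R).mkQ ((II).restrictScalars R).mkQ
      (Coalgebra.comul (R := R) x) : (A ⧸ II) ⊗[R] (A ⧸ II)) = 0
    rw [map_mkQ_eq]
    change Phi R A e (Coalgebra.comul (R := R) x) = 0
    obtain ⟨a, rfl⟩ := Ideal.mem_span_singleton'.mp hx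
    have h1 : Coalgebra.comul (R := R) (a * (1 - e)) =
        Coalgebra.comul (R := R) a * (1 - Coalgebra.comul (R := R) e) := by
      have := map_mul (Bialgebra.comulAlgHom R A) a (1 - e)
      rw [map_sub, map_one] at this
      exact this
    rw [h1, map_mul, map_sub, map_one, Phi_comul_e R A e hε he, sub_self, mul_zero]
  · -- antipode
    obtain ⟨a, rfl⟩ := Ideal.mem_span_singleton'.mp hx
    have hS : HopfAlgebra.antipode R (a * (1 - e)) =
        HopfAlgebra.antipode R a * (1 - HopfAlgebra.antipode R e) := by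
      have := map_mul (HopfAlgebra.antipodeAlgHom R A) a (1 - e)
      rw [map_sub, map_one] at this
      exact this
    rw [hS]
    apply Ideal.mul_mem_left
    rw [← Ideal.Quotient.eq_zero_iff_mem, map_sub, map_one, sub_eq_zero]
    -- `π (S e)` is an idempotent of the local ring `A₀` not killed by `ε̄`
    have hid : IsIdempotentElem (Ideal.Quotient.mk II (HopfAlgebra.antipode R e)) := by
      have h1 : IsIdempotentElem (HopfAlgebra.antipodeAlgHom R A e) := he.map _
      exact h1.map (Ideal.Quotient.mk II)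
    rcases eq_zero_or_eq_one_of_isIdempotentElem hid with h0 | h1
    · exfalso
      have h2 := epsBar_mk R A e hε (HopfAlgebra.antipode R e)
      rw [h0, map_zero, HopfAlgebra.counit_antipode] at h2
      have h3 : Coalgebra.counit (R := R) e = 1 := hε
      rw [h3] at h2
      exact zero_ne_one h2
    · exact h1.symm

/-- `A/(1-e)` is a direct summand of `A`, hence flat. -/
theorem flat_quotient [Module.Flat R A] (he : IsIdempotentElem e) : Module.Flat R (A ⧸ II) := by
  let i : (A ⧸ II) →ₗ[R] A :=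
    ((II).restrictScalars R).liftQ (LinearMap.mulLeft R e) (by
      intro x hx
      obtain ⟨a, rfl⟩ := Ideal.mem_span_singleton'.mp hx
      rw [LinearMap.mem_ker, LinearMap.mulLeft_apply]
      have : e * (a * (1 - e)) = a * (e - e * e) := by ring
      rw [this, he.eq, sub_self, mul_zero])
  let r : A →ₗ[R] (A ⧸ II) := (Ideal.Quotient.mkₐ R II).toLinearMap
  have hri : r.comp i = LinearMap.id := by
    apply LinearMap.ext
    intro x
    obtain ⟨a, rfl⟩ := Ideal.Quotient.mk_surjective x
    change Ideal.Quotient.mk II (e * a) = Ideal.Quotient.mk II a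
    rw [map_mul, mk_e, one_mul]
  exact Module.Flat.of_retract i r hri

include hε in
theorem surjective_residue [Nontrivial R] [IsLocalRing (A ⧸ II)] :
    Function.Surjective (⇑(IsLocalRing.residue (A ⧸ II)) ∘ ⇑(algebraMap R (A ⧸ II))) := by
  intro y
  obtain ⟨x, rfl⟩ := IsLocalRing.residue_surjective y
  refine ⟨epsBar R A e hε x, ?_⟩
  have := sub_mem_maximalIdeal R A e hε x
  rw [← IsLocalRing.residue_eq_zero_iff, map_sub, sub_eq_zero] at this
  exact this.symm

end Main

end Groth.Agent.Lib.Helper69.HopfUnit
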