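import Mathlib
import Groth.Agent.Lib.Helper32.ChevDVR.Defs

set_option autoImplicit false
universe u
open TensorProduct
open Groth.Agent.Lib.Helper32.ChevDVR

namespace Groth.Agent.Lib.Helper69.ChevDVR1

section

variable (V : Type u) [CommRing V] (A : Type u) [CommRing A] [Bialgebra V A]

local notation "Δ" => (CoalgebraStruct.comul (R := V) (A := A))
local notation "ε" => (CoalgebraStruct.counit (R := V) (A := A))

variable {V A}

lemma range_mono {N N' : Submodule V A} (h : N ≤ N') :
    LinearMap.range (N.subtype.rTensor A) ≤ LinearMap.range (N'.subtype.rTensor A) := by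
  rintro _ ⟨t, rfl⟩
  refine ⟨(Submodule.inclusion h).rTensor A t, ?_⟩
  rw [← LinearMap.rTensor_comp_apply, Submodule.subtype_comp_inclusion]

variable (V A)

lemma exists_fg_range (t : A ⊗[V] A) :
    ∃ N : Submodule V A, N.FG ∧ t ∈ LinearMap.range (N.subtype.rTensor A) := by
  induction t using TensorProduct.induction_on with
  | zero => exact ⟨⊥, Submodule.fg_bot, zero_mem _⟩
  | tmul a b =>
    refine ⟨Submodule.span V {a}, Submodule.fg_span_singleton a,
      ⟨(⟨a, Submodule.mem_span_singleton_self a⟩ : Submodule.span V {a}) ⊗ₜ[V] b, ?_⟩⟩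
    simp
  | add t₁ t₂ h₁ h₂ =>
    obtain ⟨N₁, hN₁, ht₁⟩ := h₁
    obtain ⟨N₂, hN₂, ht₂⟩ := h₂
    exact ⟨N₁ ⊔ N₂, hN₁.sup hN₂,
      add_mem (range_mono le_sup_left ht₁) (range_mono le_sup_right ht₂)⟩

lemma exists_fg_range_finset (s : Finset A) :
    ∃ N : Submodule V A, N.FG ∧ ∀ x ∈ s, Δ x ∈ LinearMap.range (N.subtype.rTensor A) := by
  classical
  induction s using Finset.induction_on with
  | empty => exact ⟨⊥, Submodule.fg_bot, by simp⟩
  | insert x s hx ih =>
    obtain ⟨N, hN, h⟩ := ih
    obtain ⟨N', hN', h'⟩ := exists_fg_range V A (Δ x)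
    refine ⟨N ⊔ N', hN.sup hN', ?_⟩
    intro y hy
    rcases Finset.mem_insert.mp hy with rfl | hy
    · exact range_mono le_sup_right h'
    · exact range_mono le_sup_left (h y hy)

/-- **CH1**: over a Noetherian base with `A` flat, every finite subset of the bialgebra `A` lies
in a finitely generated subcomodule. -/
theorem exists_fg_subcomodule [IsNoetherianRing V] [Module.Flat V A] (s : Finset A) :
    ∃ W : Submodule V A, W.FG ∧ (↑s ⊆ (W : Set A)) ∧
      ∀ w ∈ W, CoalgebraStruct.comul (R := V) w ∈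
        LinearMap.range (TensorProduct.map W.subtype (LinearMap.id : A →ₗ[V] A)) := by
  classical
  obtain ⟨N, hN, hs⟩ := exists_fg_range_finset V A s
  let φ : A →ₗ[V] (A ⧸ N) ⊗[V] A := (N.mkQ.rTensor A).comp Δ
  have hφ : ∀ w, φ w = (N.mkQ.rTensor A) (Δ w) := fun w => rfl
  refine ⟨LinearMap.ker φ, ?_, ?_, ?_⟩
  · -- finitely generated
    have hle : LinearMap.ker φ ≤ N := by
      intro w hw
      rw [LinearMap.mem_ker] at hw
      have e1 : ∀ t : A ⊗[V] A, (LinearMap.lTensor (A ⧸ N) ε) ((N.mkQ.rTensor A) t) =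
          (N.mkQ.rTensor V) ((LinearMap.lTensor A ε) t) := by
        intro t
        induction t using TensorProduct.induction_on with
        | zero => simp
        | tmul a b => simp
        | add t₁ t₂ h₁ h₂ => simp only [map_add, h₁, h₂]
      have h1 : (TensorProduct.rid V (A ⧸ N)) ((LinearMap.lTensor (A ⧸ N) ε) (φ w)) = N.mkQ w := by
        rw [hφ, e1, Coalgebra.lTensor_counit_comul]
        simp
      rw [hw, map_zero, map_zero] at h1
      exact (Submodule.Quotient.mk_eq_zero N).mp h1.symm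
    haveI : IsNoetherian V N := isNoetherian_of_fg_of_noetherian N hN
    exact isNoetherian_submodule.mp this _ hle
  · -- contains `s`
    intro x hx
    obtain ⟨t, ht⟩ := hs x hx
    show x ∈ LinearMap.ker φ
    rw [LinearMap.mem_ker, hφ, ← ht, ← LinearMap.rTensor_comp_apply]
    have : N.mkQ.comp N.subtype = 0 :=
      LinearMap.ext fun n => (Submodule.Quotient.mk_eq_zero N).mpr n.2
    rw [this, LinearMap.rTensor_zero, LinearMap.zero_apply]
  · -- subcomodule
    intro w hw
    rw [LinearMap.mem_ker] at hw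
    have hex : Function.Exact ((LinearMap.ker φ).subtype.rTensor A) (φ.rTensor A) :=
      Module.Flat.rTensor_exact A (LinearMap.exact_subtype_ker_map φ)
    have nat : (TensorProduct.assoc V (A ⧸ N) A A).toLinearMap.comp
        ((N.mkQ.rTensor A).rTensor A) =
        (N.mkQ.rTensor (A ⊗[V] A)).comp (TensorProduct.assoc V A A A).toLinearMap := by
      apply TensorProduct.ext_threefold
      intro a b c
      simp
    have key : (TensorProduct.assoc V (A ⧸ N) A A) ((φ.rTensor A) (Δ w)) =
        ((Δ : A →ₗ[V] A ⊗[V] A).lTensor (A ⧸ N)) (φ w) := by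
      have h1 : (φ.rTensor A) (Δ w) =
          ((N.mkQ.rTensor A).rTensor A) (((Δ : A →ₗ[V] A ⊗[V] A).rTensor A) (Δ w)) :=
        LinearMap.rTensor_comp_apply A (N.mkQ.rTensor A) Δ (Δ w)
      rw [h1]
      have h2 := LinearMap.congr_fun nat (((Δ : A →ₗ[V] A ⊗[V] A).rTensor A) (Δ w))
      simp only [LinearMap.comp_apply, LinearEquiv.coe_coe] at h2
      rw [h2, Coalgebra.coassoc_apply]
      have h3 := LinearMap.congr_fun
        ((LinearMap.rTensor_comp_lTensor (f := N.mkQ) (g := (Δ : A →ₗ[V] A ⊗[V] A))).trans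
          (LinearMap.lTensor_comp_rTensor (f := N.mkQ) (g := (Δ : A →ₗ[V] A ⊗[V] A))).symm) (Δ w)
      rw [hφ]
      simpa only [LinearMap.comp_apply] using h3
    have h0 : (φ.rTensor A) (Δ w) = 0 := by
      apply (TensorProduct.assoc V (A ⧸ N) A A).injective
      rw [key, hw, map_zero, map_zero]
    obtain ⟨t, ht⟩ := (hex (Δ w)).mp h0
    exact ⟨t, ht⟩

end

end Groth.Agent.Lib.Helper69.ChevDVR1
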