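import Mathlib
import Groth.Prelude.Def_Found

/-!
# [LOCS] for helper34's S7202: the stalk of `Spec R'` at `u` is the localization of `R'` at `u`
-/

set_option autoImplicit false
universe u
open IsLocalRing CategoryTheory AlgebraicGeometry

namespace Groth.Agent.Lib.Helper69.AA7202LOCS

theorem germ_eq {R' : Type u} [CommRing R'] (u : Spec (CommRingCat.of R')) (w : R') :
    ((Spec (CommRingCat.of R')).presheaf.germ ⊤ u trivial).hom
        ((Scheme.ΓSpecIso (CommRingCat.of R')).inv.hom w) =
      (StructureSheaf.toStalk R' u).hom w := by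
  have h := StructureSheaf.algebraMap_germ (R := R') ⊤ u trivial
  have h2 := congrArg (fun φ => φ.hom w) h
  exact h2

theorem locs {R' : Type u} [CommRing R'] (u : Spec (CommRingCat.of R')) :
    (∀ w : R', w ∉ u.asIdeal → IsUnit (((Spec (CommRingCat.of R')).presheaf.germ ⊤ u trivial).hom
        ((Scheme.ΓSpecIso (CommRingCat.of R')).inv.hom w))) ∧
    (∀ z ∈ u.asIdeal, ((Spec (CommRingCat.of R')).presheaf.germ ⊤ u trivial).hom
        ((Scheme.ΓSpecIso (CommRingCat.of R')).inv.hom z) ∈
          maximalIdeal ((Spec (CommRingCat.of R')).presheaf.stalk u)) ∧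
    (∀ z : (Spec (CommRingCat.of R')).presheaf.stalk u, ∃ r' w : R', w ∉ u.asIdeal ∧
      ((Spec (CommRingCat.of R')).presheaf.germ ⊤ u trivial).hom
        ((Scheme.ΓSpecIso (CommRingCat.of R')).inv.hom w) * z =
      ((Spec (CommRingCat.of R')).presheaf.germ ⊤ u trivial).hom
        ((Scheme.ΓSpecIso (CommRingCat.of R')).inv.hom r')) := by
  have hloc : IsLocalization.AtPrime ((Spec.structureSheaf R').presheaf.stalk u) u.asIdeal :=
    StructureSheaf.IsLocalization.to_stalk (R := R') u
  refine ⟨fun w hw => ?_, fun z hz => ?_, fun z => ?_⟩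
  · rw [germ_eq]
    exact IsLocalization.map_units ((Spec.structureSheaf R').presheaf.stalk u)
      (⟨w, hw⟩ : u.asIdeal.primeCompl)
  · rw [germ_eq]
    exact (IsLocalization.AtPrime.to_map_mem_maximal_iff
      ((Spec.structureSheaf R').presheaf.stalk u) u.asIdeal z).2 hz
  · obtain ⟨⟨r', w⟩, h⟩ := IsLocalization.surj u.asIdeal.primeCompl
      (S := (Spec.structureSheaf R').presheaf.stalk u) z
    refine ⟨r', w.1, w.2, ?_⟩
    rw [germ_eq, germ_eq, mul_comm]
    exact h

end Groth.Agent.Lib.Helper69.AA7202LOCS
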