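import Mathlib
import Groth.Prelude.Def_Found

/-!
# [RF] for helper34's S7202: residue field map bijective when the stalk map is surjective mod `m`
-/

set_option autoImplicit false
universe u
open IsLocalRing CategoryTheory AlgebraicGeometry

namespace Groth.Agent.Lib.Helper69.AA7202RF

theorem rf {U X : Scheme.{u}} (e : U ⟶ X) (u : U)
    (h : ∀ z : U.presheaf.stalk u, ∃ a : X.presheaf.stalk (e u),
      z - (e.stalkMap u).hom a ∈ maximalIdeal (U.presheaf.stalk u)) :
    Function.Bijective (e.residueFieldMap u) := by
  refine ⟨(e.residueFieldMap u).hom.injective, ?_⟩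
  intro y
  obtain ⟨z, rfl⟩ := U.residue_surjective u y
  obtain ⟨a, ha⟩ := h z
  refine ⟨X.residue (e u) a, ?_⟩
  have h1 : (e.residueFieldMap u) (X.residue (e u) a) = U.residue u ((e.stalkMap u).hom a) := by
    have := congrArg (fun φ : X.presheaf.stalk (e u) ⟶ U.residueField u => φ.hom a)
      (Scheme.residue_residueFieldMap e u)
    simpa using this
  rw [h1]
  have h2 : U.residue u z - U.residue u ((e.stalkMap u).hom a) = 0 := by
    rw [← map_sub]
    exact (IsLocalRing.residue_eq_zero_iff _).2 ha
  exact (sub_eq_zero.1 h2).symm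

end Groth.Agent.Lib.Helper69.AA7202RF
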