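import Mathlib
import Groth.Prelude.Def_Pi1

set_option autoImplicit false
set_option linter.style.haveILetI false
universe u

open CategoryTheory CategoryTheory.Limits AlgebraicGeometry TopologicalSpace

namespace Groth.Agent.Lib.Helper69.NormField

/-- sections of a scheme with integrally closed local rings over an affine open with domain
coordinate ring are integrally closed. -/
lemma isIntegrallyClosed_sections {X : Scheme.{u}} (hX : Pi1.IsNormalScheme X) {U : X.Opens}
    (hU : IsAffineOpen U) [IsDomain Γ(X, U)] : IsIntegrallyClosed Γ(X, U) := by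
  have hmem : ∀ y : PrimeSpectrum Γ(X, U), hU.fromSpec y ∈ U := fun y => by
    rw [← SetLike.mem_coe, ← hU.range_fromSpec]; exact ⟨y, rfl⟩
  letI alg : ∀ (P : Ideal Γ(X, U)) [hP : P.IsMaximal],
      Algebra Γ(X, U) (X.presheaf.stalk (hU.fromSpec ⟨P, hP.isPrime⟩)) := fun P hP =>
    TopCat.Presheaf.algebra_section_stalk X.presheaf ⟨_, hmem ⟨P, hP.isPrime⟩⟩
  haveI loc : ∀ (P : Ideal Γ(X, U)) [hP : P.IsMaximal],
      IsLocalization.AtPrime (X.presheaf.stalk (hU.fromSpec ⟨P, hP.isPrime⟩)) P := fun P hP =>
    hU.isLocalization_stalk' ⟨P, hP.isPrime⟩ (hmem _)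
  exact @IsIntegrallyClosed.of_isLocalization_maximal Γ(X, U) _
    (fun P hP => X.presheaf.stalk (hU.fromSpec ⟨P, hP.isPrime⟩)) (fun P hP => inferInstance)
    (fun P hP => alg P) (fun P hP => loc P) _ (fun P hP => (hX _).2)

section sec
variable {X : Scheme.{u}} {R : CommRingCat.{u}} [IsLocalRing R] (f : Spec R ⟶ X)

/-- sections of `Spec R` over the preimage of an open containing the image of the closed point -/
noncomputable def secIso (U : X.Opens) (hU : f (IsLocalRing.closedPoint R) ∈ U) :
    Γ(Spec R, f ⁻¹ᵁ U) ≅ R :=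
  (Spec R).presheaf.mapIso
    (eqToIso (Scheme.preimage_eq_top_of_closedPoint_mem f hU).symm).op ≪≫ Scheme.ΓSpecIso R

lemma germ_stalkClosedPointTo (U : X.Opens) (hU : f (IsLocalRing.closedPoint R) ∈ U) :
    X.presheaf.germ U _ hU ≫ Scheme.stalkClosedPointTo f = f.app U ≫ (secIso f U hU).hom :=
  Scheme.germ_stalkClosedPointTo f U hU

end sec

variable {X : Scheme.{u}} [IsIntegral X] {L : Type u} [Field L] (φ : X.functionField →+* L)

/-- the morphism `Spec L ⟶ X` through the generic point. -/
noncomputable abbrev gen : Spec (CommRingCat.of L) ⟶ X :=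
  Spec.map (CommRingCat.ofHom φ) ≫ X.fromSpecStalk (genericPoint X)

lemma gen_closedPoint : (gen φ) (IsLocalRing.closedPoint L) = genericPoint X := by
  have h0 : (gen φ) (IsLocalRing.closedPoint L) = (X.fromSpecStalk (genericPoint X))
      ((Spec.map (CommRingCat.ofHom φ)) (IsLocalRing.closedPoint L)) := rfl
  have : (Spec.map (CommRingCat.ofHom φ)) (IsLocalRing.closedPoint L) =
      IsLocalRing.closedPoint (X.presheaf.stalk (genericPoint X)) :=
    Subsingleton.elim (α := PrimeSpectrum X.functionField) _ _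
  rw [h0, this, Scheme.fromSpecStalk_closedPoint]

lemma genericPoint_mem (U : X.Opens) (hne : Nonempty ↥U) : genericPoint X ∈ U :=
  ((genericPoint_spec X).mem_open_set_iff U.isOpen).mpr (by
    obtain ⟨⟨x, hx⟩⟩ := hne
    exact ⟨x, Set.mem_univ x, hx⟩)

lemma app_secIso (U : X.Opens) (hη : genericPoint X ∈ U) :
    (gen φ).app U ≫ (secIso (gen φ) U (by rw [gen_closedPoint]; exact hη)).hom =
      X.presheaf.germ U (genericPoint X) hη ≫ CommRingCat.ofHom φ := by
  have h1 := germ_stalkClosedPointTo (gen φ) U (by rw [gen_closedPoint]; exact hη)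
  rw [← h1]
  exact Scheme.germ_stalkClosedPointTo_Spec_fromSpecStalk (CommRingCat.ofHom φ) U _


section norm
variable [QuasiCompact (gen φ)] [QuasiSeparated (gen φ)]

lemma toNormalization_closedPoint_mem (U : X.Opens) (hη : genericPoint X ∈ U) :
    (gen φ).toNormalization (IsLocalRing.closedPoint L) ∈ (gen φ).fromNormalization ⁻¹ᵁ U := by
  show (gen φ).fromNormalization ((gen φ).toNormalization (IsLocalRing.closedPoint L)) ∈ U
  have : (gen φ).fromNormalization ((gen φ).toNormalization (IsLocalRing.closedPoint L)) =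
      ((gen φ).toNormalization ≫ (gen φ).fromNormalization) (IsLocalRing.closedPoint L) := rfl
  rw [this, Scheme.Hom.toNormalization_fromNormalization, gen_closedPoint]
  exact hη

/-- the embedding of sections of the normalization over an affine open into `L`. -/
noncomputable def psi {U : X.Opens} (hU : IsAffineOpen U) (hη : genericPoint X ∈ U) :
    Γ((gen φ).normalization, (gen φ).fromNormalization ⁻¹ᵁ U) ⟶ CommRingCat.of L :=
  letI := ((gen φ).app U).hom.toAlgebra
  ((gen φ).normalizationObjIso hU).hom ≫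
    CommRingCat.ofHom (integralClosure Γ(X, U) Γ(Spec (CommRingCat.of L), gen φ ⁻¹ᵁ U)).val.toRingHom ≫
    (secIso (gen φ) U (by rw [gen_closedPoint]; exact hη)).hom

lemma psi_eq {U : X.Opens} (hU : IsAffineOpen U) (hη : genericPoint X ∈ U) :
    psi φ hU hη = (gen φ).toNormalization.app ((gen φ).fromNormalization ⁻¹ᵁ U) ≫
      (secIso (gen φ).toNormalization _ (toNormalization_closedPoint_mem φ U hη)).hom := by
  have h := (gen φ).toNormalization_app_preimage ⟨U, hU⟩
  dsimp only at h
  rw [h]
  simp only [psi, secIso, Category.assoc, Iso.trans_hom, Functor.mapIso_hom, Iso.op_hom, eqToIso.hom]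
  congr 2


lemma germ_stalkClosedPointTo_toNormalization {U : X.Opens} (hU : IsAffineOpen U)
    (hη : genericPoint X ∈ U) :
    (gen φ).normalization.presheaf.germ ((gen φ).fromNormalization ⁻¹ᵁ U) _
        (toNormalization_closedPoint_mem φ U hη) ≫
      Scheme.stalkClosedPointTo (gen φ).toNormalization = psi φ hU hη := by
  rw [psi_eq, germ_stalkClosedPointTo]

lemma psi_injective {U : X.Opens} (hU : IsAffineOpen U) (hη : genericPoint X ∈ U) :
    Function.Injective (psi φ hU hη).hom := by
  letI := ((gen φ).app U).hom.toAlgebra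
  intro a b h
  have h1 : (secIso (gen φ) U (by rw [gen_closedPoint]; exact hη)).hom.hom
      (((gen φ).normalizationObjIso hU).hom a).1 =
      (secIso (gen φ) U (by rw [gen_closedPoint]; exact hη)).hom.hom
      (((gen φ).normalizationObjIso hU).hom b).1 := h
  have h2 := (ConcreteCategory.bijective_of_isIso
    (secIso (gen φ) U (by rw [gen_closedPoint]; exact hη)).hom).injective h1
  have h3 := Subtype.val_injective h2
  exact (ConcreteCategory.bijective_of_isIso ((gen φ).normalizationObjIso hU).hom).injective h3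

lemma fromNormalization_app_psi {U : X.Opens} (hU : IsAffineOpen U) (hη : genericPoint X ∈ U) :
    (gen φ).fromNormalization.app U ≫ psi φ hU hη =
      X.presheaf.germ U (genericPoint X) hη ≫ CommRingCat.ofHom φ := by
  letI := ((gen φ).app U).hom.toAlgebra
  rw [Scheme.Hom.fromNormalization_app _ hU, ← app_secIso φ U hη]
  simp only [psi, Category.assoc, Iso.inv_hom_id_assoc]
  rw [← Category.assoc]
  congr 1

lemma range_psi {U : X.Opens} (hU : IsAffineOpen U) (hη : genericPoint X ∈ U) :
    Set.range (psi φ hU hη).hom =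
      {y : L | (X.presheaf.germ U (genericPoint X) hη ≫ CommRingCat.ofHom φ).hom.IsIntegralElem y} := by
  letI := ((gen φ).app U).hom.toAlgebra
  have hs := app_secIso φ U hη
  set σ := secIso (gen φ) U (by rw [gen_closedPoint]; exact hη) with hσ
  ext y
  simp only [Set.mem_range, Set.mem_ofPred_eq]
  constructor
  · rintro ⟨n, rfl⟩
    obtain ⟨p, hp, hp0⟩ := (((gen φ).normalizationObjIso hU).hom n).2
    refine ⟨p, hp, ?_⟩
    rw [← hs]
    have : (psi φ hU hη).hom n = σ.hom.hom (((gen φ).normalizationObjIso hU).hom n).1 := rfl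
    rw [this, CommRingCat.hom_comp, ← Polynomial.hom_eval₂]
    rw [RingHom.algebraMap_toAlgebra] at hp0
    rw [hp0, map_zero]
  · rintro ⟨p, hp, hp0⟩
    have hint : σ.inv.hom y ∈ integralClosure Γ(X, U) Γ(Spec (CommRingCat.of L), gen φ ⁻¹ᵁ U) := by
      refine ⟨p, hp, ?_⟩
      rw [RingHom.algebraMap_toAlgebra]
      apply (ConcreteCategory.bijective_of_isIso σ.hom).injective
      rw [map_zero]
      show σ.hom.hom _ = 0
      rw [Polynomial.hom_eval₂, ← CommRingCat.hom_comp, hs]
      have : σ.hom.hom (σ.inv.hom y) = y := by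
        rw [← CommRingCat.comp_apply, Iso.inv_hom_id]; rfl
      rw [this]
      exact hp0
    refine ⟨((gen φ).normalizationObjIso hU).inv ⟨σ.inv.hom y, hint⟩, ?_⟩
    have h1 : ((gen φ).normalizationObjIso hU).hom (((gen φ).normalizationObjIso hU).inv ⟨σ.inv.hom y, hint⟩)
        = ⟨σ.inv.hom y, hint⟩ := by
      rw [← CommRingCat.comp_apply, Iso.inv_hom_id]; rfl
    have : (psi φ hU hη).hom (((gen φ).normalizationObjIso hU).inv ⟨σ.inv.hom y, hint⟩) =
        σ.hom.hom (((gen φ).normalizationObjIso hU).hom
          (((gen φ).normalizationObjIso hU).inv ⟨σ.inv.hom y, hint⟩)).1 := rfl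
    rw [this, h1]
    show σ.hom.hom (σ.inv.hom y) = y
    rw [← CommRingCat.comp_apply, Iso.inv_hom_id]; rfl

end norm

end Groth.Agent.Lib.Helper69.NormField
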