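import Mathlib
import Groth.Prelude.Def_Pi1
import Groth.Agent.Lib.Helper69.NormField

set_option autoImplicit false
set_option linter.style.haveILetI false
universe u

open CategoryTheory CategoryTheory.Limits AlgebraicGeometry TopologicalSpace

namespace Groth.Agent.Lib.Helper69.NormField

section alg

/-- a domain integrally closed in a field containing it is integrally closed. -/
lemma isIntegrallyClosed_of_isIntegrallyClosedIn_field (C L : Type*) [CommRing C] [IsDomain C]
    [Field L] [Algebra C L] [FaithfulSMul C L] [IsIntegrallyClosedIn C L] :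
    IsIntegrallyClosed C := by
  letI : Algebra (FractionRing C) L := FractionRing.liftAlgebra C L
  haveI : IsScalarTower C (FractionRing C) L := FractionRing.isScalarTower_liftAlgebra C L
  rw [isIntegrallyClosed_iff (FractionRing C)]
  intro x hx
  have hx' : IsIntegral C (algebraMap (FractionRing C) L x) := hx.map (IsScalarTower.toAlgHom C (FractionRing C) L)
  obtain ⟨c, hc⟩ := (isIntegrallyClosedIn_iff.mp (inferInstance : IsIntegrallyClosedIn C L)).2 hx'
  refine ⟨c, (algebraMap (FractionRing C) L).injective ?_⟩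
  rw [← IsScalarTower.algebraMap_apply, hc]

/-- a ring embedded in a field with image the integral elements over some subring is integrally
closed. -/
lemma isIntegrallyClosed_of_range_eq {A B L : Type*} [CommRing A] [CommRing B] [Field L]
    (ι : A →+* L) (ψ : B →+* L) (hψ : Function.Injective ψ)
    (hr : Set.range ψ = {y : L | ι.IsIntegralElem y}) : IsDomain B ∧ IsIntegrallyClosed B := by
  letI : Algebra A L := ι.toAlgebra
  have hmem : ∀ b, ψ b ∈ integralClosure A L := fun b => by
    have : ψ b ∈ Set.range ψ := ⟨b, rfl⟩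
    rw [hr] at this
    exact this
  let e : B ≃+* integralClosure A L := RingEquiv.ofBijective (ψ.codRestrict _ hmem) ⟨fun a b h => hψ (congrArg Subtype.val h), fun ⟨y, hy⟩ => by
      have : y ∈ Set.range ψ := by rw [hr]; exact hy
      obtain ⟨b, rfl⟩ := this
      exact ⟨b, rfl⟩⟩
  haveI : IsDomain B := e.toMulEquiv.isDomain_iff.mpr inferInstance
  haveI : IsIntegrallyClosed (integralClosure A L) :=
    isIntegrallyClosed_of_isIntegrallyClosedIn_field _ L
  exact ⟨inferInstance, IsIntegrallyClosed.of_equiv e.symm⟩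

end alg


section geom

lemma isFractionRing_stalk_genericPoint {N : Scheme.{u}} [IsIntegral N] {V : N.Opens}
    (hV : IsAffineOpen V) (n : N) (hnV : n ∈ V) (hn : n = genericPoint N) :
    @IsFractionRing Γ(N, V) _ (N.presheaf.stalk n) _ (N.presheaf.germ V n hnV).hom.toAlgebra := by
  subst hn
  exact @functionField_isFractionRing_of_isAffineOpen N _ V hV ⟨⟨_, hnV⟩⟩

variable {X : Scheme.{u}} [IsIntegral X] {L : Type u} [Field L] (φ : X.functionField →+* L)
variable [QuasiCompact (gen φ)] [QuasiSeparated (gen φ)]

lemma sections_normal {U : X.Opens} (hU : IsAffineOpen U) (hη : genericPoint X ∈ U) :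
    IsDomain Γ((gen φ).normalization, (gen φ).fromNormalization ⁻¹ᵁ U) ∧
      IsIntegrallyClosed Γ((gen φ).normalization, (gen φ).fromNormalization ⁻¹ᵁ U) :=
  isIntegrallyClosed_of_range_eq _ (psi φ hU hη).hom (psi_injective φ hU hη) (range_psi φ hU hη)

lemma exists_affine_genericPoint_mem (x : X) :
    ∃ U : X.Opens, IsAffineOpen U ∧ x ∈ U ∧ genericPoint X ∈ U := by
  obtain ⟨U, hU, hxU, -⟩ := exists_isAffineOpen_mem_and_subset (X := X) (x := x) (U := ⊤) trivial
  exact ⟨U, hU, hxU, genericPoint_mem U ⟨⟨x, hxU⟩⟩⟩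

theorem isNormalScheme_normalization : Pi1.IsNormalScheme (gen φ).normalization := by
  intro n
  obtain ⟨U, hU, hnU, hη⟩ := exists_affine_genericPoint_mem ((gen φ).fromNormalization n)
  have hV : IsAffineOpen ((gen φ).fromNormalization ⁻¹ᵁ U) := hU.preimage _
  have hnV : n ∈ (gen φ).fromNormalization ⁻¹ᵁ U := hnU
  obtain ⟨hd, hic⟩ := sections_normal φ hU hη
  letI : Algebra Γ((gen φ).normalization, (gen φ).fromNormalization ⁻¹ᵁ U)
      ((gen φ).normalization.presheaf.stalk n) :=
    TopCat.Presheaf.algebra_section_stalk _ ⟨n, hnV⟩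
  haveI := hV.isLocalization_stalk ⟨n, hnV⟩
  refine ⟨inferInstance, ?_⟩
  exact isIntegrallyClosed_of_isLocalization _ (hV.primeIdealOf ⟨n, hnV⟩).asIdeal.primeCompl
    (Ideal.primeCompl_le_nonZeroDivisors _)

theorem toNormalization_closedPoint :
    (gen φ).toNormalization (IsLocalRing.closedPoint L) = genericPoint (gen φ).normalization := by
  apply ((genericPoint_spec (gen φ).normalization).eq _).symm
  rw [isGenericPoint_def]
  have h := (gen φ).toNormalization.denseRange
  have hr : Set.range (gen φ).toNormalization =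
      {(gen φ).toNormalization (IsLocalRing.closedPoint L)} := by
    ext y
    constructor
    · rintro ⟨x, rfl⟩
      have : x = IsLocalRing.closedPoint L := Subsingleton.elim (α := PrimeSpectrum L) _ _
      rw [this]; rfl
    · rintro rfl
      exact ⟨_, rfl⟩
  rw [← hr]
  exact h.closure_range

theorem eq_genericPoint_of_fromNormalization_eq (n : (gen φ).normalization)
    (hn : (gen φ).fromNormalization n = genericPoint X) :
    n = genericPoint (gen φ).normalization := by
  obtain ⟨U, hU, hnU, hη⟩ := exists_affine_genericPoint_mem ((gen φ).fromNormalization n)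
  have hV : IsAffineOpen ((gen φ).fromNormalization ⁻¹ᵁ U) := hU.preimage _
  have hnV : n ∈ (gen φ).fromNormalization ⁻¹ᵁ U := hnU
  have hneV : Nonempty ↥((gen φ).fromNormalization ⁻¹ᵁ U) := ⟨⟨n, hnV⟩⟩
  have hneU : Nonempty ↥U := ⟨⟨_, hη⟩⟩
  obtain ⟨hd, -⟩ := sections_normal φ hU hη
  haveI : IsDomain Γ(X, U) := @IsIntegral.component_integral X _ U hneU
  have h1 := IsAffineOpen.comap_primeIdealOf_appLE U hU _ hV le_rfl hnV
  have h2 : hU.primeIdealOf ⟨(gen φ).fromNormalization n, hnU⟩ = ⊥ := by
    have : (⟨(gen φ).fromNormalization n, hnU⟩ : U) = ⟨genericPoint X, hη⟩ := Subtype.ext hn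
    rw [this, @IsAffineOpen.primeIdealOf_genericPoint X _ U hU hneU, genericPoint_eq_bot_of_affine]
  rw [h2, ← Scheme.Hom.app_eq_appLE] at h1
  have hint : ((gen φ).fromNormalization.app U).hom.IsIntegral :=
    IsIntegralHom.isIntegral_app _ U hU
  have h3 : (hV.primeIdealOf ⟨n, hnV⟩).asIdeal = ⊥ := by
    algebraize [((gen φ).fromNormalization.app U).hom]
    haveI : Algebra.IsIntegral Γ(X, U)
        Γ((gen φ).normalization, (gen φ).fromNormalization ⁻¹ᵁ U) := ⟨hint⟩
    apply Ideal.eq_bot_of_comap_eq_bot (R := Γ(X, U))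
    have := congrArg PrimeSpectrum.asIdeal h1
    exact this
  have h4 : hV.primeIdealOf ⟨n, hnV⟩ = hV.primeIdealOf ⟨genericPoint _, genericPoint_mem _ hneV⟩ := by
    rw [@IsAffineOpen.primeIdealOf_genericPoint _ _ _ hV hneV, genericPoint_eq_bot_of_affine]
    exact PrimeSpectrum.ext h3
  have h5 := hV.fromSpec_primeIdealOf ⟨n, hnV⟩
  rw [h4, hV.fromSpec_primeIdealOf] at h5
  exact h5.symm


/-- the stalk of the normalization at the image of `Spec L` embeds in `L` -/
theorem stalkClosedPointTo_injective :
    Function.Injective (Scheme.stalkClosedPointTo (gen φ).toNormalization).hom := by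
  obtain ⟨U, hU, -, hη⟩ := exists_affine_genericPoint_mem (genericPoint X)
  have hV : IsAffineOpen ((gen φ).fromNormalization ⁻¹ᵁ U) := hU.preimage _
  have hn₀ := toNormalization_closedPoint_mem φ U hη
  letI alg : Algebra Γ((gen φ).normalization, (gen φ).fromNormalization ⁻¹ᵁ U)
      ((gen φ).normalization.presheaf.stalk ((gen φ).toNormalization (IsLocalRing.closedPoint L))) :=
    ((gen φ).normalization.presheaf.germ _ _ hn₀).hom.toAlgebra
  haveI hfr := isFractionRing_stalk_genericPoint hV _ hn₀ (toNormalization_closedPoint φ)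
  apply IsLocalization.injective_of_map_algebraMap_zero
    (M := nonZeroDivisors Γ((gen φ).normalization, (gen φ).fromNormalization ⁻¹ᵁ U))
  intro b hb
  have h1 := germ_stalkClosedPointTo_toNormalization φ hU hη
  have h2 : (psi φ hU hη).hom b = 0 := by
    rw [← h1]; exact hb
  have h3 : b = 0 := psi_injective φ hU hη (by rw [h2, map_zero])
  rw [h3, map_zero]

/-- the image of the stalk of the normalization at the image of `Spec L` is the algebraic closure
of the function field of `X` in `L`. -/
theorem range_stalkClosedPointTo :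
    Set.range (Scheme.stalkClosedPointTo (gen φ).toNormalization).hom =
      {y : L | φ.IsIntegralElem y} := by
  obtain ⟨U, hU, -, hη⟩ := exists_affine_genericPoint_mem (genericPoint X)
  have hneU : Nonempty ↥U := ⟨⟨_, hη⟩⟩
  have hV : IsAffineOpen ((gen φ).fromNormalization ⁻¹ᵁ U) := hU.preimage _
  have hn₀ := toNormalization_closedPoint_mem φ U hη
  letI alg : Algebra Γ((gen φ).normalization, (gen φ).fromNormalization ⁻¹ᵁ U)
      ((gen φ).normalization.presheaf.stalk ((gen φ).toNormalization (IsLocalRing.closedPoint L))) :=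
    ((gen φ).normalization.presheaf.germ _ _ hn₀).hom.toAlgebra
  haveI hfr := isFractionRing_stalk_genericPoint hV _ hn₀ (toNormalization_closedPoint φ)
  have h1 := germ_stalkClosedPointTo_toNormalization φ hU hη
  have hψ : ∀ b, (Scheme.stalkClosedPointTo (gen φ).toNormalization).hom
      (algebraMap _ _ b) = (psi φ hU hη).hom b := fun b => by rw [← h1]; rfl
  haveI hdomV : IsDomain Γ((gen φ).normalization, (gen φ).fromNormalization ⁻¹ᵁ U) :=
    (sections_normal φ hU hη).1
  have hrange := range_psi φ hU hη
  -- algebra structures on the field side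
  haveI : IsDomain Γ(X, U) := @IsIntegral.component_integral X _ U hneU
  letI a1 : Algebra Γ(X, U) X.functionField := (X.presheaf.germ U (genericPoint X) hη).hom.toAlgebra
  haveI hfrX : IsFractionRing Γ(X, U) X.functionField :=
    @functionField_isFractionRing_of_isAffineOpen X _ U hU hneU
  letI a2 : Algebra X.functionField L := φ.toAlgebra
  letI a3 : Algebra Γ(X, U) L := (φ.comp (X.presheaf.germ U (genericPoint X) hη).hom).toAlgebra
  haveI : IsScalarTower Γ(X, U) X.functionField L := IsScalarTower.of_algebraMap_eq fun _ => rfl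
  have hint_iff : ∀ y : L, y ∈ Set.range (psi φ hU hη).hom ↔ IsIntegral Γ(X, U) y := fun y => by
    rw [hrange]; rfl
  ext y
  simp only [Set.mem_range, Set.mem_ofPred_eq]
  constructor
  · rintro ⟨z, rfl⟩
    obtain ⟨⟨a, m⟩, h⟩ := IsLocalization.surj
      (nonZeroDivisors Γ((gen φ).normalization, (gen φ).fromNormalization ⁻¹ᵁ U)) z
    have h' := congrArg (Scheme.stalkClosedPointTo (gen φ).toNormalization).hom h
    rw [map_mul, hψ, hψ] at h'
    have hm : (psi φ hU hη).hom m ≠ 0 := fun h0 =>
      nonZeroDivisors.ne_zero m.2 (psi_injective φ hU hη (by rw [h0, map_zero]))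
    have ha : IsIntegral X.functionField ((psi φ hU hη).hom a) :=
      (((hint_iff _).mp ⟨a, rfl⟩)).tower_top
    have hm' : IsIntegral X.functionField ((psi φ hU hη).hom m) :=
      (((hint_iff _).mp ⟨m, rfl⟩)).tower_top
    have : (Scheme.stalkClosedPointTo (gen φ).toNormalization).hom z =
        (psi φ hU hη).hom a * ((psi φ hU hη).hom m)⁻¹ := by
      rw [← h', mul_assoc, mul_inv_cancel₀ hm, mul_one]
    rw [this]
    exact ha.mul hm'.inv
  · intro hy
    have hy' : IsIntegral X.functionField y := hy
    have halg : IsAlgebraic Γ(X, U) y :=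
      (IsFractionRing.isAlgebraic_iff Γ(X, U) X.functionField L).mpr hy'.isAlgebraic
    obtain ⟨d, hd, hdy⟩ := halg.exists_integral_multiple
    obtain ⟨b₁, hb₁⟩ := (hint_iff _).mpr hdy
    have hd' : IsIntegral Γ(X, U) (algebraMap Γ(X, U) L d) := isIntegral_algebraMap
    obtain ⟨b₂, hb₂⟩ := (hint_iff _).mpr hd'
    have hdL : algebraMap Γ(X, U) L d ≠ 0 := by
      intro h0
      apply hd
      have hinj : Function.Injective (algebraMap Γ(X, U) L) := by
        rw [IsScalarTower.algebraMap_eq Γ(X, U) X.functionField L]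
        exact (algebraMap X.functionField L).injective.comp (IsFractionRing.injective _ _)
      exact hinj (by rw [h0, map_zero])
    have hb₂0 : b₂ ≠ 0 := by
      rintro rfl
      rw [map_zero] at hb₂
      exact hdL hb₂.symm
    refine ⟨IsLocalization.mk' _ b₁ (⟨b₂, mem_nonZeroDivisors_of_ne_zero hb₂0⟩ :
      nonZeroDivisors Γ((gen φ).normalization, (gen φ).fromNormalization ⁻¹ᵁ U)), ?_⟩
    have hspec := IsLocalization.mk'_spec
      ((gen φ).normalization.presheaf.stalk ((gen φ).toNormalization (IsLocalRing.closedPoint L)))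
      b₁ (⟨b₂, mem_nonZeroDivisors_of_ne_zero hb₂0⟩ :
      nonZeroDivisors Γ((gen φ).normalization, (gen φ).fromNormalization ⁻¹ᵁ U))
    have h' := congrArg (Scheme.stalkClosedPointTo (gen φ).toNormalization).hom hspec
    rw [map_mul, hψ, hψ] at h'
    simp only at h'
    rw [hb₁, hb₂, Algebra.smul_def] at h'
    exact mul_right_cancel₀ hdL (by rw [h', mul_comm])

end geom

end Groth.Agent.Lib.Helper69.NormField
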