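import Groth.Agent.Lib.Helper69.FEtColim2

set_option linter.style.haveILetI false
set_option linter.unusedSectionVars false
set_option backward.isDefEq.respectTransparency false
set_option backward.defeqAttrib.useBackward true
open CategoryTheory Limits AlgebraicGeometry MorphismProperty Opposite TopologicalSpace

universe u
namespace Groth.Agent.Lib.Helper69

section C6

variable {X X' : Scheme.{u}} (f : X' ⟶ X)

/-- affine opens of `X'` mapping into a good affine open of `X` -/
def pbGoodSet (Y Z : AffOver X) : Set X'.Opens :=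
  {U' | IsAffineOpen U' ∧ ∃ U ∈ goodSet Y Z, U' ≤ f ⁻¹ᵁ U}

lemma pbGoodSet_isBasis (Y Z : AffOver X) (hY : FEt.prop Y.hom) (hZ : FEt.prop Z.hom) :
    Opens.IsBasis (pbGoodSet f Y Z) := by
  rw [Opens.isBasis_iff_nbhd]
  intro V' x' hx'
  obtain ⟨U, hU, hxU, -⟩ := Opens.isBasis_iff_nbhd.mp (goodSet_isBasis Y Z hY hZ)
    (Opens.mem_top (f x'))
  have hx : x' ∈ V' ⊓ f ⁻¹ᵁ U := ⟨hx', hxU⟩
  obtain ⟨U', hU'aff, hxU', hU'le⟩ := Opens.isBasis_iff_nbhd.mp X'.isBasis_affineOpens hx
  exact ⟨U', ⟨hU'aff, U, hU, fun y hy => (hU'le hy).2⟩, hxU', fun y hy => (hU'le hy).1⟩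

/-- arbitrary base change preserves coequalizers (in `AffOver`) of pairs of maps between
finite étale schemes -/
lemma preservesColimit_pb_glob {Y Z : AffOver X} (a b : Y ⟶ Z) (hY : FEt.prop Y.hom)
    (hZ : FEt.prop Z.hom) : PreservesColimit (parallelPair a b) (pbFun f) := by
  have : IsFinite (Y := X) Y.hom := hY.1
  have : Etale (Y := X) Y.hom := hY.2
  have : IsFinite (Y := X) Z.hom := hZ.1
  have : Etale (Y := X) Z.hom := hZ.2
  let c := Cofork.ofπ (coequalizer.π a b) (coequalizer.condition a b)
  have hc : IsColimit c := coequalizerIsCoequalizer a b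
  let 𝔅' : AffBasis X' := ⟨pbGoodSet f Y Z, pbGoodSet_isBasis f Y Z hY hZ, fun _ h => h.1⟩
  suffices h : Nonempty (IsColimit ((pbFun f).mapCocone c)) from
    preservesColimit_of_preserves_colimit_cocone hc h.some
  apply 𝔅'.isColimit_of_local
  intro i
  apply Nonempty.some
  obtain ⟨hU'aff, U, ⟨hUaff, ⟨m, hm⟩, ⟨n, hn⟩⟩, hle⟩ := i.2
  have : IsAffine (U : Scheme.{u}) := hUaff
  have : IsAffine (i.1 : Scheme.{u}) := hU'aff
  have hrange : Set.range (i.1.ι ≫ f) ⊆ Set.range U.ι := by
    rintro _ ⟨y, rfl⟩
    have hy : (i.1.ι y) ∈ f ⁻¹ᵁ U := hle (by simpa using y.2)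
    simpa using hy
  let f' : (i.1 : Scheme.{u}) ⟶ (U : Scheme.{u}) := IsOpenImmersion.lift U.ι (i.1.ι ≫ f) hrange
  have hf' : f' ≫ U.ι = i.1.ι ≫ f := IsOpenImmersion.lift_fac _ _ _
  let e : pbFun f ⋙ pbFun i.1.ι ≅ pbFun U.ι ⋙ pbFun f' :=
    (MorphismProperty.Over.pullbackComp i.1.ι f).symm ≪≫
      MorphismProperty.Over.pullbackComp f' U.ι (i.1.ι ≫ f) hf'.symm
  have hU : IsColimit ((pbFun U.ι).mapCocone c) :=
    (AffBasis.all X).isColimitRestr _ c hc ⟨U, hUaff⟩
  have hmem : ∀ y : (U : Scheme.{u}), (U.ι y) ∈ U := fun y => by simpa using y.2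
  have hpres : PreservesColimit (parallelPair a b ⋙ pbFun U.ι) (pbFun f') := by
    have h1 : PreservesColimit (parallelPair ((parallelPair a b ⋙ pbFun U.ι).map .left)
        ((parallelPair a b ⋙ pbFun U.ι).map .right)) (pbFun f') := by
      refine preservesColimit_pb_of_fet (X := (U : Scheme.{u})) f' ((pbFun U.ι).map a)
        ((pbFun U.ι).map b) (n := n) (m := m) (FEt.prop.pullback_snd _ _ hY)
        (FEt.prop.pullback_snd _ _ hZ) ?_ ?_
      · intro y
        exact (Scheme.Hom.finrank_pullback_snd (Z := X) Y.hom U.ι y).trans (hm _ (hmem y))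
      · intro y
        exact (Scheme.Hom.finrank_pullback_snd (Z := X) Z.hom U.ι y).trans (hn _ (hmem y))
    exact preservesColimit_of_iso_diagram _
      (diagramIsoParallelPair (parallelPair a b ⋙ pbFun U.ι)).symm
  have h2 : IsColimit ((pbFun U.ι ⋙ pbFun f').mapCocone c) :=
    IsColimit.ofIsoColimit (isColimitOfPreserves (pbFun f') hU) (Functor.mapCoconeMapCocone c)
  have h3 : IsColimit ((pbFun f ⋙ pbFun i.1.ι).mapCocone c) := IsColimit.mapCoconeEquiv e.symm h2
  exact ⟨IsColimit.ofIsoColimit h3 (Functor.mapCoconeMapCocone c).symm⟩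

end C6

section restrict

variable {X X' : Scheme.{u}} (f : X' ⟶ X)

/-- compatibility of the inclusions into `AffOver` with base change -/
noncomputable def restrictInclIso : FEt.restrict f ⋙ fetIncl X' ≅ fetIncl X ⋙ pbFun f :=
  NatIso.ofComponents (fun Y => MorphismProperty.Over.isoMk (Iso.refl _) (by
    simp [FEt.restrict])) (fun {Y Z} m => by
    apply MorphismProperty.Over.Hom.ext
    simp [FEt.restrict]
    rfl)

instance fet_restrict_preservesCoequalizers :
    PreservesColimitsOfShape WalkingParallelPair (FEt.restrict f) := by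
  constructor
  intro K
  suffices h : ∀ {Y Z : FEt.Cat X} (a b : Y ⟶ Z),
      PreservesColimit (parallelPair a b) (FEt.restrict f) by
    have := h (K.map .left) (K.map .right)
    exact preservesColimit_of_iso_diagram _ (diagramIsoParallelPair K).symm
  intro Y Z a b
  have h1 : PreservesColimit (parallelPair a b ⋙ fetIncl X) (pbFun f) := by
    have : PreservesColimit (parallelPair ((parallelPair a b ⋙ fetIncl X).map .left)
        ((parallelPair a b ⋙ fetIncl X).map .right)) (pbFun f) :=
      preservesColimit_pb_glob f ((fetIncl X).map a) ((fetIncl X).map b) Y.prop Z.prop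
    exact preservesColimit_of_iso_diagram _
      (diagramIsoParallelPair (parallelPair a b ⋙ fetIncl X)).symm
  have h2 : PreservesColimit (parallelPair a b) (fetIncl X ⋙ pbFun f) := inferInstance
  have h3 : PreservesColimit (parallelPair a b) (FEt.restrict f ⋙ fetIncl X') :=
    preservesColimit_of_natIso _ (restrictInclIso f).symm
  exact preservesColimit_of_reflects_of_preserves (FEt.restrict f) (fetIncl X')

instance fet_restrict_preservesBinaryCoproducts :
    PreservesColimitsOfShape (Discrete WalkingPair) (FEt.restrict f) := by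
  constructor
  intro K
  suffices h : ∀ Y Z : FEt.Cat X, PreservesColimit (pair Y Z) (FEt.restrict f) by
    have := h (K.obj ⟨.left⟩) (K.obj ⟨.right⟩)
    exact preservesColimit_of_iso_diagram _ (diagramIsoPair K).symm
  intro Y Z
  apply preservesColimit_of_preserves_colimit_cocone (fetCoprodIsColimit Y Z)
  refine (isColimitMapCoconeBinaryCofanEquiv (FEt.restrict f) (fetInl Y Z) (fetInr Y Z)).symm ?_
  let G : FEt.Cat X' ⥤ Scheme.{u} :=
    MorphismProperty.Over.forget FEt.prop.{u} ⊤ X' ⋙ CategoryTheory.Over.forget X'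
  apply isColimitOfReflects G
  refine (isColimitMapCoconeBinaryCofanEquiv G _ _).symm ?_
  have hvk := FinitaryExtensive.vanKampen _ (coprodIsCoprod Y.left Z.left)
  rw [BinaryCofan.isVanKampen_iff] at hvk
  refine ((hvk (BinaryCofan.mk (G.map ((FEt.restrict f).map (fetInl Y Z)))
    (G.map ((FEt.restrict f).map (fetInr Y Z)))) (pullback.fst Y.hom f) (pullback.fst Z.hom f)
    (pullback.fst (fetCoprod Y Z).hom f) ?_ ?_).mpr ⟨?_, ?_⟩).some
  · exact (isPullback_overPullback_map f (fetInl Y Z)).w.symm
  · exact (isPullback_overPullback_map f (fetInr Y Z)).w.symm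
  · exact isPullback_overPullback_map f (fetInl Y Z)
  · exact isPullback_overPullback_map f (fetInr Y Z)

instance fet_restrict_preservesInitial :
    PreservesColimitsOfShape (Discrete PEmpty.{1}) (FEt.restrict f) := by
  have : PreservesColimit (Functor.empty.{0} (FEt.Cat X)) (FEt.restrict f) := by
    apply preservesColimit_of_preserves_colimit_cocone (fetIsInitialOfIsEmpty (fetInitial X))
    refine (isColimitMapCoconeEmptyCoconeEquiv (FEt.restrict f) (fetInitial X)).symm ?_
    have : IsEmpty ((FEt.restrict f).obj (fetInitial X)).left :=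
      ⟨fun x => (inferInstance : IsEmpty (fetInitial X).left).false
        ((pullback.fst (fetInitial X).hom f) x)⟩
    exact fetIsInitialOfIsEmpty _
  exact preservesColimitsOfShape_pempty_of_preservesInitial _

instance fet_restrict_preservesFiniteCoproducts : PreservesFiniteCoproducts (FEt.restrict f) :=
  ⟨fun n => preservesShape_fin_of_preserves_binary_and_initial _ n⟩

instance fet_restrict_preservesFiniteColimits : PreservesFiniteColimits (FEt.restrict f) :=
  preservesFiniteColimits_of_preservesCoequalizers_and_finiteCoproducts _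

end restrict

end Groth.Agent.Lib.Helper69
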