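import Mathlib
import Groth.Prelude.Def_Pi1
import Groth.Agent.Lib.Helper69.NormField2

set_option autoImplicit false
set_option linter.style.haveILetI false
universe u

open CategoryTheory CategoryTheory.Limits AlgebraicGeometry TopologicalSpace

namespace Groth.Agent.Lib.Helper69.NormField

/-- a ring hom out of the stalk at the generic point of an integral scheme is injective. -/
lemma injective_of_genericPoint {Z : Scheme.{u}} [IsIntegral Z] (z : Z) (hz : z = genericPoint Z)
    {R : Type*} [CommRing R] [Nontrivial R] (f : Z.presheaf.stalk z →+* R) :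
    Function.Injective f := by
  subst hz
  exact RingHom.injective (f : Z.functionField →+* R)

/-- a morphism from the spectrum of a field to a one-point scheme inducing a bijection on the stalk
is an isomorphism. -/
lemma isIso_of_subsingleton {P : Scheme.{u}} [Subsingleton P] {L : Type u} [Field L]
    (f : Spec (CommRingCat.of L) ⟶ P)
    (hf : Function.Bijective (Scheme.stalkClosedPointTo f).hom) : IsIso f := by
  have hrange : Set.range f = Set.univ := by
    ext p
    simp only [Set.mem_range, Set.mem_univ, iff_true]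
    exact ⟨IsLocalRing.closedPoint L, Subsingleton.elim _ _⟩
  haveI : Subsingleton ↥(Spec (CommRingCat.of L)) :=
    inferInstanceAs (Subsingleton (PrimeSpectrum L))
  have hemb : Topology.IsOpenEmbedding f :=
    ⟨Topology.IsEmbedding.of_subsingleton _, by rw [hrange]; exact isOpen_univ⟩
  have hst : ∀ x, IsIso (f.stalkMap x) := by
    intro x
    have hx : x = IsLocalRing.closedPoint L := Subsingleton.elim _ _
    subst hx
    have h1 : f.stalkMap (IsLocalRing.closedPoint L) =
        Scheme.stalkClosedPointTo f ≫ (stalkClosedPointIso (CommRingCat.of L)).inv := by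
      rw [Scheme.stalkClosedPointTo, Category.assoc, Iso.hom_inv_id, Category.comp_id]
    rw [h1]
    haveI : IsIso (Scheme.stalkClosedPointTo f) :=
      (ConcreteCategory.isIso_iff_bijective _).mpr hf
    infer_instance
  haveI : IsOpenImmersion f := IsOpenImmersion.of_isIso_stalkMap f hemb
  rw [isIso_iff_isOpenImmersion_and_surjective]
  exact ⟨inferInstance, ⟨fun p => by
    have : p ∈ Set.range f := by rw [hrange]; trivial
    exact this⟩⟩


/-- an integral birational morphism onto a normal integral scheme is an isomorphism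
(birationality is expressed through a common "generic point" `Spec L`). -/
theorem isIso_of_integral_birational {N Y : Scheme.{u}} [IsIntegral N] [IsIntegral Y]
    (hY : Pi1.IsNormalScheme Y) (d : N ⟶ Y) [IsIntegralHom d] {L : Type u} [Field L]
    (τ : Spec (CommRingCat.of L) ⟶ N)
    (hτ : τ (IsLocalRing.closedPoint L) = genericPoint N)
    (hgen : (τ ≫ d) (IsLocalRing.closedPoint L) = genericPoint Y)
    (hsurj : Function.Surjective (Scheme.stalkClosedPointTo (τ ≫ d)).hom) : IsIso d := by
  show MorphismProperty.isomorphisms Scheme d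
  rw [IsZariskiLocalAtTarget.iff_of_iSup_eq_top (P := MorphismProperty.isomorphisms Scheme) _
    (iSup_affineOpens_eq_top Y)]
  intro W
  show IsIso (d ∣_ W.1)
  rw [isIso_morphismRestrict_iff_isIso_app d W.2]
  rw [ConcreteCategory.isIso_iff_bijective]
  by_cases hne : Nonempty ↥W.1
  swap
  · have hsub : Subsingleton Γ(Y, W.1) := by
      have hbot : W.1 = ⊥ := by
        ext x
        simp only [TopologicalSpace.Opens.coe_bot, Set.mem_empty_iff_false, iff_false]
        exact fun hx => hne ⟨⟨x, hx⟩⟩
      rw [hbot]; infer_instance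
    have hsub' : Subsingleton Γ(N, d ⁻¹ᵁ W.1) := by
      refine subsingleton_of_zero_eq_one ?_
      rw [← map_zero (d.app W.1).hom, ← map_one (d.app W.1).hom]
      congr 1
      exact Subsingleton.elim _ _
    exact ⟨Function.injective_of_subsingleton _, fun b => ⟨0, Subsingleton.elim _ _⟩⟩
  have hW := W.2
  set n₀ := τ (IsLocalRing.closedPoint L) with hn₀
  have hηW : genericPoint Y ∈ W.1 := genericPoint_mem W.1 hne
  have hy₀ : (τ ≫ d) (IsLocalRing.closedPoint L) ∈ W.1 := by rw [hgen]; exact hηW
  have hn₀W : n₀ ∈ d ⁻¹ᵁ W.1 := hy₀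
  have hV : IsAffineOpen (d ⁻¹ᵁ W.1) := hW.preimage d
  haveI hdomB : IsDomain Γ(Y, W.1) := @IsIntegral.component_integral Y _ W.1 hne
  haveI hicB : IsIntegrallyClosed Γ(Y, W.1) := isIntegrallyClosed_sections hY hW
  haveI hdomB' : IsDomain Γ(N, d ⁻¹ᵁ W.1) :=
    @IsIntegral.component_integral N _ (d ⁻¹ᵁ W.1) ⟨⟨n₀, hn₀W⟩⟩
  -- the two embeddings into L
  let σY : Γ(Y, W.1) →+* L :=
    (Y.presheaf.germ W.1 _ hy₀ ≫ Scheme.stalkClosedPointTo (τ ≫ d)).hom
  let σN : Γ(N, d ⁻¹ᵁ W.1) →+* L :=
    (N.presheaf.germ (d ⁻¹ᵁ W.1) n₀ hn₀W ≫ Scheme.stalkClosedPointTo τ).hom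
  have hcomp : ∀ b, σN ((d.app W.1).hom b) = σY b := by
    intro b
    have h1 : Y.presheaf.germ W.1 _ hy₀ ≫ Scheme.stalkClosedPointTo (τ ≫ d) =
        d.app W.1 ≫ N.presheaf.germ (d ⁻¹ᵁ W.1) n₀ hn₀W ≫ Scheme.stalkClosedPointTo τ := by
      refine (congrArg (Y.presheaf.germ W.1 _ hy₀ ≫ ·) (Scheme.stalkClosedPointTo_comp τ d)).trans ?_
      refine (Category.assoc _ _ _).symm.trans ?_
      refine (congrArg (· ≫ Scheme.stalkClosedPointTo τ)
        (Scheme.Hom.germ_stalkMap d W.1 n₀ hn₀W)).trans ?_
      exact Category.assoc _ _ _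
    exact (congr($(h1).hom b)).symm
  -- fraction ring structures
  letI algN : Algebra Γ(N, d ⁻¹ᵁ W.1) (N.presheaf.stalk n₀) :=
    (N.presheaf.germ (d ⁻¹ᵁ W.1) n₀ hn₀W).hom.toAlgebra
  haveI hfrN := isFractionRing_stalk_genericPoint hV n₀ hn₀W hτ
  letI algY : Algebra Γ(Y, W.1) (Y.presheaf.stalk ((τ ≫ d) (IsLocalRing.closedPoint L))) :=
    (Y.presheaf.germ W.1 _ hy₀).hom.toAlgebra
  haveI hfrY := isFractionRing_stalk_genericPoint hW _ hy₀ hgen
  have hinjN : Function.Injective σN := by
    have h1 := injective_of_genericPoint n₀ hτ (Scheme.stalkClosedPointTo τ).hom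
    have h2 : Function.Injective (algebraMap Γ(N, d ⁻¹ᵁ W.1) (N.presheaf.stalk n₀)) :=
      IsFractionRing.injective _ _
    exact h1.comp h2
  have hinjS := injective_of_genericPoint _ hgen (Scheme.stalkClosedPointTo (τ ≫ d)).hom
  have hinjY : Function.Injective σY := by
    have h2 : Function.Injective (algebraMap Γ(Y, W.1)
        (Y.presheaf.stalk ((τ ≫ d) (IsLocalRing.closedPoint L)))) :=
      IsFractionRing.injective _ _
    exact hinjS.comp h2
  constructor
  · intro a b hab
    apply hinjY
    rw [← hcomp, ← hcomp]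
    exact congrArg σN hab
  · intro b'
    obtain ⟨s, hs⟩ := hsurj (σN b')
    have hint : (d.app W.1).hom.IsIntegral := IsIntegralHom.isIntegral_app d W.1 hW
    obtain ⟨p, hp, hp0⟩ := hint b'
    have hs_int : IsIntegral Γ(Y, W.1) s := by
      refine ⟨p, hp, ?_⟩
      apply hinjS
      rw [map_zero, Polynomial.hom_eval₂, hs]
      have h1 : ((Scheme.stalkClosedPointTo (τ ≫ d)).hom).comp
          (algebraMap Γ(Y, W.1) (Y.presheaf.stalk ((τ ≫ d) (IsLocalRing.closedPoint L)))) =
          σN.comp (d.app W.1).hom := by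
        ext b
        exact (hcomp b).symm
      rw [h1, ← Polynomial.hom_eval₂, hp0, map_zero]
    obtain ⟨b, hb⟩ := IsIntegrallyClosed.isIntegral_iff.mp hs_int
    refine ⟨b, hinjN ?_⟩
    rw [hcomp, ← hs, ← hb]
    rfl

end Groth.Agent.Lib.Helper69.NormField
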