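import Mathlib
import Groth.Prelude.Def_Pi1
import Groth.Agent.Lib.Helper69.NormField3

set_option autoImplicit false
set_option linter.style.haveILetI false
universe u

open CategoryTheory CategoryTheory.Limits AlgebraicGeometry TopologicalSpace

namespace Groth.Agent.Lib.Helper69.NormUniv

section ring
variable {A K C : Type*} [CommRing A] [IsDomain A] [Field K] [Algebra A K] [IsFractionRing A K]
  [CommRing C] (ρ : A →+* C)

/-- uniqueness of extensions to the integral closure. -/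
theorem ext_unique (hreg : ∀ s : A, s ≠ 0 → ρ s ∈ nonZeroDivisors C)
    (ρ₁ ρ₂ : integralClosure A K →+* C)
    (h₁ : ∀ a, ρ₁ (algebraMap A _ a) = ρ a) (h₂ : ∀ a, ρ₂ (algebraMap A _ a) = ρ a) : ρ₁ = ρ₂ := by
  ext x
  obtain ⟨a, s, hs, hx⟩ := IsFractionRing.div_surjective (A := A) (x : K)
  have hs0 : s ≠ 0 := nonZeroDivisors.ne_zero hs
  have hsK : algebraMap A K s ≠ 0 := by
    rwa [Ne, map_eq_zero_iff _ (IsFractionRing.injective A K)]
  have hxa : algebraMap A (integralClosure A K) s * x = algebraMap A (integralClosure A K) a := by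
    apply Subtype.ext
    show algebraMap A K s * (x : K) = algebraMap A K a
    rw [← hx, mul_div_cancel₀ _ hsK]
  have e1 := congrArg ρ₁ hxa
  have e2 := congrArg ρ₂ hxa
  rw [map_mul, h₁, h₁] at e1
  rw [map_mul, h₂, h₂] at e2
  have : ρ s * (ρ₁ x - ρ₂ x) = 0 := by rw [mul_sub, e1, e2, sub_self]
  have h0 := (mem_nonZeroDivisors_iff.mp (hreg s hs0)).1 _ this
  exact sub_eq_zero.mp h0

/-- existence of extensions to the integral closure. -/
theorem ext_exists (hreg : ∀ s : A, s ≠ 0 → ρ s ∈ nonZeroDivisors C)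
    (hdiv : ∀ x : K, IsIntegral A x → ∀ s a : A, s ≠ 0 →
      algebraMap A K s * x = algebraMap A K a → ρ s ∣ ρ a) :
    ∃ ρ' : integralClosure A K →+* C, ∀ a, ρ' (algebraMap A _ a) = ρ a := by
  classical
  have hinj : Function.Injective (algebraMap A K) := IsFractionRing.injective A K
  -- representation of elements
  have hrep : ∀ x : integralClosure A K, ∃ s a : A, s ≠ 0 ∧ algebraMap A K s * (x : K) =
      algebraMap A K a := by
    intro x
    obtain ⟨a, s, hs, hx⟩ := IsFractionRing.div_surjective (A := A) (x : K)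
    have hs0 : s ≠ 0 := nonZeroDivisors.ne_zero hs
    have hsK : algebraMap A K s ≠ 0 := by rwa [Ne, map_eq_zero_iff _ hinj]
    exact ⟨s, a, hs0, by rw [← hx, mul_div_cancel₀ _ hsK]⟩
  have hval : ∀ x : integralClosure A K, ∃ c : C, ∀ s a : A, s ≠ 0 →
      algebraMap A K s * (x : K) = algebraMap A K a → ρ s * c = ρ a := by
    intro x
    obtain ⟨s, a, hs, hsa⟩ := hrep x
    obtain ⟨c, hc⟩ := hdiv x x.2 s a hs hsa
    refine ⟨c, fun s' a' hs' hsa' => ?_⟩
    have h1 : a * s' = a' * s := by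
      apply hinj
      rw [map_mul, map_mul, ← hsa, ← hsa']; ring
    have h2 : ρ s * (ρ s' * c - ρ a') = 0 := by
      have : ρ a * ρ s' = ρ a' * ρ s := by rw [← map_mul, ← map_mul, h1]
      calc ρ s * (ρ s' * c - ρ a') = ρ s' * (ρ s * c) - ρ s * ρ a' := by ring
        _ = ρ s' * ρ a - ρ s * ρ a' := by rw [hc]
        _ = 0 := by rw [mul_comm (ρ s') (ρ a), this]; ring
    exact sub_eq_zero.mp ((mem_nonZeroDivisors_iff.mp (hreg s hs)).1 _ h2)
  choose F hF using hval
  -- uniqueness of the value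
  have huniq : ∀ (x : integralClosure A K) (c : C) (s a : A), s ≠ 0 →
      algebraMap A K s * (x : K) = algebraMap A K a → ρ s * c = ρ a → c = F x := by
    intro x c s a hs hsa hc
    have h1 := hF x s a hs hsa
    have : ρ s * (c - F x) = 0 := by rw [mul_sub, hc, h1, sub_self]
    exact sub_eq_zero.mp ((mem_nonZeroDivisors_iff.mp (hreg s hs)).1 _ this)
  have hone : F 1 = 1 := by
    refine (huniq 1 1 1 1 one_ne_zero ?_ ?_).symm
    · simp
    · simp
  have hmul : ∀ x y, F (x * y) = F x * F y := by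
    intro x y
    obtain ⟨s, a, hs, hsa⟩ := hrep x
    obtain ⟨t, b, ht, htb⟩ := hrep y
    refine (huniq (x * y) (F x * F y) (s * t) (a * b) (mul_ne_zero hs ht) ?_ ?_).symm
    · show algebraMap A K (s * t) * ((x : K) * (y : K)) = algebraMap A K (a * b)
      rw [map_mul, map_mul, ← hsa, ← htb]; ring
    · rw [map_mul, map_mul, ← hF x s a hs hsa, ← hF y t b ht htb]; ring
  have hadd : ∀ x y, F (x + y) = F x + F y := by
    intro x y
    obtain ⟨s, a, hs, hsa⟩ := hrep x
    obtain ⟨t, b, ht, htb⟩ := hrep y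
    refine (huniq (x + y) (F x + F y) (s * t) (a * t + b * s) (mul_ne_zero hs ht) ?_ ?_).symm
    · show algebraMap A K (s * t) * ((x : K) + (y : K)) = algebraMap A K (a * t + b * s)
      rw [map_mul, map_add, map_mul, map_mul, ← hsa, ← htb]; ring
    · rw [map_mul, map_add, map_mul, map_mul, ← hF x s a hs hsa, ← hF y t b ht htb]; ring
  have hzero : F 0 = 0 := by
    have := hadd 0 0
    rw [add_zero] at this
    exact left_eq_add.mp this
  refine ⟨{ toFun := F, map_one' := hone, map_mul' := hmul, map_zero' := hzero, map_add' := hadd },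
    fun a => ?_⟩
  refine (huniq (algebraMap A _ a) (ρ a) 1 a one_ne_zero ?_ ?_).symm
  · show algebraMap A K 1 * algebraMap A K a = algebraMap A K a
    rw [map_one, one_mul]
  · rw [map_one, one_mul]

end ring


section geom

/-- a point without proper generizations -/
def IsMaxPt {Z : Scheme.{u}} (z₀ : Z) : Prop := ∀ z' : Z, z' ⤳ z₀ → z' = z₀

lemma isMaxPt_bot {Z : Scheme.{u}} (z : Z) [IsDomain (Z.presheaf.stalk z)] :
    IsMaxPt (Z.fromSpecStalk z ⟨⊥, Ideal.isPrime_bot⟩) ∧
      Z.fromSpecStalk z ⟨⊥, Ideal.isPrime_bot⟩ ⤳ z := by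
  have hz : Z.fromSpecStalk z ⟨⊥, Ideal.isPrime_bot⟩ ⤳ z := by
    have : Z.fromSpecStalk z ⟨⊥, Ideal.isPrime_bot⟩ ∈ Set.range (Z.fromSpecStalk z) := ⟨_, rfl⟩
    rwa [Scheme.range_fromSpecStalk] at this
  refine ⟨fun z' h => ?_, hz⟩
  have hmem : z' ∈ Set.range (Z.fromSpecStalk z) := by
    rw [Scheme.range_fromSpecStalk]; exact h.trans hz
  obtain ⟨P, rfl⟩ := hmem
  congr 1
  have h2 : P ⤳ (⟨⊥, Ideal.isPrime_bot⟩ : PrimeSpectrum (Z.presheaf.stalk z)) :=
    ((Z.fromSpecStalk z).isEmbedding.toIsInducing.specializes_iff).mp h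
  have h3 := (PrimeSpectrum.le_iff_specializes P _).mpr h2
  exact PrimeSpectrum.ext (le_bot_iff.mp h3)

lemma IsMaxPt.of_isOpenImmersion {T Z : Scheme.{u}} (ι : T ⟶ Z) [IsOpenImmersion ι] {t : T}
    (ht : IsMaxPt t) : IsMaxPt (ι t) := by
  intro z' h
  have hmem : z' ∈ Set.range ι := h.mem_open ι.isOpenEmbedding.isOpen_range ⟨t, rfl⟩
  obtain ⟨t', rfl⟩ := hmem
  congr 1
  exact ht t' ((ι.isOpenEmbedding.toIsInducing.specializes_iff).mp h)

variable {X Z : Scheme.{u}} [IsIntegral X] (g : Z ⟶ X)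

lemma germ_ne_zero (hZ : Pi1.IsNormalScheme Z)
    (hmax : ∀ z₀ : Z, IsMaxPt z₀ → g z₀ = genericPoint X)
    {U : X.Opens} {W : Z.Opens} (e : W ≤ g ⁻¹ᵁ U) (z : Z) (hz : z ∈ W) (s : Γ(X, U)) (hs : s ≠ 0) :
    Z.presheaf.germ W z hz (g.appLE U W e s) ≠ 0 := by
  haveI := (hZ z).1
  obtain ⟨h1, h2⟩ := isMaxPt_bot z
  set z₀ := Z.fromSpecStalk z ⟨⊥, Ideal.isPrime_bot⟩ with hz₀
  have hgz₀ := hmax z₀ h1
  have hz₀W : z₀ ∈ W := h2.mem_open W.isOpen hz
  have hηs : genericPoint X ∈ X.basicOpen s := by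
    have hne : X.basicOpen s ≠ ⊥ := fun h => hs ((AlgebraicGeometry.basicOpen_eq_bot_iff s).mp h)
    have : Nonempty ↥(X.basicOpen s) := by
      by_contra hcon
      apply hne
      ext x
      simp only [TopologicalSpace.Opens.coe_bot, Set.mem_empty_iff_false, iff_false]
      exact fun hx => hcon ⟨⟨x, hx⟩⟩
    exact Groth.Agent.Lib.Helper69.NormField.genericPoint_mem _ this
  have hmem : z₀ ∈ Z.basicOpen (g.appLE U W e s) := by
    have h3 : g.appLE U W e s = Z.presheaf.map (homOfLE e).op (g.app U s) := rfl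
    rw [h3, Scheme.basicOpen_res, ← Scheme.preimage_basicOpen]
    refine ⟨hz₀W, ?_⟩
    show g z₀ ∈ X.basicOpen s
    rw [hgz₀]; exact hηs
  have hunit := (Scheme.mem_basicOpen Z (g.appLE U W e s) z₀ hz₀W).mp hmem
  intro h0
  have h4 : Z.presheaf.germ W z₀ hz₀W (g.appLE U W e s) = 0 := by
    rw [← TopCat.Presheaf.germ_stalkSpecializes_apply Z.presheaf hz h2, h0, map_zero]
  rw [h4] at hunit
  exact not_isUnit_zero hunit


lemma section_eq_zero {Z : Scheme.{u}} {W : Z.Opens} (hW : IsAffineOpen W) (c : Γ(Z, W))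
    (h : ∀ (z : Z) (hz : z ∈ W), Z.presheaf.germ W z hz c = 0) : c = 0 := by
  have : c ∈ (⊥ : Ideal Γ(Z, W)) := by
    rw [hW.mem_ideal_iff]
    intro z hz
    rw [h z hz]; exact Ideal.zero_mem _
  exact this

lemma dvd_of_germ_dvd {Z : Scheme.{u}} {W : Z.Opens} (hW : IsAffineOpen W) (t c : Γ(Z, W))
    (h : ∀ (z : Z) (hz : z ∈ W), Z.presheaf.germ W z hz t ∣ Z.presheaf.germ W z hz c) : t ∣ c := by
  have : c ∈ Ideal.span ({t} : Set Γ(Z, W)) := by
    rw [hW.mem_ideal_iff]
    intro z hz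
    rw [Ideal.map_span, Set.image_singleton, Ideal.mem_span_singleton]
    exact h z hz
  exact Ideal.mem_span_singleton.mp this

variable (hZ : Pi1.IsNormalScheme Z) (hmax : ∀ z₀ : Z, IsMaxPt z₀ → g z₀ = genericPoint X)
include hZ hmax

lemma appLE_mem_nonZeroDivisors {U : X.Opens} {W : Z.Opens} (hW : IsAffineOpen W)
    (e : W ≤ g ⁻¹ᵁ U) (s : Γ(X, U)) (hs : s ≠ 0) :
    (g.appLE U W e).hom s ∈ nonZeroDivisors Γ(Z, W) := by
  rw [mem_nonZeroDivisors_iff]
  have key : ∀ c : Γ(Z, W), (g.appLE U W e).hom s * c = 0 → c = 0 := by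
    intro c hc
    apply section_eq_zero hW
    intro z hz
    haveI := (hZ z).1
    have h1 := germ_ne_zero g hZ hmax e z hz s hs
    have h2 := congrArg (Z.presheaf.germ W z hz).hom hc
    rw [map_mul, map_zero] at h2
    exact (mul_eq_zero.mp h2).resolve_left h1
  exact ⟨fun c hc => key c hc, fun c hc => key c (by rw [mul_comm]; exact hc)⟩

lemma appLE_dvd {U : X.Opens} (hU : IsAffineOpen U) (hη : genericPoint X ∈ U) {W : Z.Opens}
    (hW : IsAffineOpen W) (e : W ≤ g ⁻¹ᵁ U)
    (x : X.functionField)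
    (hx : (X.presheaf.germ U (genericPoint X) hη).hom.IsIntegralElem x) (s a : Γ(X, U))
    (hs : s ≠ 0)
    (hsa : (X.presheaf.germ U (genericPoint X) hη).hom s * x =
      (X.presheaf.germ U (genericPoint X) hη).hom a) :
    (g.appLE U W e).hom s ∣ (g.appLE U W e).hom a := by
  apply dvd_of_germ_dvd hW
  intro z hz
  obtain ⟨hdom, hic⟩ := hZ z
  have hneU : Nonempty ↥U := ⟨⟨_, hη⟩⟩
  haveI : IsDomain Γ(X, U) := @IsIntegral.component_integral X _ U hneU
  letI a1 : Algebra Γ(X, U) X.functionField := (X.presheaf.germ U (genericPoint X) hη).hom.toAlgebra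
  haveI hfrX : IsFractionRing Γ(X, U) X.functionField :=
    @functionField_isFractionRing_of_isAffineOpen X _ U hU hneU
  set D := Z.presheaf.stalk z with hD
  let σ : Γ(X, U) →+* D := (Z.presheaf.germ W z hz).hom.comp (g.appLE U W e).hom
  have hσ : Function.Injective σ := by
    rw [injective_iff_map_eq_zero]
    intro t ht
    by_contra h0
    exact germ_ne_zero g hZ hmax e z hz t h0 ht
  have hσF : Function.Injective ((algebraMap D (FractionRing D)).comp σ) :=
    (IsFractionRing.injective D (FractionRing D)).comp hσ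
  let κ : X.functionField →+* FractionRing D := IsFractionRing.lift hσF
  have hκ : ∀ t : Γ(X, U), κ (algebraMap Γ(X, U) X.functionField t) =
      algebraMap D (FractionRing D) (σ t) := fun t => IsFractionRing.lift_algebraMap hσF t
  have hxint : IsIntegral D (κ x) := by
    refine IsIntegral.map_of_comp_eq σ κ ?_ (show IsIntegral Γ(X, U) x from hx)
    ext t
    exact (hκ t).symm
  obtain ⟨d, hd⟩ := IsIntegrallyClosed.isIntegral_iff.mp hxint
  refine ⟨d, ?_⟩
  apply IsFractionRing.injective D (FractionRing D)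
  have h1 := congrArg κ hsa
  rw [map_mul] at h1
  have h2 : κ ((X.presheaf.germ U (genericPoint X) hη).hom s) =
      algebraMap D (FractionRing D) (σ s) := hκ s
  have h3 : κ ((X.presheaf.germ U (genericPoint X) hη).hom a) =
      algebraMap D (FractionRing D) (σ a) := hκ a
  rw [h2, h3, ← hd, ← map_mul] at h1
  exact h1.symm

end geom

section psi
open Groth.Agent.Lib.Helper69.NormField

theorem psi_data_aux {X : Scheme.{u}} [IsIntegral X]
    (g₀ : Spec (CommRingCat.of X.functionField) ⟶ X) (hg : g₀ = gen (RingHom.id X.functionField))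
    [QuasiCompact g₀] [QuasiSeparated g₀] {U : X.Opens} (hU : IsAffineOpen U)
    (hη : genericPoint X ∈ U) :
    ∃ ψ : Γ(g₀.normalization, g₀.fromNormalization ⁻¹ᵁ U) →+* X.functionField,
      Function.Injective ψ ∧
      Set.range ψ = {y | (X.presheaf.germ U (genericPoint X) hη).hom.IsIntegralElem y} ∧
      ψ.comp (g₀.fromNormalization.app U).hom = (X.presheaf.germ U (genericPoint X) hη).hom := by
  subst hg
  refine ⟨(psi (RingHom.id X.functionField) hU hη).hom, psi_injective _ hU hη, ?_, ?_⟩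
  · rw [range_psi]; rfl
  · have := fromNormalization_app_psi (RingHom.id X.functionField) hU hη
    have h2 := congrArg CommRingCat.Hom.hom this
    rw [CommRingCat.hom_comp] at h2
    rw [h2]; rfl

theorem psi_data {X : Scheme.{u}} [IsIntegral X]
    [QuasiCompact (X.fromSpecStalk (genericPoint X))]
    [QuasiSeparated (X.fromSpecStalk (genericPoint X))] {U : X.Opens} (hU : IsAffineOpen U)
    (hη : genericPoint X ∈ U) :
    ∃ ψ : Γ((X.fromSpecStalk (genericPoint X)).normalization,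
        (X.fromSpecStalk (genericPoint X)).fromNormalization ⁻¹ᵁ U) →+* X.functionField,
      Function.Injective ψ ∧
      Set.range ψ = {y | (X.presheaf.germ U (genericPoint X) hη).hom.IsIntegralElem y} ∧
      ψ.comp ((X.fromSpecStalk (genericPoint X)).fromNormalization.app U).hom =
        (X.presheaf.germ U (genericPoint X) hη).hom := by
  have hg : (X.fromSpecStalk (genericPoint X) : Spec (CommRingCat.of X.functionField) ⟶ X) =
      gen (RingHom.id X.functionField) := by
    show _ = Spec.map (CommRingCat.ofHom (RingHom.id X.functionField)) ≫ _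
    have : CommRingCat.ofHom (RingHom.id X.functionField) = 𝟙 _ := rfl
    rw [this, Spec.map_id, Category.id_comp]
  exact psi_data_aux (X.fromSpecStalk (genericPoint X) :
    Spec (CommRingCat.of X.functionField) ⟶ X) hg hU hη

end psi

section local_
variable {X Z : Scheme.{u}} [IsIntegral X]
    [QuasiCompact (X.fromSpecStalk (genericPoint X))]
    [QuasiSeparated (X.fromSpecStalk (genericPoint X))] (g : Z ⟶ X)
    (hZ : Pi1.IsNormalScheme Z) (hmax : ∀ z₀ : Z, IsMaxPt z₀ → g z₀ = genericPoint X)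
include hZ hmax

/-- local existence of the ring map -/
theorem local_exists {U : X.Opens} (hU : IsAffineOpen U) (hη : genericPoint X ∈ U) {W : Z.Opens}
    (hW : IsAffineOpen W) (e : W ≤ g ⁻¹ᵁ U) :
    ∃ ρ' : Γ((X.fromSpecStalk (genericPoint X)).normalization,
        (X.fromSpecStalk (genericPoint X)).fromNormalization ⁻¹ᵁ U) →+* Γ(Z, W),
      ρ'.comp ((X.fromSpecStalk (genericPoint X)).fromNormalization.app U).hom =
        (g.appLE U W e).hom := by
  obtain ⟨ψ, hψi, hψr, hψc⟩ := psi_data hU hη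
  have hneU : Nonempty ↥U := ⟨⟨_, hη⟩⟩
  haveI : IsDomain Γ(X, U) := @IsIntegral.component_integral X _ U hneU
  letI a1 : Algebra Γ(X, U) X.functionField := (X.presheaf.germ U (genericPoint X) hη).hom.toAlgebra
  haveI hfrX : IsFractionRing Γ(X, U) X.functionField :=
    @functionField_isFractionRing_of_isAffineOpen X _ U hU hneU
  obtain ⟨ρ'', hρ''⟩ := ext_exists (K := X.functionField) (g.appLE U W e).hom
    (fun s hs => appLE_mem_nonZeroDivisors g hZ hmax hW e s hs)
    (fun x hx s a hs hsa => appLE_dvd g hZ hmax hU hη hW e x hx s a hs hsa)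
  have hmem : ∀ b, ψ b ∈ integralClosure Γ(X, U) X.functionField := fun b => by
    have : ψ b ∈ Set.range ψ := ⟨b, rfl⟩
    rw [hψr] at this
    exact this
  refine ⟨ρ''.comp (ψ.codRestrict _ hmem), ?_⟩
  ext a
  have h1 : ψ (((X.fromSpecStalk (genericPoint X)).fromNormalization.app U).hom a) =
      algebraMap Γ(X, U) X.functionField a := congrArg (fun f => f a) hψc
  have h2 : (ψ.codRestrict _ hmem) (((X.fromSpecStalk (genericPoint X)).fromNormalization.app U).hom a)
      = algebraMap Γ(X, U) (integralClosure Γ(X, U) X.functionField) a := Subtype.ext h1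
  show ρ'' ((ψ.codRestrict _ hmem) _) = _
  rw [h2, hρ'']

/-- local uniqueness of the ring map -/
theorem local_unique {U : X.Opens} (hU : IsAffineOpen U) (hη : genericPoint X ∈ U) {W : Z.Opens}
    (hW : IsAffineOpen W) (e : W ≤ g ⁻¹ᵁ U)
    (ρ₁ ρ₂ : Γ((X.fromSpecStalk (genericPoint X)).normalization,
        (X.fromSpecStalk (genericPoint X)).fromNormalization ⁻¹ᵁ U) →+* Γ(Z, W))
    (h₁ : ρ₁.comp ((X.fromSpecStalk (genericPoint X)).fromNormalization.app U).hom =
        (g.appLE U W e).hom)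
    (h₂ : ρ₂.comp ((X.fromSpecStalk (genericPoint X)).fromNormalization.app U).hom =
        (g.appLE U W e).hom) : ρ₁ = ρ₂ := by
  obtain ⟨ψ, hψi, hψr, hψc⟩ := psi_data hU hη
  have hneU : Nonempty ↥U := ⟨⟨_, hη⟩⟩
  haveI : IsDomain Γ(X, U) := @IsIntegral.component_integral X _ U hneU
  letI a1 : Algebra Γ(X, U) X.functionField := (X.presheaf.germ U (genericPoint X) hη).hom.toAlgebra
  haveI hfrX : IsFractionRing Γ(X, U) X.functionField :=
    @functionField_isFractionRing_of_isAffineOpen X _ U hU hneU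
  ext b
  obtain ⟨a, s, hs, hx⟩ := IsFractionRing.div_surjective (A := Γ(X, U)) (ψ b)
  have hs0 : s ≠ 0 := nonZeroDivisors.ne_zero hs
  have hsK : algebraMap Γ(X, U) X.functionField s ≠ 0 := by
    rwa [Ne, map_eq_zero_iff _ (IsFractionRing.injective Γ(X, U) X.functionField)]
  set ν' := ((X.fromSpecStalk (genericPoint X)).fromNormalization.app U).hom with hν'
  have hψν : ∀ t, ψ (ν' t) = algebraMap Γ(X, U) X.functionField t :=
    fun t => congrArg (fun f => f t) hψc
  have hb : ν' s * b = ν' a := by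
    apply hψi
    rw [map_mul, hψν, hψν, ← hx, mul_div_cancel₀ _ hsK]
  have e1 := congrArg ρ₁ hb
  have e2 := congrArg ρ₂ hb
  have k1 : ∀ t, ρ₁ (ν' t) = (g.appLE U W e).hom t := fun t => congrArg (fun f => f t) h₁
  have k2 : ∀ t, ρ₂ (ν' t) = (g.appLE U W e).hom t := fun t => congrArg (fun f => f t) h₂
  rw [map_mul, k1, k1] at e1
  rw [map_mul, k2, k2] at e2
  have : (g.appLE U W e).hom s * (ρ₁ b - ρ₂ b) = 0 := by rw [mul_sub, e1, e2, sub_self]
  have h0 := (mem_nonZeroDivisors_iff.mp (appLE_mem_nonZeroDivisors g hZ hmax hW e s hs0)).1 _ this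
  exact sub_eq_zero.mp h0

end local_

section global
variable {X : Scheme.{u}} [IsIntegral X]
    [QuasiCompact (X.fromSpecStalk (genericPoint X))]
    [QuasiSeparated (X.fromSpecStalk (genericPoint X))]

lemma appLE_of_eq {Z : Scheme.{u}} {f f' : Z ⟶ X} (h : f = f') (U : X.Opens) (W : Z.Opens)
    (e : W ≤ f ⁻¹ᵁ U) : f.appLE U W e = f'.appLE U W (h ▸ e) := by
  subst h; rfl

lemma isNormalScheme_of_isOpenImmersion {T Z : Scheme.{u}} (ι : T ⟶ Z) [IsOpenImmersion ι]
    (hZ : Pi1.IsNormalScheme Z) : Pi1.IsNormalScheme T := by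
  intro t
  obtain ⟨h1, h2⟩ := hZ (ι t)
  let r : Z.presheaf.stalk (ι t) ≃+* T.presheaf.stalk t :=
    (asIso (ι.stalkMap t)).commRingCatIsoToRingEquiv
  exact ⟨r.toMulEquiv.isDomain_iff.mp h1, IsIntegrallyClosed.of_equiv r⟩

/-- choice of affine charts -/
lemma exists_charts {Z : Scheme.{u}} (g : Z ⟶ X) (z : Z) :
    ∃ (U : X.Opens) (W : Z.Opens), IsAffineOpen U ∧ genericPoint X ∈ U ∧ IsAffineOpen W ∧ z ∈ W ∧
      W ≤ g ⁻¹ᵁ U := by
  obtain ⟨U, hU, hzU, hη⟩ := Groth.Agent.Lib.Helper69.NormField.exists_affine_genericPoint_mem (g z)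
  obtain ⟨W, hW, hzW, hWU⟩ := exists_isAffineOpen_mem_and_subset (X := Z) (x := z)
    (U := g ⁻¹ᵁ U) hzU
  exact ⟨U, W, hU, hη, hW, hzW, hWU⟩

theorem hom_unique {Z : Scheme.{u}} (g : Z ⟶ X)
    (hZ : Pi1.IsNormalScheme Z) (hmax : ∀ z₀ : Z, IsMaxPt z₀ → g z₀ = genericPoint X)
    (h₁ h₂ : Z ⟶ (X.fromSpecStalk (genericPoint X)).normalization)
    (e₁ : h₁ ≫ (X.fromSpecStalk (genericPoint X)).fromNormalization = g)
    (e₂ : h₂ ≫ (X.fromSpecStalk (genericPoint X)).fromNormalization = g) : h₁ = h₂ := by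
  choose U W hU hη hW hzW hWU using exists_charts g
  have hcover : IsOpenCover W := by
    rw [IsOpenCover, eq_top_iff]
    intro z _
    exact TopologicalSpace.Opens.mem_iSup.mpr ⟨z, hzW z⟩
  refine Scheme.Cover.hom_ext (Z.openCoverOfIsOpenCover W hcover) h₁ h₂ (fun z => ?_)
  show (W z).ι ≫ h₁ = (W z).ι ≫ h₂
  set ν := (X.fromSpecStalk (genericPoint X)).fromNormalization with hν
  have hV' : IsAffineOpen (ν ⁻¹ᵁ U z) := (hU z).preimage ν
  have i₁ : W z ≤ h₁ ⁻¹ᵁ (ν ⁻¹ᵁ U z) := by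
    rw [← Scheme.Hom.comp_preimage, e₁]; exact hWU z
  have i₂ : W z ≤ h₂ ⁻¹ᵁ (ν ⁻¹ᵁ U z) := by
    rw [← Scheme.Hom.comp_preimage, e₂]; exact hWU z
  have key : ∀ (h : Z ⟶ (X.fromSpecStalk (genericPoint X)).normalization)
      (i : W z ≤ h ⁻¹ᵁ (ν ⁻¹ᵁ U z)),
      (W z).ι ≫ h = (W z).toSpecΓ ≫ Spec.map (h.appLE (ν ⁻¹ᵁ U z) (W z) i) ≫ hV'.fromSpec := by
    intro h i
    rw [IsAffineOpen.SpecMap_appLE_fromSpec h hV' (hW z) i, ← Category.assoc,
      IsAffineOpen.toSpecΓ_fromSpec]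
  rw [key h₁ i₁, key h₂ i₂]
  have hcomp : ∀ (h : Z ⟶ (X.fromSpecStalk (genericPoint X)).normalization)
      (i : W z ≤ h ⁻¹ᵁ (ν ⁻¹ᵁ U z)) (eh : h ≫ ν = g),
      (h.appLE (ν ⁻¹ᵁ U z) (W z) i).hom.comp (ν.app (U z)).hom = (g.appLE (U z) (W z) (hWU z)).hom := by
    intro h i eh
    have h3 := Scheme.Hom.comp_appLE h ν (U z) (W z) (by rw [eh]; exact hWU z)
    rw [appLE_of_eq eh] at h3
    rw [h3]; rfl
  have := local_unique g hZ hmax (hU z) (hη z) (hW z) (hWU z) _ _ (hcomp h₁ i₁ e₁) (hcomp h₂ i₂ e₂)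
  have h4 : h₁.appLE (ν ⁻¹ᵁ U z) (W z) i₁ = h₂.appLE (ν ⁻¹ᵁ U z) (W z) i₂ :=
    CommRingCat.hom_ext this
  rw [h4]


theorem hom_exists {Z : Scheme.{u}} (g : Z ⟶ X)
    (hZ : Pi1.IsNormalScheme Z) (hmax : ∀ z₀ : Z, IsMaxPt z₀ → g z₀ = genericPoint X) :
    ∃ h : Z ⟶ (X.fromSpecStalk (genericPoint X)).normalization,
      h ≫ (X.fromSpecStalk (genericPoint X)).fromNormalization = g := by
  choose U W hU hη hW hzW hWU using exists_charts g
  have hcover : IsOpenCover W := by
    rw [IsOpenCover, eq_top_iff]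
    intro z _
    exact TopologicalSpace.Opens.mem_iSup.mpr ⟨z, hzW z⟩
  -- local morphisms
  have hloc : ∀ z : Z, ∃ hz : (W z : Scheme.{u}) ⟶ (X.fromSpecStalk (genericPoint X)).normalization,
      hz ≫ (X.fromSpecStalk (genericPoint X)).fromNormalization = (W z).ι ≫ g := by
    intro z
    obtain ⟨ρ', hρ'⟩ := local_exists g hZ hmax (hU z) (hη z) (hW z) (hWU z)
    have hV' : IsAffineOpen ((X.fromSpecStalk (genericPoint X)).fromNormalization ⁻¹ᵁ U z) := (hU z).preimage (X.fromSpecStalk (genericPoint X)).fromNormalization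
    refine ⟨(W z).toSpecΓ ≫ Spec.map (CommRingCat.ofHom ρ') ≫ hV'.fromSpec, ?_⟩
    have h1 : hV'.fromSpec ≫ (X.fromSpecStalk (genericPoint X)).fromNormalization = Spec.map ((X.fromSpecStalk (genericPoint X)).fromNormalization.app (U z)) ≫ (hU z).fromSpec := by
      rw [Scheme.Hom.app_eq_appLE, IsAffineOpen.SpecMap_appLE_fromSpec (X.fromSpecStalk (genericPoint X)).fromNormalization (hU z) hV' le_rfl]
    have h2 : (X.fromSpecStalk (genericPoint X)).fromNormalization.app (U z) ≫ CommRingCat.ofHom ρ' = g.appLE (U z) (W z) (hWU z) :=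
      CommRingCat.hom_ext hρ'
    rw [Category.assoc, Category.assoc, h1, ← Spec.map_comp_assoc, h2,
      IsAffineOpen.SpecMap_appLE_fromSpec g (hU z) (hW z) (hWU z), ← Category.assoc,
      IsAffineOpen.toSpecΓ_fromSpec]
  choose hl hlν using hloc
  have hcompat : ∀ x y : Z, pullback.fst (W x).ι (W y).ι ≫ hl x =
      pullback.snd (W x).ι (W y).ι ≫ hl y := by
    intro x y
    let ιT : pullback (W x).ι (W y).ι ⟶ Z := pullback.fst (W x).ι (W y).ι ≫ (W x).ι
    haveI : IsOpenImmersion ιT := inferInstance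
    apply hom_unique (ιT ≫ g) (isNormalScheme_of_isOpenImmersion ιT hZ)
    · intro t ht
      exact hmax _ (ht.of_isOpenImmersion ιT)
    · rw [Category.assoc, hlν x]; rfl
    · rw [Category.assoc, hlν y]
      show pullback.snd (W x).ι (W y).ι ≫ (W y).ι ≫ g = _
      rw [← Category.assoc, ← pullback.condition]
  refine ⟨(Z.openCoverOfIsOpenCover W hcover).glueMorphisms hl hcompat, ?_⟩
  refine Scheme.Cover.hom_ext (Z.openCoverOfIsOpenCover W hcover) _ _ (fun z => ?_)
  have h5 := Scheme.Cover.ι_glueMorphisms (Z.openCoverOfIsOpenCover W hcover) hl hcompat z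
  exact (Category.assoc _ _ _).symm.trans ((congrArg
    (· ≫ (X.fromSpecStalk (genericPoint X)).fromNormalization) h5).trans (hlν z))

end global

end Groth.Agent.Lib.Helper69.NormUniv
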