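import Mathlib
import Groth.Agent.S1451
import Groth.Agent.S2754
import Groth.Agent.S5049
import Groth.Agent.Lib.Helper20.NormComp
import Groth.Agent.Lib.Helper37.EtaleFibres
import Groth.Agent.Lib.Helper87.GeomUnibranchEquiv

/-!
# Rational sections of unramified morphisms at geometrically unibranch points (helper69)

Building blocks for EGA IV 18.10-type statements (S5994, S5995, S5996).
-/

set_option autoImplicit false
set_option linter.style.haveILetI false
set_option linter.unusedSectionVars false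
universe u
open CategoryTheory CategoryTheory.Limits AlgebraicGeometry TopologicalSpace

namespace Groth.Agent.Lib.Helper69.RatSec

/-- cancellation: if `g` is unramified (lft) and `f ≫ g` is an open immersion then so is `f`. -/
theorem isOpenImmersion_of_comp_unramified {X Y Z : Scheme.{u}} (f : X ⟶ Y) (g : Y ⟶ Z)
    [FormallyUnramified g] [LocallyOfFiniteType g] [IsOpenImmersion (f ≫ g)] :
    IsOpenImmersion f := by
  have : MorphismProperty.HasOfPostcompProperty @IsOpenImmersion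
      (MorphismProperty.diagonal @IsOpenImmersion) :=
    MorphismProperty.hasOfPostcompProperty_iff_le_diagonal.mpr le_rfl
  exact MorphismProperty.of_postcomp (W := @IsOpenImmersion)
    (W' := MorphismProperty.diagonal @IsOpenImmersion) f g
    (inferInstanceAs (IsOpenImmersion (pullback.diagonal g))) ‹_›

/-- a point with domain stalk in a scheme with locally finitely many irreducible components has an
irreducible open neighbourhood. -/
theorem exists_irreducible_open_nhd {T : Scheme.{u}}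
    (hfin : LocallyFinite (fun Z : ↥(irreducibleComponents ↥T) => (Z : Set ↥T)))
    (t : T) [IsDomain (T.presheaf.stalk t)] :
    ∃ O : T.Opens, t ∈ O ∧ IsIrreducible (O : Set T) := by
  set Z₀ : Set T := irreducibleComponent t with hZ₀
  have hZ₀m : Z₀ ∈ irreducibleComponents T := irreducibleComponent_mem_irreducibleComponents t
  have hcl : IsClosed (⋃ S : {S : irreducibleComponents T // S.1 ≠ Z₀}, (S.1 : Set T)) := by
    apply LocallyFinite.isClosed_iUnion (hfin.comp_injective Subtype.val_injective)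
    intro S
    exact isClosed_of_mem_irreducibleComponents _ S.1.2
  refine ⟨⟨_, hcl.isOpen_compl⟩, ?_, ?_⟩
  · show t ∈ (⋃ S : {S : irreducibleComponents T // S.1 ≠ Z₀}, (S.1 : Set T))ᶜ
    simp only [Set.mem_compl_iff, Set.mem_iUnion, not_exists]
    intro S htS
    exact S.2 (Groth.Agent.Lib.Helper20.NormComp.eq_of_mem_of_isDomain_stalk t S.1.2 hZ₀m htS
      mem_irreducibleComponent)
  · have hsub : (⋃ S : {S : irreducibleComponents T // S.1 ≠ Z₀}, (S.1 : Set T))ᶜ ⊆ Z₀ := by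
      intro z hz
      simp only [Set.mem_compl_iff, Set.mem_iUnion, not_exists] at hz
      by_contra hzZ
      exact hz ⟨⟨irreducibleComponent z, irreducibleComponent_mem_irreducibleComponents z⟩,
        fun e => hzZ (e ▸ mem_irreducibleComponent)⟩ mem_irreducibleComponent
    have hne : ((⋃ S : {S : irreducibleComponents T // S.1 ≠ Z₀}, (S.1 : Set T))ᶜ).Nonempty := by
      refine ⟨t, ?_⟩
      simp only [Set.mem_compl_iff, Set.mem_iUnion, not_exists]
      intro S htS
      exact S.2 (Groth.Agent.Lib.Helper20.NormComp.eq_of_mem_of_isDomain_stalk t S.1.2 hZ₀m htS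
        mem_irreducibleComponent)
    refine ⟨hne, ?_⟩
    have hpre : IsPreirreducible Z₀ := hZ₀m.1.2
    show IsPreirreducible ((⋃ S : {S : irreducibleComponents T // S.1 ≠ Z₀}, (S.1 : Set T))ᶜ)
    have := hpre.open_subset hcl.isOpen_compl hsub
    exact this

/-- A separated étale morphism from an irreducible scheme which is a monomorphism on a nonempty
open subscheme is a monomorphism. -/
theorem mono_of_section {W Y D : Scheme.{u}} (g : W ⟶ Y) [IsSeparated g] [Etale g]
    [IrreducibleSpace W] (s : D ⟶ W) [IsOpenImmersion s] [Nonempty D] [Mono (s ≫ g)] :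
    Mono g := by
  rw [← pullback.isIso_diagonal_iff, isIso_iff_isOpenImmersion_and_surjective]
  refine ⟨inferInstance, ⟨?_⟩⟩
  by_contra hns
  rw [Function.Surjective] at hns
  push Not at hns
  obtain ⟨p, hp'⟩ := hns
  have hp : p ∈ (Set.range (pullback.diagonal g))ᶜ := by
    rintro ⟨a, ha⟩
    exact hp' a ha
  have hCopen : IsOpen (Set.range (pullback.diagonal g))ᶜ :=
    (pullback.diagonal g).isClosedEmbedding.isClosed_range.isOpen_compl
  have hW₂open : IsOpen (Set.range s) := s.isOpenEmbedding.isOpen_range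
  have hW₂ne : (Set.range s).Nonempty := Set.range_nonempty _
  have hfst : IsOpenMap (pullback.fst g g) := (pullback.fst g g).isOpenMap
  have hsnd : IsOpenMap (pullback.snd g g) := (pullback.snd g g).isOpenMap
  obtain ⟨w₁, ⟨p₁, hp₁C, rfl⟩, hw₁⟩ := nonempty_preirreducible_inter
    (hfst _ hCopen) hW₂open ⟨_, ⟨p, hp, rfl⟩⟩ hW₂ne
  have hC₁open : IsOpen ((Set.range (pullback.diagonal g))ᶜ ∩
      (pullback.fst g g) ⁻¹' (Set.range s)) :=
    hCopen.inter (hW₂open.preimage (pullback.fst g g).continuous)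
  obtain ⟨w₂, ⟨p₂, ⟨hp₂C, hp₂1⟩, rfl⟩, hw₂⟩ := nonempty_preirreducible_inter
    (hsnd _ hC₁open) hW₂open ⟨_, ⟨p₁, ⟨hp₁C, hw₁⟩, rfl⟩⟩ hW₂ne
  apply hp₂C
  set φ := (pullback g g).fromSpecResidueField p₂ with hφ
  have ha : Set.range (φ ≫ pullback.fst g g) ⊆ Set.range s := by
    rintro _ ⟨z, rfl⟩
    rw [Scheme.Hom.comp_apply, hφ, Scheme.fromSpecResidueField_apply]
    exact hp₂1
  have hb : Set.range (φ ≫ pullback.snd g g) ⊆ Set.range s := by
    rintro _ ⟨z, rfl⟩
    rw [Scheme.Hom.comp_apply, hφ, Scheme.fromSpecResidueField_apply]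
    exact hw₂
  have hab' : IsOpenImmersion.lift s _ ha = IsOpenImmersion.lift s _ hb := by
    rw [← cancel_mono (s ≫ g), ← Category.assoc, ← Category.assoc, IsOpenImmersion.lift_fac,
      IsOpenImmersion.lift_fac, Category.assoc, Category.assoc, pullback.condition]
  have hab : φ ≫ pullback.fst g g = φ ≫ pullback.snd g g := by
    rw [← IsOpenImmersion.lift_fac s _ ha, ← IsOpenImmersion.lift_fac s _ hb, hab']
  have hφ₂ : φ = (φ ≫ pullback.fst g g) ≫ pullback.diagonal g := by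
    apply pullback.hom_ext
    · simp
    · simp [hab]
  refine ⟨(φ ≫ pullback.fst g g) (IsLocalRing.closedPoint _), ?_⟩
  have := Scheme.fromSpecResidueField_apply p₂ (IsLocalRing.closedPoint _)
  rw [← hφ, hφ₂] at this
  exact this

/-- étale neighbourhood from helper87's S1451, after restricting the base to an integral open. -/
theorem exists_etale_nhd {X Y : Scheme.{u}} (f : X ⟶ Y) [LocallyOfFiniteType f]
    [FormallyUnramified f] (Y₀ : Y.Opens) [IsIntegral Y₀.toScheme] (x₀ ξ : X) (hx₀ : f x₀ ∈ Y₀)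
    (hy : CAlg2.IsGeomUnibranch (Y.presheaf.stalk (f x₀)))
    (hξ : ξ ⤳ x₀) (hgen : (Y₀ : Set Y) ⊆ closure {f ξ}) :
    ∃ W : X.Opens, x₀ ∈ W ∧ W ≤ f ⁻¹ᵁ Y₀ ∧ Etale (W.ι ≫ f) := by
  haveI : LocallyOfFiniteType (f ∣_ Y₀) :=
    MorphismProperty.of_isPullback (P := @LocallyOfFiniteType)
      (isPullback_morphismRestrict f Y₀).flip ‹_›
  haveI : FormallyUnramified (f ∣_ Y₀) :=
    MorphismProperty.of_isPullback (P := @FormallyUnramified)
      (isPullback_morphismRestrict f Y₀).flip ‹_›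
  have hξmem : ξ ∈ f ⁻¹ᵁ Y₀ := hξ.mem_open (f ⁻¹ᵁ Y₀).isOpen hx₀
  set x₀' : (f ⁻¹ᵁ Y₀).toScheme := ⟨x₀, hx₀⟩ with hx₀'
  set ξ' : (f ⁻¹ᵁ Y₀).toScheme := ⟨ξ, hξmem⟩ with hξ'
  have hsp' : ξ' ⤳ x₀' := by
    rw [← (f ⁻¹ᵁ Y₀).ι.isOpenEmbedding.isInducing.specializes_iff]
    exact hξ
  have hgen' : (f ∣_ Y₀) ξ' = genericPoint Y₀.toScheme := by
    have h1 : IsGenericPoint ((f ∣_ Y₀) ξ') (⊤ : Set Y₀.toScheme) := by
      rw [isGenericPoint_def, Set.top_eq_univ, Set.eq_univ_iff_forall]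
      intro z
      rw [Y₀.ι.isOpenEmbedding.isInducing.closure_eq_preimage_closure_image, Set.image_singleton]
      have : Y₀.ι ((f ∣_ Y₀) ξ') = f ξ := morphismRestrict_base_coe f Y₀ ξ'
      show Y₀.ι z ∈ closure {Y₀.ι ((f ∣_ Y₀) ξ')}
      rw [this]
      exact hgen z.2
    exact (h1.eq (genericPoint_spec Y₀.toScheme))
  have hpt : Y₀.ι ((f ∣_ Y₀) x₀') = f x₀ := morphismRestrict_base_coe f Y₀ x₀'
  have hGU : CAlg2.IsGeomUnibranch (Y₀.toScheme.presheaf.stalk ((f ∣_ Y₀) x₀')) := by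
    have h1 : CAlg2.IsGeomUnibranch (Y.presheaf.stalk (Y₀.ι ((f ∣_ Y₀) x₀'))) := by
      rw [hpt]; exact hy
    exact Groth.Agent.Lib.Helper87.GeomUnibranchEquiv.isGeomUnibranch_of_ringEquiv
      (asIso (Y₀.ι.stalkMap ((f ∣_ Y₀) x₀'))).commRingCatIsoToRingEquiv h1
  obtain ⟨W, hxW, hW⟩ := Groth.Agent.S1451.result (f ∣_ Y₀) x₀' hGU ⟨ξ', hsp', hgen'⟩
    ⟨⊤, trivial, MorphismProperty.comp_mem @FormallyUnramified _ _ inferInstance ‹_›⟩
  refine ⟨(f ⁻¹ᵁ Y₀).ι ''ᵁ W, ⟨x₀', hxW, rfl⟩, ?_, ?_⟩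
  · rintro _ ⟨z, -, rfl⟩
    exact z.2
  · have heq : ((f ⁻¹ᵁ Y₀).ι ''ᵁ W).ι ≫ f =
        ((f ⁻¹ᵁ Y₀).ι.isoImage W).inv ≫ (W.ι ≫ (f ∣_ Y₀)) ≫ Y₀.ι := by
      rw [Category.assoc, morphismRestrict_ι, ← Category.assoc, ← Category.assoc]
      congr 1
      simp
    rw [heq]
    infer_instance

/-- shrink an étale neighbourhood to an irreducible one, at a point over a geometrically unibranch
point with domain stalk. -/
theorem exists_irreducible_etale_nhd {X Y : Scheme.{u}} (f : X ⟶ Y)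
    (hcomp : LocallyFinite (fun Z : ↥(irreducibleComponents ↥Y) => (Z : Set ↥Y)))
    (W : X.Opens) [Etale (W.ι ≫ f)] (x₀ : X) (hx₀ : x₀ ∈ W)
    (hdom : IsDomain (Y.presheaf.stalk (f x₀)))
    (hy : CAlg2.IsGeomUnibranch (Y.presheaf.stalk (f x₀))) :
    ∃ W₁ : X.Opens, x₀ ∈ W₁ ∧ W₁ ≤ W ∧ IsIrreducible (W₁ : Set X) ∧ Etale (W₁.ι ≫ f) := by
  set g := W.ι ≫ f with hg
  set x' : W.toScheme := ⟨x₀, hx₀⟩ with hx'
  have hgx : g x' = f x₀ := rfl
  haveI := Groth.Agent.Lib.Helper37.EtaleFibres.locallyQuasiFinite_of_etale g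
  have hfinW := Groth.Agent.S5049.result g hcomp
  have h2754 := Groth.Agent.S2754.result g x' hdom hy ⟨⊤, trivial, inferInstance⟩
  haveI : IsDomain (W.toScheme.presheaf.stalk x') := h2754.1
  obtain ⟨O, hxO, hOirr⟩ := exists_irreducible_open_nhd hfinW x'
  refine ⟨W.ι ''ᵁ O, ⟨x', hxO, rfl⟩, ?_, ?_, ?_⟩
  · rintro _ ⟨z, -, rfl⟩
    exact z.2
  · exact hOirr.image _ W.ι.continuous.continuousOn
  · have heq : (W.ι ''ᵁ O).ι ≫ f = (W.ι.isoImage O).inv ≫ O.ι ≫ g := by
      rw [hg, ← Category.assoc, ← Category.assoc]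
      congr 1
      simp
    rw [heq]
    infer_instance

end Groth.Agent.Lib.Helper69.RatSec
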