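import Mathlib
import Groth.Agent.Lib.Helper65.RegularSmooth

/-! Smooth + quasi-finite implies etale (helper69).

* `formallyUnramified_of_finite`: a finite formally smooth algebra over a field is formally
  unramified (via base change to the algebraic closure and helper65's
  `isRegularLocalRing_of_formallySmooth`).
* `formallyUnramified_of_fibers`: a finite type algebra whose fibres are all formally unramified is
  formally unramified.
* `formallyUnramified_of_smooth_quasiFinite`, `etale_of_smooth_quasiFinite` (rings),
  `etale_of_smooth_of_locallyQuasiFinite` (schemes). -/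

set_option autoImplicit false
set_option linter.style.haveILetI false
universe u

open TensorProduct

namespace Groth.Agent.Lib.Helper69.SmoothQF

/-- a regular local ring of Krull dimension zero is a field -/
theorem maximalIdeal_eq_bot_of_regular_of_artinian (A : Type u) [CommRing A] [IsRegularLocalRing A]
    [IsArtinianRing A] : IsLocalRing.maximalIdeal A = ⊥ := by
  have h := IsRegularLocalRing.spanFinrank_maximalIdeal (R := A)
  have hdim : ringKrullDim A ≤ (0 : ℕ) := Ring.krullDimLE_iff.mp inferInstance
  rw [← h] at hdim
  have h0 : (IsLocalRing.maximalIdeal A).spanFinrank = 0 := by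
    have : ((IsLocalRing.maximalIdeal A).spanFinrank : WithBot ℕ∞) ≤ ((0 : ℕ) : WithBot ℕ∞) := hdim
    have h2 : (IsLocalRing.maximalIdeal A).spanFinrank ≤ 0 := by exact_mod_cast this
    omega
  have hfg : (IsLocalRing.maximalIdeal A).FG := IsNoetherian.noetherian _
  exact (Submodule.spanFinrank_eq_zero_iff_eq_bot hfg).mp h0

theorem formallyUnramified_of_finite_of_isAlgClosed (K A : Type u) [Field K] [IsAlgClosed K]
    [CommRing A] [Algebra K A] [Module.Finite K A] [Algebra.FormallySmooth K A] :
    Algebra.FormallyUnramified K A := by
  rw [Algebra.formallyUnramified_iff_forall]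
  intro q
  haveI : IsArtinianRing A := isArtinian_of_tower K inferInstance
  haveI : Algebra.FormallySmooth K (Localization.AtPrime q.asIdeal) :=
    Algebra.FormallySmooth.comp K A _
  haveI : Algebra.EssFiniteType K (Localization.AtPrime q.asIdeal) :=
    Algebra.EssFiniteType.comp K A _
  haveI := Groth.Agent.Lib.Helper65.RegularSmooth.isRegularLocalRing_of_formallySmooth K
    (Localization.AtPrime q.asIdeal)
  have hm := maximalIdeal_eq_bot_of_regular_of_artinian (Localization.AtPrime q.asIdeal)
  have hF : IsField (Localization.AtPrime q.asIdeal) :=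
    IsLocalRing.isField_iff_maximalIdeal_eq.mpr hm
  letI := hF.toField
  have hsurj : Function.Surjective (algebraMap A (Localization.AtPrime q.asIdeal)) :=
    IsArtinianRing.localization_surjective q.asIdeal.primeCompl _
  haveI : Module.Finite K (Localization.AtPrime q.asIdeal) :=
    Module.Finite.of_surjective (IsScalarTower.toAlgHom K A _).toLinearMap hsurj
  have hbij : Function.Bijective (algebraMap K (Localization.AtPrime q.asIdeal)) :=
    IsAlgClosed.algebraMap_bijective_of_isIntegral
  exact Algebra.FormallyUnramified.of_surjective (Algebra.ofId K _) hbij.2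

/-- a finite formally smooth algebra over a field is formally unramified (hence etale) -/
theorem formallyUnramified_of_finite (k A : Type u) [Field k]
    [CommRing A] [Algebra k A] [Module.Finite k A] [Algebra.FormallySmooth k A] :
    Algebra.FormallyUnramified k A := by
  haveI := formallyUnramified_of_finite_of_isAlgClosed (AlgebraicClosure k)
    (AlgebraicClosure k ⊗[k] A)
  exact Algebra.FormallyUnramified.of_formallyUnramified_tensorProduct_of_faithfullyFlat
    (AlgebraicClosure k)

/-- If `κ(P) ⊗[R] M = 0` for the prime `P` under `q`, then `κ(q) ⊗[A] M = 0`. -/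
theorem subsingleton_residueField_tensor {R A : Type u} [CommRing R] [CommRing A] [Algebra R A]
    (M : Type u) [AddCommGroup M] [Module A M] [Module R M] [IsScalarTower R A M]
    (q : Ideal A) [q.IsPrime]
    (h : Subsingleton ((q.comap (algebraMap R A)).ResidueField ⊗[R] M)) :
    Subsingleton (q.ResidueField ⊗[A] M) := by
  set P := q.comap (algebraMap R A) with hP
  let ψ : P.ResidueField →+* q.ResidueField := Ideal.ResidueField.map P q (algebraMap R A) rfl
  have hψ : ∀ (r : R) (c : P.ResidueField), ψ (r • c) = r • ψ c := by
    intro r c
    rw [Algebra.smul_def, map_mul, Ideal.ResidueField.map_algebraMap, Algebra.smul_def,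
      ← IsScalarTower.algebraMap_apply]
  let f : P.ResidueField →ₗ[R] M →ₗ[R] q.ResidueField ⊗[A] M :=
    LinearMap.mk₂ R (fun c m => ψ c ⊗ₜ[A] m)
      (fun c c' m => by rw [map_add, add_tmul])
      (fun r c m => by rw [hψ, smul_tmul'])
      (fun c m m' => by rw [tmul_add])
      (fun r c m => by rw [← algebraMap_smul A r m, tmul_smul, algebraMap_smul])
  let L := TensorProduct.lift f
  have h1 : ∀ m : M, (1 : q.ResidueField) ⊗ₜ[A] m = 0 := by
    intro m
    have : L ((1 : P.ResidueField) ⊗ₜ[R] m) = (1 : q.ResidueField) ⊗ₜ[A] m := by
      simp [L, f, ψ]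
    rw [← this, Subsingleton.elim ((1 : P.ResidueField) ⊗ₜ[R] m) 0, map_zero]
  refine ⟨fun x y => ?_⟩
  have h0 : ∀ z : q.ResidueField ⊗[A] M, z = 0 := by
    intro z
    induction z using TensorProduct.induction_on with
    | zero => rfl
    | tmul c m =>
      have : c ⊗ₜ[A] m = c • ((1 : q.ResidueField) ⊗ₜ[A] m) := by
        rw [smul_tmul', smul_eq_mul, mul_one]
      rw [this, h1, smul_zero]
    | add a b ha hb => rw [ha, hb, add_zero]
  rw [h0 x, h0 y]

/-- a finite type algebra all of whose fibres are formally unramified is formally unramified -/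
theorem formallyUnramified_of_fibers (R A : Type u) [CommRing R] [CommRing A] [Algebra R A]
    [Algebra.FiniteType R A]
    (h : ∀ (P : Ideal R) [P.IsPrime],
      Algebra.FormallyUnramified P.ResidueField (P.ResidueField ⊗[R] A)) :
    Algebra.FormallyUnramified R A := by
  rw [Algebra.formallyUnramified_iff, ← Module.support_eq_empty_iff (R := A),
    Set.eq_empty_iff_forall_notMem]
  intro q hq
  rw [Module.mem_support_iff_nontrivial_residueField_tensorProduct] at hq
  have hsub : Subsingleton (q.asIdeal.ResidueField ⊗[A] Ω[A⁄R]) := by
    apply subsingleton_residueField_tensor (R := R) (A := A) Ω[A⁄R] q.asIdeal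
    set P := q.asIdeal.comap (algebraMap R A) with hP
    haveI := h P
    let _ : Algebra A (P.ResidueField ⊗[R] A) := Algebra.TensorProduct.rightAlgebra
    haveI : Subsingleton Ω[(P.ResidueField ⊗[R] A)⁄P.ResidueField] :=
      (Algebra.formallyUnramified_iff _ _).mp inferInstance
    exact (KaehlerDifferential.tensorKaehlerEquivBase R P.ResidueField A
      (P.ResidueField ⊗[R] A)).subsingleton
  exact not_subsingleton _ hsub

/-- a finite type quasi-finite algebra with formally smooth fibres is formally unramified -/
theorem formallyUnramified_of_quasiFinite_of_fibers (R A : Type u) [CommRing R] [CommRing A]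
    [Algebra R A] [Algebra.FiniteType R A] [Algebra.QuasiFinite R A]
    (h : ∀ (P : Ideal R) [P.IsPrime],
      Algebra.FormallySmooth P.ResidueField (P.ResidueField ⊗[R] A)) :
    Algebra.FormallyUnramified R A := by
  apply formallyUnramified_of_fibers
  intro P _
  haveI : Module.Finite P.ResidueField (P.ResidueField ⊗[R] A) := Module.Finite.of_quasiFinite
  haveI := h P
  exact formallyUnramified_of_finite _ _

theorem formallyUnramified_of_smooth_quasiFinite (R A : Type u) [CommRing R] [CommRing A]
    [Algebra R A] [Algebra.Smooth R A] [Algebra.QuasiFinite R A] :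
    Algebra.FormallyUnramified R A :=
  formallyUnramified_of_quasiFinite_of_fibers R A fun _ _ => inferInstance

theorem etale_of_smooth_quasiFinite (R A : Type u) [CommRing R] [CommRing A]
    [Algebra R A] [Algebra.Smooth R A] [Algebra.QuasiFinite R A] : Algebra.Etale R A :=
  haveI := formallyUnramified_of_smooth_quasiFinite R A
  ⟨Algebra.FormallyEtale.iff_formallyUnramified_and_formallySmooth.mpr
    ⟨inferInstance, inferInstance⟩, inferInstance⟩

open AlgebraicGeometry CategoryTheory in
/-- a smooth locally quasi-finite morphism is etale -/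
theorem etale_of_smooth_of_locallyQuasiFinite {X Y : Scheme.{u}} (f : X ⟶ Y) [Smooth f]
    [LocallyQuasiFinite f] : Etale f := by
  rw [HasRingHomProperty.iff_appLE (P := @Etale)]
  intro U V e
  have h1 : (f.appLE U V e).hom.Smooth :=
    HasRingHomProperty.appLE (P := @Smooth) f inferInstance U V e
  have h2 : (f.appLE U V e).hom.QuasiFinite := LocallyQuasiFinite.quasiFinite_appLE U.2 V.2 e
  algebraize [(f.appLE U V e).hom]
  exact etale_of_smooth_quasiFinite Γ(Y, U) Γ(X, V)

end Groth.Agent.Lib.Helper69.SmoothQF
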