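import Mathlib
import Groth.Prelude.Def_Pi1
import Groth.Agent.Lib.Helper87.EtaleNormalIff

/-! Finite étale covers of normal integral schemes (helper69): étale over normal is normal;
for `f : Y ⟶ X` finite flat with `X` irreducible and all local rings of `Y` domains, every point of
`Y` has a unique generization in the generic fibre, closures of points of the generic fibre are
clopen, and `Y` connected implies `Y` irreducible. -/

set_option autoImplicit false
set_option linter.style.haveILetI false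
universe u

open CategoryTheory CategoryTheory.Limits AlgebraicGeometry TopologicalSpace

namespace Groth.Agent.Lib.Helper69.FEtNormal

/-- An étale scheme over a normal scheme is normal. -/
theorem isNormalScheme_of_etale {X Y : Scheme.{u}} (f : Y ⟶ X) [Etale f]
    (hX : Pi1.IsNormalScheme X) : Pi1.IsNormalScheme Y := by
  intro y
  obtain ⟨V, hV, hxV, -⟩ := exists_isAffineOpen_mem_and_subset (X := X) (x := f y)
    (U := ⊤) trivial
  obtain ⟨W, hW, hyW, hWV⟩ := exists_isAffineOpen_mem_and_subset (X := Y) (x := y)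
    (U := f ⁻¹ᵁ V) hxV
  have hWV' : W ≤ f ⁻¹ᵁ V := hWV
  have hφ : (f.appLE V W hWV').hom.Etale :=
    HasRingHomProperty.appLE (P := @Etale) f inferInstance ⟨V, hV⟩ ⟨W, hW⟩ hWV'
  algebraize [(f.appLE V W hWV').hom]
  set q := (hW.primeIdealOf ⟨y, hyW⟩).asIdeal with hq
  set p := (hV.primeIdealOf ⟨f y, hxV⟩).asIdeal with hp
  have hpq : Ideal.comap (algebraMap Γ(X, V) Γ(Y, W)) q = p := by
    have := IsAffineOpen.comap_primeIdealOf_appLE V hV W hW hWV' hyW
    exact congrArg PrimeSpectrum.asIdeal this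
  letI algX : Algebra Γ(X, V) (X.presheaf.stalk (f y)) :=
    TopCat.Presheaf.algebra_section_stalk X.presheaf (U := V) ⟨f y, hxV⟩
  letI algY : Algebra Γ(Y, W) (Y.presheaf.stalk y) :=
    TopCat.Presheaf.algebra_section_stalk Y.presheaf (U := W) ⟨y, hyW⟩
  haveI locX : IsLocalization.AtPrime (X.presheaf.stalk (f y)) p :=
    hV.isLocalization_stalk ⟨f y, hxV⟩
  haveI locY : IsLocalization.AtPrime (Y.presheaf.stalk y) q :=
    hW.isLocalization_stalk ⟨y, hyW⟩
  obtain ⟨hd, hic⟩ := hX (f y)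
  let e₁ : X.presheaf.stalk (f y) ≃ₐ[Γ(X, V)] Localization.AtPrime p :=
    IsLocalization.algEquiv p.primeCompl _ _
  obtain ⟨hd₁, hic₁⟩ := Groth.Agent.Lib.Helper87.NormalDvd.isDomain_and_isIntegrallyClosed_of_ringEquiv
    e₁.toRingEquiv
  have key : ∀ (p' : Ideal Γ(X, V)) [p'.IsPrime], p' = p →
      IsDomain (Localization.AtPrime p') ∧ IsIntegrallyClosed (Localization.AtPrime p') := by
    intro p' _ h
    subst h
    exact ⟨hd₁, hic₁⟩
  obtain ⟨hd₃, hic₃⟩ := key (Ideal.comap (algebraMap Γ(X, V) Γ(Y, W)) q) hpq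
  obtain ⟨hd₂, hic₂⟩ := Groth.Agent.Lib.Helper87.EtNormal.normal_localization_of_etale
    Γ(X, V) Γ(Y, W) q
  let e₂ : Localization.AtPrime q ≃ₐ[Γ(Y, W)] Y.presheaf.stalk y :=
    IsLocalization.algEquiv q.primeCompl _ _
  exact Groth.Agent.Lib.Helper87.NormalDvd.isDomain_and_isIntegrallyClosed_of_ringEquiv
    e₂.toRingEquiv


section Structure

variable {X Y : Scheme.{u}} (f : Y ⟶ X) [Flat f] [IsFinite f] [IrreducibleSpace X]

omit [IsFinite f] in
/-- every point has a generization in the generic fibre -/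
theorem exists_gen (y : Y) : ∃ ξ : Y, f ξ = genericPoint X ∧ ξ ⤳ y := by
  have h := Flat.generalizingMap f
  obtain ⟨ξ, h1, h2⟩ := h (genericPoint_specializes (f y))
  exact ⟨ξ, h2, h1⟩

omit [Flat f] [IrreducibleSpace X] in
/-- no specialisations inside a fibre of a finite morphism -/
theorem eq_of_specializes_of_fibre {ζ ξ : Y} (h : ζ ⤳ ξ) (hf : f ζ = f ξ) : ζ = ξ := by
  have hd := f.isDiscrete_preimage_singleton (f ξ)
  have hζm : ζ ∈ f ⁻¹' {f ξ} := hf
  have hξm : ξ ∈ f ⁻¹' {f ξ} := rfl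
  have h1 : (⟨ζ, hζm⟩ : f ⁻¹' {f ξ}) ⤳ ⟨ξ, hξm⟩ :=
    (Topology.IsInducing.subtypeVal.specializes_iff).mp h
  haveI : DiscreteTopology (f ⁻¹' {f ξ}) := hd.to_subtype
  have := h1.eq
  exact congrArg Subtype.val this

/-- uniqueness of the generization in the generic fibre when the stalk is a domain -/
theorem gen_unique (y : Y) [IsDomain (Y.presheaf.stalk y)] {ξ₁ ξ₂ : Y}
    (h₁ : f ξ₁ = genericPoint X) (h₁' : ξ₁ ⤳ y) (h₂ : f ξ₂ = genericPoint X) (h₂' : ξ₂ ⤳ y) :
    ξ₁ = ξ₂ := by
  set ζ : Y := Y.fromSpecStalk y ⟨⊥, Ideal.isPrime_bot⟩ with hζ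
  have key : ∀ ξ : Y, f ξ = genericPoint X → ξ ⤳ y → ζ = ξ := by
    intro ξ h h'
    have hmem : ξ ∈ Set.range (Y.fromSpecStalk y) := by
      rw [Scheme.range_fromSpecStalk]; exact h'
    obtain ⟨P, rfl⟩ := hmem
    have h1 : ζ ⤳ Y.fromSpecStalk y P := by
      apply Specializes.map _ (Y.fromSpecStalk y).continuous
      exact (PrimeSpectrum.le_iff_specializes
        (⟨⊥, Ideal.isPrime_bot⟩ : PrimeSpectrum (Y.presheaf.stalk y)) P).mp
        (show (⊥ : Ideal (Y.presheaf.stalk y)) ≤ P.asIdeal from bot_le)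
    apply eq_of_specializes_of_fibre f h1
    have h2 : f ζ ⤳ f (Y.fromSpecStalk y P) := h1.map f.continuous
    rw [h] at h2 ⊢
    exact (h2.antisymm (genericPoint_specializes _)).eq
  rw [← key ξ₁ h₁ h₁', ← key ξ₂ h₂ h₂']


/-- the closure of a point of the generic fibre is open and closed -/
theorem isClopen_closure (hY : ∀ y : Y, IsDomain (Y.presheaf.stalk y)) {ξ : Y}
    (hξ : f ξ = genericPoint X) : IsClopen (closure ({ξ} : Set Y)) := by
  refine ⟨isClosed_closure, ?_⟩
  have hfin : (f ⁻¹' {genericPoint X}).Finite := f.finite_preimage_singleton _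
  have hcompl : (closure ({ξ} : Set Y))ᶜ =
      ⋃ ξ' ∈ (f ⁻¹' {genericPoint X}) \ {ξ}, closure ({ξ'} : Set Y) := by
    ext y
    simp only [Set.mem_compl_iff, Set.mem_iUnion, exists_prop]
    constructor
    · intro hy
      obtain ⟨ξ', h1, h2⟩ := exists_gen f y
      refine ⟨ξ', ⟨h1, ?_⟩, h2.mem_closure⟩
      rintro (rfl : ξ' = ξ)
      exact hy h2.mem_closure
    · rintro ⟨ξ', ⟨h1, h2⟩, h3⟩ hy
      haveI := hY y
      apply h2
      exact gen_unique f y h1 (specializes_iff_mem_closure.mpr h3) hξ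
        (specializes_iff_mem_closure.mpr hy)
  rw [← isClosed_compl_iff, hcompl]
  exact (hfin.subset Set.sdiff_subset).isClosed_biUnion fun _ _ => isClosed_closure

/-- a connected finite flat scheme over an irreducible scheme whose local rings are domains is
irreducible -/
theorem irreducibleSpace_of_connected {X Y : Scheme.{u}} (f : Y ⟶ X) [Flat f] [IsFinite f]
    [IrreducibleSpace X] (hY : ∀ y : Y, IsDomain (Y.presheaf.stalk y))
    [ConnectedSpace Y] : IrreducibleSpace Y := by
  obtain ⟨y₀⟩ : Nonempty Y := inferInstance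
  obtain ⟨ξ, h1, -⟩ := exists_gen f y₀
  have hc := isClopen_closure f hY h1
  have huniv : closure ({ξ} : Set Y) = Set.univ :=
    hc.eq_univ ⟨ξ, subset_closure rfl⟩
  have hirr : IsIrreducible (Set.univ : Set Y) := by
    rw [← huniv]
    exact isIrreducible_singleton.closure
  exact { isPreirreducible_univ := hirr.isPreirreducible, toNonempty := ⟨y₀⟩ }

end Structure


end Groth.Agent.Lib.Helper69.FEtNormal
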