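import Mathlib
import Groth.Agent.Lib.Helper69.RatSec
import Groth.Agent.Lib.Helper87.LocIrredScheme
import Groth.Agent.Lib.Helper69.FEtNormal

set_option autoImplicit false
set_option linter.style.haveILetI false
set_option linter.unusedSectionVars false
set_option backward.isDefEq.respectTransparency false
set_option backward.defeqAttrib.useBackward true
universe u
open CategoryTheory CategoryTheory.Limits AlgebraicGeometry TopologicalSpace

namespace Groth.Agent.Lib.Helper69.RatSec

/-- in a locally Noetherian scheme with domain stalks the closure of an open set is open. -/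
theorem isOpen_closure_of_isOpen {P : Scheme.{u}} [IsLocallyNoetherian P]
    (hP : ∀ x : P, IsDomain (P.presheaf.stalk x)) {W : Set P} (hW : IsOpen W) :
    IsOpen (closure W) := by
  rw [isOpen_iff_forall_mem_open]
  intro x hx
  obtain ⟨_, ⟨U, hU : IsAffineOpen U, rfl⟩, hxU, -⟩ :=
    P.isBasis_affineOpens.exists_subset_of_mem_open (Set.mem_univ x) isOpen_univ
  haveI : IsNoetherianRing Γ(P, U) := IsLocallyNoetherian.component_noetherian ⟨U, hU⟩
  haveI := hP x
  haveI : (⊥ : Ideal (P.presheaf.stalk x)).IsPrime := Ideal.isPrime_bot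
  obtain ⟨O, hOopen, hOirr, hxO⟩ := Groth.Agent.Lib.Helper87.LocIrred.exists_irreducible_nhd hU x hxU
    (minimalPrimes.finite_of_isNoetherianRing (R := Γ(P, U)))
    (Groth.Agent.Lib.Helper87.Unibranch.existsUnique_minimalPrimes_of_le_nilradical ⊥ bot_le)
  refine ⟨O, ?_, hOopen, hxO⟩
  obtain ⟨z, hzO, hzW⟩ := mem_closure_iff.mp hx O hOopen hxO
  -- `O ∩ W` is dense in `O`
  intro o ho
  rw [mem_closure_iff]
  intro T hT hoT
  obtain ⟨t, htO, htT, htW⟩ : (O ∩ (T ∩ W)).Nonempty :=
    hOirr.2 T W hT hW ⟨o, ho, hoT⟩ ⟨z, hzO, hzW⟩ |>.imp fun t ht => ⟨ht.1, ht.2⟩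
  exact ⟨t, htT, htW⟩


/-- a closed immersion into a reduced scheme with open range is an open immersion. -/
theorem isOpenImmersion_of_isClosedImmersion_of_isOpen_range {Z P : Scheme.{u}} [IsReduced P]
    (j : Z ⟶ P) [IsClosedImmersion j] (hopen : IsOpen (Set.range j)) : IsOpenImmersion j := by
  obtain ⟨PC, hPC⟩ : ∃ PC : P.Opens, (PC : Set P) = Set.range j := ⟨⟨_, hopen⟩, rfl⟩
  have hjPC : Set.range j ⊆ Set.range PC.ι := by
    rw [Scheme.Opens.range_ι, hPC]
  have hj'ι : IsOpenImmersion.lift PC.ι j hjPC ≫ PC.ι = j := IsOpenImmersion.lift_fac _ _ _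
  haveI : IsClosedImmersion (IsOpenImmersion.lift PC.ι j hjPC ≫ PC.ι) := by
    rw [hj'ι]; infer_instance
  haveI : IsClosedImmersion (IsOpenImmersion.lift PC.ι j hjPC) :=
    IsClosedImmersion.of_comp _ PC.ι
  haveI : Surjective (IsOpenImmersion.lift PC.ι j hjPC) := by
    refine ⟨fun c => ?_⟩
    have hc : PC.ι c ∈ Set.range j := by
      rw [← hPC]; exact c.2
    obtain ⟨z, hz⟩ := hc
    refine ⟨z, ?_⟩
    apply PC.ι.isOpenEmbedding.injective
    rw [← Scheme.Hom.comp_apply, hj'ι]
    exact hz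
  haveI : IsIso (IsOpenImmersion.lift PC.ι j hjPC) :=
    isIso_of_isClosedImmersion_of_surjective _
  rw [← hj'ι]
  infer_instance

/-- range of a closed immersion through which a morphism factors dominantly. -/
theorem range_eq_closure_range_of_dominant {S Z P : Scheme.{u}} (t : S ⟶ Z) [IsDominant t]
    (j : Z ⟶ P) [IsClosedImmersion j] : Set.range j = closure (Set.range (t ≫ j)) := by
  apply subset_antisymm
  · rintro _ ⟨z, rfl⟩
    have hz : z ∈ closure (Set.range t) := by
      rw [t.denseRange.closure_range]; trivial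
    have := image_closure_subset_closure_image j.continuous ⟨z, hz, rfl⟩
    rw [← Set.range_comp] at this
    exact this
  · refine closure_minimal ?_ j.isClosedEmbedding.isClosed_range
    rintro _ ⟨s, rfl⟩
    exact ⟨t s, rfl⟩

/-- scheme-theoretic image of a section of an étale morphism over a normal base, pushed along a
closed immersion. -/
theorem etale_image_of_section {S G P : Scheme.{u}} [IsLocallyNoetherian S]
    (hS : Pi1.IsNormalScheme S) (p : G ⟶ S) (π₁ : P ⟶ G) [IsClosedImmersion π₁]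
    (r : P ⟶ S) [Etale r] (hr' : r = π₁ ≫ p) (e' : S ⟶ P) (he'r : e' ≫ r = 𝟙 S) :
    Etale ((e' ≫ π₁).ker.subschemeι ≫ p) := by
  haveI : IsOpenImmersion (e' ≫ r) := by rw [he'r]; infer_instance
  haveI : IsOpenImmersion e' := isOpenImmersion_of_comp_unramified e' r
  haveI : IsLocallyNoetherian P := LocallyOfFiniteType.isLocallyNoetherian r
  have hPn : Pi1.IsNormalScheme P :=
    Groth.Agent.Lib.Helper69.FEtNormal.isNormalScheme_of_etale r hS
  haveI : IsReduced P := by
    have : ∀ x : P, _root_.IsReduced (P.presheaf.stalk x) := fun x => by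
      have := (hPn x).1
      infer_instance
    exact isReduced_of_isReduced_stalk _
  haveI : QuasiCompact (e' ≫ π₁) := inferInstance
  have hker : π₁.ker ≤ (e' ≫ π₁).imageι.ker := by
    rw [Scheme.IdealSheafData.ker_subschemeι]
    exact e'.le_ker_comp π₁
  have hjπ₁ : IsClosedImmersion.lift π₁ (e' ≫ π₁).imageι hker ≫ π₁ = (e' ≫ π₁).imageι :=
    IsClosedImmersion.lift_fac _ _ _
  have htj : (e' ≫ π₁).toImage ≫ IsClosedImmersion.lift π₁ (e' ≫ π₁).imageι hker = e' := by
    rw [← cancel_mono π₁, Category.assoc, hjπ₁, Scheme.Hom.toImage_imageι]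
  haveI : IsClosedImmersion (IsClosedImmersion.lift π₁ (e' ≫ π₁).imageι hker ≫ π₁) := by
    rw [hjπ₁]; infer_instance
  haveI : IsClosedImmersion (IsClosedImmersion.lift π₁ (e' ≫ π₁).imageι hker) :=
    IsClosedImmersion.of_comp _ π₁
  have hrange := range_eq_closure_range_of_dominant (e' ≫ π₁).toImage
    (IsClosedImmersion.lift π₁ (e' ≫ π₁).imageι hker)
  rw [htj] at hrange
  have hCopen : IsOpen (closure (Set.range e')) :=
    isOpen_closure_of_isOpen (fun x => (hPn x).1) e'.isOpenEmbedding.isOpen_range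
  rw [← hrange] at hCopen
  haveI : IsOpenImmersion (IsClosedImmersion.lift π₁ (e' ≫ π₁).imageι hker) :=
    isOpenImmersion_of_isClosedImmersion_of_isOpen_range _ hCopen
  have hfinal : (e' ≫ π₁).ker.subschemeι ≫ p =
      IsClosedImmersion.lift π₁ (e' ≫ π₁).imageι hker ≫ r := by
    rw [hr', ← Category.assoc, hjπ₁]
  rw [hfinal]
  infer_instance

/-- core of S13424. -/
theorem aligned_of_etale {S G H : Scheme.{u}} [IsLocallyNoetherian S] (hS : Pi1.IsNormalScheme S)
    (p : G ⟶ S) (q : H ⟶ S)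
    (eG : S ⟶ G) (eH : S ⟶ H) (heG : eG ≫ p = 𝟙 S)
    (f : G ⟶ H) [Etale f] (hf : f ≫ q = p) (hfe : eG ≫ f = eH)
    (hH : Etale (eH.ker.subschemeι ≫ q)) :
    Etale (eG.ker.subschemeι ≫ p) := by
  haveI := hH
  have hr' : pullback.snd f eH.ker.subschemeι ≫ (eH.ker.subschemeι ≫ q) =
      pullback.fst f eH.ker.subschemeι ≫ p := by
    rw [← Category.assoc, ← pullback.condition, Category.assoc, hf]
  have hcond : eG ≫ f = eH.toImage ≫ eH.ker.subschemeι := by
    rw [hfe, Scheme.Hom.toImage_imageι]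
  have he'π₁ : pullback.lift eG eH.toImage hcond ≫ pullback.fst f eH.ker.subschemeι = eG :=
    pullback.lift_fst _ _ _
  have he'r : pullback.lift eG eH.toImage hcond ≫
      (pullback.snd f eH.ker.subschemeι ≫ (eH.ker.subschemeι ≫ q)) = 𝟙 S := by
    rw [hr', ← Category.assoc, he'π₁, heG]
  have := etale_image_of_section hS p (pullback.fst f eH.ker.subschemeι)
    (pullback.snd f eH.ker.subschemeι ≫ (eH.ker.subschemeι ≫ q)) hr'
    (pullback.lift eG eH.toImage hcond) he'r
  rwa [he'π₁] at this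

end Groth.Agent.Lib.Helper69.RatSec
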