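import Mathlib

/-!
# [KR] Krull step for helper55's S4899 (SA), exact interface of msg 4602
-/

set_option autoImplicit false
universe u
open TensorProduct IsLocalRing
open scoped Pointwise

namespace Groth.Agent.Lib.Helper69.PrimKR2

theorem kr {R S : Type u} [CommRing R] [IsLocalRing R] [IsNoetherianRing R] [CommRing S]
    [Algebra R S] [Module.Free R S] (V : Type u) [AddCommGroup V] [Module R V] [Module.Finite R V]
    (w : S ⊗[R] V)
    (h : ∀ n : ℕ, LinearMap.lTensor S
      (Submodule.mkQ (maximalIdeal R ^ n • (⊤ : Submodule R V))) w = 0) : w = 0 := by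
  classical
  let b := Module.Free.chooseBasis R S
  let e := TensorProduct.equivFinsuppOfBasisLeft (R := R) (N := V) b
  have key : ∀ (U : Submodule R V) (x : S ⊗[R] V) (i),
      TensorProduct.equivFinsuppOfBasisLeft (R := R) (N := V ⧸ U) b
        (LinearMap.lTensor S U.mkQ x) i = U.mkQ (e x i) := by
    intro U x i
    induction x using TensorProduct.induction_on with
    | zero => simp
    | tmul m v =>
      rw [LinearMap.lTensor_tmul, TensorProduct.equivFinsuppOfBasisLeft_apply_tmul_apply,
        TensorProduct.equivFinsuppOfBasisLeft_apply_tmul_apply, map_smul]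
    | add x y hx hy =>
      rw [map_add, map_add, map_add, Finsupp.add_apply, Finsupp.add_apply, hx, hy, map_add]
  have hK : (⨅ i : ℕ, maximalIdeal R ^ i • ⊤ : Submodule R V) = ⊥ :=
    Ideal.iInf_pow_smul_eq_bot_of_isLocalRing (maximalIdeal R) Ideal.IsPrime.ne_top'
  have h0 : e w = 0 := by
    ext i
    have hmem : e w i ∈ (⨅ n : ℕ, maximalIdeal R ^ n • ⊤ : Submodule R V) := by
      rw [Submodule.mem_iInf]
      intro n
      have h1 := key (maximalIdeal R ^ n • (⊤ : Submodule R V)) w i
      rw [h n, map_zero, Finsupp.zero_apply] at h1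
      exact (Submodule.Quotient.mk_eq_zero _).1 h1.symm
    rw [hK] at hmem
    simpa using hmem
  exact e.injective (by rw [h0, map_zero])

end Groth.Agent.Lib.Helper69.PrimKR2
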