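import Mathlib
import Groth.Agent.Lib.Helper87.HensProps
import Groth.Agent.Lib.Helper87.HensNoeth

/-!
# The henselization of a Noetherian local ring maps faithfully flatly to the completion (helper69)
-/

set_option autoImplicit false
universe u

namespace Groth.Agent.Lib.Helper69.HensCompl

open Groth.Agent.Lib.Helper87.Hens IsLocalRing

variable (A S : Type u) [CommRing A] [IsLocalRing A] [IsNoetherianRing A] [CommRing S]
  [IsLocalRing S] [Algebra A S] [IsLocalHom (algebraMap A S)] [Hensel.IsHenselization A S]
  (ψ : S →+* AdicCompletion (maximalIdeal A) A)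
  (hψ : ψ.comp (algebraMap A S) = algebraMap A (AdicCompletion (maximalIdeal A) A))

include hψ

theorem flat_toCompletion : ψ.Flat := by
  obtain ⟨e⟩ := nonempty_algEquiv_Hh A S
  letI : Algebra (Hh A) (AdicCompletion (maximalIdeal A) A) :=
    (ψ.comp (e.symm : Hh A →+* S)).toAlgebra
  haveI : IsScalarTower A (Hh A) (AdicCompletion (maximalIdeal A) A) :=
    IsScalarTower.of_algebraMap_eq (fun r => by
      show _ = ψ (e.symm (algebraMap A (Hh A) r))
      rw [AlgEquiv.commutes]
      exact (RingHom.congr_fun hψ r).symm)
  haveI : Module.Flat (Hh A) (AdicCompletion (maximalIdeal A) A) := H.flat_of_algebra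
  have h1 : (algebraMap (Hh A) (AdicCompletion (maximalIdeal A) A)).Flat :=
    RingHom.flat_algebraMap_iff.mpr inferInstance
  have h2 : (e : S →+* Hh A).Flat := RingHom.Flat.of_bijective e.bijective
  have h3 : ψ = (algebraMap (Hh A) (AdicCompletion (maximalIdeal A) A)).comp (e : S →+* Hh A) := by
    refine RingHom.ext (fun x => ?_)
    show ψ x = ψ (e.symm (e x))
    rw [AlgEquiv.symm_apply_apply]
  rw [h3]
  exact RingHom.Flat.comp h2 h1

theorem isLocalHom_toCompletion : IsLocalHom ψ := by
  constructor
  intro x hx
  by_contra hnu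
  have hx' : x ∈ maximalIdeal S := (mem_maximalIdeal x).mpr hnu
  rw [← map_maximalIdeal_of_isHenselization A S] at hx'
  have h1 := Ideal.mem_map_of_mem ψ hx'
  rw [Ideal.map_map, hψ] at h1
  have h2 : (maximalIdeal A).map (algebraMap A (AdicCompletion (maximalIdeal A) A)) ≤
      maximalIdeal (AdicCompletion (maximalIdeal A) A) := by
    rw [Ideal.map_le_iff_le_comap]
    intro r hr
    rw [Ideal.mem_comap, mem_maximalIdeal]
    exact (map_mem_nonunits_iff (algebraMap A (AdicCompletion (maximalIdeal A) A)) r).mpr hr
  exact (mem_maximalIdeal _).mp (h2 h1) hx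

/-- `Â` is faithfully flat over the henselization. -/
theorem faithfullyFlat_toCompletion :
    letI := ψ.toAlgebra
    Module.FaithfullyFlat S (AdicCompletion (maximalIdeal A) A) := by
  letI := ψ.toAlgebra
  haveI : Module.Flat S (AdicCompletion (maximalIdeal A) A) := flat_toCompletion A S ψ hψ
  haveI : IsLocalHom (algebraMap S (AdicCompletion (maximalIdeal A) A)) :=
    isLocalHom_toCompletion A S ψ hψ
  exact Module.FaithfullyFlat.of_flat_of_isLocalHom

end Groth.Agent.Lib.Helper69.HensCompl
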