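import Groth.Agent.Lib.Helper69.BranchNorm
import Groth.Agent.Lib.Helper87.NormScheme
import Groth.Agent.Lib.Helper87.BranchEtaleHens
import Groth.Agent.Lib.Helper87.BranchEtale

set_option autoImplicit false
set_option linter.style.haveILetI false
set_option linter.unusedSectionVars false

namespace Groth.Agent.Lib.Helper69.BranchNormScheme

universe u

open CategoryTheory CategoryTheory.Limits AlgebraicGeometry IsLocalRing
open Groth.Agent.Lib.Helper69.BranchNorm Groth.Agent.Lib.Helper87

theorem card_fieldEmb_of_localEquiv {A B A' B' : Type u} [CommRing A] [CommRing B] [CommRing A']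
    [CommRing B'] [IsLocalRing A] [IsLocalRing B] [IsLocalRing A'] [IsLocalRing B']
    (g : A →+* B) [IsLocalHom g] (g' : A' →+* B') [IsLocalHom g'] (eA : A ≃+* A') (eB : B ≃+* B')
    (h : ∀ a, eB (g a) = g' (eA a)) (hint : (ResidueField.map g).IsIntegral) :
    ENat.card (@Field.Emb (ResidueField A) (ResidueField B) _ _ (ResidueField.map g).toAlgebra) =
      ENat.card (@Field.Emb (ResidueField A') (ResidueField B') _ _
        (ResidueField.map g').toAlgebra) := by
  refine card_fieldEmb_congr _ _ (ResidueField.mapEquiv eA) (ResidueField.mapEquiv eB) ?_ hint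
  intro x
  obtain ⟨a, rfl⟩ := residue_surjective x
  simp only [ResidueField.map_residue, ResidueField.mapEquiv_apply, RingEquiv.coe_toRingHom]
  rw [h]


theorem card_emb_residueFieldMap {X Y : Scheme.{u}} (f : Y ⟶ X) {U : X.Opens}
    (hU : IsAffineOpen U) {V : Y.Opens} (hV : IsAffineOpen V) (hVU : V ≤ f ⁻¹ᵁ U) (y : Y)
    (hy : y ∈ V) (p : Ideal Γ(X, U)) [p.IsPrime]
    (hp : p = (hV.primeIdealOf ⟨y, hy⟩).asIdeal.comap (f.appLE U V hVU).hom)
    (hint : (Ideal.ResidueField.map p (hV.primeIdealOf ⟨y, hy⟩).asIdeal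
      (f.appLE U V hVU).hom hp).IsIntegral) :
    (letI := (f.residueFieldMap y).hom.toAlgebra
     ENat.card (Field.Emb (X.residueField (f y)) (Y.residueField y))) =
    (letI := (Ideal.ResidueField.map p (hV.primeIdealOf ⟨y, hy⟩).asIdeal
        (f.appLE U V hVU).hom hp).toAlgebra
     ENat.card (Field.Emb p.ResidueField (hV.primeIdealOf ⟨y, hy⟩).asIdeal.ResidueField)) := by
  have hp' : p = (hU.primeIdealOf ⟨f y, hVU hy⟩).asIdeal :=
    hp.trans congr($(IsAffineOpen.comap_primeIdealOf_appLE U hU V hV hVU hy).1)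
  subst hp'
  let i := IsAffineOpen.arrowStalkMapIso f U hU V hV hVU hy
  let eA : Y.presheaf.stalk y ≃+* Localization.AtPrime (hV.primeIdealOf ⟨y, hy⟩).asIdeal :=
    (Arrow.rightFunc.mapIso i).commRingCatIsoToRingEquiv
  let eB : X.presheaf.stalk (f y) ≃+*
      Localization.AtPrime (hU.primeIdealOf ⟨f y, hVU hy⟩).asIdeal :=
    (Arrow.leftFunc.mapIso i).commRingCatIsoToRingEquiv
  have hw : ∀ a, eA ((f.stalkMap y).hom a) =
      Localization.localRingHom _ _ (f.appLE U V hVU).hom hp (eB a) := by
    intro a
    have := i.hom.w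
    exact congr($(this).hom a).symm
  refine (card_fieldEmb_of_localEquiv (Localization.localRingHom _ _ (f.appLE U V hVU).hom hp)
    (f.stalkMap y).hom eB.symm eA.symm ?_ hint).symm
  intro b
  obtain ⟨a, rfl⟩ := eB.surjective b
  rw [RingEquiv.symm_apply_apply, ← hw, RingEquiv.symm_apply_apply]

section Fibre

variable {X Y : Scheme.{u}} (f : Y ⟶ X) {U : X.Opens} (hU : IsAffineOpen U)
  {V : Y.Opens} (hV : IsAffineOpen V) (hVU : V = f ⁻¹ᵁ U) {x : X} (hxU : x ∈ U)

theorem primeIdealOf_fromSpec (q : PrimeSpectrum Γ(Y, V)) (h : hV.fromSpec q ∈ V) :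
    hV.primeIdealOf ⟨hV.fromSpec q, h⟩ = q := by
  apply hV.fromSpec.isOpenEmbedding.injective
  exact hV.fromSpec_primeIdealOf ⟨hV.fromSpec q, h⟩

theorem fromSpec_mem (q : PrimeSpectrum Γ(Y, V)) : hV.fromSpec q ∈ V := by
  have h1 : hV.fromSpec q ∈ Set.range hV.fromSpec := ⟨_, rfl⟩
  rw [hV.range_fromSpec] at h1
  exact h1

/-- the fibre of `f` over a point of an affine open with affine preimage, in terms of primes -/
noncomputable def fibreEquiv :
    {y : Y // f y = x} ≃
      Fib3 (hU.primeIdealOf ⟨x, hxU⟩).asIdeal (f.appLE U V hVU.le).hom where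
  toFun y := ⟨hV.primeIdealOf ⟨y.1, by rw [hVU]; show f y.1 ∈ U; rw [y.2]; exact hxU⟩, by
    have hy : y.1 ∈ V := by rw [hVU]; show f y.1 ∈ U; rw [y.2]; exact hxU
    have h1 := IsAffineOpen.comap_primeIdealOf_appLE U hU V hV hVU.le hy
    have h2 : hU.primeIdealOf ⟨f y.1, hVU.le hy⟩ = hU.primeIdealOf ⟨x, hxU⟩ := by
      congr 1
      exact Subtype.ext y.2
    exact congr($(h1.trans h2).1)⟩
  invFun q := ⟨hV.fromSpec q.1, by
    have hy : hV.fromSpec q.1 ∈ V := fromSpec_mem hV q.1
    have h1 := IsAffineOpen.comap_primeIdealOf_appLE U hU V hV hVU.le hy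
    rw [primeIdealOf_fromSpec hV q.1 hy] at h1
    have h2 : hU.primeIdealOf ⟨f (hV.fromSpec q.1), hVU.le hy⟩ = hU.primeIdealOf ⟨x, hxU⟩ := by
      rw [← h1]
      exact PrimeSpectrum.ext q.2
    have h3 := congrArg hU.fromSpec h2
    rwa [hU.fromSpec_primeIdealOf, hU.fromSpec_primeIdealOf] at h3⟩
  left_inv y := by
    apply Subtype.ext
    exact hV.fromSpec_primeIdealOf _
  right_inv q := by
    apply Subtype.ext
    exact primeIdealOf_fromSpec hV q.1 _

end Fibre

section Main

variable (X : Scheme.{u}) [IsIntegral X]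
  [QuasiCompact (X.fromSpecStalk (genericPoint X))]
  [QuasiSeparated (X.fromSpecStalk (genericPoint X))]

variable {U : X.Opens} (hU : IsAffineOpen U) [Nonempty U]

/-- the ring isomorphism between the integral closure in the fraction field and the sections
of the normalization. -/
noncomputable def eModel :
    integralClosure Γ(X, U) (FractionRing Γ(X, U)) ≃+*
      Γ((X.fromSpecStalk (genericPoint X)).normalization,
        (X.fromSpecStalk (genericPoint X)).fromNormalization ⁻¹ᵁ U) :=
  letI := ((X.fromSpecStalk (genericPoint X)).app U).hom.toAlgebra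
  haveI := NormScheme.isFractionRing_app X U hU
  ((FractionRing.algEquiv Γ(X, U)
    Γ(Spec (X.presheaf.stalk (genericPoint X)),
      (X.fromSpecStalk (genericPoint X)) ⁻¹ᵁ U)).mapIntegralClosure).toRingEquiv.trans
    ((X.fromSpecStalk (genericPoint X)).normalizationObjIso hU).symm.commRingCatIsoToRingEquiv

theorem eModel_algebraMap (r : Γ(X, U)) :
    eModel X hU (algebraMap Γ(X, U) (integralClosure Γ(X, U) (FractionRing Γ(X, U))) r) =
      ((X.fromSpecStalk (genericPoint X)).fromNormalization.appLE U
        ((X.fromSpecStalk (genericPoint X)).fromNormalization ⁻¹ᵁ U) le_rfl).hom r := by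
  letI := ((X.fromSpecStalk (genericPoint X)).app U).hom.toAlgebra
  haveI := NormScheme.isFractionRing_app X U hU
  rw [← Scheme.Hom.app_eq_appLE, (X.fromSpecStalk (genericPoint X)).fromNormalization_app hU]
  unfold eModel
  show ((X.fromSpecStalk (genericPoint X)).normalizationObjIso hU).inv.hom
      ((FractionRing.algEquiv Γ(X, U)
        Γ(Spec (X.presheaf.stalk (genericPoint X)),
          (X.fromSpecStalk (genericPoint X)) ⁻¹ᵁ U)).mapIntegralClosure
        (algebraMap Γ(X, U) (integralClosure Γ(X, U) (FractionRing Γ(X, U))) r)) = _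
  rw [AlgEquiv.commutes]
  rfl


/-- Branches of an integral scheme at a point in terms of the fibre of the normalization. -/
theorem branches_eq_fibre_normalization (x : X) :
    Brnch.numBranchesAt X x =
        ENat.card {x' : ↥((X.fromSpecStalk (genericPoint X)).normalization) //
          (X.fromSpecStalk (genericPoint X)).fromNormalization x' = x} ∧
      Brnch.numGeomBranchesAt X x =
        ∑' x' : {x' : ↥((X.fromSpecStalk (genericPoint X)).normalization) //
            (X.fromSpecStalk (genericPoint X)).fromNormalization x' = x},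
          (letI := ((X.fromSpecStalk (genericPoint X)).fromNormalization.residueFieldMap
            x'.1).hom.toAlgebra
           ENat.card (Field.Emb
             (X.residueField ((X.fromSpecStalk (genericPoint X)).fromNormalization x'.1))
             ((X.fromSpecStalk (genericPoint X)).normalization.residueField x'.1))) := by
  obtain ⟨_, ⟨U, hU, rfl⟩, hxU, -⟩ :=
    X.isBasis_affineOpens.exists_subset_of_mem_open (Set.mem_univ x) isOpen_univ
  haveI : Nonempty U := ⟨⟨x, hxU⟩⟩
  have hU' : IsAffineOpen U := hU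
  have hV : IsAffineOpen ((X.fromSpecStalk (genericPoint X)).fromNormalization ⁻¹ᵁ U) :=
    hU'.preimage _
  have he := eModel_algebraMap X hU'
  constructor
  · rw [BranchEtaleHens.numBranchesAt_eq_localization hU' x hxU,
      numBranches_localization_model _ (eModel X hU') he]
    exact (ENat.card_congr (fibreEquiv _ hU' hV rfl hxU)).symm
  · have h1 : Brnch.numGeomBranchesAt X x =
        Brnch.numGeomBranches (Localization.AtPrime (hU'.primeIdealOf ⟨x, hxU⟩).asIdeal) := by
      letI := X.presheaf.algebra_section_stalk ⟨x, hxU⟩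
      haveI := hU'.isLocalization_stalk ⟨x, hxU⟩
      exact BranchEtale.numGeomBranches_eq_of_ringEquiv
        (IsLocalization.algEquiv (hU'.primeIdealOf ⟨x, hxU⟩).asIdeal.primeCompl
          (X.presheaf.stalk x)
          (Localization.AtPrime (hU'.primeIdealOf ⟨x, hxU⟩).asIdeal)).toRingEquiv
    rw [h1, numGeomBranches_localization_model _ (eModel X hU') he,
      ← (fibreEquiv _ hU' hV rfl hxU).tsum_eq]
    refine tsum_congr fun x' => ?_
    symm
    have hy : x'.1 ∈ (X.fromSpecStalk (genericPoint X)).fromNormalization ⁻¹ᵁ U := by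
      show (X.fromSpecStalk (genericPoint X)).fromNormalization x'.1 ∈ U
      rw [x'.2]
      exact hxU
    have key := card_emb_residueFieldMap (X.fromSpecStalk (genericPoint X)).fromNormalization
      hU' hV le_rfl x'.1 hy (hU'.primeIdealOf ⟨x, hxU⟩).asIdeal
      ((fibreEquiv (X.fromSpecStalk (genericPoint X)).fromNormalization hU' hV rfl hxU x').2.symm)
      (isIntegral_residueField_map_model _ (eModel X hU') he
        (fibreEquiv (X.fromSpecStalk (genericPoint X)).fromNormalization hU' hV rfl hxU x'))
    exact key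

end Main

end Groth.Agent.Lib.Helper69.BranchNormScheme
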