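import Mathlib

/-!
# Spreading out homomorphisms and isomorphisms of localisations (helper69)

`L = M⁻¹S` is the filtered colimit of the `S_m`, `m ∈ M`.  We prove the two basic consequences for
algebra maps (`exists_lift`: maps from a finitely presented algebra into `L` factor through some
`S_m`; `exists_eq`: two maps from a finite type algebra into `S_m` that agree in `L` agree in some
`S_{m'}`), and deduce that an isomorphism `S_q ≃ S'_q'` of local rings of finitely presented
algebras spreads out to an isomorphism `S_g ≃ S'_g'` (`exists_away_equiv`).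
-/

namespace Groth.Agent.Lib.Helper69.Spread

open IsLocalization

section Can

variable (R : Type*) {S : Type*} [CommRing R] [CommRing S] [Algebra R S]

/-- The canonical `R`-algebra map `S_g → T` for an `S`-algebra `T` in which `g` is a unit. -/
noncomputable def can (g : S) (T : Type*) [CommRing T] [Algebra S T] [Algebra R T]
    [IsScalarTower R S T] (h : IsUnit (algebraMap S T g)) : Localization.Away g →ₐ[R] T :=
  IsLocalization.Away.liftAlgHom (A := R) (f := IsScalarTower.toAlgHom R S T) g h

@[simp] lemma can_algebraMap (g : S) (T : Type*) [CommRing T] [Algebra S T] [Algebra R T]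
    [IsScalarTower R S T] (h : IsUnit (algebraMap S T g)) (s : S) :
    can R g T h (algebraMap S (Localization.Away g) s) = algebraMap S T s := by
  simp [can]

variable {R}

lemma away_hom_ext {g : S} {T : Type*} [CommRing T] [Algebra R T]
    {u v : Localization.Away g →ₐ[R] T}
    (h : ∀ s : S, u (algebraMap S _ s) = v (algebraMap S _ s)) : u = v := by
  apply AlgHom.coe_ringHom_injective
  apply IsLocalization.ringHom_ext (Submonoid.powers g)
  ext s
  exact h s

lemma isUnit_of_dvd' {a b : S} (h : a ∣ b) : IsUnit (algebraMap S (Localization.Away b) a) :=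
  IsLocalization.Away.isUnit_of_dvd b h

/-- Canonical maps compose. -/
lemma can_can (g g₂ : S) (h₁ : IsUnit (algebraMap S (Localization.Away g₂) g))
    (T : Type*) [CommRing T] [Algebra S T] [Algebra R T]
    [IsScalarTower R S T] (h : IsUnit (algebraMap S T g)) (h₂ : IsUnit (algebraMap S T g₂))
    (x : Localization.Away g) :
    can R g₂ T h₂ (can R g (Localization.Away g₂) h₁ x) = can R g T h x := by
  have : (can R g₂ T h₂).comp (can R g (Localization.Away g₂) h₁) = can R g T h :=
    away_hom_ext (fun s => by simp)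
  exact DFunLike.congr_fun this x

end Can

section General

variable {R : Type*} {S : Type*} [CommRing R] [CommRing S] [Algebra R S]
variable (M : Submonoid S) (L : Type*) [CommRing L] [Algebra S L] [Algebra R L]
  [IsScalarTower R S L] [IsLocalization M L]

include M in
lemma isUnit_L {m : S} (hm : m ∈ M) : IsUnit (algebraMap S L m) :=
  IsLocalization.map_units L ⟨m, hm⟩

/-- An element of `S_m` dying in `L` is killed by an element of `M`. -/
lemma exists_mul_eq_zero {m : S} (hm : m ∈ M) (z : Localization.Away m)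
    (hz : can R m L (isUnit_L M L hm) z = 0) :
    ∃ c ∈ M, algebraMap S (Localization.Away m) c * z = 0 := by
  obtain ⟨n, b, hb⟩ := IsLocalization.Away.surj m z
  have h1 : algebraMap S L b = 0 := by
    have := congrArg (can R m L (isUnit_L M L hm)) hb
    rw [map_mul, hz, zero_mul, can_algebraMap] at this
    exact this.symm
  obtain ⟨c, hc⟩ := (IsLocalization.map_eq_zero_iff M L b).mp h1
  refine ⟨c, c.2, ?_⟩
  have hu : IsUnit (algebraMap S (Localization.Away m) m ^ n) :=
    IsLocalization.Away.algebraMap_pow_isUnit m n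
  apply hu.mul_left_injective
  simp only [zero_mul]
  rw [mul_assoc, hb, ← map_mul, hc, map_zero]

lemma exists_mul_eq_zero_finset {m : S} (hm : m ∈ M) (Z : Finset (Localization.Away m))
    (hZ : ∀ z ∈ Z, can R m L (isUnit_L M L hm) z = 0) :
    ∃ c ∈ M, ∀ z ∈ Z, algebraMap S (Localization.Away m) c * z = 0 := by
  classical
  induction Z using Finset.induction_on with
  | empty => exact ⟨1, M.one_mem, by simp⟩
  | insert a Z _ ih =>
    obtain ⟨c, hc, h⟩ := ih (fun z hz => hZ z (Finset.mem_insert_of_mem hz))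
    obtain ⟨d, hd, h'⟩ := exists_mul_eq_zero (R := R) M L hm a (hZ a (Finset.mem_insert_self _ _))
    refine ⟨c * d, M.mul_mem hc hd, fun z hz => ?_⟩
    rcases Finset.mem_insert.mp hz with rfl | hz
    · rw [map_mul, mul_assoc, h', mul_zero]
    · rw [map_mul, mul_comm (algebraMap S _ c), mul_assoc, h z hz, mul_zero]

/-- If `c • z = 0` in `S_m` then `z` dies in `S_{mc}`. -/
lemma can_eq_zero_of_mul_eq_zero {m c : S} (z : Localization.Away m)
    (hz : algebraMap S (Localization.Away m) c * z = 0) :
    can R m (Localization.Away (m * c)) (isUnit_of_dvd' (Dvd.intro _ rfl)) z = 0 := by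
  have := congrArg (can R m (Localization.Away (m * c)) (isUnit_of_dvd' (Dvd.intro _ rfl))) hz
  rw [map_mul, can_algebraMap, map_zero] at this
  have hu : IsUnit (algebraMap S (Localization.Away (m * c)) c) :=
    isUnit_of_dvd' (Dvd.intro_left _ rfl)
  exact (hu.mul_right_eq_zero).mp this

/-- Two maps from a finite type algebra into `S_m` which agree in `L` agree in some `S_{mc}`. -/
theorem exists_eq {A : Type*} [CommRing A] [Algebra R A] [Algebra.FiniteType R A] {m : S}
    (hm : m ∈ M) (u v : A →ₐ[R] Localization.Away m)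
    (h : ∀ a, can R m L (isUnit_L M L hm) (u a) = can R m L (isUnit_L M L hm) (v a)) :
    ∃ c ∈ M, ∀ a, can R m (Localization.Away (m * c)) (isUnit_of_dvd' (Dvd.intro _ rfl)) (u a) =
      can R m (Localization.Away (m * c)) (isUnit_of_dvd' (Dvd.intro _ rfl)) (v a) := by
  classical
  obtain ⟨s, hs⟩ := Algebra.FiniteType.out (R := R) (A := A)
  obtain ⟨c, hc, hz⟩ := exists_mul_eq_zero_finset (R := R) M L hm (s.image (fun a => u a - v a))
    (by
      intro z hz
      obtain ⟨a, -, rfl⟩ := Finset.mem_image.mp hz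
      rw [map_sub, h a, sub_self])
  refine ⟨c, hc, ?_⟩
  have : (can R m (Localization.Away (m * c)) (isUnit_of_dvd' (Dvd.intro _ rfl))).comp u =
      (can R m (Localization.Away (m * c)) (isUnit_of_dvd' (Dvd.intro _ rfl))).comp v := by
    apply AlgHom.ext_of_adjoin_eq_top hs
    intro a ha
    have h0 := can_eq_zero_of_mul_eq_zero (R := R) (u a - v a)
      (hz _ (Finset.mem_image_of_mem _ ha))
    rw [map_sub, sub_eq_zero] at h0
    exact h0
  exact fun a => DFunLike.congr_fun this a

/-- A map from a finitely presented algebra into `L` factors through some `S_m`. -/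
theorem exists_lift {A : Type*} [CommRing A] [Algebra R A] [Algebra.FinitePresentation R A]
    (φ : A →ₐ[R] L) :
    ∃ m, ∃ hm : m ∈ M, ∃ φ' : A →ₐ[R] Localization.Away m,
      ∀ a, can R m L (isUnit_L M L hm) (φ' a) = φ a := by
  classical
  obtain ⟨n, f, hf, T, hT⟩ := Algebra.FinitePresentation.out (R := R) (A := A)
  obtain ⟨⟨m, hm⟩, hb⟩ := IsLocalization.exist_integer_multiples_of_finite M
    (fun i : Fin n => φ (f (MvPolynomial.X i)))
  choose b hb using hb
  let y' : Fin n → Localization.Away m := fun i =>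
    IsLocalization.mk' _ (b i) (⟨m, Submonoid.mem_powers m⟩ : Submonoid.powers m)
  let ψ : MvPolynomial (Fin n) R →ₐ[R] Localization.Away m := MvPolynomial.aeval y'
  have hψ : (can R m L (isUnit_L M L hm)).comp ψ = φ.comp f := by
    apply MvPolynomial.algHom_ext
    intro i
    have h1 : y' i * algebraMap S _ m = algebraMap S _ (b i) := IsLocalization.mk'_spec _ _ _
    have h2 := congrArg (can R m L (isUnit_L M L hm)) h1
    rw [map_mul, can_algebraMap, can_algebraMap, hb i] at h2
    have hu := isUnit_L M L hm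
    simp only [AlgHom.comp_apply, ψ, MvPolynomial.aeval_X]
    apply hu.mul_left_injective
    simp only []
    rw [h2, Algebra.smul_def, mul_comm]
  obtain ⟨c, hc, hz⟩ := exists_mul_eq_zero_finset (R := R) M L hm (T.image ψ)
    (by
      intro z hz
      obtain ⟨t, ht, rfl⟩ := Finset.mem_image.mp hz
      have : t ∈ RingHom.ker f.toRingHom := by rw [← hT]; exact Ideal.subset_span ht
      have h3 := DFunLike.congr_fun hψ t
      simp only [AlgHom.comp_apply] at h3
      rw [h3]
      have : f t = 0 := this
      rw [this, map_zero])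
  let τ := can R m (Localization.Away (m * c)) (isUnit_of_dvd' (Dvd.intro _ rfl))
  have H : RingHom.ker f.toRingHom ≤ RingHom.ker (τ.comp ψ).toRingHom := by
    rw [← hT, Ideal.span_le]
    intro t ht
    have := can_eq_zero_of_mul_eq_zero (R := R) (ψ t) (hz _ (Finset.mem_image_of_mem _ ht))
    exact this
  refine ⟨m * c, M.mul_mem hm hc, AlgHom.liftOfSurjective f hf (τ.comp ψ) H, fun a => ?_⟩
  obtain ⟨p, rfl⟩ := hf a
  rw [AlgHom.liftOfSurjective_apply]
  simp only [AlgHom.comp_apply, τ]
  rw [can_can (h := isUnit_L M L hm)]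
  exact DFunLike.congr_fun hψ p

end General

section Prime

variable {R : Type*} {S S' : Type*} [CommRing R] [CommRing S] [CommRing S'] [Algebra R S]
  [Algebra R S']
variable (q : Ideal S) [q.IsPrime] (L : Type*) [CommRing L] [Algebra S L] [Algebra R L]
  [IsScalarTower R S L] [IsLocalization.AtPrime L q]
variable (q' : Ideal S') [q'.IsPrime] (L' : Type*) [CommRing L'] [Algebra S' L'] [Algebra R L']
  [IsScalarTower R S' L'] [IsLocalization.AtPrime L' q']

lemma liftAlgHom_algebraMap {T : Type*} [CommRing T] [Algebra R T] (g : S) (f : S →ₐ[R] T)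
    (hf : IsUnit (f g)) (s : S) :
    IsLocalization.Away.liftAlgHom (S := Localization.Away g) g hf (algebraMap S _ s) = f s := by
  simp [IsLocalization.Away.liftAlgHom_apply]

/-- An element of `S_g` which is a unit in `S_q` is, up to a power of `g`, an element of `S ∖ q`. -/
lemma exists_numerator {g : S} (hg : g ∈ q.primeCompl) (x : Localization.Away g)
    (hx : IsUnit (can R g L (isUnit_L q.primeCompl L hg) x)) :
    ∃ l ∈ q.primeCompl, ∃ n : ℕ, x * algebraMap S _ g ^ n = algebraMap S _ l := by
  obtain ⟨n, l, hl⟩ := IsLocalization.Away.surj g x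
  refine ⟨l, ?_, n, hl⟩
  rw [← IsLocalization.AtPrime.isUnit_to_map_iff L q]
  have := congrArg (can R g L (isUnit_L q.primeCompl L hg)) hl
  rw [map_mul, map_pow, can_algebraMap, can_algebraMap] at this
  rw [← this]
  exact hx.mul ((isUnit_L q.primeCompl L hg).pow n)

/-- A map `S_g → S'_h'` is compatible with `ε : S_q → S'_q'`. -/
def Compat (ε : L →ₐ[R] L') {g : S} (hg : g ∈ q.primeCompl) {h' : S'}
    (hh' : h' ∈ q'.primeCompl) (u : Localization.Away g →ₐ[R] Localization.Away h') : Prop :=
  ∀ x, can R h' L' (isUnit_L q'.primeCompl L' hh') (u x) =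
    ε (can R g L (isUnit_L q.primeCompl L hg) x)

theorem exists_compat [Algebra.FinitePresentation R S] (ε : L →ₐ[R] L') {g : S}
    (hg : g ∈ q.primeCompl) {h₀ : S'} (hh₀ : h₀ ∈ q'.primeCompl) :
    ∃ h', ∃ hh' : h' ∈ q'.primeCompl, h₀ ∣ h' ∧
      ∃ u : Localization.Away g →ₐ[R] Localization.Away h', Compat q L q' L' ε hg hh' u := by
  obtain ⟨m, hm, φ', hφ'⟩ := exists_lift q'.primeCompl L'
    (ε.comp (IsScalarTower.toAlgHom R S L))
  have hx : IsUnit (can R m L' (isUnit_L q'.primeCompl L' hm) (φ' g)) := by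
    rw [hφ']; exact (isUnit_L q.primeCompl L hg).map ε
  obtain ⟨l, hl, n, hln⟩ := exists_numerator q' L' hm (φ' g) hx
  have hh' : h₀ * (m * l) ∈ q'.primeCompl := mul_mem hh₀ (mul_mem hm hl)
  let τ := can R m (Localization.Away (h₀ * (m * l))) (isUnit_of_dvd' ⟨h₀ * l, by ring⟩)
  have hτu : IsUnit (τ (φ' g)) := by
    have := congrArg τ hln
    rw [map_mul, map_pow, can_algebraMap, can_algebraMap] at this
    have hl' : IsUnit (algebraMap S' (Localization.Away (h₀ * (m * l))) l) :=
      isUnit_of_dvd' ⟨h₀ * m, by ring⟩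
    rw [← this] at hl'
    exact isUnit_of_mul_isUnit_left hl'
  let u : Localization.Away g →ₐ[R] Localization.Away (h₀ * (m * l)) :=
    IsLocalization.Away.liftAlgHom (A := R) (f := τ.comp φ') g hτu
  refine ⟨h₀ * (m * l), hh', ⟨m * l, rfl⟩, u, ?_⟩
  intro x
  have : (can R (h₀ * (m * l)) L' (isUnit_L q'.primeCompl L' hh')).comp u =
      ε.comp (can R g L (isUnit_L q.primeCompl L hg)) :=
    away_hom_ext (fun s => by
      simp only [AlgHom.comp_apply, u, liftAlgHom_algebraMap, τ, can_algebraMap]
      rw [can_can (h := isUnit_L q'.primeCompl L' hm), hφ']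
      rfl)
  exact DFunLike.congr_fun this x

theorem exists_extend (ε : L →ₐ[R] L') {g : S} (hg : g ∈ q.primeCompl) {h' : S'}
    (hh' : h' ∈ q'.primeCompl) (u : Localization.Away g →ₐ[R] Localization.Away h')
    (hu : Compat q L q' L' ε hg hh' u) {g₂ : S} (hg₂ : g₂ ∈ q.primeCompl)
    (hunit : IsUnit (u (algebraMap S _ g₂))) :
    ∃ u' : Localization.Away g₂ →ₐ[R] Localization.Away h',
      (∀ s, u' (algebraMap S _ s) = u (algebraMap S _ s)) ∧ Compat q L q' L' ε hg₂ hh' u' := by
  let u' : Localization.Away g₂ →ₐ[R] Localization.Away h' :=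
    IsLocalization.Away.liftAlgHom (A := R)
      (f := u.comp (IsScalarTower.toAlgHom R S (Localization.Away g))) g₂ hunit
  have hs : ∀ s, u' (algebraMap S _ s) = u (algebraMap S _ s) := fun s => by
    simp only [u', liftAlgHom_algebraMap]; rfl
  refine ⟨u', hs, fun x => ?_⟩
  have : (can R h' L' (isUnit_L q'.primeCompl L' hh')).comp u' =
      ε.comp (can R g₂ L (isUnit_L q.primeCompl L hg₂)) :=
    away_hom_ext (fun s => by
      simp only [AlgHom.comp_apply, hs, can_algebraMap]
      rw [hu, can_algebraMap])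
  exact DFunLike.congr_fun this x

/-- **Spreading out an isomorphism of local rings** of finitely presented algebras. -/
theorem exists_away_equiv [Algebra.FinitePresentation R S] [Algebra.FinitePresentation R S']
    (e : L ≃ₐ[R] L') :
    ∃ g ∈ q.primeCompl, ∃ g' ∈ q'.primeCompl,
      Nonempty (Localization.Away g ≃ₐ[R] Localization.Away g') := by
  -- step 1
  obtain ⟨h', hh', u, hu⟩ := exists_lift q'.primeCompl L'
    ((e : L →ₐ[R] L').comp (IsScalarTower.toAlgHom R S L))
  -- step 2
  obtain ⟨g₁, hg₁, -, v₀, hv₀⟩ := exists_compat q' L' q L (e.symm : L' →ₐ[R] L) hh'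
    (h₀ := 1) (Submonoid.one_mem _)
  obtain ⟨c, hc, hcv⟩ := exists_eq q.primeCompl L hg₁ (v₀.comp u)
    (IsScalarTower.toAlgHom R S (Localization.Away g₁)) (fun s => by
      simp only [AlgHom.comp_apply]
      rw [hv₀, hu]
      simp)
  have hg : g₁ * c ∈ q.primeCompl := mul_mem hg₁ hc
  let τ₁ := can R g₁ (Localization.Away (g₁ * c)) (isUnit_of_dvd' (Dvd.intro _ rfl))
  let v : Localization.Away h' →ₐ[R] Localization.Away (g₁ * c) := τ₁.comp v₀
  have hv : Compat q' L' q L (e.symm : L' →ₐ[R] L) hh' hg v := fun y => by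
    simp only [v, τ₁, AlgHom.comp_apply]
    rw [can_can (h := isUnit_L q.primeCompl L hg₁), hv₀]
  have hvu : ∀ s, v (u s) = algebraMap S (Localization.Away (g₁ * c)) s := fun s => by
    have := hcv s
    simp only [AlgHom.comp_apply, IsScalarTower.coe_toAlgHom', can_algebraMap] at this
    exact this
  -- step 3
  obtain ⟨H₁, hH₁, hdvd, w₀, hw₀⟩ := exists_compat q L q' L' (e : L →ₐ[R] L') hg hh'
  haveI : Algebra.FinitePresentation S' (Localization.Away h') :=
    IsLocalization.Away.finitePresentation h'
  haveI : Algebra.FiniteType R (Localization.Away h') :=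
    Algebra.FiniteType.trans (S := S') inferInstance inferInstance
  obtain ⟨c', hc', hcw⟩ := exists_eq q'.primeCompl L' hH₁ (w₀.comp v)
    (can R h' (Localization.Away H₁) (isUnit_of_dvd' hdvd)) (fun y => by
      simp only [AlgHom.comp_apply]
      rw [hw₀, hv, can_can (h := isUnit_L q'.primeCompl L' hh')]
      simp)
  have hH : H₁ * c' ∈ q'.primeCompl := mul_mem hH₁ hc'
  let τ₂ := can R H₁ (Localization.Away (H₁ * c')) (isUnit_of_dvd' (Dvd.intro _ rfl))
  let w : Localization.Away (g₁ * c) →ₐ[R] Localization.Away (H₁ * c') := τ₂.comp w₀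
  have hw : Compat q L q' L' (e : L →ₐ[R] L') hg hH w := fun y => by
    simp only [w, τ₂, AlgHom.comp_apply]
    rw [can_can (h := isUnit_L q'.primeCompl L' hH₁), hw₀]
  have hwv : ∀ y, w (v y) =
      can R h' (Localization.Away (H₁ * c')) (isUnit_of_dvd' (hdvd.mul_right c')) y := fun y => by
    have := hcw y
    simp only [AlgHom.comp_apply] at this
    simp only [w, τ₂, AlgHom.comp_apply]
    rw [this, can_can]
  -- step 4
  have hx : IsUnit (can R (g₁ * c) L (isUnit_L q.primeCompl L hg)
      (v (algebraMap S' _ (H₁ * c')))) := by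
    rw [hv, can_algebraMap]
    exact (isUnit_L q'.primeCompl L' hH).map (e.symm : L' →ₐ[R] L)
  obtain ⟨l, hl, n, hln⟩ := exists_numerator q L hg _ hx
  have hG : g₁ * c * l ∈ q.primeCompl := mul_mem hg hl
  let τ₃ := can R (g₁ * c) (Localization.Away (g₁ * c * l)) (isUnit_of_dvd' (Dvd.intro _ rfl))
  have hvt : Compat q' L' q L (e.symm : L' →ₐ[R] L) hh' hG (τ₃.comp v) := fun y => by
    simp only [τ₃, AlgHom.comp_apply]
    rw [can_can (h := isUnit_L q.primeCompl L hg), hv]
  have hunitv : IsUnit ((τ₃.comp v) (algebraMap S' _ (H₁ * c'))) := by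
    have := congrArg τ₃ hln
    rw [map_mul, map_pow, can_algebraMap, can_algebraMap] at this
    have hl' : IsUnit (algebraMap S (Localization.Away (g₁ * c * l)) l) :=
      isUnit_of_dvd' (Dvd.intro_left _ rfl)
    rw [← this] at hl'
    exact isUnit_of_mul_isUnit_left hl'
  obtain ⟨v', hv's, hv'⟩ := exists_extend q' L' q L (e.symm : L' →ₐ[R] L) hh' hG (τ₃.comp v) hvt
    hH hunitv
  have hunitw : IsUnit (w (algebraMap S _ (g₁ * c * l))) := by
    rw [map_mul, map_mul]
    refine IsUnit.mul ((IsLocalization.Away.algebraMap_isUnit (g₁ * c)).map w) ?_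
    have := congrArg w hln
    rw [map_mul, map_pow, hwv, can_algebraMap] at this
    rw [← this]
    exact (IsLocalization.Away.algebraMap_isUnit (H₁ * c')).mul
      (((IsLocalization.Away.algebraMap_isUnit (g₁ * c)).map w).pow n)
  obtain ⟨w', hw's, hw'⟩ := exists_extend q L q' L' (e : L →ₐ[R] L') hg hH w hw hG hunitw
  have hw'τ : ∀ z, w' (τ₃ z) = w z := fun z => by
    have : w'.comp τ₃ = w := away_hom_ext (fun s => by
      simp only [AlgHom.comp_apply, τ₃, can_algebraMap, hw's])
    exact DFunLike.congr_fun this z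
  have hv'τ : ∀ y, v' (can R h' (Localization.Away (H₁ * c'))
      (isUnit_of_dvd' (hdvd.mul_right c')) y) = τ₃ (v y) := fun y => by
    have : v'.comp (can R h' (Localization.Away (H₁ * c'))
        (isUnit_of_dvd' (hdvd.mul_right c'))) = τ₃.comp v := away_hom_ext (fun s => by
      simp only [AlgHom.comp_apply, can_algebraMap, hv's])
    exact DFunLike.congr_fun this y
  refine ⟨g₁ * c * l, hG, H₁ * c', hH, ⟨AlgEquiv.ofAlgHom w' v' ?_ ?_⟩⟩
  · refine away_hom_ext (fun s' => ?_)
    simp only [AlgHom.comp_apply, AlgHom.id_apply, hv's]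
    rw [hw'τ, hwv, can_algebraMap]
  · refine away_hom_ext (fun s => ?_)
    simp only [AlgHom.comp_apply, AlgHom.id_apply, hw's]
    rw [← hvu s, hwv, hv'τ, hvu]
    simp only [τ₃, can_algebraMap]

end Prime

end Groth.Agent.Lib.Helper69.Spread
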