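import Groth.Agent.S0073
import Groth.Agent.Lib.Helper69.Spread

/-!
# Étale cohomology of affine schemes whose étale covers split over clopen partitions (helper69)

Let `X` be a scheme such that every étale covering of `X` is refined by a partition of `X` into
open subschemes (`SplitsCovers X`).  Then the global section functor on abelian étale sheaves is
exact (`preservesEpi_sections_of_splitsCovers`) and `H^p(X_et, F) = 0` for `p ≥ 1`
(`H_subsingleton_of_splitsCovers`).

For an affine scheme `X` this holds as soon as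
* the local ring at every closed point is strictly henselian, and
* every closed point has a basis of clopen neighbourhoods
(`H_subsingleton_of_isAffine`).  Main steps: `exists_lift_of_strictlyHenselian` (étale maps have
the lifting property against `Spec` of a strictly henselian local ring),
`exists_lift_nhds` (spreading out a lift from the local scheme to an open neighbourhood, no
germ-injectivity needed), `splitsCovers_of_locSplit` (compactness + disjointification) and
`exists_lift_of_disjoint_cover` (gluing sections of a sheaf along a partition into opens).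
-/

set_option autoImplicit false
set_option linter.style.haveILetI false
open CategoryTheory CategoryTheory.Limits AlgebraicGeometry Opposite
universe u

namespace Groth.Agent.Lib.Helper69.EtSplit

/-- The object of the small étale site given by an open subscheme. -/
noncomputable abbrev opensObj {X : Scheme.{u}} (W : X.Opens) : X.Etale := Scheme.Etale.mk W.ι

/-- The structure morphism of an open subscheme, as a morphism of the small étale site. -/
noncomputable def opensHom {X : Scheme.{u}} (W : X.Opens) : opensObj W ⟶ EtCoh.top X :=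
  MorphismProperty.Over.homMk W.ι (Category.comp_id _)

@[simp] lemma opensHom_left {X : Scheme.{u}} (W : X.Opens) : (opensHom W).left = W.ι := rfl

/-- A family of opens covering `X` gives a covering sieve of the terminal object. -/
lemma ofArrows_opensHom_mem {X : Scheme.{u}} {ι : Type*} (W : ι → X.Opens)
    (hc : ∀ x : X, ∃ i, x ∈ W i) :
    Sieve.ofArrows (fun i => opensObj (W i)) (fun i => opensHom (W i)) ∈
      X.smallEtaleTopology (EtCoh.top X) := by
  rw [Scheme.ofArrows_mem_smallEtaleTopology_iff]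
  ext x
  simp only [Set.mem_iUnion, Set.mem_range, Set.mem_univ, iff_true]
  obtain ⟨i, hi⟩ := hc x
  exact ⟨i, ⟨x, hi⟩, rfl⟩

/-- Sections of a sheaf over an étale `X`-scheme with empty underlying space are trivial. -/
lemma subsingleton_of_isEmpty {X : Scheme.{u}} (F : EtCoh.Ab X) (U : X.Etale) [IsEmpty U.left] :
    Subsingleton (F.obj.obj (op U)) := by
  have hbot : (⊥ : Sieve U) ∈ X.smallEtaleTopology U := by
    have h := (Scheme.ofArrows_mem_smallEtaleTopology_iff (X := X) (W := U) (ι := PEmpty.{1})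
      (Z := fun i => i.elim) (fun i => i.elim)).2 (by
        ext x
        exact isEmptyElim x)
    convert h
    ext V f
    simp only [Sieve.bot_apply, false_iff]
    rintro ⟨_, _, _, ⟨i⟩, _⟩
    exact i.elim
  have ht := Sheaf.isTerminalOfBotCover F U hbot
  constructor
  intro a b
  let fa : AddCommGrpCat.of (ULift.{u + 1} ℤ) ⟶ F.obj.obj (op U) :=
    AddCommGrpCat.ofHom (((zmultiplesHom _) a).comp
      (AddEquiv.ulift : ULift.{u + 1} ℤ ≃+ ℤ).toAddMonoidHom)
  let fb : AddCommGrpCat.of (ULift.{u + 1} ℤ) ⟶ F.obj.obj (op U) :=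
    AddCommGrpCat.ofHom (((zmultiplesHom _) b).comp
      (AddEquiv.ulift : ULift.{u + 1} ℤ ≃+ ℤ).toAddMonoidHom)
  have h : fa = fb := ht.hom_ext _ _
  have h1 := congrArg (fun g => g.hom ⟨1⟩) h
  have h2 : (AddEquiv.ulift : ULift.{u + 1} ℤ ≃+ ℤ) ⟨1⟩ = 1 := rfl
  simpa [fa, fb, h2] using h1

lemma isSheafFor_forget {X : Scheme.{u}} (F : EtCoh.Ab X) {U : X.Etale} (S : Sieve U)
    (hS : S ∈ X.smallEtaleTopology U) :
    Presieve.IsSheafFor (F.obj ⋙ forget AddCommGrpCat.{u + 1}) S.arrows := by
  have h1 : Presheaf.IsSheaf X.smallEtaleTopology (F.obj ⋙ forget AddCommGrpCat.{u + 1}) :=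
    (Presheaf.isSheaf_iff_isSheaf_forget X.smallEtaleTopology F.obj
      (forget AddCommGrpCat.{u + 1})).1 F.property
  exact (isSheaf_iff_isSheaf_of_type _ _).1 h1 S hS

theorem exists_lift_of_disjoint_cover {X : Scheme.{u}} {F G : EtCoh.Ab X} (e : F ⟶ G)
    {ι : Type*} (W : ι → X.Opens) (hd : ∀ i j, i ≠ j → Disjoint (W i) (W j))
    (hc : ∀ x : X, ∃ i, x ∈ W i) (s : G.obj.obj (op (EtCoh.top X)))
    (ht : ∀ i, ∃ t : F.obj.obj (op (opensObj (W i))),
      e.hom.app _ t = G.obj.map (opensHom (W i)).op s) :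
    ∃ t : F.obj.obj (op (EtCoh.top X)), e.hom.app _ t = s := by
  choose t ht using ht
  have hcov := ofArrows_opensHom_mem W hc
  have hF : Presieve.IsSheafFor (F.obj ⋙ forget AddCommGrpCat.{u + 1})
      (Presieve.ofArrows (fun i => opensObj (W i)) (fun i => opensHom (W i))) :=
    (Presieve.isSheafFor_iff_generate _).2 (isSheafFor_forget F _ hcov)
  have hG : Presieve.IsSheafFor (G.obj ⋙ forget AddCommGrpCat.{u + 1})
      (Presieve.ofArrows (fun i => opensObj (W i)) (fun i => opensHom (W i))) :=
    (Presieve.isSheafFor_iff_generate _).2 (isSheafFor_forget G _ hcov)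
  have hcompat : Presieve.Arrows.Compatible (F.obj ⋙ forget AddCommGrpCat.{u + 1})
      (fun i => opensHom (W i)) t := by
    intro i j Z gi gj h
    by_cases hij : i = j
    · subst hij
      have : gi = gj := by
        apply MorphismProperty.Over.Hom.ext
        have h1 : gi.left ≫ (W i).ι = gj.left ≫ (W i).ι := congrArg (fun k => k.left) h
        exact (cancel_mono (W i).ι).1 h1
      rw [this]
    · have : IsEmpty Z.left := by
        constructor
        intro z
        have h1 : gi.left ≫ (W i).ι = gj.left ≫ (W j).ι := congrArg (fun k => k.left) h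
        have h2 : (W i).ι (gi.left z) = (W j).ι (gj.left z) :=
          congrArg (fun k : Z.left ⟶ X => k z) h1
        have hi : (W i).ι (gi.left z) ∈ W i := (gi.left z).2
        have hj : (W i).ι (gi.left z) ∈ W j := by rw [h2]; exact (gj.left z).2
        exact (hd i j hij).le_bot ⟨hi, hj⟩
      have := subsingleton_of_isEmpty F Z
      exact Subsingleton.elim (α := F.obj.obj (op Z)) _ _
  obtain ⟨t₀, ht₀, -⟩ := (Presieve.isSheafFor_arrows_iff _ _).1 hF t hcompat
  refine ⟨t₀, ?_⟩
  apply hG.isSeparatedFor.ext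
  rintro _ _ ⟨i⟩
  change G.obj.map (opensHom (W i)).op (e.hom.app _ t₀) = G.obj.map (opensHom (W i)).op s
  rw [← ht i, ← ht₀ i]
  exact (NatTrans.naturality_apply e.hom (opensHom (W i)).op t₀).symm

open IsLocalRing in
/-- Étale morphisms have the lifting property for spectra of strictly henselian local rings. -/
theorem exists_lift_of_strictlyHenselian {R : Type u} [CommRing R] [HenselianLocalRing R]
    [IsSepClosed (ResidueField R)] {X Y : Scheme.{u}} (g : Y ⟶ X) [Etale g]
    (j : Spec (CommRingCat.of R) ⟶ X) (y : Y) (hy : g y = j (closedPoint R)) :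
    ∃ h : Spec (CommRingCat.of R) ⟶ Y, h ≫ g = j ∧ h (closedPoint R) = y := by
  obtain ⟨z, hz1, hz2⟩ := Scheme.Pullback.exists_preimage_pullback (f := g) (g := j) y
    (closedPoint R) hy
  set s : Spec (CommRingCat.of (ResidueField R)) ⟶ Spec (CommRingCat.of R) :=
    Spec.map (CommRingCat.ofHom (residue R)) with hs
  have hsd : ∀ p, s p = closedPoint R := fun p => IsLocalRing.PrimeSpectrum.comap_residue R p
  obtain ⟨l, hl1, hl2⟩ := Scheme.exists_fac_of_etale_of_isSepClosed (pullback.snd g j) s z
    (by rw [hz2, hsd])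
  obtain ⟨σ, hσ1, hσ2⟩ := Groth.Agent.S0074.exists_section (pullback.snd g j) l hl1
  refine ⟨σ ≫ pullback.fst g j, ?_, ?_⟩
  · rw [Category.assoc, pullback.condition, ← Category.assoc, hσ1, Category.id_comp]
  · rw [← hsd default, ← Scheme.Hom.comp_apply, ← Category.assoc, hσ2, Scheme.Hom.comp_apply, hl2,
      hz1]

open IsLocalRing in
/-- Spreading out a lift over the local scheme at `x` to a lift over an open neighbourhood. -/
theorem exists_lift_nhds {X Y : Scheme.{u}} [IsAffine X] (g : Y ⟶ X)
    [LocallyOfFinitePresentation g] (x : X) (h : Spec (X.presheaf.stalk x) ⟶ Y)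
    (hh : h ≫ g = X.fromSpecStalk x) :
    ∃ (U : X.Opens) (_ : x ∈ U) (hU : U.toScheme ⟶ Y), hU ≫ g = U.ι := by
  -- an affine open neighbourhood of the image of the closed point
  obtain ⟨R', ι, hι, hmem, -⟩ := Scheme.exists_affine_mem_range_and_range_subset
    (X := Y) (x := h (closedPoint _)) (U := ⊤) (by trivial)
  have hrange : Set.range h ⊆ Set.range ι := by
    rintro _ ⟨p, rfl⟩
    exact ((specializes_closedPoint p).map h.continuous).mem_open (IsOpenImmersion.isOpen_range ι) hmem
  let h' : Spec (X.presheaf.stalk x) ⟶ Spec R' := IsOpenImmersion.lift ι h hrange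
  have hh' : h' ≫ ι = h := IsOpenImmersion.lift_fac _ _ _
  let φ : Γ(X, ⊤) ⟶ R' := Spec.preimage (ι ≫ g ≫ X.toSpecΓ)
  have hφ : Spec.map φ = ι ≫ g ≫ X.toSpecΓ := Spec.map_preimage _
  let ψ : R' ⟶ X.presheaf.stalk x := Spec.preimage h'
  have hψ : Spec.map ψ = h' := Spec.map_preimage _
  have hcomp : φ ≫ ψ = X.presheaf.germ ⊤ x trivial := by
    apply Spec.map_injective
    rw [Spec.map_comp, hφ, hψ, ← Category.assoc, hh', ← Category.assoc, hh,
      Scheme.fromSpecStalk_toSpecΓ]
  have hfp : φ.hom.FinitePresentation := by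
    have : LocallyOfFinitePresentation (Spec.map φ) := by rw [hφ]; infer_instance
    exact (HasRingHomProperty.Spec_iff (P := @LocallyOfFinitePresentation)).1 this
  letI : Algebra Γ(X, ⊤) R' := φ.hom.toAlgebra
  have : Algebra.FinitePresentation Γ(X, ⊤) R' := hfp
  letI : Algebra Γ(X, ⊤) (X.presheaf.stalk x) :=
    TopCat.Presheaf.algebra_section_stalk X.presheaf (⟨x, trivial⟩ : (⊤ : X.Opens))
  have hloc : IsLocalization.AtPrime (X.presheaf.stalk x)
      ((isAffineOpen_top X).primeIdealOf ⟨x, trivial⟩).asIdeal :=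
    (isAffineOpen_top X).isLocalization_stalk ⟨x, trivial⟩
  let Ψ : R' →ₐ[Γ(X, ⊤)] X.presheaf.stalk x :=
    { ψ.hom with commutes' := fun r => congrArg (fun k => k.hom r) hcomp }
  obtain ⟨m, hm, φ', -⟩ := Groth.Agent.Lib.Helper69.Spread.exists_lift (R := Γ(X, ⊤))
    (S := Γ(X, ⊤)) ((isAffineOpen_top X).primeIdealOf ⟨x, trivial⟩).asIdeal.primeCompl
    (X.presheaf.stalk x) Ψ
  have hxm : x ∈ X.basicOpen m := by
    rw [Scheme.mem_basicOpen_top]
    exact IsLocalization.map_units (X.presheaf.stalk x)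
      (⟨m, hm⟩ : ((isAffineOpen_top X).primeIdealOf ⟨x, trivial⟩).asIdeal.primeCompl)
  refine ⟨X.basicOpen m, hxm, ?_⟩
  have hr : Set.range ((X.basicOpen m).ι ≫ X.toSpecΓ) ⊆
      Set.range (Spec.map (CommRingCat.ofHom (algebraMap Γ(X, ⊤) (Localization.Away m)))) := by
    rintro _ ⟨p, rfl⟩
    have h1 : (Spec.map (CommRingCat.ofHom (algebraMap Γ(X, ⊤) (Localization.Away m)))).opensRange
        = PrimeSpectrum.basicOpen m := Scheme.Hom.opensRange_localizationAway m
    have h2 : (X.basicOpen m).ι p ∈ X.toSpecΓ ⁻¹ᵁ PrimeSpectrum.basicOpen m := by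
      rw [Scheme.toSpecΓ_preimage_basicOpen]
      exact p.2
    have h3 : X.toSpecΓ ((X.basicOpen m).ι p) ∈ (Spec.map (CommRingCat.ofHom
        (algebraMap Γ(X, ⊤) (Localization.Away m)))).opensRange := by
      rw [h1]
      exact h2
    exact h3
  let lft : (X.basicOpen m).toScheme ⟶ Spec (CommRingCat.of (Localization.Away m)) :=
    IsOpenImmersion.lift (Spec.map (CommRingCat.ofHom (algebraMap Γ(X, ⊤) (Localization.Away m))))
      ((X.basicOpen m).ι ≫ X.toSpecΓ) hr
  have hlft : lft ≫ Spec.map (CommRingCat.ofHom (algebraMap Γ(X, ⊤) (Localization.Away m))) =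
      (X.basicOpen m).ι ≫ X.toSpecΓ := IsOpenImmersion.lift_fac _ _ _
  refine ⟨lft ≫ Spec.map (CommRingCat.ofHom φ'.toRingHom) ≫ ι, ?_⟩
  rw [← cancel_mono X.toSpecΓ]
  simp only [Category.assoc]
  rw [← hφ, ← Spec.map_comp, ← hlft]
  congr 2
  ext r
  exact φ'.commutes r

/-- Every étale neighbourhood of a closed point is split over a clopen neighbourhood. -/
def LocSplit (X : Scheme.{u}) : Prop :=
  ∀ (Y : Scheme.{u}) (g : Y ⟶ X) [Etale g] (y : Y), IsClosed ({g y} : Set X) →
    ∃ V : X.Opens, IsClopen (V : Set X) ∧ g y ∈ V ∧ ∃ h : V.toScheme ⟶ Y, h ≫ g = V.ι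

/-- Every étale covering of `X` is refined by a partition into open subsets. -/
def SplitsCovers (X : Scheme.{u}) : Prop :=
  ∀ S : Sieve (EtCoh.top X), S ∈ X.smallEtaleTopology (EtCoh.top X) →
    ∃ (ι : Type u) (W : ι → X.Opens), (∀ i j, i ≠ j → Disjoint (W i) (W j)) ∧
      (∀ x : X, ∃ i, x ∈ W i) ∧ ∀ i, S.arrows (opensHom (W i))

theorem locSplit_of_isAffine (X : Scheme.{u}) [IsAffine X]
    (h1 : ∀ x : X, IsClosed ({x} : Set X) → HenselianLocalRing (X.presheaf.stalk x) ∧
      IsSepClosed (IsLocalRing.ResidueField (X.presheaf.stalk x)))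
    (h2 : ∀ x : X, IsClosed ({x} : Set X) → ∀ U : X.Opens, x ∈ U →
      ∃ V : X.Opens, IsClopen (V : Set X) ∧ x ∈ V ∧ V ≤ U) : LocSplit X := by
  intro Y g _ y hy
  obtain ⟨hH, hS⟩ := h1 _ hy
  haveI := hH
  haveI := hS
  obtain ⟨h, hh, -⟩ := @exists_lift_of_strictlyHenselian (X.presheaf.stalk (g y)) _ hH hS _ _ g _
    (X.fromSpecStalk (g y)) y (Scheme.fromSpecStalk_closedPoint).symm
  obtain ⟨U, hxU, hU, hUg⟩ := exists_lift_nhds g (g y) h hh
  obtain ⟨V, hV, hxV, hVU⟩ := h2 _ hy U hxU
  exact ⟨V, hV, hxV, X.homOfLE hVU ≫ hU, by rw [Category.assoc, hUg, Scheme.homOfLE_ι]⟩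

set_option backward.isDefEq.respectTransparency.types false in
theorem splitsCovers_of_locSplit (X : Scheme.{u}) [CompactSpace X] (h : LocSplit X) :
    SplitsCovers X := by
  intro S hS
  have eX : X.smallEtaleTopology =
      (X.smallPretopology (P := EtCoh.etaleMP) (Q := EtCoh.etaleMP)).toGrothendieck :=
    Scheme.smallGrothendieckTopology_eq_toGrothendieck_smallPretopology X le_rfl
  rw [eX] at hS
  replace hS := (Scheme.mem_toGrothendieck_smallPretopology (EtCoh.top X) S).1 hS
  -- the set of good clopens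
  have key : ∀ x : X, IsClosed ({x} : Set X) → ∃ C : TopologicalSpace.Clopens X, x ∈ C ∧
      ∀ V : X.Opens, (V : Set X) ⊆ C → S.arrows (opensHom V) := by
    intro x hx
    obtain ⟨V, g, v, hg, -, hv⟩ := hS x
    haveI : Etale V.hom := V.prop
    have hgl : g.left = V.hom := by
      have := Over.w g.hom
      exact (Category.comp_id _).symm.trans this
    have hvx : V.hom v = x := by rw [← hgl]; exact hv
    obtain ⟨C, hC, hxC, k, hk⟩ := h V.left V.hom v (by rw [hvx]; exact hx)
    refine ⟨⟨C, hC⟩, by rw [← hvx]; exact hxC, fun W hW => ?_⟩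
    have hWC : W ≤ C := hW
    let k' : opensObj W ⟶ V := MorphismProperty.Over.homMk (X.homOfLE hWC ≫ k)
      (by
        change (X.homOfLE hWC ≫ k) ≫ V.hom = W.ι
        rw [Category.assoc, hk]
        exact X.homOfLE_ι hWC)
    have : opensHom W = k' ≫ g := by
      apply MorphismProperty.Over.Hom.ext
      change W.ι = (X.homOfLE hWC ≫ k) ≫ g.left
      rw [hgl, Category.assoc]
      erw [hk]
      exact (X.homOfLE_ι hWC).symm
    rw [this]
    exact S.downward_closed hg k'
  classical
  choose C hxC hC using key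
  -- the good clopens cover `X`
  have hcover : (Set.univ : Set X) ⊆ ⋃ x : {x : X // IsClosed ({x} : Set X)},
      ((C x.1 x.2 : TopologicalSpace.Clopens X) : Set X) := by
    by_contra hne
    have hcl : IsClosed (⋃ x : {x : X // IsClosed ({x} : Set X)},
        ((C x.1 x.2 : TopologicalSpace.Clopens X) : Set X))ᶜ :=
      (isOpen_iUnion fun x : {x : X // IsClosed ({x} : Set X)} =>
        (C x.1 x.2).isClopen.isOpen).isClosed_compl
    have hnon : ((⋃ x : {x : X // IsClosed ({x} : Set X)},
        ((C x.1 x.2 : TopologicalSpace.Clopens X) : Set X))ᶜ).Nonempty := by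
      rw [Set.nonempty_compl]
      intro h
      exact hne (by rw [h])
    obtain ⟨x₀, hx₀, hx₀c⟩ := hcl.exists_closed_singleton hnon
    exact hx₀ (Set.mem_iUnion.2 ⟨⟨x₀, hx₀c⟩, hxC x₀ hx₀c⟩)
  obtain ⟨t, ht⟩ := isCompact_univ.elim_finite_subcover
    (fun x : {x : X // IsClosed ({x} : Set X)} => ((C x.1 x.2 : TopologicalSpace.Clopens X) : Set X))
    (fun x => (C x.1 x.2).isClopen.isOpen) hcover
  obtain ⟨g, hgf, hsup, hdisj⟩ := Fintype.exists_disjointed_le
    (fun i : ↥t => C i.1.1 i.1.2)
  refine ⟨↥t, fun i => ⟨(g i : Set X), (g i).isClopen.isOpen⟩, ?_, ?_, ?_⟩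
  · intro i j hij
    rw [disjoint_iff_inf_le]
    intro x hx
    exact (hdisj hij).le_bot (show x ∈ g i ⊓ g j from hx)
  · intro x
    have h1 : x ∈ ((Finset.univ.sup fun i : ↥t => C i.1.1 i.1.2 : TopologicalSpace.Clopens X) :
        Set X) := by
      rw [TopologicalSpace.Clopens.coe_finset_sup]
      obtain ⟨i, hi⟩ := Set.mem_iUnion.1 (ht (Set.mem_univ x))
      obtain ⟨hit, hi⟩ := Set.mem_iUnion.1 hi
      exact Set.mem_iUnion₂.2 ⟨⟨i, hit⟩, Finset.mem_univ _, hi⟩
    rw [← hsup, TopologicalSpace.Clopens.coe_finset_sup] at h1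
    obtain ⟨i, -, hi⟩ := Set.mem_iUnion₂.1 h1
    exact ⟨i, hi⟩
  · intro i
    exact hC i.1.1 i.1.2 _ (hgf i)

theorem preservesEpi_sections_of_splitsCovers (X : Scheme.{u}) (h : SplitsCovers X) :
    ((sheafSections X.smallEtaleTopology AddCommGrpCat.{u + 1}).obj
      (op (EtCoh.top X))).PreservesEpimorphisms := by
  constructor
  intro F G e he
  rw [AddCommGrpCat.epi_iff_surjective]
  intro s
  have hls : Sheaf.IsLocallySurjective e := (Sheaf.isLocallySurjective_iff_epi' _ e).2 he
  have hmem := Presheaf.imageSieve_mem X.smallEtaleTopology e.hom s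
  obtain ⟨ι, W, hd, hc, hW⟩ := h _ hmem
  obtain ⟨t, ht⟩ := exists_lift_of_disjoint_cover e W hd hc s (fun i => hW i)
  exact ⟨t, ht⟩

theorem H_subsingleton_of_splitsCovers (X : Scheme.{u}) (h : SplitsCovers X) (F : EtCoh.Ab X)
    (p : ℕ) (hp : 1 ≤ p) : Subsingleton (EtCoh.H X F p) := by
  have := preservesEpi_sections_of_splitsCovers X h
  have hproj : Projective ((constantSheaf X.smallEtaleTopology
      AddCommGrpCat.{u + 1}).obj (AddCommGrpCat.of (ULift.{u + 1} ℤ))) :=
    (constantSheafAdj _ _ (Groth.Agent.S0073.isTerminal_top _)).map_projective _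
      Groth.Agent.S0073.projective_ulift_int
  obtain ⟨n, rfl⟩ : ∃ n, p = n + 1 := ⟨p - 1, by omega⟩
  exact subsingleton_of_forall_eq 0 fun x => CategoryTheory.Abelian.Ext.eq_zero_of_projective x


/-- On an affine scheme whose local rings at closed points are strictly henselian and whose closed
points have bases of clopen neighbourhoods, étale cohomology vanishes in positive degrees. -/
theorem H_subsingleton_of_isAffine (X : Scheme.{u}) [IsAffine X]
    (h1 : ∀ x : X, IsClosed ({x} : Set X) → HenselianLocalRing (X.presheaf.stalk x) ∧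
      IsSepClosed (IsLocalRing.ResidueField (X.presheaf.stalk x)))
    (h2 : ∀ x : X, IsClosed ({x} : Set X) → ∀ U : X.Opens, x ∈ U →
      ∃ V : X.Opens, IsClopen (V : Set X) ∧ x ∈ V ∧ V ≤ U) (F : EtCoh.Ab X)
    (p : ℕ) (hp : 1 ≤ p) : Subsingleton (EtCoh.H X F p) :=
  H_subsingleton_of_splitsCovers X (splitsCovers_of_locSplit X (locSplit_of_isAffine X h1 h2)) F p hp

end Groth.Agent.Lib.Helper69.EtSplit
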