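import Groth.Agent.Lib.Helper40.FPKer
import Groth.Agent.Lib.Helper43.CoherentRing
import Groth.Prelude.Def_CohB1

set_option autoImplicit false
universe u

open AlgebraicGeometry CategoryTheory CategoryTheory.Limits TensorProduct Opposite

namespace Groth.Agent.Lib.Helper69.PruferSerreT1

/-- Over a coherent ring, the kernel of a surjection of finitely presented modules is finitely
presented. -/
theorem finitePresentation_ker_of_coherent {R : Type u} [CommRing R]
    (hR : ∀ I : Ideal R, I.FG → Module.FinitePresentation R I)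
    {M N : Type u} [AddCommGroup M] [Module R M] [AddCommGroup N] [Module R N]
    [Module.FinitePresentation R M] [Module.FinitePresentation R N]
    (φ : M →ₗ[R] N) (hφ : Function.Surjective φ) :
    Module.FinitePresentation R (LinearMap.ker φ) := by
  obtain ⟨n, π, hπ⟩ := Module.Finite.exists_fin' R M
  have hL : (LinearMap.ker π).FG := Module.FinitePresentation.fg_ker π hπ
  have hK' : (LinearMap.ker (φ ∘ₗ π)).FG :=
    Module.FinitePresentation.fg_ker (φ ∘ₗ π) (hφ.comp hπ)
  haveI : Module.FinitePresentation R (LinearMap.ker (φ ∘ₗ π)) :=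
    Groth.Agent.Lib.Helper43.CoherentRing.finitePresentation_submodule hR _ hK'
  -- the restricted map `ker (φ ∘ π) → ker φ`
  let ψ : LinearMap.ker (φ ∘ₗ π) →ₗ[R] LinearMap.ker φ :=
    LinearMap.codRestrict _ (π ∘ₗ (LinearMap.ker (φ ∘ₗ π)).subtype) (fun x => by
      have h := x.2
      rw [LinearMap.mem_ker] at h ⊢
      exact h)
  have hψs : Function.Surjective ψ := by
    rintro ⟨m, hm⟩
    obtain ⟨y, rfl⟩ := hπ m
    refine ⟨⟨y, ?_⟩, Subtype.ext rfl⟩
    rw [LinearMap.mem_ker] at hm ⊢
    exact hm
  have hle : LinearMap.ker π ≤ LinearMap.ker (φ ∘ₗ π) := by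
    intro y hy
    rw [LinearMap.mem_ker] at hy ⊢
    simp [hy]
  have hker : (LinearMap.ker ψ).FG := by
    have : LinearMap.ker ψ = LinearMap.range (Submodule.inclusion hle) := by
      ext x
      constructor
      · intro hx
        rw [LinearMap.mem_ker] at hx
        have hx' : π x.1 = 0 := congrArg Subtype.val hx
        exact ⟨⟨x.1, hx'⟩, Subtype.ext rfl⟩
      · rintro ⟨y, rfl⟩
        rw [LinearMap.mem_ker]
        exact Subtype.ext y.2
    rw [this, LinearMap.range_eq_map]
    refine Submodule.FG.map _ ?_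
    exact (Submodule.fg_top _).2 hL
  exact Module.finitePresentation_of_surjective ψ hψs hker

open Scheme.Modules Groth.Agent.Lib.Lead.QCohAff Groth.Agent.Lib.Lead.PullbackAff
  Groth.Agent.Lib.Lead.CohAff Groth.Agent.Lib.Helper21.QCohSections

/-- **T1**: on a locally coherent scheme, the kernel of an epimorphism of finitely presented
modules is finitely presented. -/
theorem isFP_kernel {X : Scheme.{u}} {M N : X.Modules} (φ : M ⟶ N) [Epi φ]
    (hM : CohB1.IsFP M) (hN : CohB1.IsFP N)
    (hcoh : ∀ x : X, ∃ U : X.Opens, IsAffineOpen U ∧ x ∈ U ∧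
      ∀ I : Ideal Γ(X, U), I.FG → Module.FinitePresentation Γ(X, U) I) :
    CohB1.IsFP (kernel φ) := by
  haveI := hM
  haveI := hN
  haveI hqM : M.IsQuasicoherent :=
    SheafOfModules.QuasicoherentData.isQuasicoherent (R := X.ringCatSheaf) (M := M)
      (SheafOfModules.IsFinitePresentation.exists_quasicoherentData
        (R := X.ringCatSheaf) M).choose
  haveI hqN : N.IsQuasicoherent :=
    SheafOfModules.QuasicoherentData.isQuasicoherent (R := X.ringCatSheaf) (M := N)
      (SheafOfModules.IsFinitePresentation.exists_quasicoherentData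
        (R := X.ringCatSheaf) N).choose
  haveI : (kernel φ).IsQuasicoherent := Groth.Agent.Lib.Helper21.QCohKernel.isQuasicoherent_kernel φ
  apply Groth.Agent.Lib.Helper2.FinLocFreeAff.isFinitePresentation_of_sections
  intro x
  obtain ⟨U, hU, hxU, hc⟩ := hcoh x
  refine ⟨U, hU, hxU, ?_⟩
  haveI : Module.FinitePresentation Γ(X, U) Γ(M, U) :=
    Groth.Agent.Lib.Helper2.FinTypeAff.finitePresentation_sections M hU
  haveI : Module.FinitePresentation Γ(X, U) Γ(N, U) :=
    Groth.Agent.Lib.Helper2.FinTypeAff.finitePresentation_sections N hU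
  have hsurj : Function.Surjective (appL φ U) := app_surjective_of_epi φ hU
  haveI : Module.FinitePresentation Γ(X, U) ↥(LinearMap.ker (appL φ U)) :=
    finitePresentation_ker_of_coherent hc (appL φ U) hsurj
  let ψ : Γ(kernel φ, U) →ₗ[Γ(X, U)] ↥(LinearMap.ker (appL φ U)) :=
    LinearMap.codRestrict _ (appL (kernel.ι φ) U) (fun t => by
      rw [LinearMap.mem_ker, appL_apply, appL_apply]
      exact Groth.Agent.Lib.Helper2.KerSec.app_kernelι_comp φ U t)
  have hψi : Function.Injective ψ := by
    intro s t hst
    apply Groth.Agent.Lib.Helper2.KerSec.app_kernelι_injective φ U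
    exact congrArg Subtype.val hst
  have hψs : Function.Surjective ψ := by
    rintro ⟨s, hs⟩
    obtain ⟨t, ht⟩ := Groth.Agent.Lib.Helper2.KerSec.exists_of_app_eq_zero φ U s
      (by simpa using hs)
    exact ⟨t, Subtype.ext ht⟩
  exact Module.FinitePresentation.of_equiv (LinearEquiv.ofBijective ψ ⟨hψi, hψs⟩).symm

end Groth.Agent.Lib.Helper69.PruferSerreT1
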