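import Mathlib
import Groth.Agent.Lib.Helper87.HensMain
import Groth.Agent.Lib.Helper77.FlatDepth2
import Groth.Agent.Lib.Helper77.RegularCompletion
import Groth.Agent.Lib.Helper56.Serre1
import Groth.Agent.S9438

/-!
# Fibres of (strict) henselizations at arbitrary primes (helper69)

For `H = H R Ω` (helper87's ind-étale construction) and a prime `Q` of `H` over `p ⊂ R`, the local
homomorphism `R_p → H_Q` satisfies `p H_Q = Q H_Q` (`IsFib`).  Consequences for flat Noetherian
situations: depth and dimension of `R_p` and `H_Q` agree.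
-/

set_option autoImplicit false
universe u

namespace Groth.Agent.Lib.Helper69.HensFibre

open Groth.Agent.Lib.Helper87.Hens IsLocalRing LocCoh

/-- Property: every element of a prime `Q` is, up to an element outside `Q`, in the extension of the
prime below. (Fibres are reduced of dimension zero.) -/
def IsFib (R S : Type*) [CommRing R] [CommRing S] [Algebra R S] : Prop :=
  ∀ (Q : Ideal S) [Q.IsPrime], ∀ x ∈ Q, ∃ u ∉ Q, u * x ∈ (Q.under R).map (algebraMap R S)

theorem isFib_of_unramified (R A : Type*) [CommRing R] [CommRing A] [Algebra R A]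
    [Algebra.EssFiniteType R A] [Algebra.FormallyUnramified R A] : IsFib R A := by
  intro Q _ y hy
  haveI : Q.LiesOver (Q.under R) := ⟨rfl⟩
  letI := Localization.AtPrime.algebraOfLiesOver (Q.under R) Q
  have h := ((Algebra.isUnramifiedAt_iff_map_eq R (Q.under R) Q).mp inferInstance).2
  have hy' : algebraMap A (Localization.AtPrime Q) y ∈ maximalIdeal (Localization.AtPrime Q) :=
    (IsLocalization.AtPrime.to_map_mem_maximal_iff _ Q y).mpr hy
  rw [← h, IsScalarTower.algebraMap_eq R A (Localization.AtPrime Q), ← Ideal.map_map,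
    IsLocalization.mem_map_algebraMap_iff Q.primeCompl] at hy'
  obtain ⟨⟨a, s⟩, has⟩ := hy'
  rw [← map_mul, IsLocalization.eq_iff_exists Q.primeCompl] at has
  obtain ⟨c, hc⟩ := has
  refine ⟨(c : A) * (s : A), (c * s).2, ?_⟩
  have : (c : A) * (s : A) * y = c * a := by
    have hc' : (c : A) * (y * (s : A)) = c * a := hc
    rw [← hc']; ring
  rw [this]
  exact Ideal.mul_mem_left _ _ a.2

section H

variable {R : Type u} [CommRing R] {Ω : Type u} [Field Ω] [Algebra R Ω]

theorem H.isFib : IsFib R (H R Ω) := by
  intro Q _ x hx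
  obtain ⟨i, y, rfl⟩ := H.exists_of x
  let Q' : Ideal i.L := Q.comap (H.of i).toRingHom
  have hQ' : Q'.IsPrime := Ideal.comap_isPrime _ _
  have hcomp : (H.of i).toRingHom.comp (algebraMap R i.L) = algebraMap R (H R Ω) := by
    ext r
    simp
  have hu : Q'.under R = Q.under R := by
    show Ideal.comap (algebraMap R i.L) (Q.comap (H.of i).toRingHom) = _
    rw [Ideal.comap_comap, hcomp]
  obtain ⟨t, ht, hty⟩ := isFib_of_unramified R i.L Q' y hx
  refine ⟨H.of i t, ht, ?_⟩
  have := Ideal.mem_map_of_mem (H.of i).toRingHom hty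
  rw [Ideal.map_map, hcomp, hu] at this
  simpa using this

end H

theorem IsFib.of_algEquiv {R S S' : Type*} [CommRing R] [CommRing S] [CommRing S'] [Algebra R S]
    [Algebra R S'] (e : S ≃ₐ[R] S') (h : IsFib R S') : IsFib R S := by
  intro Q _ x hx
  let Q' : Ideal S' := Q.comap (e.symm : S' →+* S)
  have hQ' : Q'.IsPrime := Ideal.comap_isPrime _ _
  have hu : Q'.under R = Q.under R := by
    show Ideal.comap (algebraMap R S') (Q.comap (e.symm : S' →+* S)) = _
    rw [Ideal.comap_comap]
    congr 1
    ext r
    simp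
  obtain ⟨u, hu', hux⟩ := h Q' (e x) (by show e.symm (e x) ∈ Q; simpa using hx)
  refine ⟨e.symm u, hu', ?_⟩
  have := Ideal.mem_map_of_mem (e.symm : S' →+* S) hux
  rw [Ideal.map_map, hu] at this
  have hc : (e.symm : S' →+* S).comp (algebraMap R S') = algebraMap R S := by
    ext r
    simp
  rw [hc] at this
  simpa using this

/-- Under `IsFib`, `p S_q = q S_q`. -/
theorem IsFib.map_eq_maximalIdeal {R S : Type*} [CommRing R] [CommRing S] [Algebra R S]
    (h : IsFib R S) (q : Ideal S) [q.IsPrime] :
    (q.under R).map (algebraMap R (Localization.AtPrime q)) =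
      maximalIdeal (Localization.AtPrime q) := by
  apply le_antisymm
  · rw [Ideal.map_le_iff_le_comap]
    intro r hr
    rw [Ideal.mem_comap, IsScalarTower.algebraMap_apply R S (Localization.AtPrime q),
      IsLocalization.AtPrime.to_map_mem_maximal_iff _ q]
    exact hr
  · intro z hz
    obtain ⟨x, s, rfl⟩ := IsLocalization.exists_mk'_eq q.primeCompl z
    rw [IsLocalization.AtPrime.mk'_mem_maximal_iff _ q] at hz
    obtain ⟨u, hu, hux⟩ := h q x hz
    have h1 : IsLocalization.mk' (Localization.AtPrime q) x s =
        algebraMap S (Localization.AtPrime q) (u * x) *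
          IsLocalization.mk' (Localization.AtPrime q) 1 (⟨u, hu⟩ * s) := by
      rw [IsLocalization.mul_mk'_eq_mk'_of_mul, mul_one, IsLocalization.mk'_eq_iff_eq]
      simp only [Submonoid.coe_mul]
      ring_nf
    rw [h1]
    apply Ideal.mul_mem_right
    rw [IsScalarTower.algebraMap_eq R S (Localization.AtPrime q), ← Ideal.map_map]
    exact Ideal.mem_map_of_mem _ hux

section Local

/-- the fibre over the closed point when `m_A B = m_B`. -/
theorem fib_zero (B : Type u) [CommRing B] [IsLocalRing B] [IsNoetherianRing B] (I : Ideal B)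
    (hI : I = maximalIdeal B) [IsLocalRing (B ⧸ I)] :
    depth (B ⧸ I) (B ⧸ I) = 0 ∧ ringKrullDim (B ⧸ I) = 0 := by
  subst hI
  have hd : ringKrullDim (B ⧸ maximalIdeal B) = 0 :=
    Groth.Agent.Lib.Helper67.ringKrullDim_quotient_maximalIdeal
  refine ⟨?_, hd⟩
  obtain ⟨e, he⟩ := Groth.Agent.Lib.Helper77.FlatDepth.exists_nat_depth (B ⧸ maximalIdeal B)
  have := Groth.Agent.Lib.Helper77.FlatDepth.depth_le_dim_nat (B ⧸ maximalIdeal B) 0 e
    (by rw [hd]; rfl) he
  rw [he]
  have : e = 0 := by omega
  rw [this]; rfl

variable (A B : Type u) [CommRing A] [CommRing B] [IsLocalRing A] [IsLocalRing B]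
  [Algebra A B] [IsLocalHom (algebraMap A B)] [IsNoetherianRing A] [IsNoetherianRing B]
  [Module.Flat A B]

theorem depth_eq_of_map_maximalIdeal
    (h : (maximalIdeal A).map (algebraMap A B) = maximalIdeal B) :
    depth B B = depth A A := by
  rw [Groth.Agent.Lib.Helper77.FlatDepth.depth_ring_eq_add A B, (fib_zero B _ h).1, add_zero]

theorem dim_eq_of_map_maximalIdeal
    (h : (maximalIdeal A).map (algebraMap A B) = maximalIdeal B) :
    ringKrullDim B = ringKrullDim A := by
  rw [Groth.Agent.Lib.Helper77.FlatDepth.dim_eq_add A B, (fib_zero B _ h).2, add_zero]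

end Local

section Prime

variable {R S : Type u} [CommRing R] [CommRing S] [Algebra R S] [IsNoetherianRing R]
  [IsNoetherianRing S] [Module.Flat R S]

/-- data at a prime `q` of `S` over `p = q ∩ R`. -/
theorem IsFib.prime_data (h : IsFib R S) (q : Ideal S) [q.IsPrime] :
    depth (Localization.AtPrime q) (Localization.AtPrime q) =
        depth (Localization.AtPrime (q.under R)) (Localization.AtPrime (q.under R)) ∧
      ringKrullDim (Localization.AtPrime q) = ringKrullDim (Localization.AtPrime (q.under R)) ∧
      (IsRegularLocalRing (Localization.AtPrime (q.under R)) →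
        IsRegularLocalRing (Localization.AtPrime q)) := by
  haveI : q.LiesOver (q.under R) := ⟨rfl⟩
  letI := Localization.AtPrime.algebraOfLiesOver (q.under R) q
  haveI : IsLocalHom (algebraMap (Localization.AtPrime (q.under R)) (Localization.AtPrime q)) := by
    rw [Localization.AtPrime.IsLiesOverAlgebra.algebraMap_eq]
    exact Localization.isLocalHom_localRingHom _ _ _ _
  have hm : (maximalIdeal (Localization.AtPrime (q.under R))).map
      (algebraMap (Localization.AtPrime (q.under R)) (Localization.AtPrime q)) =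
        maximalIdeal (Localization.AtPrime q) := by
    rw [← Localization.AtPrime.map_eq_maximalIdeal, Ideal.map_map,
      ← IsScalarTower.algebraMap_eq R (Localization.AtPrime (q.under R)) (Localization.AtPrime q)]
    exact h.map_eq_maximalIdeal q
  refine ⟨depth_eq_of_map_maximalIdeal _ _ hm, dim_eq_of_map_maximalIdeal _ _ hm, fun hreg => ?_⟩
  exact Groth.Agent.Lib.Helper77.RegularCompletion.regular_of_flat_of_map_maximalIdeal _ _ hm

theorem IsFib.hasSk_iff [Module.FaithfullyFlat R S] (h : IsFib R S) (k : ℕ) :
    HasSk k S S ↔ HasSk k R R := by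
  rw [Groth.Agent.Lib.Helper56.hasSk_self_iff, Groth.Agent.Lib.Helper56.hasSk_self_iff]
  constructor
  · intro hS p hp
    obtain ⟨q, hq, hlo⟩ := Ideal.exists_isPrime_liesOver_of_faithfullyFlat (B := S) p
    have hpq : q.under R = p := hlo.over.symm
    have := hS q
    obtain ⟨h1, h2, -⟩ := h.prime_data q
    rw [h1, h2] at this
    subst hpq
    exact this
  · intro hR q hq
    obtain ⟨h1, h2, -⟩ := h.prime_data q
    rw [h1, h2]
    exact hR (q.under R)

theorem IsFib.hasRk_iff [Module.FaithfullyFlat R S] (h : IsFib R S) (k : ℕ) :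
    HasRk k S ↔ HasRk k R := by
  constructor
  · intro hS
    exact (Groth.Agent.S9438.result k R S hS).2
  · intro hR q hq hht
    obtain ⟨-, h2, h3⟩ := h.prime_data q
    apply h3
    apply hR
    rw [IsLocalization.AtPrime.ringKrullDim_eq_height q,
      IsLocalization.AtPrime.ringKrullDim_eq_height (q.under R)] at h2
    have : (q.under R).height = q.height := by exact_mod_cast h2.symm
    rw [this]
    exact hht

end Prime

section CM

variable (R S : Type u) [CommRing R] [CommRing S] [IsLocalRing R] [IsLocalRing S]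
  [Algebra R S] [IsLocalHom (algebraMap R S)] [IsNoetherianRing R] [IsNoetherianRing S]
  [Module.Flat R S]

theorem isCM_iff_of_map_maximalIdeal
    (h : (maximalIdeal R).map (algebraMap R S) = maximalIdeal S) :
    IsCohenMacaulayLocalRing S ↔ IsCohenMacaulayLocalRing R := by
  obtain ⟨dR, hdR⟩ := Groth.Agent.Lib.Helper77.FlatDepth.exists_nat_dim R
  obtain ⟨eR, heR⟩ := Groth.Agent.Lib.Helper77.FlatDepth.exists_nat_depth R
  have hd := dim_eq_of_map_maximalIdeal R S h
  have he := depth_eq_of_map_maximalIdeal R S h
  rw [Groth.Agent.Lib.Helper77.FlatDepth.isCM_iff_nat S dR eR (hd.trans hdR) (he.trans heR),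
    Groth.Agent.Lib.Helper77.FlatDepth.isCM_iff_nat R dR eR hdR heR]

end CM

end Groth.Agent.Lib.Helper69.HensFibre
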