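import Mathlib
import Groth.Agent.S2069
import Groth.Agent.Lib.Helper74.FlatFiber
import Groth.Agent.Lib.Helper69.HensFibre

/-!
# Associated primes along a flat map with "discrete" fibres (helper69)

If `R → S` is a flat map of Noetherian rings such that there are no strict inclusions between primes
of `S` lying over the same prime of `R`, then `P ∈ Ass(S) ↔ P ∩ R ∈ Ass(R)`.
-/

set_option autoImplicit false
universe u

namespace Groth.Agent.Lib.Helper69.HensAss

open TensorProduct

theorem mem_associatedPrimes_iff {R S : Type u} [CommRing R] [IsNoetherianRing R] [CommRing S]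
    [IsNoetherianRing S] [Algebra R S] [Module.Flat R S]
    (hinc : ∀ (P P' : Ideal S) [P.IsPrime] [P'.IsPrime], P' ≤ P →
      P'.comap (algebraMap R S) = P.comap (algebraMap R S) → P' = P)
    (P : Ideal S) [hPp : P.IsPrime] :
    P ∈ associatedPrimes S S ↔ P.comap (algebraMap R S) ∈ associatedPrimes R R := by
  have key := Groth.Agent.S2069.result (R := R) (S := S) (M := R) (N := S)
  have e1 : associatedPrimes S (S ⊗[R] R) = associatedPrimes S S :=
    LinearEquiv.AssociatedPrimes.eq (TensorProduct.AlgebraTensorModule.rid R S S)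
  rw [← e1, key]
  simp only [Set.mem_iUnion]
  constructor
  · rintro ⟨p, hp, hP⟩
    haveI : p.IsPrime := hp.isPrime
    have hP' := (isAssociatedPrime_iff.mp hP)
    obtain ⟨-, x, hx⟩ := hP'
    have hxne : x ≠ 0 := by
      rintro rfl
      apply hPp.ne_top
      rw [hx, Ideal.eq_top_iff_one, Submodule.mem_colon_singleton]
      simp
    obtain ⟨n, rfl⟩ := Submodule.Quotient.mk_surjective _ x
    have hcomap : P.comap (algebraMap R S) = p := by
      apply le_antisymm
      · intro r hr
        by_contra hrp
        rw [Ideal.mem_comap, hx, Submodule.mem_colon_singleton, Submodule.mem_bot,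
          ← Submodule.Quotient.mk_smul, Submodule.Quotient.mk_eq_zero,
          Groth.Agent.Lib.Helper74.FiberAss.mem_map_smul_top_iff, algebraMap_smul] at hr
        have := Groth.Agent.Lib.Helper74.FiberAss.smul_mem_smul_top_of_flat S p hrp hr
        apply hxne
        rw [Submodule.Quotient.mk_eq_zero, Groth.Agent.Lib.Helper74.FiberAss.mem_map_smul_top_iff]
        exact this
      · intro r hr
        rw [Ideal.mem_comap, hx, Submodule.mem_colon_singleton, Submodule.mem_bot,
          ← Submodule.Quotient.mk_smul, Submodule.Quotient.mk_eq_zero]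
        exact Submodule.smul_mem_smul (Ideal.mem_map_of_mem _ hr) Submodule.mem_top
    rw [hcomap]; exact hp
  · intro hp
    refine ⟨_, hp, ?_⟩
    set I : Ideal S := (P.comap (algebraMap R S)).map (algebraMap R S) with hI
    have hIeq : (I • (⊤ : Submodule S S)) = I := by
      rw [smul_eq_mul, Ideal.mul_top]
    apply Module.associatedPrimes.minimalPrimes_annihilator_subset_associatedPrimes S
    have hann : Module.annihilator S (S ⧸ I • (⊤ : Submodule S S)) = I := by
      rw [hIeq]; exact Ideal.annihilator_quotient
    rw [hann]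
    refine ⟨⟨hPp, Ideal.map_comap_le⟩, ?_⟩
    rintro P' ⟨hP'p, hIP'⟩ hP'P
    have : P'.comap (algebraMap R S) = P.comap (algebraMap R S) := by
      apply le_antisymm (Ideal.comap_mono hP'P)
      exact (Ideal.le_comap_map).trans (Ideal.comap_mono hIP')
    exact (hinc P P' hP'P this).ge

open Groth.Agent.Lib.Helper69.HensFibre in
/-- no strict inclusions between primes in a fibre of an `IsFib` map. -/
theorem eq_of_le_of_isFib {R S : Type*} [CommRing R] [CommRing S] [Algebra R S] (h : IsFib R S)
    (P P' : Ideal S) [hP : P.IsPrime] [hP' : P'.IsPrime] (hle : P' ≤ P)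
    (hu : P'.comap (algebraMap R S) = P.comap (algebraMap R S)) : P' = P := by
  apply le_antisymm hle
  intro x hx
  obtain ⟨u, hu1, hu2⟩ := h P x hx
  have h1 : (P.under R).map (algebraMap R S) ≤ P' := by
    change (P.comap (algebraMap R S)).map (algebraMap R S) ≤ P'
    rw [← hu]; exact Ideal.map_comap_le
  have h2 := h1 hu2
  rcases hP'.mem_or_mem h2 with h3 | h3
  · exact absurd (hle h3) hu1
  · exact h3

open Groth.Agent.Lib.Helper69.HensFibre in
theorem mem_associatedPrimes_iff_of_isFib {R S : Type u} [CommRing R] [IsNoetherianRing R]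
    [CommRing S] [IsNoetherianRing S] [Algebra R S] [Module.Flat R S] (h : IsFib R S)
    (P : Ideal S) [hPp : P.IsPrime] :
    P ∈ associatedPrimes S S ↔ P.comap (algebraMap R S) ∈ associatedPrimes R R :=
  mem_associatedPrimes_iff (fun P P' _ _ hle hu => eq_of_le_of_isFib h P P' hle hu) P

end Groth.Agent.Lib.Helper69.HensAss
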