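import Mathlib

/-!
# [U] for helper40's S0833: an Artin–Rees vanishing lemma
-/

set_option autoImplicit false
universe u

namespace Groth.Agent.Lib.Helper69.ARHomU

theorem eq_zero_of_killed_of_forall_mem {B : Type u} [CommRing B] [IsNoetherianRing B]
    (J : Ideal B) {N : Type u} [AddCommGroup N] [Module B N] [Module.Finite B N] (c : ℕ) (y : N)
    (hy : ∀ a ∈ J ^ c, a • y = 0) (hy' : ∀ n : ℕ, y ∈ J ^ (n + 1) • (⊤ : Submodule B N)) :
    y = 0 := by
  -- the submodule of elements killed by `J ^ c`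
  let T : Submodule B N :=
    { carrier := {z | ∀ a ∈ J ^ c, a • z = 0}
      add_mem' := fun {z w} hz hw a ha => by rw [smul_add, hz a ha, hw a ha, add_zero]
      zero_mem' := fun a _ => smul_zero a
      smul_mem' := fun b z hz a ha => by rw [smul_comm, hz a ha, smul_zero] }
  have hyT : y ∈ T := hy
  obtain ⟨k, hk⟩ := Ideal.exists_pow_inf_eq_pow_smul J T
  have hJT : J ^ c • T = ⊥ := by
    rw [eq_bot_iff]
    refine Submodule.smul_le.2 ?_
    intro a ha z hz
    rw [Submodule.mem_bot]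
    exact hz a ha
  have h1 : y ∈ J ^ (k + c) • (⊤ : Submodule B N) ⊓ T := by
    refine ⟨?_, hyT⟩
    rcases Nat.eq_zero_or_pos (k + c) with h0 | hpos
    · rw [h0, pow_zero, Ideal.one_eq_top, Submodule.top_smul]
      trivial
    · obtain ⟨m, hm⟩ := Nat.exists_eq_succ_of_ne_zero (Nat.pos_iff_ne_zero.1 hpos)
      rw [hm]
      exact hy' m
  rw [hk (k + c) (Nat.le_add_right k c), Nat.add_sub_cancel_left] at h1
  have h2 : J ^ c • (J ^ k • (⊤ : Submodule B N) ⊓ T) ≤ J ^ c • T :=
    Submodule.smul_mono le_rfl inf_le_right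
  have h3 := h2 h1
  rw [hJT, Submodule.mem_bot] at h3
  exact h3

end Groth.Agent.Lib.Helper69.ARHomU
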