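import Mathlib

set_option linter.style.haveILetI false
set_option linter.unusedSectionVars false
set_option backward.isDefEq.respectTransparency false
set_option backward.defeqAttrib.useBackward true
open CategoryTheory Limits AlgebraicGeometry MorphismProperty Opposite

universe u
namespace Groth.Agent.Lib.Helper69

/-- the property of being an affine morphism, as a `MorphismProperty` -/
abbrev affProp : MorphismProperty Scheme.{u} := @IsAffineHom

instance affProp_hasAff : HasAffineProperty affProp.{u} (fun X _ _ _ ↦ IsAffine X) :=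
  inferInstanceAs (HasAffineProperty @IsAffineHom fun X _ _ _ ↦ IsAffine X)

instance affProp_local : IsZariskiLocalAtTarget affProp.{u} := inferInstance

/-- schemes affine over `X` -/
abbrev AffOver (X : Scheme.{u}) : Type (u + 1) := affProp.{u}.Over ⊤ X

instance affOver_isAffineHom {X : Scheme.{u}} (W : AffOver X) : IsAffineHom W.hom := W.prop

instance affOver_isAffine {X : Scheme.{u}} [IsAffine X] (W : AffOver X) : IsAffine W.left :=
  isAffine_of_isAffineHom (Y := X) W.hom

/-- global sections, as a functor to `Γ(X)`-algebras -/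
noncomputable def Γfun (X : Scheme.{u}) : (AffOver X)ᵒᵖ ⥤ Under Γ(X, ⊤) where
  obj W := Under.mk (Y := Γ(W.unop.left, ⊤)) W.unop.hom.appTop
  map {W W'} m := Under.homMk (m.unop.left.appTop : Γ(W.unop.left, ⊤) ⟶ Γ(W'.unop.left, ⊤)) (by
    dsimp
    rw [← Scheme.Hom.comp_appTop, MorphismProperty.Over.w])
  map_id W := by
    apply Under.UnderMorphism.ext
    simp
  map_comp m m' := by
    apply Under.UnderMorphism.ext
    simp

@[simp] lemma Γfun_obj_hom (X : Scheme.{u}) (W : (AffOver X)ᵒᵖ) :
    ((Γfun X).obj W).hom = W.unop.hom.appTop := rfl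

@[simp] lemma Γfun_map_right (X : Scheme.{u}) {W W' : (AffOver X)ᵒᵖ} (m : W ⟶ W') :
    ((Γfun X).map m).right = m.unop.left.appTop := rfl

instance Γfun_faithful (X : Scheme.{u}) [IsAffine X] : (Γfun X).Faithful where
  map_injective {W W'} m₁ m₂ h := by
    have h1 : m₁.unop.left.appTop = m₂.unop.left.appTop := congrArg (fun k => k.right) h
    apply Quiver.Hom.unop_inj
    apply MorphismProperty.Over.Hom.ext
    exact ext_of_isAffine h1

instance Γfun_full (X : Scheme.{u}) [IsAffine X] : (Γfun X).Full where
  map_surjective {W W'} φ := by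
    let φr : Γ(W.unop.left, ⊤) ⟶ Γ(W'.unop.left, ⊤) := φ.right
    have hφ : W.unop.hom.appTop ≫ φr = W'.unop.hom.appTop := Under.w φ
    let u : W'.unop.left ⟶ W.unop.left :=
      W'.unop.left.toSpecΓ ≫ Spec.map φr ≫ W.unop.left.isoSpec.inv
    have hu : u.appTop = φr := by
      apply Spec.map_injective
      have h1 : u ≫ W.unop.left.toSpecΓ = W'.unop.left.toSpecΓ ≫ Spec.map φr := by
        simp only [u, Category.assoc]
        rw [Scheme.isoSpec_inv_toSpecΓ, Category.comp_id]
      rw [Scheme.toSpecΓ_naturality] at h1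
      exact (cancel_epi _).mp h1
    have hw : u ≫ W.unop.hom = W'.unop.hom := by
      apply ext_of_isAffine (Y := X)
      rw [Scheme.Hom.comp_appTop, hu]
      exact hφ
    refine ⟨(MorphismProperty.Over.homMk u hw trivial : W'.unop ⟶ W.unop).op, ?_⟩
    apply Under.UnderMorphism.ext
    exact hu

instance Γfun_essSurj (X : Scheme.{u}) [IsAffine X] : (Γfun X).EssSurj where
  mem_essImage B := by
    let W : AffOver X := MorphismProperty.Over.mk ⊤ (Spec.map B.hom ≫ X.isoSpec.inv)
      (by infer_instance)
    refine ⟨op W, ⟨Under.isoMk (Scheme.ΓSpecIso B.right) ?_⟩⟩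
    show (Spec.map B.hom ≫ X.isoSpec.inv).appTop ≫ (Scheme.ΓSpecIso B.right).hom = B.hom
    rw [Scheme.Hom.comp_appTop, Category.assoc, Scheme.ΓSpecIso_naturality]
    have : X.isoSpec.inv.appTop ≫ (Scheme.ΓSpecIso Γ(X, ⊤)).hom = 𝟙 _ := by
      rw [← Scheme.toSpecΓ_appTop, ← Scheme.isoSpec_hom, ← Scheme.Hom.comp_appTop]
      simp
    rw [reassoc_of% this]

instance Γfun_isEquivalence (X : Scheme.{u}) [IsAffine X] : (Γfun X).IsEquivalence where

section pb

variable {X X' : Scheme.{u}} (g : X' ⟶ X)

/-- base change of affine schemes over `X` along `g` -/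
noncomputable abbrev pbFun : AffOver X ⥤ AffOver X' :=
  MorphismProperty.Over.pullback affProp.{u} ⊤ g

variable [IsAffine X] [IsAffine X']

lemma isPushout_pb (W : AffOver X) :
    IsPushout W.hom.appTop g.appTop (pullback.fst W.hom g).appTop (pullback.snd W.hom g).appTop :=
  isPushout_appTop_of_isPullback (X := W.left) (Y := X') (Z := X) (IsPullback.of_hasPullback W.hom g)

/-- compatibility of global sections with base change: components -/
noncomputable def pbIsoApp (W : (AffOver X)ᵒᵖ) :
    ((pbFun g).op ⋙ Γfun X').obj W ≅ (Γfun X ⋙ Under.pushout g.appTop).obj W :=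
  Under.isoMk (isPushout_pb g W.unop).isoPushout (by
    show (pullback.snd W.unop.hom g).appTop ≫ _ = pushout.inr _ _
    exact (isPushout_pb g W.unop).inr_isoPushout_hom)

lemma pbIsoApp_hom_right (W : (AffOver X)ᵒᵖ) :
    (pbIsoApp g W).hom.right = (isPushout_pb g W.unop).isoPushout.hom := rfl

/-- compatibility of global sections with base change -/
noncomputable def pbIso : (pbFun g).op ⋙ Γfun X' ≅ Γfun X ⋙ Under.pushout g.appTop :=
  NatIso.ofComponents (pbIsoApp g) (by
    intro W W' m
    apply Under.UnderMorphism.ext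
    apply (isPushout_pb g W.unop).hom_ext
    · show (pullback.fst W.unop.hom g).appTop ≫ (((pbFun g).map m.unop).left.appTop ≫
        (isPushout_pb g W'.unop).isoPushout.hom) =
        (pullback.fst W.unop.hom g).appTop ≫ ((isPushout_pb g W.unop).isoPushout.hom ≫
          pushout.desc (m.unop.left.appTop ≫ pushout.inl _ _) (pushout.inr _ _) _)
      rw [← Category.assoc, ← Scheme.Hom.comp_appTop, IsPushout.inl_isoPushout_hom_assoc,
        pushout.inl_desc]
      have : ((pbFun g).map m.unop).left ≫ pullback.fst W.unop.hom g =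
          pullback.fst W'.unop.hom g ≫ m.unop.left := by
        simp
      rw [this, Scheme.Hom.comp_appTop, Category.assoc, IsPushout.inl_isoPushout_hom]
    · show (pullback.snd W.unop.hom g).appTop ≫ (((pbFun g).map m.unop).left.appTop ≫
        (isPushout_pb g W'.unop).isoPushout.hom) =
        (pullback.snd W.unop.hom g).appTop ≫ ((isPushout_pb g W.unop).isoPushout.hom ≫
          pushout.desc (m.unop.left.appTop ≫ pushout.inl _ _) (pushout.inr _ _) _)
      rw [← Category.assoc, ← Scheme.Hom.comp_appTop, IsPushout.inr_isoPushout_hom_assoc,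
        pushout.inr_desc]
      have : ((pbFun g).map m.unop).left ≫ pullback.snd W.unop.hom g =
          pullback.snd W'.unop.hom g := by
        simp
      rw [this, IsPushout.inr_isoPushout_hom])

end pb

section forks

variable {X : Scheme.{u}} [IsAffine X] {Y Z Q : AffOver X} (a b : Y ⟶ Z) (π : Z ⟶ Q)

lemma Γ_fork_condition (w : a ≫ π = b ≫ π) :
    (Γfun X).map π.op ≫ (Γfun X).map a.op = (Γfun X).map π.op ≫ (Γfun X).map b.op := by
  rw [← Functor.map_comp, ← Functor.map_comp, ← op_comp, ← op_comp, w]

/-- a cofork in `AffOver X` is a colimit iff the fork of global sections is a limit -/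
lemma isColimit_iff_isLimit_Γ (w : a ≫ π = b ≫ π) :
    Nonempty (IsColimit (Cofork.ofπ π w)) ↔
    Nonempty (IsLimit (Fork.ofι ((Γfun X).map π.op) (Γ_fork_condition a b π w))) := by
  have w' : π.op ≫ a.op = π.op ≫ b.op := by rw [← op_comp, ← op_comp, w]
  constructor
  · rintro ⟨h⟩
    have h1 : IsLimit (Fork.ofι π.op w') := Cofork.isColimitOfπEquivIsLimitOp π π w w' rfl h
    exact ⟨isLimitForkMapOfIsLimit (Γfun X) w' h1⟩
  · rintro ⟨h⟩
    have h1 : IsLimit (Fork.ofι π.op w') := isLimitOfIsLimitForkMap (Γfun X) w' h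
    exact ⟨(Cofork.isColimitOfπEquivIsLimitOp π π w w' rfl).symm h1⟩

end forks

section A1

variable (X : Scheme.{u}) [IsAffine X]

instance affOver_hasCoequalizers : HasCoequalizers (AffOver X) := by
  have h1 : HasLimitsOfShape WalkingParallelPairᵒᵖ (AffOver X)ᵒᵖ :=
    Adjunction.hasLimitsOfShape_of_equivalence (Γfun X)
  exact hasColimitsOfShape_of_hasLimitsOfShape_op (C := AffOver X) (J := WalkingParallelPair)

end A1

section PB

variable {X X' : Scheme.{u}} [IsAffine X] [IsAffine X'] (g : X' ⟶ X)
  {Y Z Q : AffOver X} (a b : Y ⟶ Z) (π : Z ⟶ Q)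

lemma pb_cofork_condition {X X' : Scheme.{u}} (g : X' ⟶ X)
    {Y Z Q : AffOver X} (a b : Y ⟶ Z) (π : Z ⟶ Q) (w : a ≫ π = b ≫ π) :
    (pbFun g).map a ≫ (pbFun g).map π = (pbFun g).map b ≫ (pbFun g).map π := by
  rw [← Functor.map_comp, ← Functor.map_comp, w]

/-- the base change of a coequalizer cofork along `g` is a coequalizer cofork, provided that
tensoring preserves the equalizer of global sections -/
lemma isColimit_pb_of_preservesLimit (w : a ≫ π = b ≫ π)
    [PreservesLimit (parallelPair ((Γfun X).map a.op) ((Γfun X).map b.op))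
      (Under.pushout g.appTop)]
    (h : IsColimit (Cofork.ofπ π w)) :
    Nonempty (IsColimit (Cofork.ofπ ((pbFun g).map π) (pb_cofork_condition g a b π w))) := by
  rw [isColimit_iff_isLimit_Γ]
  obtain ⟨h1⟩ := (isColimit_iff_isLimit_Γ a b π w).mp ⟨h⟩
  have h2 := isLimitForkMapOfIsLimit (Under.pushout g.appTop) (Γ_fork_condition a b π w) h1
  refine ⟨Fork.isLimitOfIsos _ h2 _ ((pbIso g).app (op Z)).symm ((pbIso g).app (op Y)).symm
    ((pbIso g).app (op Q)).symm ?_ ?_ ?_⟩
  · exact ((pbIso g).inv.naturality a.op).symm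
  · exact ((pbIso g).inv.naturality b.op).symm
  · exact ((pbIso g).inv.naturality π.op).symm

lemma preservesColimit_parallelPair_pb
    [PreservesLimit (parallelPair ((Γfun X).map a.op) ((Γfun X).map b.op))
      (Under.pushout g.appTop)] :
    PreservesColimit (parallelPair a b) (pbFun g) := by
  have hc := coequalizerIsCoequalizer a b
  obtain ⟨h⟩ := isColimit_pb_of_preservesLimit g a b (coequalizer.π a b)
    (coequalizer.condition a b) hc
  exact preservesColimit_of_preserves_colimit_cocone hc
    ((isColimitMapCoconeCoforkEquiv (pbFun g) _).symm h)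

lemma preservesColimitsOfShape_pb_of_flat (hg : g.appTop.hom.Flat) :
    PreservesColimitsOfShape WalkingParallelPair (pbFun g) := by
  have := CommRingCat.Under.preservesFiniteLimits_of_flat g.appTop hg
  constructor
  intro K
  have := preservesColimit_parallelPair_pb g (K.map .left) (K.map .right)
  exact preservesColimit_of_iso_diagram (pbFun g) (diagramIsoParallelPair K).symm

end PB

end Groth.Agent.Lib.Helper69
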