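import Groth.Agent.Lib.Helper69.InvSplit
import Mathlib.RingTheory.TotallySplit
import Mathlib.RingTheory.Finiteness.Descent
import Mathlib.RingTheory.Flat.Equalizer
import Mathlib.RingTheory.Flat.FaithfullyFlat.Descent
import Mathlib.RingTheory.Flat.FaithfullyFlat.Algebra

/-!
# Equalizers of finite étale algebras

Invariants of finitely many endomorphisms of a finite étale algebra of constant rank are finite
étale and their formation commutes with arbitrary base change.  Consequently equalizers of maps
between finite étale algebras (of constant rank) are finite étale and stable under base change.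
-/

set_option autoImplicit false
set_option linter.style.haveILetI false

namespace Groth.Agent.Lib.Helper69

open scoped BigOperators TensorProduct

section InvFinite

universe u v

variable {T : Type u} [CommRing T] {n : ℕ} {ι : Type v}
  (σ : ι → ((Fin n → T) →ₐ[T] (Fin n → T)))

set_option backward.isDefEq.respectTransparency false in
/-- The invariants of finitely many algebra endomorphisms of `Fin n → T` are finite over `T`. -/
theorem finite_invSubalg [Finite ι] : Module.Finite T (invSubalg σ) := by
  classical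
  cases nonempty_fintype ι
  have he := refIdem_complete (matFam_mul σ) (matFam_sum σ)
  have he' := he.map (algebraMap T (invSubalg σ))
  have bij := he'.bijective_pi
  have hfac : ∀ φ : ι × Fin n → Fin n, Module.Finite T
      (invSubalg σ ⧸ Ideal.span {1 - (algebraMap T (invSubalg σ) ∘ refIdem (matFam σ)) φ}) := by
    intro φ
    have hfin : Finite (Quot (coordRel φ)) :=
      Finite.of_surjective (Quot.mk _) Quot.exists_rep
    have h1 : Module.Finite T (T ⧸ Ideal.span {1 - refIdem (matFam σ) φ}) :=
      Module.Finite.of_surjective (Ideal.Quotient.mkₐ T _).toLinearMap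
        (Ideal.Quotient.mkₐ_surjective T _)
    have h2 : Module.Finite T (Quot (coordRel φ) → T ⧸ Ideal.span {1 - refIdem (matFam σ) φ}) :=
      inferInstance
    have hk : Ideal.span {1 - (algebraMap T (invSubalg σ) ∘ refIdem (matFam σ)) φ} =
        RingHom.ker (evalRep σ φ) := (ker_evalRep σ φ).symm
    exact Module.Finite.equiv
      ((Ideal.quotientEquivAlgOfEq T hk).trans
        (Ideal.quotientKerAlgEquivOfSurjective (evalRep_surjective σ φ))).symm.toLinearEquiv
  let E : invSubalg σ ≃ₐ[T]
      (∀ φ : ι × Fin n → Fin n,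
        invSubalg σ ⧸ Ideal.span {1 - (algebraMap T (invSubalg σ) ∘ refIdem (matFam σ)) φ}) :=
    AlgEquiv.ofBijective (Pi.algHom T _ (fun φ => Ideal.Quotient.mkₐ T _)) bij
  have hPi : Module.Finite T (∀ φ : ι × Fin n → Fin n,
        invSubalg σ ⧸ Ideal.span {1 - (algebraMap T (invSubalg σ) ∘ refIdem (matFam σ)) φ}) :=
    inferInstance
  exact Module.Finite.equiv E.symm.toLinearEquiv

end InvFinite

section Retract

variable {R : Type*} [CommRing R] {S : Type*} [CommRing S] [Algebra R S]
  {M N E E' : Type*} [AddCommGroup M] [Module R M] [AddCommGroup N] [Module R N] [Module S N]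
  [IsScalarTower R S N] [AddCommGroup E] [Module R E] [AddCommGroup E'] [Module R E'] [Module S E']
  [IsScalarTower R S E']

/-- A retract of a base change is a base change. -/
theorem isBaseChange_of_retract {f : M →ₗ[R] N} (hf : IsBaseChange S f)
    (i : E →ₗ[R] M) (r : M →ₗ[R] E) (i' : E' →ₗ[S] N) (r' : N →ₗ[S] E') (j : E →ₗ[R] E')
    (hri : ∀ x, r (i x) = x) (hri' : ∀ x, r' (i' x) = x)
    (hij : ∀ x, i' (j x) = f (i x)) (hjr : ∀ x, j (r x) = r' (f x)) :
    IsBaseChange S j := by
  apply IsBaseChange.of_lift_unique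
  intro Q _ _ _ _ g
  refine ⟨(hf.lift (g.comp r)).comp i', ?_, ?_⟩
  · ext x
    simp only [LinearMap.coe_comp, LinearMap.coe_restrictScalars, Function.comp_apply]
    rw [hij, hf.lift_eq]
    simp [hri]
  · intro g'' hg''
    have h1 : g''.comp r' = hf.lift (g.comp r) := by
      apply hf.algHom_ext'
      ext x
      simp only [LinearMap.coe_comp, LinearMap.coe_restrictScalars, Function.comp_apply]
      rw [hf.lift_eq, ← hjr]
      have := congrArg (fun k => k (r x)) hg''
      simpa using this
    ext x
    have : g'' x = g'' (r' (i' x)) := by rw [hri']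
    rw [this]
    have h2 := congrArg (fun k => k (i' x)) h1
    simpa using h2

end Retract

section Descent

variable {R : Type*} [CommRing R] {S : Type*} [CommRing S] [Algebra R S]
  {T : Type*} [CommRing T] [Algebra R T] [Algebra S T] [IsScalarTower R S T]
  {M N O : Type*} [AddCommGroup M] [Module R M] [AddCommGroup N] [Module R N] [Module S N]
  [IsScalarTower R S N] [AddCommGroup O] [Module R O] [Module S O] [Module T O]
  [IsScalarTower S T O] [IsScalarTower R S O] [IsScalarTower R T O]

/-- Faithfully flat descent of the property of being a base change. -/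
theorem isBaseChange_of_faithfullyFlat_of_comp [Module.FaithfullyFlat S T]
    (f : M →ₗ[R] N) (g : N →ₗ[S] O) (hg : IsBaseChange T g)
    (hc : IsBaseChange T ((g.restrictScalars R).comp f)) : IsBaseChange S f := by
  have hstd : IsBaseChange S (TensorProduct.mk R S M 1) := TensorProduct.isBaseChange R M S
  let θ : S ⊗[R] M →ₗ[S] N := hstd.lift f
  have hθ : ∀ m, θ ((1 : S) ⊗ₜ[R] m) = f m := fun m => hstd.lift_eq f m
  have hgθ : IsBaseChange T (g.comp θ) := by
    apply IsBaseChange.of_comp hstd
    convert hc using 1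
    ext m
    simp [hθ]
  -- `T ⊗ θ` is bijective
  have key : Function.Bijective (LinearMap.lTensor T (θ.restrictScalars S)) := by
    have e1 := hg.equiv
    have e2 := hgθ.equiv
    have hcomp : (hg.equiv.toLinearMap.restrictScalars S).comp
        (LinearMap.lTensor T θ) = hgθ.equiv.toLinearMap.restrictScalars S := by
      apply TensorProduct.ext'
      intro t y
      simp
    have h3 : ⇑(LinearMap.lTensor T θ) = ⇑hg.equiv.symm ∘ ⇑hgθ.equiv := by
      funext x
      have := congrArg (fun k => k x) hcomp
      simp only [LinearMap.coe_comp, LinearMap.coe_restrictScalars, Function.comp_apply,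
        LinearEquiv.coe_coe] at this
      rw [Function.comp_apply, ← this, LinearEquiv.symm_apply_apply]
    show Function.Bijective ⇑(LinearMap.lTensor T θ)
    rw [h3]
    exact hg.equiv.symm.bijective.comp hgθ.equiv.bijective
  have hbij : Function.Bijective θ :=
    ⟨(Module.FaithfullyFlat.lTensor_injective_iff_injective S T θ).mp key.1,
      (Module.FaithfullyFlat.lTensor_surjective_iff_surjective S T θ).mp key.2⟩
  exact IsBaseChange.of_equiv (LinearEquiv.ofBijective θ hbij) (fun m => hθ m)

end Descent

section RowIdem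

variable {T : Type*} [CommRing T] {n : ℕ}

/-- An algebra endomorphism of `Fin n → T` from a matrix with rows of orthogonal idempotents
summing to `1`. -/
def ofRowIdem (m : Fin n → Fin n → T)
    (hm : ∀ i j k, m i j * m i k = if j = k then m i j else 0) (hs : ∀ i, ∑ j, m i j = 1) :
    (Fin n → T) →ₐ[T] (Fin n → T) where
  toFun x i := ∑ j, x j * m i j
  map_one' := funext fun i => by simp [hs]
  map_mul' x y := funext fun i => by
    show ∑ j, (x j * y j) * m i j = (∑ j, x j * m i j) * (∑ k, y k * m i k)
    rw [Finset.sum_mul_sum]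
    apply Finset.sum_congr rfl
    intro j _
    rw [Finset.sum_eq_single j]
    · rw [mul_mul_mul_comm, hm, if_pos rfl]
    · intro k _ hk
      rw [mul_mul_mul_comm, hm, if_neg (Ne.symm hk), mul_zero]
    · intro h; exact absurd (Finset.mem_univ _) h
  map_zero' := funext fun i => by simp
  map_add' x y := funext fun i => by simp [add_mul, Finset.sum_add_distrib]
  commutes' r := funext fun i => by
    show ∑ j, algebraMap T (Fin n → T) r j * m i j = algebraMap T (Fin n → T) r i
    simp only [Pi.algebraMap_apply, Algebra.algebraMap_self, RingHom.id_apply]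
    rw [← Finset.mul_sum, hs, mul_one]

theorem ofRowIdem_apply (m : Fin n → Fin n → T) (hm hs) (x : Fin n → T) (i : Fin n) :
    ofRowIdem m hm hs x i = ∑ j, x j * m i j := rfl

end RowIdem

section SplitBC

universe u u' v

variable {T : Type u} [CommRing T] {T' : Type u'} [CommRing T'] [Algebra T T'] {n : ℕ} {ι : Type v}
  (σ : ι → ((Fin n → T) →ₐ[T] (Fin n → T))) (σ' : ι → ((Fin n → T') →ₐ[T'] (Fin n → T')))

variable (T T' n) in
/-- coordinatewise base change map -/
def mapCoord : (Fin n → T) →ₗ[T] (Fin n → T') := (Algebra.linearMap T T').compLeft (Fin n)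

theorem mapCoord_apply (x : Fin n → T) (i : Fin n) :
    mapCoord T T' n x i = algebraMap T T' (x i) := rfl

theorem isBaseChange_mapCoord : IsBaseChange T' (mapCoord T T' n) :=
  IsBaseChange.finitePow (Fin n) (IsBaseChange.linearMap T T')

theorem mapCoord_single (j : Fin n) :
    mapCoord T T' n (Pi.single j 1) = Pi.single j 1 := by
  funext k
  rw [mapCoord_apply]
  by_cases hk : k = j
  · subst hk; simp
  · simp [Pi.single_eq_of_ne hk]

variable {σ σ'} (hσ : ∀ g x, σ' g (mapCoord T T' n x) = mapCoord T T' n (σ g x))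
include hσ

theorem mat_map (g : ι) (i j : Fin n) :
    mat (σ' g) i j = algebraMap T T' (mat (σ g) i j) := by
  unfold mat
  rw [← mapCoord_single (T := T) (T' := T'), hσ, mapCoord_apply]

theorem refIdem_map [Fintype ι] [DecidableEq ι] (φ : ι × Fin n → Fin n) :
    refIdem (matFam σ') φ = algebraMap T T' (refIdem (matFam σ) φ) := by
  unfold refIdem
  rw [map_prod]
  apply Finset.prod_congr rfl
  intro p _
  exact mat_map hσ p.1 p.2 _

omit hσ

variable (σ)
variable [Fintype ι] [DecidableEq ι]

/-- a linear retraction of `Fin n → T` onto the invariants -/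
noncomputable def retr : (Fin n → T) →ₗ[T] (Fin n → T) :=
  LinearMap.pi fun i => ∑ φ : ι × Fin n → Fin n,
    (refIdem (matFam σ) φ) • LinearMap.proj ((Quot.mk (coordRel φ) i).out)

theorem retr_apply (x : Fin n → T) (i : Fin n) :
    retr σ x i = ∑ φ : ι × Fin n → Fin n,
      refIdem (matFam σ) φ * x ((Quot.mk (coordRel φ) i).out) := by
  simp [retr, LinearMap.sum_apply]

theorem refIdem_mul_retr (ψ : ι × Fin n → Fin n) (x : Fin n → T) (i : Fin n) :
    refIdem (matFam σ) ψ * retr σ x i =
      refIdem (matFam σ) ψ * x ((Quot.mk (coordRel ψ) i).out) := by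
  rw [retr_apply, Finset.mul_sum, Finset.sum_eq_single ψ]
  · rw [← mul_assoc, ((refIdem_complete (matFam_mul σ) (matFam_sum σ)).idem ψ).eq]
  · intro φ _ hφ
    rw [← mul_assoc, refIdem_ortho (matFam_mul σ) ψ φ (Ne.symm hφ), zero_mul]
  · intro h; exact absurd (Finset.mem_univ _) h

theorem retr_mem (x : Fin n → T) : retr σ x ∈ invSubalg σ := by
  intro g
  funext i
  apply eq_of_refIdem_mul_eq (matFam_sum σ)
  intro ψ
  rw [refIdem_mul_apply, refIdem_mul_retr, refIdem_mul_retr]
  have : Quot.mk (coordRel ψ) (ψ (g, i)) = Quot.mk (coordRel ψ) i :=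
    (Quot.sound ⟨g, rfl⟩).symm
  rw [this]

theorem retr_of_mem {x : Fin n → T} (hx : x ∈ invSubalg σ) : retr σ x = x := by
  funext i
  apply eq_of_refIdem_mul_eq (matFam_sum σ)
  intro ψ
  rw [refIdem_mul_retr]
  exact refIdem_mul_eq_of_quot_eq σ ψ hx (Quot.out_eq _)

/-- the retraction onto the invariants, as a map to the subalgebra -/
noncomputable def retrE : (Fin n → T) →ₗ[T] invSubalg σ where
  toFun x := ⟨retr σ x, retr_mem σ x⟩
  map_add' x y := Subtype.ext (map_add _ _ _)
  map_smul' c x := Subtype.ext (map_smul _ _ _)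

variable {σ}

theorem mapCoord_retr (hσ : ∀ g x, σ' g (mapCoord T T' n x) = mapCoord T T' n (σ g x))
    (x : Fin n → T) : mapCoord T T' n (retr σ x) = retr σ' (mapCoord T T' n x) := by
  funext i
  rw [mapCoord_apply, retr_apply, retr_apply, map_sum]
  apply Finset.sum_congr rfl
  intro φ _
  rw [map_mul, refIdem_map hσ, mapCoord_apply]

/-- The map induced on invariants by the coordinatewise base change map. -/
def invMapCoord (hσ : ∀ g x, σ' g (mapCoord T T' n x) = mapCoord T T' n (σ g x)) :
    invSubalg σ →ₗ[T] invSubalg σ' where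
  toFun x := ⟨mapCoord T T' n x.1, fun g => by rw [hσ, x.2 g]⟩
  map_add' x y := Subtype.ext (map_add _ _ _)
  map_smul' c x := Subtype.ext (map_smul _ _ _)

/-- In the split case the formation of invariants commutes with arbitrary base change. -/
theorem isBaseChange_invMapCoord
    (hσ : ∀ g x, σ' g (mapCoord T T' n x) = mapCoord T T' n (σ g x)) :
    IsBaseChange T' (invMapCoord hσ) := by
  refine isBaseChange_of_retract (isBaseChange_mapCoord (T := T) (T' := T') (n := n))
    (invSubalg σ).val.toLinearMap (retrE σ) (invSubalg σ').val.toLinearMap (retrE σ')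
    (invMapCoord hσ) ?_ ?_ ?_ ?_
  · intro x; exact Subtype.ext (retr_of_mem σ x.2)
  · intro x; exact Subtype.ext (retr_of_mem σ' x.2)
  · intro x; rfl
  · intro x; exact Subtype.ext (mapCoord_retr hσ x)

end SplitBC

section FlatInv

variable {R S : Type*} [CommRing R] [CommRing S] [Algebra R S] [Module.Flat R S]
  {A A' : Type*} [CommRing A] [Algebra R A] [CommRing A'] [Algebra R A'] [Algebra S A']
  [IsScalarTower R S A'] {ι : Type*} [Finite ι]

/-- Flat base change commutes with invariants (algebra version). -/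
theorem isBaseChange_invSubalgebra_of_flat (σ : ι → A →ₐ[R] A) (σ' : ι → A' →ₐ[S] A')
    (h : A →ₗ[R] A') (hh : IsBaseChange S h) (hcomm : ∀ g a, h (σ g a) = σ' g (h a))
    (j : invSubalgebra σ →ₗ[R] invSubalgebra σ') (hj : ∀ c, (j c).1 = h c.1) :
    IsBaseChange S j := by
  refine isBaseChange_of_invariants (S := S) (fun k => (σ k).toLinearMap)
    (fun k => (σ' k).toLinearMap) h (fun k a => hcomm k a) hh
    (invSubalgebra σ).val.toLinearMap (invSubalgebra σ').val.toLinearMap j
    Subtype.val_injective Subtype.val_injective ?_ ?_ ?_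
  · intro m
    constructor
    · intro hm; exact ⟨⟨m, hm⟩, rfl⟩
    · rintro ⟨c, rfl⟩; exact c.2
  · intro m
    constructor
    · intro hm; exact ⟨⟨m, hm⟩, rfl⟩
    · rintro ⟨c, rfl⟩; exact c.2
  · intro c
    exact (hj c).symm

end FlatInv

section ConstRank

universe u

variable {R : Type u} [CommRing R] {S : Type u} [CommRing S] [Algebra R S]
  {T : Type u} [CommRing T] [Algebra R T]
  {T' : Type u} [CommRing T'] [Algebra R T'] [Algebra S T'] [Algebra T T']
  [IsScalarTower R S T'] [IsScalarTower R T T']
  {A : Type u} [CommRing A] [Algebra R A]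
  {A' : Type u} [CommRing A'] [Algebra R A'] [Algebra S A'] [IsScalarTower R S A']
  {n : ℕ} {ι : Type*}

/-- the endomorphisms transported to the split algebra -/
def σT (σ : ι → A →ₐ[R] A) (e : T ⊗[R] A ≃ₐ[T] (Fin n → T)) (g : ι) :
    (Fin n → T) →ₐ[T] (Fin n → T) :=
  (e.toAlgHom.comp (Algebra.TensorProduct.map (AlgHom.id T T) (σ g))).comp e.symm.toAlgHom

/-- the map from an algebra to its splitting -/
def toSplit (e : T ⊗[R] A ≃ₐ[T] (Fin n → T)) : A →ₐ[R] (Fin n → T) :=
  (e.toAlgHom.restrictScalars R).comp Algebra.TensorProduct.includeRight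

theorem isBaseChange_toSplit (e : T ⊗[R] A ≃ₐ[T] (Fin n → T)) :
    IsBaseChange T (toSplit e).toLinearMap :=
  IsBaseChange.of_equiv e.toLinearEquiv (fun _ => rfl)

theorem toSplit_comm (σ : ι → A →ₐ[R] A) (e : T ⊗[R] A ≃ₐ[T] (Fin n → T)) (g : ι) (a : A) :
    toSplit e (σ g a) = σT σ e g (toSplit e a) := by
  show e (1 ⊗ₜ σ g a) =
    e (Algebra.TensorProduct.map (AlgHom.id T T) (σ g) (e.symm (e (1 ⊗ₜ a))))
  rw [e.symm_apply_apply]
  rfl

/-- the map from the invariants to the invariants of the split algebra -/
def invToSplit (σ : ι → A →ₐ[R] A) (e : T ⊗[R] A ≃ₐ[T] (Fin n → T)) :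
    invSubalgebra σ →ₗ[R] invSubalgebra (σT σ e) where
  toFun c := ⟨toSplit e c.1, fun g => by rw [← toSplit_comm, c.2 g]⟩
  map_add' x y := Subtype.ext (map_add _ _ _)
  map_smul' r x := Subtype.ext (map_smul _ _ _)

theorem isBaseChange_invToSplit [Finite ι] [Module.Flat R T] (σ : ι → A →ₐ[R] A)
    (e : T ⊗[R] A ≃ₐ[T] (Fin n → T)) : IsBaseChange T (invToSplit σ e) :=
  isBaseChange_invSubalgebra_of_flat σ (σT σ e) (toSplit e).toLinearMap (isBaseChange_toSplit e)
    (toSplit_comm σ e) (invToSplit σ e) (fun _ => rfl)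

/-- Finiteness of invariants, given a faithfully flat splitting. -/
theorem finite_invSubalgebra_of_split [Finite ι] [Module.FaithfullyFlat R T]
    (e : T ⊗[R] A ≃ₐ[T] (Fin n → T)) (σ : ι → A →ₐ[R] A) :
    Module.Finite R (invSubalgebra σ) := by
  have h1 : Module.Finite T (invSubalgebra (σT σ e)) := finite_invSubalg (σT σ e)
  have h2 : Module.Finite T (T ⊗[R] invSubalgebra σ) :=
    Module.Finite.equiv (isBaseChange_invToSplit σ e).equiv.symm
  exact Module.Finite.of_finite_tensorProduct_of_faithfullyFlat T

set_option maxHeartbeats 800000 in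
/-- Invariants of finitely many endomorphisms of a split-able algebra commute with arbitrary base
change. -/
theorem isBaseChange_invSubalgebra_of_split [Finite ι] [Module.Flat R T]
    [Module.FaithfullyFlat S T']
    (e : T ⊗[R] A ≃ₐ[T] (Fin n → T)) (σ : ι → A →ₐ[R] A) (σ' : ι → A' →ₐ[S] A')
    (h : A →ₐ[R] A') (hh : IsBaseChange S h.toLinearMap) (hcomm : ∀ g a, h (σ g a) = σ' g (h a))
    (j : invSubalgebra σ →ₗ[R] invSubalgebra σ') (hj : ∀ c, (j c).1 = h c.1) :
    IsBaseChange S j := by
  classical
  cases nonempty_fintype ι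
  let sT : ι → (Fin n → T) →ₐ[T] (Fin n → T) := σT σ e
  let hA : A →ₐ[R] (Fin n → T) := toSplit e
  have hhA : IsBaseChange T hA.toLinearMap := isBaseChange_toSplit e
  have hAcomm : ∀ g a, hA (σ g a) = sT g (hA a) := toSplit_comm σ e
  let s'' : ι → (Fin n → T') →ₐ[T'] (Fin n → T') := fun g =>
    ofRowIdem (fun i j => algebraMap T T' (mat (sT g) i j))
      (fun i j k => by
        rw [← map_mul, mat_mul]
        split_ifs <;> simp)
      (fun i => by rw [← map_sum, mat_sum, map_one])
  have hs'' : ∀ g x, s'' g (mapCoord T T' n x) = mapCoord T T' n (sT g x) := by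
    intro g x
    funext i
    rw [ofRowIdem_apply, mapCoord_apply, apply_eq_sum, map_sum]
    apply Finset.sum_congr rfl
    intro j _
    rw [map_mul, mapCoord_apply]
  let kA : A →ₗ[R] (Fin n → T') := ((mapCoord T T' n).restrictScalars R).comp hA.toLinearMap
  have hkA : IsBaseChange T' kA := IsBaseChange.comp hhA isBaseChange_mapCoord
  let h' : A' →ₗ[S] (Fin n → T') := hh.lift kA
  have hh'h : ∀ a, h' (h a) = kA a := fun a => hh.lift_eq kA a
  have hh' : IsBaseChange T' h' := by
    apply IsBaseChange.of_comp hh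
    convert hkA using 1
    ext a : 1
    exact hh'h a
  have hcomm' : ∀ g x, h' (σ' g x) = s'' g (h' x) := by
    intro g
    have : h'.comp ((σ' g).toLinearMap) = ((s'' g).toLinearMap.restrictScalars S).comp h' := by
      apply hh.algHom_ext'
      refine LinearMap.ext fun a => ?_
      show h' (σ' g (h a)) = s'' g (h' (h a))
      rw [← hcomm, hh'h, hh'h]
      show mapCoord T T' n (hA (σ g a)) = s'' g (mapCoord T T' n (hA a))
      rw [hAcomm, hs'']
    intro x
    exact congrArg (fun f => f x) this
  have hj1 : IsBaseChange T (invToSplit σ e) := isBaseChange_invToSplit σ e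
  have hj2 : IsBaseChange T' (invMapCoord hs'') := isBaseChange_invMapCoord hs''
  let j3 : invSubalgebra σ' →ₗ[S] invSubalgebra s'' :=
    { toFun := fun c => ⟨h' c.1, fun g => by rw [← hcomm', c.2 g]⟩
      map_add' := fun x y => Subtype.ext (map_add _ _ _)
      map_smul' := fun r x => Subtype.ext (map_smul _ _ _) }
  have hj3 : IsBaseChange T' j3 :=
    isBaseChange_invSubalgebra_of_flat σ' s'' h' hh' hcomm' j3 (fun _ => rfl)
  have hcomp : IsBaseChange T' (((invMapCoord hs'').restrictScalars R).comp (invToSplit σ e)) :=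
    IsBaseChange.comp hj1 hj2
  have heq : (j3.restrictScalars R).comp j =
      ((invMapCoord hs'').restrictScalars R).comp (invToSplit σ e) := by
    refine LinearMap.ext fun c => Subtype.ext ?_
    show h' ((j c).1) = mapCoord T T' n (hA c.1)
    rw [hj, hh'h]
    rfl
  refine isBaseChange_of_faithfullyFlat_of_comp (T := T') j j3 hj3 ?_
  rw [heq]
  exact hcomp

end ConstRank

section Equalizer

universe u

variable {R : Type u} [CommRing R] {A B : Type u} [CommRing A] [CommRing B] [Algebra R A]
  [Algebra R B] (f g : A →ₐ[R] B)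

/-- the two endomorphisms of `A × B` whose invariants are the equalizer of `f` and `g` -/
def eqEndo (b : Bool) : (A × B) →ₐ[R] (A × B) :=
  AlgHom.prod (AlgHom.fst R A B) ((if b then f else g).comp (AlgHom.fst R A B))

theorem eqEndo_apply (b : Bool) (x : A × B) :
    eqEndo f g b x = (x.1, (if b then f else g) x.1) := rfl

theorem mem_inv_eqEndo {x : A × B} :
    x ∈ invSubalgebra (eqEndo f g) ↔ f x.1 = x.2 ∧ g x.1 = x.2 := by
  rw [mem_invSubalgebra]
  constructor
  · intro h
    have h1 := h true
    have h2 := h false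
    rw [eqEndo_apply] at h1 h2
    exact ⟨congrArg Prod.snd h1, congrArg Prod.snd h2⟩
  · rintro ⟨h1, h2⟩ b
    rw [eqEndo_apply]
    cases b
    · exact Prod.ext rfl h2
    · exact Prod.ext rfl h1

/-- the equalizer as invariants -/
def eqEquivInv : AlgHom.equalizer f g ≃ₐ[R] invSubalgebra (eqEndo f g) where
  toFun a := ⟨(a.1, f a.1), (mem_inv_eqEndo f g).mpr ⟨rfl, a.2.symm⟩⟩
  invFun x := ⟨x.1.1, by
    obtain ⟨h1, h2⟩ := (mem_inv_eqEndo f g).mp x.2
    show f x.1.1 = g x.1.1
    rw [h1, h2]⟩
  left_inv a := rfl
  right_inv x := by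
    obtain ⟨h1, _⟩ := (mem_inv_eqEndo f g).mp x.2
    exact Subtype.ext (Prod.ext rfl h1)
  map_mul' a b := Subtype.ext (Prod.ext rfl (map_mul f _ _))
  map_add' a b := Subtype.ext (Prod.ext rfl (map_add f _ _))
  commutes' r := Subtype.ext (Prod.ext rfl (f.commutes r))

section BC

variable (S : Type u) [CommRing S] [Algebra R S]

/-- base change of `f` -/
abbrev bcHom : S ⊗[R] A →ₐ[S] S ⊗[R] B := Algebra.TensorProduct.map (AlgHom.id S S) f

/-- the base change map on `A × B` -/
def prodBC : (A × B) →ₐ[R] ((S ⊗[R] A) × (S ⊗[R] B)) :=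
  AlgHom.prodMap Algebra.TensorProduct.includeRight Algebra.TensorProduct.includeRight

theorem prodBC_apply (x : A × B) : prodBC (R := R) S x = ((1 : S) ⊗ₜ[R] x.1, (1 : S) ⊗ₜ[R] x.2) :=
  rfl

theorem isBaseChange_prodBC : IsBaseChange S (prodBC (R := R) (A := A) (B := B) S).toLinearMap := by
  have h0 := IsBaseChange.prodMap (S := S) (TensorProduct.mk R S A 1) (TensorProduct.mk R S B 1)
    (TensorProduct.isBaseChange R A S) (TensorProduct.isBaseChange R B S)
  have heq : (prodBC (R := R) (A := A) (B := B) S).toLinearMap =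
      (TensorProduct.mk R S A 1).prodMap (TensorProduct.mk R S B 1) :=
    LinearMap.ext fun x => rfl
  rw [heq]
  exact h0

theorem prodBC_comm (b : Bool) (x : A × B) :
    prodBC S (eqEndo f g b x) = eqEndo (bcHom f S) (bcHom g S) b (prodBC S x) := by
  rw [eqEndo_apply, eqEndo_apply, prodBC_apply, prodBC_apply]
  cases b <;> simp [bcHom]

/-- the map on invariants induced by base change -/
def invBC : invSubalgebra (eqEndo f g) →ₗ[R] invSubalgebra (eqEndo (bcHom f S) (bcHom g S)) where
  toFun c := ⟨prodBC S c.1, fun b => by rw [← prodBC_comm, c.2 b]⟩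
  map_add' x y := Subtype.ext (map_add _ _ _)
  map_smul' r x := Subtype.ext (map_smul _ _ _)

end BC

variable [Module.Finite R A] [Algebra.Etale R A] [Module.Finite R B] [Algebra.Etale R B]

theorem exists_split_prod {n m : ℕ} (hA : Module.rankAtStalk (R := R) A = n)
    (hB : Module.rankAtStalk (R := R) B = m) :
    ∃ (T : Type u) (_ : CommRing T) (_ : Algebra R T) (_ : Module.FaithfullyFlat R T) (k : ℕ),
      Nonempty (T ⊗[R] (A × B) ≃ₐ[T] (Fin k → T)) := by
  have : Algebra.Etale R (A × B) := etale_prod R A B
  have hn : Module.rankAtStalk (R := R) (A × B) = ((n + m : ℕ) : PrimeSpectrum R → ℕ) := by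
    rw [Module.rankAtStalk_prod, hA, hB]
    simp
  obtain ⟨T, _, _, _, _, _, hT⟩ := Algebra.IsFiniteSplit.exists_tensorProduct_of_etale hn
  obtain ⟨k, ⟨e⟩⟩ := hT.nonempty_algEquiv_fun
  exact ⟨T, inferInstance, inferInstance, inferInstance, k, ⟨e⟩⟩

/-- Equalizers of maps of finite étale algebras of constant rank are finite. -/
theorem finite_equalizer {n m : ℕ} (hA : Module.rankAtStalk (R := R) A = n)
    (hB : Module.rankAtStalk (R := R) B = m) : Module.Finite R (AlgHom.equalizer f g) := by
  obtain ⟨T, _, _, _, k, ⟨e⟩⟩ := exists_split_prod (R := R) (A := A) (B := B) hA hB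
  have := finite_invSubalgebra_of_split e (eqEndo f g)
  exact Module.Finite.equiv (eqEquivInv f g).symm.toLinearEquiv

/-- Equalizers of maps of finite étale algebras of constant rank are étale. -/
theorem etale_equalizer {n m : ℕ} (hA : Module.rankAtStalk (R := R) A = n)
    (hB : Module.rankAtStalk (R := R) B = m) : Algebra.Etale R (AlgHom.equalizer f g) := by
  obtain ⟨T, _, _, _, k, ⟨e⟩⟩ := exists_split_prod (R := R) (A := A) (B := B) hA hB
  have := etale_invSubalgebra_of_split e (eqEndo f g)
  exact Algebra.Etale.of_equiv (eqEquivInv f g).symm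

variable (S : Type u) [CommRing S] [Algebra R S]

attribute [local instance] Algebra.TensorProduct.rightAlgebra in
set_option maxHeartbeats 400000 in
theorem isBaseChange_invBC {n m : ℕ} (hA : Module.rankAtStalk (R := R) A = n)
    (hB : Module.rankAtStalk (R := R) B = m) : IsBaseChange S (invBC f g S) := by
  obtain ⟨T, _, _, _, k, ⟨e⟩⟩ := exists_split_prod (R := R) (A := A) (B := B) hA hB
  exact isBaseChange_invSubalgebra_of_split (T := T) (T' := S ⊗[R] T) e (eqEndo f g)
    (eqEndo (bcHom f S) (bcHom g S)) (prodBC S) (isBaseChange_prodBC S) (prodBC_comm f g S)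
    (invBC f g S) (fun _ => rfl)

set_option maxHeartbeats 400000 in
/-- Equalizers of maps of finite étale algebras of constant rank commute with arbitrary base
change. -/
theorem bijective_tensorEqualizer {n m : ℕ} (hA : Module.rankAtStalk (R := R) A = n)
    (hB : Module.rankAtStalk (R := R) B = m) :
    Function.Bijective (f.tensorEqualizer R S g) := by
  have hj := isBaseChange_invBC f g S hA hB
  have key : ∀ x : S ⊗[R] AlgHom.equalizer f g,
      ((eqEquivInv (bcHom f S) (bcHom g S)).symm (hj.equiv
        (TensorProduct.AlgebraTensorModule.congr (LinearEquiv.refl S S)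
          (eqEquivInv f g).toLinearEquiv x)) : S ⊗[R] A) =
      (f.tensorEqualizer R S g x : S ⊗[R] A) := by
    intro x
    induction x using TensorProduct.induction_on with
    | zero => simp
    | tmul s a =>
      rw [AlgHom.coe_tensorEqualizer]
      simp only [TensorProduct.AlgebraTensorModule.congr_tmul, LinearEquiv.refl_apply,
        AlgEquiv.toLinearEquiv_apply, IsBaseChange.equiv_tmul, Algebra.TensorProduct.map_tmul,
        AlgHom.coe_id, id_eq, Subalgebra.coe_val]
      show ((s • invBC f g S (eqEquivInv f g a)).1).1 = s ⊗ₜ[R] a.1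
      show s • ((1 : S) ⊗ₜ[R] a.1) = s ⊗ₜ[R] a.1
      rw [TensorProduct.smul_tmul', smul_eq_mul, mul_one]
    | add x y hx hy =>
      simp only [map_add, Subalgebra.coe_add] at hx hy ⊢
      rw [hx, hy]
  have hfun : ⇑(f.tensorEqualizer R S g) =
      ⇑(eqEquivInv (bcHom f S) (bcHom g S)).symm ∘ ⇑hj.equiv ∘
        ⇑(TensorProduct.AlgebraTensorModule.congr (LinearEquiv.refl S S)
          (eqEquivInv f g).toLinearEquiv) := by
    funext x
    exact Subtype.ext (key x).symm
  rw [hfun]
  exact (eqEquivInv (bcHom f S) (bcHom g S)).symm.bijective.comp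
    (hj.equiv.bijective.comp (LinearEquiv.bijective _))

end Equalizer

end Groth.Agent.Lib.Helper69
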