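import Groth.Agent.Lib.Helper69.AffDict
import Groth.Agent.Lib.Helper69.FEtEq
import Groth.Prelude.Def_FEt

set_option linter.style.haveILetI false
set_option linter.unusedSectionVars false
set_option backward.isDefEq.respectTransparency false
set_option backward.defeqAttrib.useBackward true
open CategoryTheory Limits AlgebraicGeometry MorphismProperty Opposite

universe u
namespace Groth.Agent.Lib.Helper69

section Under

variable {R : CommRingCat.{u}} {A B : Under R} (α β : A ⟶ B)

/-- finite étale of constant rank (ring level, for objects of `Under R`) -/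
structure UFEt (A : Under R) (n : ℕ) : Prop where
  fin : A.hom.hom.Finite
  et : A.hom.hom.Etale
  rank : ∀ p, A.hom.hom.finrank p = n

lemma UFEt.fork_pt {n m : ℕ} (hA : UFEt A n) (hB : UFEt B m) (c : Fork α β) (hc : IsLimit c) :
    c.pt.hom.hom.Finite ∧ c.pt.hom.hom.Etale := by
  have : Module.Finite R A := hA.fin
  have : Algebra.Etale R A := hA.et
  have : Module.Finite R B := hB.fin
  have : Algebra.Etale R B := hB.et
  have rA : Module.rankAtStalk (R := R) A = n := by
    ext p; exact (hA.rank p).trans (by simp)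
  have rB : Module.rankAtStalk (R := R) B = m := by
    ext p; exact (hB.rank p).trans (by simp)
  have hfin := finite_equalizer (CommRingCat.toAlgHom α) (CommRingCat.toAlgHom β) rA rB
  have het := etale_equalizer (CommRingCat.toAlgHom α) (CommRingCat.toAlgHom β) rA rB
  let e := hc.conePointUniqueUpToIso (CommRingCat.Under.equalizerForkIsLimit α β)
  have he : c.pt.hom = CommRingCat.ofHom (algebraMap R
      (AlgHom.equalizer (CommRingCat.toAlgHom α) (CommRingCat.toAlgHom β))) ≫ e.inv.right :=
    (Under.w e.inv).symm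
  have hbij : Function.Bijective e.inv.right.hom :=
    ConcreteCategory.bijective_of_isIso ((Under.forget R).mapIso e).inv
  have he' : c.pt.hom.hom = e.inv.right.hom.comp (algebraMap R
      (AlgHom.equalizer (CommRingCat.toAlgHom α) (CommRingCat.toAlgHom β))) := by
    rw [he]; rfl
  rw [he']
  constructor
  · exact RingHom.Finite.comp (RingHom.Finite.of_surjective _ hbij.2)
      (RingHom.finite_algebraMap.mpr hfin)
  · exact RingHom.Etale.stableUnderComposition _ _ (RingHom.etale_algebraMap.mpr het)
      (RingHom.Etale.of_bijective hbij)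

lemma UFEt.preservesLimit {n m : ℕ} (hA : UFEt A n) (hB : UFEt B m) {R' : CommRingCat.{u}}
    (φ : R ⟶ R') : PreservesLimit (parallelPair α β) (Under.pushout φ) := by
  have : Module.Finite R A := hA.fin
  have : Algebra.Etale R A := hA.et
  have : Module.Finite R B := hB.fin
  have : Algebra.Etale R B := hB.et
  have rA : Module.rankAtStalk (R := R) A = n := by
    ext p; exact (hA.rank p).trans (by simp)
  have rB : Module.rankAtStalk (R := R) B = m := by
    ext p; exact (hB.rank p).trans (by simp)
  algebraize [φ.hom]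
  have key : PreservesLimit (parallelPair α β) (CommRingCat.tensorProd R R') := by
    rw [CommRingCat.preservesLimit_parallelPair_tensorProd_iff_tensorEqualizer_bijective]
    exact bijective_tensorEqualizer (CommRingCat.toAlgHom α) (CommRingCat.toAlgHom β) R' rA rB
  exact (preservesLimit_iff_of_natIso _ (CommRingCat.tensorProdIsoPushout R R')).mp key

end Under

section scheme

lemma finrank_appTop {W X : Scheme.{u}} [IsAffine X] (f : W ⟶ X) [IsFinite f] [Flat f]
    (p : PrimeSpectrum Γ(X, ⊤)) :
    f.appTop.hom.finrank p = f.finrank (X.isoSpec.inv p) := by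
  have : IsAffine W := isAffine_of_isAffineHom f
  have hsq : IsPullback W.isoSpec.inv (Spec.map f.appTop) f X.isoSpec.inv :=
    IsPullback.of_horiz_isIso ⟨(Scheme.isoSpec_inv_naturality f).symm⟩
  rw [← Scheme.Hom.finrank_of_isPullback _ _ _ _ hsq,
    Scheme.Hom.finrank_SpecMap_eq_finrank f.finite_appTop f.flat_appTop]

variable {X : Scheme.{u}} [IsAffine X]

lemma fet_iff (W : AffOver X) :
    FEt.prop W.hom ↔ W.hom.appTop.hom.Finite ∧ W.hom.appTop.hom.Etale := by
  have h1 : IsFinite W.hom ↔ IsAffine W.left ∧ W.hom.appTop.hom.Finite :=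
    HasAffineProperty.iff_of_isAffine (P := @IsFinite) (X := W.left) (Y := X) (f := W.hom)
  have h2 : Etale W.hom ↔ W.hom.appTop.hom.Etale :=
    HasRingHomProperty.iff_of_isAffine (P := @Etale) (X := W.left) (Y := X) (f := W.hom)
  constructor
  · rintro ⟨hf, he⟩; exact ⟨(h1.mp hf).2, h2.mp he⟩
  · rintro ⟨hf, he⟩; exact ⟨h1.mpr ⟨inferInstance, hf⟩, h2.mpr he⟩

lemma UFEt_of (W : AffOver X) (hW : FEt.prop W.hom) {n : ℕ}
    (rW : ∀ x, Scheme.Hom.finrank (S := X) W.hom x = n) :
    UFEt ((Γfun X).obj (op W)) n := by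
  obtain ⟨h1, h2⟩ := (fet_iff W).mp hW
  refine ⟨h1, h2, fun p => ?_⟩
  have : IsFinite (Y := X) W.hom := hW.1
  have : Etale (Y := X) W.hom := hW.2
  have h3 := finrank_appTop (X := X) W.hom p
  rw [rW] at h3
  exact h3

/-- the coequalizer (in `AffOver X`, `X` affine) of a pair of maps between finite étale
`X`-schemes of constant rank is finite étale -/
lemma fet_of_isColimit {Y Z Q : AffOver X} (a b : Y ⟶ Z) (π : Z ⟶ Q) (w : a ≫ π = b ≫ π)
    (h : IsColimit (Cofork.ofπ π w)) {n m : ℕ} (hY : FEt.prop Y.hom) (hZ : FEt.prop Z.hom)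
    (rY : ∀ x, Scheme.Hom.finrank (S := X) Y.hom x = m)
    (rZ : ∀ x, Scheme.Hom.finrank (S := X) Z.hom x = n) :
    FEt.prop Q.hom := by
  obtain ⟨h1⟩ := (isColimit_iff_isLimit_Γ a b π w).mp ⟨h⟩
  have := UFEt.fork_pt _ _ (UFEt_of Z hZ rZ) (UFEt_of Y hY rY) _ h1
  exact (fet_iff Q).mpr this

/-- base change (between affine schemes) preserves coequalizers of pairs of maps between finite
étale schemes of constant rank -/
lemma preservesColimit_pb_of_fet {X' : Scheme.{u}} [IsAffine X'] (g : X' ⟶ X)
    {Y Z : AffOver X} (a b : Y ⟶ Z) {n m : ℕ} (hY : FEt.prop Y.hom) (hZ : FEt.prop Z.hom)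
    (rY : ∀ x, Scheme.Hom.finrank (S := X) Y.hom x = m)
    (rZ : ∀ x, Scheme.Hom.finrank (S := X) Z.hom x = n) :
    PreservesColimit (parallelPair a b) (pbFun g) := by
  have := UFEt.preservesLimit ((Γfun X).map a.op) ((Γfun X).map b.op) (UFEt_of Z hZ rZ)
    (UFEt_of Y hY rY) g.appTop
  exact preservesColimit_parallelPair_pb g a b

end scheme

end Groth.Agent.Lib.Helper69
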