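import Groth.Agent.Lib.Helper69.AffDict

set_option linter.style.haveILetI false
set_option linter.unusedSectionVars false
set_option backward.isDefEq.respectTransparency false
set_option backward.defeqAttrib.useBackward true
open CategoryTheory Limits AlgebraicGeometry MorphismProperty Opposite TopologicalSpace

universe u
namespace Groth.Agent.Lib.Helper69

section basis

variable {X : Scheme.{u}} (B : Set X.Opens) (hB : Opens.IsBasis B)

/-- the open cover given by a basis of opens -/
@[simps I₀ X f]
noncomputable def basisCover : X.OpenCover where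
  I₀ := B
  X U := U.1
  f U := U.1.ι
  mem₀ := by
    rw [Scheme.presieve₀_mem_precoverage_iff]
    refine ⟨fun x ↦ ?_, inferInstance⟩
    obtain ⟨U, hU, hxU, -⟩ := Opens.isBasis_iff_nbhd.mp hB (Opens.mem_top x)
    exact ⟨⟨U, hU⟩, ⟨x, hxU⟩, rfl⟩

instance : Preorder (basisCover B hB).I₀ := inferInstanceAs <| Preorder B

noncomputable instance basisCover_locallyDirected : Scheme.Cover.LocallyDirected (basisCover B hB) :=
  .ofIsBasisOpensRange (by intros; simp) <| by
    convert! hB
    ext U
    simp

instance : Quiver.IsThin (basisCover B hB).I₀ := inferInstance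

instance : Small.{u} (basisCover B hB).I₀ := inferInstanceAs <| Small.{u} B

end basis

section glue

/-- a basis of the topology consisting of affine opens -/
structure AffBasis (X : Scheme.{u}) where
  B : Set X.Opens
  isBasis : Opens.IsBasis B
  affine : ∀ U ∈ B, IsAffineOpen U

variable {X : Scheme.{u}} (𝔅 : AffBasis X)

/-- the associated locally directed cover -/
noncomputable abbrev AffBasis.cover : X.OpenCover := basisCover 𝔅.B 𝔅.isBasis

instance AffBasis.isAffine_cover (i : 𝔅.cover.I₀) : IsAffine (𝔅.cover.X i) := 𝔅.affine i.1 i.2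

instance AffBasis.preserves_trans {i j : 𝔅.cover.I₀} (hij : i ⟶ j) :
    PreservesColimitsOfShape WalkingParallelPair
      (MorphismProperty.Over.pullback affProp.{u} ⊤ (𝔅.cover.trans hij)) :=
  preservesColimitsOfShape_pb_of_flat _ (Scheme.Hom.flat_appTop _)

variable (D : WalkingParallelPair ⥤ AffOver X)

/-- the gluing data for the coequalizer -/
noncomputable def AffBasis.glueData : Scheme.Cover.ColimitGluingData D 𝔅.cover where
  cocone i := colimit.cocone _
  isColimit i := colimit.isColimit _
  prop_trans hij := by
    show IsAffineHom _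
    infer_instance

/-- the glued cocone -/
noncomputable def AffBasis.glued : Cocone D := (𝔅.glueData D).gluedCocone

/-- the glued cocone is a colimit -/
noncomputable def AffBasis.gluedIsColimit : IsColimit (𝔅.glued D) :=
  (𝔅.glueData D).isColimitGluedCocone

end glue

section restr

variable {X : Scheme.{u}} (𝔅 : AffBasis X) (D : WalkingParallelPair ⥤ AffOver X)

lemma AffBasis.restr_comm (i : 𝔅.cover.I₀) (a : WalkingParallelPair) :
    (pbFun (𝔅.cover.f i)).map ((𝔅.glued D).ι.app a) =
      ((𝔅.glueData D).cocone i).ι.app a ≫ ((𝔅.glueData D).pullbackGluedIso i).inv := by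
  apply MorphismProperty.Over.Hom.ext
  rw [MorphismProperty.Comma.comp_left]
  have h1 := (𝔅.glueData D).fst_gluedCocone_ι a i
  have h2 := (𝔅.glueData D).pullbackGluedIso_inv_fst i
  have h3 := (𝔅.glueData D).pullbackGluedIso_inv_snd i
  apply pullback.hom_ext
  · rw [Category.assoc]
    refine Eq.trans (?_ : _ = pullback.fst (D.obj a).hom (𝔅.cover.f i) ≫
      ((𝔅.glued D).ι.app a).left) ?_
    · exact pullback.lift_fst _ _ _
    · exact h1.trans (congrArg (fun k => (((𝔅.glueData D).cocone i).ι.app a).left ≫ k) h2.symm)
  · rw [Category.assoc]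
    refine Eq.trans (pullback.lift_snd _ _ _) ?_
    refine Eq.trans ?_
      (congrArg (fun k => (((𝔅.glueData D).cocone i).ι.app a).left ≫ k) h3.symm)
    exact (MorphismProperty.Over.w (((𝔅.glueData D).cocone i).ι.app a)).symm

/-- the restriction of the glued cocone to a member of the basis is the local colimit cocone -/
noncomputable def AffBasis.restrIso (i : 𝔅.cover.I₀) :
    (pbFun (𝔅.cover.f i)).mapCocone (𝔅.glued D) ≅ (𝔅.glueData D).cocone i :=
  Cocone.ext ((𝔅.glueData D).pullbackGluedIso i) (fun a => by
    rw [← Iso.eq_comp_inv]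
    exact 𝔅.restr_comm D i a)

/-- the restriction of the glued cocone to a member of the basis is a colimit -/
noncomputable def AffBasis.restrIsColimit (i : 𝔅.cover.I₀) :
    IsColimit ((pbFun (𝔅.cover.f i)).mapCocone (𝔅.glued D)) :=
  IsColimit.ofIsoColimit ((𝔅.glueData D).isColimit i) (𝔅.restrIso D i).symm

end restr

section isoLocal

lemma isPullback_pb_map {X X' : Scheme.{u}} (g : X' ⟶ X) {W W' : AffOver X} (m : W ⟶ W') :
    IsPullback ((pbFun g).map m).left (pullback.fst W.hom g) (pullback.fst W'.hom g) m.left := by
  refine IsPullback.of_right ?_ ?_ (IsPullback.of_hasPullback W'.hom g).flip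
  · have e1 : ((pbFun g).map m).left ≫ pullback.snd W'.hom g = pullback.snd W.hom g :=
      pullback.lift_snd _ _ _
    have e2 : m.left ≫ W'.hom = W.hom := MorphismProperty.Over.w m
    rw [e1, e2]
    exact (IsPullback.of_hasPullback W.hom g).flip
  · exact pullback.lift_fst _ _ _

variable {X : Scheme.{u}} (𝔅 : AffBasis X)

lemma isIso_of_isIso_left {W W' : AffOver X} (m : W ⟶ W') [h : IsIso m.left] : IsIso m := by
  have : IsIso ((MorphismProperty.Over.forget affProp.{u} ⊤ X ⋙
      CategoryTheory.Over.forget X).map m) := h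
  exact isIso_of_reflects_iso m
    (MorphismProperty.Over.forget affProp.{u} ⊤ X ⋙ CategoryTheory.Over.forget X)

lemma AffBasis.isIso_of_local {W W' : AffOver X} (m : W ⟶ W')
    (h : ∀ i : 𝔅.cover.I₀, IsIso ((pbFun (𝔅.cover.f i)).map m)) : IsIso m := by
  suffices hl : IsIso m.left from isIso_of_isIso_left m
  have key : MorphismProperty.isomorphisms Scheme.{u} m.left := by
    rw [IsZariskiLocalAtTarget.iff_of_openCover (P := MorphismProperty.isomorphisms Scheme.{u})
      (𝔅.cover.pullback₁ W'.hom)]
    intro i
    have hi : IsIso ((pbFun (𝔅.cover.f i)).map m).left :=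
      (MorphismProperty.Over.forget affProp.{u} ⊤ _ ⋙ CategoryTheory.Over.forget _).map_isIso
        ((pbFun (𝔅.cover.f i)).map m)
    have hpb := (isPullback_pb_map (𝔅.cover.f i) m).flip
    show IsIso (pullback.snd m.left (pullback.fst W'.hom (𝔅.cover.f i)))
    rw [← hpb.isoPullback_inv_snd]
    infer_instance
  exact key

variable (D : WalkingParallelPair ⥤ AffOver X)

/-- a cocone which is locally (on a basis of affine opens) a colimit is a colimit -/
lemma AffBasis.isColimit_of_local (c : Cocone D)
    (h : ∀ i : 𝔅.cover.I₀, IsColimit ((pbFun (𝔅.cover.f i)).mapCocone c)) :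
    Nonempty (IsColimit c) := by
  let δ := (𝔅.gluedIsColimit D).desc c
  have hδ : ∀ a, (𝔅.glued D).ι.app a ≫ δ = c.ι.app a := (𝔅.gluedIsColimit D).fac c
  have : IsIso δ := by
    apply 𝔅.isIso_of_local
    intro i
    have : (pbFun (𝔅.cover.f i)).map δ =
        ((𝔅.restrIsColimit D i).coconePointUniqueUpToIso (h i)).hom := by
      apply (𝔅.restrIsColimit D i).hom_ext
      intro a
      rw [IsColimit.comp_coconePointUniqueUpToIso_hom]
      simp only [Functor.mapCocone_ι_app]
      rw [← Functor.map_comp, hδ]
    rw [this]; infer_instance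
  exact ⟨IsColimit.ofIsoColimit (𝔅.gluedIsColimit D) (Cocone.ext (asIso δ) hδ)⟩

end isoLocal

section consequences

variable {X : Scheme.{u}}

/-- the basis of all affine opens -/
def AffBasis.all (X : Scheme.{u}) : AffBasis X :=
  ⟨X.affineOpens, X.isBasis_affineOpens, fun _ hU => hU⟩

instance affOver_hasCoequalizers' (X : Scheme.{u}) : HasCoequalizers (AffOver X) where
  has_colimit D := ⟨⟨⟨(AffBasis.all X).glued D, (AffBasis.all X).gluedIsColimit D⟩⟩⟩

variable (𝔅 : AffBasis X) (D : WalkingParallelPair ⥤ AffOver X)

/-- the restriction of any colimit cocone to a member of an affine basis is a colimit -/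
noncomputable def AffBasis.isColimitRestr (c : Cocone D) (hc : IsColimit c) (i : 𝔅.cover.I₀) :
    IsColimit ((pbFun (𝔅.cover.f i)).mapCocone c) :=
  IsColimit.ofIsoColimit (𝔅.restrIsColimit D i)
    ((Cocone.functoriality _ (pbFun (𝔅.cover.f i))).mapIso
      ((𝔅.gluedIsColimit D).uniqueUpToIso hc))

/-- restriction to an affine open preserves coequalizers of affine schemes -/
lemma preservesColimitsOfShape_pb_ι (U : X.Opens) (hU : IsAffineOpen U) :
    PreservesColimitsOfShape WalkingParallelPair (pbFun (X := X) U.ι) := by
  constructor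
  intro K
  exact preservesColimit_of_preserves_colimit_cocone ((AffBasis.all X).gluedIsColimit K)
    ((AffBasis.all X).restrIsColimit K ⟨U, hU⟩)

end consequences

end Groth.Agent.Lib.Helper69
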