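import Mathlib

/-!
# [AA2] for helper77's S0596: existence of solutions ⟹ approximation modulo `I`
-/

set_option autoImplicit false
universe u

namespace Groth.Agent.Lib.Helper69.ArtinAA2

open MvPolynomial in
theorem approx_of_exists {R Λ : Type u} [CommRing R] [CommRing Λ] [Algebra R Λ] (I : Ideal R)
    (hI : I.FG)
    (hsurj : ∀ a : Λ, ∃ c : R, a - algebraMap R Λ c ∈ I.map (algebraMap R Λ))
    (hex : ∀ (n m : ℕ) (F : Fin m → MvPolynomial (Fin n) R),
      (∃ a : Fin n → Λ, ∀ j, MvPolynomial.eval a (MvPolynomial.map (algebraMap R Λ) (F j)) = 0) →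
        ∃ b : Fin n → R, ∀ j, MvPolynomial.eval b (F j) = 0)
    (n m : ℕ) (F : Fin m → MvPolynomial (Fin n) R) (a : Fin n → Λ)
    (ha : ∀ j, MvPolynomial.eval a (MvPolynomial.map (algebraMap R Λ) (F j)) = 0) :
    ∃ b : Fin n → R, (∀ j, MvPolynomial.eval b (F j) = 0) ∧
      ∀ i, a i - algebraMap R Λ (b i) ∈ I.map (algebraMap R Λ) := by
  classical
  obtain ⟨S, hS⟩ := hI
  let s := S.card
  let μ : Fin s → R := fun k => (S.equivFin.symm k : R)
  have hrange : Set.range μ = (S : Set R) := by
    ext x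
    constructor
    · rintro ⟨k, rfl⟩
      exact (S.equivFin.symm k).2
    · intro hx
      exact ⟨S.equivFin ⟨x, hx⟩, by simp [μ]⟩
  have hμ : Ideal.span (Set.range μ) = I := by rw [hrange, hS]
  have hIΛ : I.map (algebraMap R Λ) =
      Ideal.span (Set.range (fun k => algebraMap R Λ (μ k))) := by
    rw [← hμ, Ideal.map_span, ← Set.range_comp]
    rfl
  choose c hc using fun i => hsurj (a i)
  have hy : ∀ i, ∃ y : Fin s → Λ,
      ∑ k, y k * algebraMap R Λ (μ k) = a i - algebraMap R Λ (c i) := by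
    intro i
    have := hc i
    rw [hIΛ] at this
    exact Ideal.mem_span_range_iff_exists_fun.1 this
  choose y hy using hy
  let e : Fin n × Fin s ≃ Fin (n * s) := finProdFinEquiv
  let g : Fin n → MvPolynomial (Fin (n * s)) R :=
    fun i => C (c i) + ∑ k, C (μ k) * X (e (i, k))
  let G : Fin m → MvPolynomial (Fin (n * s)) R := fun j => bind₁ g (F j)
  let y' : Fin (n * s) → Λ := fun t => y (e.symm t).1 (e.symm t).2
  have hgy : ∀ i, aeval y' (g i) = a i := by
    intro i
    simp only [g, map_add, map_sum, map_mul, aeval_C, aeval_X, y', Equiv.symm_apply_apply]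
    have h1 : ∑ k, algebraMap R Λ (μ k) * y i k = a i - algebraMap R Λ (c i) := by
      rw [← hy i]
      exact Finset.sum_congr rfl fun k _ => mul_comm _ _
    rw [h1]
    ring
  have hGy : ∀ j, eval y' (map (algebraMap R Λ) (G j)) = 0 := by
    intro j
    have h1 : eval y' (map (algebraMap R Λ) (G j)) = aeval y' (bind₁ g (F j)) := by
      rw [eval_map, aeval_def]
    rw [h1, aeval_bind₁]
    simp only [hgy]
    rw [aeval_def, ← eval_map]
    exact ha j
  obtain ⟨z, hz⟩ := hex (n * s) m G ⟨y', hGy⟩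
  let b : Fin n → R := fun i => c i + ∑ k, μ k * z (e (i, k))
  have hgz : ∀ i, eval z (g i) = b i := by
    intro i
    simp [g, b]
  refine ⟨b, ?_, ?_⟩
  · intro j
    have h1 : eval z (G j) = eval (fun i => eval z (g i)) (F j) :=
      eval₂Hom_bind₁ (RingHom.id R) z g (F j)
    have h2 := hz j
    rw [h1] at h2
    simpa only [hgz] using h2
  · intro i
    have h1 : a i - algebraMap R Λ (b i) = (a i - algebraMap R Λ (c i)) -
        ∑ k, algebraMap R Λ (μ k) * algebraMap R Λ (z (e (i, k))) := by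
      simp only [b, map_add, map_sum, map_mul]
      ring
    rw [h1]
    refine Ideal.sub_mem _ (hc i) (Ideal.sum_mem _ fun k _ =>
      Ideal.mul_mem_right _ _ (Ideal.mem_map_of_mem _ ?_))
    rw [← hμ]
    exact Ideal.subset_span ⟨k, rfl⟩

end Groth.Agent.Lib.Helper69.ArtinAA2
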