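import Groth.Agent.Lib.Helper93.AwayLaurent

set_option autoImplicit false
open HomogeneousLocalization LaurentPolynomial

namespace Groth.Agent.Lib.Helper69.AwayFP

/-- A retract of a finitely presented ring map is finitely presented: if `φ : R → S` is finitely
presented, `s : B → S`, `r : S → B` with `r ∘ s = id` and `s ∘ ρ = φ`, then `ρ : R → B` is finitely
presented. -/
theorem finitePresentation_of_retract {R S B : Type*} [CommRing R] [CommRing S] [CommRing B]
    (φ : R →+* S) (hφ : φ.FinitePresentation) (r : S →+* B) (s : B →+* S)
    (hrs : ∀ b, r (s b) = b) (ρ : R →+* B) (hs : s.comp ρ = φ) : ρ.FinitePresentation := by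
  classical
  have hρ : ρ = r.comp φ := by
    ext c
    rw [← hs]
    simp [hrs]
  have hsurj : Function.Surjective r := fun b => ⟨s b, hrs b⟩
  have hφc : ∀ c, s (ρ c) = φ c := fun c => by rw [← hs]; rfl
  letI : Algebra R S := φ.toAlgebra
  have hft : Algebra.FiniteType R S := RingHom.FiniteType.of_finitePresentation hφ
  obtain ⟨G, hG⟩ := hft.out
  have hker : (RingHom.ker r).FG := by
    refine ⟨G.image (fun g => g - s (r g)), ?_⟩
    apply le_antisymm
    · rw [Ideal.span_le]
      intro x hx
      simp only [Finset.coe_image, Set.mem_image, Finset.mem_coe] at hx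
      obtain ⟨g, -, rfl⟩ := hx
      simp [RingHom.mem_ker, hrs]
    · intro x hx
      have key : ∀ y : S, y ∈ Algebra.adjoin R (G : Set S) →
          y - s (r y) ∈ Ideal.span ((G.image (fun g => g - s (r g)) : Finset S) : Set S) := by
        intro y hy
        induction hy using Algebra.adjoin_induction with
        | mem g hg =>
          apply Ideal.subset_span
          simp only [Finset.coe_image, Set.mem_image, Finset.mem_coe]
          exact ⟨g, hg, rfl⟩
        | algebraMap c =>
          have : algebraMap R S c = φ c := rfl
          rw [this, ← hφc c, hrs]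
          simp
        | add y z _ _ hy hz =>
          have : y + z - s (r (y + z)) = (y - s (r y)) + (z - s (r z)) := by
            simp only [map_add]; ring
          rw [this]
          exact add_mem hy hz
        | mul y z _ _ hy hz =>
          have : y * z - s (r (y * z)) = y * (z - s (r z)) + (y - s (r y)) * s (r z) := by
            simp only [map_mul]; ring
          rw [this]
          exact add_mem (Ideal.mul_mem_left _ _ hz) (Ideal.mul_mem_right _ _ hy)
      have hx' := key x (by rw [hG]; trivial)
      rw [RingHom.mem_ker] at hx
      simpa [hx] using hx'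
  rw [hρ]
  exact RingHom.FinitePresentation.comp_surjective hφ hsurj hker

variable {R A : Type*} [CommRing R] [CommRing A] [Algebra R A] (𝒜 : ℕ → Submodule R A)
  [GradedAlgebra 𝒜] {f : A} (hf : f ∈ 𝒜 1)

/-- The structure map `R → 𝒜 0 → A_(f)`. -/
noncomputable def awayStructMap (f : A) : R →+* Away 𝒜 f :=
  (fromZeroRingHom 𝒜 (Submonoid.powers f)).comp (algebraMap R (𝒜 0))

theorem algebraMap_awayStructMap (c : R) :
    algebraMap (Away 𝒜 f) (Localization.Away f) (awayStructMap 𝒜 f c) =
      algebraMap R (Localization.Away f) c := by
  rw [IsScalarTower.algebraMap_apply R A (Localization.Away f)]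
  rw [HomogeneousLocalization.algebraMap_apply]
  simp only [awayStructMap, RingHom.comp_apply, fromZeroRingHom, RingHom.coe_mk, MonoidHom.coe_mk,
    OneHom.coe_mk, val_mk]
  have h1 : ((algebraMap R (𝒜 0) c : 𝒜 0) : A) = algebraMap R A c := rfl
  rw [Localization.mk_eq_mk', IsLocalization.mk'_eq_iff_eq_mul, h1]
  simp

include hf in
/-- For `f` homogeneous of degree one and `A` a finitely presented `R`-algebra, the degree zero
localization `A_(f)` is a finitely presented `R`-algebra. -/
theorem finitePresentation_awayStructMap [Algebra.FinitePresentation R A] :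
    (awayStructMap 𝒜 f).FinitePresentation := by
  haveI : Algebra.FinitePresentation A (Localization.Away f) :=
    IsLocalization.Away.finitePresentation f
  haveI : Algebra.FinitePresentation R (Localization.Away f) :=
    Algebra.FinitePresentation.trans R A (Localization.Away f)
  have hφ : (algebraMap R (Localization.Away f)).FinitePresentation := by
    rw [RingHom.finitePresentation_algebraMap]
    infer_instance
  refine finitePresentation_of_retract (algebraMap R (Localization.Away f)) hφ
    ((LaurentPolynomial.eval₂ (RingHom.id (Away 𝒜 f)) 1).comp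
      (Groth.Agent.Lib.Helper93.AwayLaurent.toLaurent 𝒜 hf))
    (algebraMap (Away 𝒜 f) (Localization.Away f)) ?_ _ ?_
  · intro b
    rw [RingHom.comp_apply, Groth.Agent.Lib.Helper93.AwayLaurent.toLaurent_algebraMap_away,
      LaurentPolynomial.eval₂_C]
    rfl
  · ext c
    exact algebraMap_awayStructMap 𝒜 c

end Groth.Agent.Lib.Helper69.AwayFP
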