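import Mathlib
import Groth.Prelude.Def_Brnch
import Groth.Agent.Lib.Helper87.GUModel

/-!
# Branches and the normalization (helper69)

Dictionary between the number of (geometric) branches of a localization of a domain and the fibre
of the integral closure.
-/

set_option autoImplicit false
set_option linter.style.haveILetI false
set_option linter.unusedSectionVars false

namespace Groth.Agent.Lib.Helper69.BranchNorm

universe u

open Groth.Agent.Lib.Helper87.GUModel IsLocalRing
open scoped Function

theorem encard_le_iSup_of_forall_finset {β : Type*} (T : Set β) (b : ℕ∞)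
    (h : ∀ t : Finset β, (t : Set β) ⊆ T → (t.card : ℕ∞) ≤ b) : T.encard ≤ b := by
  by_cases hfin : T.Finite
  · have := h hfin.toFinset (by simp)
    rwa [← hfin.encard_eq_coe_toFinset_card] at this
  · have hinf : T.Infinite := hfin
    rw [hinf.encard_eq]
    rw [top_le_iff, ENat.eq_top_iff_forall_ge]
    intro n
    obtain ⟨t, ht, htn⟩ := hinf.exists_subset_card_eq n
    have := h t ht
    rwa [htn] at this

theorem card_sigma_eq_tsum {ι : Type*} (α : ι → Type*) :
    ENat.card (Σ i, α i) = ∑' i, ENat.card (α i) := by
  classical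
  have hsum : HasSum (fun i => ENat.card (α i)) (⨆ s : Finset ι, ∑ i ∈ s, ENat.card (α i)) :=
    hasSum_of_isLUB _ isLUB_iSup
  rw [hsum.tsum_eq]
  let S : ι → Set (Σ i, α i) := fun i => Set.range (Sigma.mk i)
  have hS : ∀ i, (S i).encard = ENat.card (α i) := fun i => by
    have hinj : Function.Injective (Sigma.mk i : α i → Σ i, α i) := sigma_mk_injective
    show (Set.range (Sigma.mk i : α i → Σ i, α i)).encard = ENat.card (α i)
    rw [← Set.image_univ, hinj.encard_image, Set.encard_univ]
  have hdisj : Pairwise (Disjoint on S) := by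
    intro i j hij
    rw [Function.onFun, Set.disjoint_left]
    rintro _ ⟨a, rfl⟩ ⟨b, hb⟩
    exact hij (congrArg Sigma.fst hb).symm
  have hfin : ∀ s : Finset ι, (⋃ i ∈ s, S i).encard = ∑ i ∈ s, ENat.card (α i) := by
    intro s
    have h1 := Set.Finite.encard_biUnion (t := (s : Set ι)) s.finite_toSet (s := S)
      (fun i _ j _ hij => hdisj hij)
    have h2 : (⋃ i ∈ (s : Set ι), S i) = ⋃ i ∈ s, S i := by simp
    rw [← h2, h1, finsum_mem_coe_finset]
    exact Finset.sum_congr rfl (fun i _ => hS i)
  apply le_antisymm
  · rw [← Set.encard_univ]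
    apply encard_le_iSup_of_forall_finset
    intro t _
    refine le_trans ?_ (le_iSup _ (t.image Sigma.fst))
    rw [← hfin, ← Set.encard_coe_eq_coe_finsetCard]
    apply Set.encard_le_encard
    intro z hz
    simp only [Set.mem_iUnion]
    exact ⟨z.1, Finset.mem_image_of_mem _ hz, z.2, rfl⟩
  · apply iSup_le
    intro s
    rw [← hfin s, ← Set.encard_univ]
    exact Set.encard_le_encard (Set.subset_univ _)


section Ring

variable (R : Type u) [CommRing R] [IsDomain R] (p : Ideal R) [p.IsPrime]

local notation "Kf" => FractionRing R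
local notation "Ap" => Localization.AtPrime p
local notation "R1" => integralClosure R (FractionRing R)
local notation "N1" => integralClosure (Localization.AtPrime p) (FractionRing R)

/-- the inclusion of integral closures `R1 → N1`. -/
noncomputable def incl : R1 →+* N1 where
  toFun x := ⟨x.1, by
    have h : IsIntegral R x.1 := x.2
    exact h.tower_top⟩
  map_one' := rfl
  map_mul' _ _ := rfl
  map_zero' := rfl
  map_add' _ _ := rfl

noncomputable instance : Algebra R1 N1 := (incl R p).toAlgebra

instance : IsScalarTower R1 N1 Kf := IsScalarTower.of_algebraMap_eq' rfl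

instance : IsScalarTower R R1 N1 := IsScalarTower.of_algebraMap_eq' (by
  ext r
  have h1 : ((algebraMap R N1 r : N1) : Kf) = algebraMap R Kf r := by
    exact (IsScalarTower.algebraMap_apply R N1 Kf r).symm
  rw [h1]
  rfl)

theorem isLocalization_N :
    IsLocalization (Algebra.algebraMapSubmonoid R1 p.primeCompl) N1 := by
  haveI : IsLocalization (Algebra.algebraMapSubmonoid Kf p.primeCompl) Kf := by
    apply IsLocalization.of_le_isUnit
    rintro _ ⟨r, hr, rfl⟩
    show IsUnit (algebraMap R Kf r)
    rw [isUnit_iff_ne_zero]
    intro h0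
    have : r = 0 := (IsFractionRing.injective R Kf) (by rw [h0, map_zero])
    exact hr (this ▸ p.zero_mem)
  exact IsLocalization.integralClosure (R := R) (S := Kf) (Rf := Ap) (Sf := Kf) p.primeCompl


theorem isModel_N : IsModel Ap N1 where
  isIntegrallyClosed := integralClosure.isIntegrallyClosedOfFiniteExtension Kf
  isIntegral := inferInstance
  ker_eq := by
    have hinj : Function.Injective (algebraMap Ap N1) := by
      intro a b hab
      have := congrArg (algebraMap N1 Kf) hab
      rw [← IsScalarTower.algebraMap_apply, ← IsScalarTower.algebraMap_apply] at this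
      exact IsFractionRing.injective Ap Kf this
    rw [(RingHom.injective_iff_ker_eq_bot _).mp hinj]
    exact (nilradical_eq_zero Ap).symm
  frac := by
    intro x
    obtain ⟨a, s, hs, hx⟩ := IsFractionRing.div_surjective (A := Ap) (x : Kf)
    have hs0 : s ≠ 0 := nonZeroDivisors.ne_zero hs
    refine ⟨a, s, ?_, ?_⟩
    · intro h0
      have := congrArg (algebraMap N1 Kf) h0
      rw [← IsScalarTower.algebraMap_apply, map_zero] at this
      exact hs0 (IsFractionRing.injective Ap Kf (by rw [this, map_zero]))
    · apply Subtype.ext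
      have hsK : algebraMap Ap Kf s ≠ 0 := fun h =>
        hs0 (IsFractionRing.injective Ap Kf (by rw [h, map_zero]))
      show (x : Kf) * algebraMap Ap Kf s = algebraMap Ap Kf a
      rw [← hx, div_mul_cancel₀ _ hsK]


/-- the fibre of `Spec R' → Spec R` over `p`. -/
abbrev Fib : Type u := {q : PrimeSpectrum R1 // q.asIdeal.comap (algebraMap R R1) = p}

variable {R p}

theorem disjoint_of_fib (q : Fib R p) :
    Disjoint (Algebra.algebraMapSubmonoid R1 p.primeCompl : Set R1) (q.1.asIdeal : Set R1) := by
  rw [Set.disjoint_left]
  rintro _ ⟨r, hr, rfl⟩ hrq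
  apply hr
  rw [← q.2]
  exact hrq

theorem comap_eq_maximalIdeal_of_comap_eq (P : Ideal Ap) [P.IsPrime]
    (h : P.comap (algebraMap R Ap) = p) : P = IsLocalRing.maximalIdeal Ap := by
  have := IsLocalization.map_under p.primeCompl Ap P
  rw [← this, Ideal.under_def, h, Localization.AtPrime.map_eq_maximalIdeal]

variable (R p)

/-- the fibre over `p` is in bijection with the maximal ideals of the integral closure of the
localization. -/
noncomputable def fibEquiv : Fib R p ≃ MaximalSpectrum N1 where
  toFun q := ⟨q.1.asIdeal.map (algebraMap R1 N1), by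
    haveI := isLocalization_N R p
    have hpr : (q.1.asIdeal.map (algebraMap R1 N1)).IsPrime :=
      IsLocalization.isPrime_of_isPrime_disjoint _ N1 q.1.asIdeal q.1.2 (disjoint_of_fib q)
    have hcm : (q.1.asIdeal.map (algebraMap R1 N1)).comap (algebraMap R1 N1) = q.1.asIdeal :=
      IsLocalization.under_map_of_isPrime_disjoint _ N1 q.1.2 (disjoint_of_fib q)
    have hA : ((q.1.asIdeal.map (algebraMap R1 N1)).comap (algebraMap Ap N1)) =
        IsLocalRing.maximalIdeal Ap := by
      haveI : ((q.1.asIdeal.map (algebraMap R1 N1)).comap (algebraMap Ap N1)).IsPrime :=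
        Ideal.comap_isPrime _ _
      apply comap_eq_maximalIdeal_of_comap_eq
      rw [Ideal.comap_comap, ← IsScalarTower.algebraMap_eq, IsScalarTower.algebraMap_eq R R1 N1,
        ← Ideal.comap_comap, hcm, q.2]
    apply Ideal.isMaximal_of_isIntegral_of_isMaximal_comap (R := Ap)
    rw [hA]
    infer_instance⟩
  invFun n := ⟨⟨n.asIdeal.comap (algebraMap R1 N1), Ideal.comap_isPrime _ _⟩, by
    have hmax : (n.asIdeal.comap (algebraMap Ap N1)).IsMaximal :=
      Ideal.isMaximal_comap_of_isIntegral_of_isMaximal (R := Ap) n.asIdeal
    have hA : n.asIdeal.comap (algebraMap Ap N1) = IsLocalRing.maximalIdeal Ap :=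
      IsLocalRing.eq_maximalIdeal hmax
    show (n.asIdeal.comap (algebraMap R1 N1)).comap (algebraMap R R1) = p
    rw [Ideal.comap_comap, ← IsScalarTower.algebraMap_eq, IsScalarTower.algebraMap_eq R Ap N1,
      ← Ideal.comap_comap, hA, ← Ideal.under_def, Localization.AtPrime.under_maximalIdeal]⟩
  left_inv q := by
    haveI := isLocalization_N R p
    apply Subtype.ext
    apply PrimeSpectrum.ext
    exact IsLocalization.under_map_of_isPrime_disjoint _ N1 q.1.2 (disjoint_of_fib q)
  right_inv n := by
    haveI := isLocalization_N R p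
    apply MaximalSpectrum.ext
    exact IsLocalization.map_under (Algebra.algebraMapSubmonoid R1 p.primeCompl) N1 n.asIdeal


end Ring

section Ring2

variable (R : Type u) [CommRing R] [IsDomain R] (p : Ideal R) [p.IsPrime]

local notation "Kf" => FractionRing R
local notation "Ap" => Localization.AtPrime p
local notation "R1" => integralClosure R (FractionRing R)
local notation "N1" => integralClosure (Localization.AtPrime p) (FractionRing R)

variable {R p}

/-- the map from the integral closure of the localization to the residue field of a point of the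
fibre. -/
noncomputable def theta (q : Fib R p) : N1 →+* q.1.asIdeal.ResidueField :=
  haveI := isLocalization_N R p
  IsLocalization.lift (M := Algebra.algebraMapSubmonoid R1 p.primeCompl)
    (g := algebraMap R1 q.1.asIdeal.ResidueField) (by
      rintro ⟨_, r, hr, rfl⟩
      rw [isUnit_iff_ne_zero]
      intro h0
      have hmem : algebraMap R R1 r ∈ q.1.asIdeal := by
        rwa [Ideal.algebraMap_residueField_eq_zero] at h0
      apply hr
      rw [← q.2]
      exact hmem)

theorem theta_algebraMap (q : Fib R p) (x : R1) :
    theta q (algebraMap R1 N1 x) = algebraMap R1 q.1.asIdeal.ResidueField x := by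
  haveI := isLocalization_N R p
  exact IsLocalization.lift_eq _ x

theorem ker_theta (q : Fib R p) :
    RingHom.ker (theta q) = (fibEquiv R p q).asIdeal := by
  have hle : (fibEquiv R p q).asIdeal ≤ RingHom.ker (theta q) := by
    show q.1.asIdeal.map (algebraMap R1 N1) ≤ _
    rw [Ideal.map_le_iff_le_comap]
    intro x hx
    rw [Ideal.mem_comap, RingHom.mem_ker, theta_algebraMap,
      Ideal.algebraMap_residueField_eq_zero]
    exact hx
  have hne : RingHom.ker (theta q) ≠ ⊤ := RingHom.ker_ne_top _
  exact ((fibEquiv R p q).isMaximal.eq_of_le hne hle).symm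

theorem theta_surjective (q : Fib R p) : Function.Surjective (theta q) := by
  haveI := isLocalization_N R p
  have hcm : (q.1.asIdeal.map (algebraMap R1 N1)).comap (algebraMap R1 N1) = q.1.asIdeal :=
    IsLocalization.under_map_of_isPrime_disjoint _ N1 q.1.2 (disjoint_of_fib q)
  have hmax : (q.1.asIdeal.map (algebraMap R1 N1)).IsMaximal := (fibEquiv R p q).isMaximal
  letI := Ideal.Quotient.field (q.1.asIdeal.map (algebraMap R1 N1))
  let f : R1 →+* N1 ⧸ q.1.asIdeal.map (algebraMap R1 N1) :=
    (Ideal.Quotient.mk _).comp (algebraMap R1 N1)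
  have hf0 : ∀ x : R1, f x = 0 ↔ x ∈ q.1.asIdeal := by
    intro x
    show Ideal.Quotient.mk _ (algebraMap R1 N1 x) = 0 ↔ _
    rw [Ideal.Quotient.eq_zero_iff_mem, ← Ideal.mem_comap, hcm]
  let back : q.1.asIdeal.ResidueField →+* N1 ⧸ q.1.asIdeal.map (algebraMap R1 N1) :=
    Ideal.ResidueField.lift q.1.asIdeal f (fun x hx => (hf0 x).mpr hx) (by
      intro x hx
      show IsUnit (f x)
      rw [isUnit_iff_ne_zero]
      exact fun h => hx ((hf0 x).mp h))
  let fwd : N1 ⧸ q.1.asIdeal.map (algebraMap R1 N1) →+* q.1.asIdeal.ResidueField :=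
    Ideal.Quotient.lift _ (theta q) (fun x hx => by
      have : x ∈ RingHom.ker (theta q) := by rw [ker_theta]; exact hx
      exact this)
  have hid : fwd.comp back = RingHom.id _ := by
    apply Ideal.ResidueField.ringHom_ext
    ext x
    show fwd (back (algebraMap R1 _ x)) = algebraMap R1 _ x
    have hb : back (algebraMap R1 _ x) = f x := Ideal.ResidueField.lift_algebraMap _ _ _ _ x
    rw [hb]
    show theta q (algebraMap R1 N1 x) = _
    rw [theta_algebraMap]
  intro z
  obtain ⟨y, hy⟩ := Ideal.Quotient.mk_surjective (back z)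
  refine ⟨y, ?_⟩
  have h1 : fwd (back z) = z := congrArg (fun g => g z) hid
  rw [← h1, ← hy]
  rfl

end Ring2

section EmbEquiv

variable (A : Type u) [CommRing A] [IsLocalRing A]

/-- the canonical map `A → normRed A`. -/
noncomputable def toNorm : A →+* CAlg2.normRed A :=
  (algebraMap (CAlg2.red A) (CAlg2.normRed A)).comp (Ideal.Quotient.mk (nilradical A))

theorem toNorm_isIntegral : (toNorm A).IsIntegral := by
  refine RingHom.IsIntegral.trans _ _ ?_ ?_
  · exact RingHom.isIntegral_of_surjective _ Ideal.Quotient.mk_surjective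
  · exact algebraMap_isIntegral_iff.mpr inferInstance

variable {A}

theorem card_emb_eq (m' : MaximalSpectrum (CAlg2.normRed A)) {E' : Type u} [Field E']
    (ρ : ResidueField A →+* E') (Θ : CAlg2.normRed A →+* E') (hΘs : Function.Surjective Θ)
    (hΘk : RingHom.ker Θ = m'.asIdeal) (hΘ : ∀ a : A, Θ (toNorm A a) = ρ (residue A a)) :
    ENat.card (Brnch.Emb A m') = ENat.card (@Field.Emb (ResidueField A) E' _ _ ρ.toAlgebra) := by
  letI := ρ.toAlgebra
  -- algebraicity
  have hint : ρ.IsIntegral := by
    have h1 : (Θ.comp (toNorm A)).IsIntegral :=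
      RingHom.IsIntegral.trans _ _ (toNorm_isIntegral A) (RingHom.isIntegral_of_surjective _ hΘs)
    have h2 : Θ.comp (toNorm A) = ρ.comp (residue A) := RingHom.ext hΘ
    rw [h2] at h1
    exact RingHom.IsIntegral.tower_top _ _ h1
  haveI : Algebra.IsIntegral (ResidueField A) E' := algebraMap_isIntegral_iff.mp hint
  haveI : Algebra.IsAlgebraic (ResidueField A) E' := Algebra.IsIntegral.isAlgebraic
  -- the isomorphism of residue fields
  let β : CAlg2.normRed A ⧸ m'.asIdeal →+* E' :=
    Ideal.Quotient.lift m'.asIdeal Θ (fun x hx => by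
      have : x ∈ RingHom.ker Θ := by rw [hΘk]; exact hx
      exact this)
  have hβinj : Function.Injective β := by
    haveI := m'.isMaximal
    letI := Ideal.Quotient.field m'.asIdeal
    exact RingHom.injective β
  have hβsurj : Function.Surjective β := fun z => by
    obtain ⟨y, rfl⟩ := hΘs z
    exact ⟨Ideal.Quotient.mk _ y, rfl⟩
  let βe : CAlg2.normRed A ⧸ m'.asIdeal ≃+* E' := RingEquiv.ofBijective β ⟨hβinj, hβsurj⟩
  have hβres : ∀ a : A, βe (Brnch.toResidue A m' a) = ρ (residue A a) := fun a => hΘ a
  refine (ENat.card_congr ?_).trans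
    (ENat.card_congr (Field.embEquivOfIsAlgClosed (ResidueField A) E'
      (AlgebraicClosure (ResidueField A))).symm)
  exact
    { toFun := fun σ =>
        { toRingHom := σ.1.comp βe.symm.toRingHom
          commutes' := fun k => by
            obtain ⟨a, rfl⟩ := residue_surjective k
            show σ.1 (βe.symm (ρ (residue A a))) = _
            rw [← hβres a, RingEquiv.symm_apply_apply]
            exact congrArg (fun g => g a) σ.2 }
      invFun := fun g => ⟨(g : E' →+* AlgebraicClosure (ResidueField A)).comp βe.toRingHom, by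
        ext a
        show g (βe (Brnch.toResidue A m' a)) = _
        rw [hβres a]
        exact g.commutes (residue A a)⟩
      left_inv := fun σ => by
        apply Subtype.ext
        ext x
        show σ.1 (βe.symm (βe x)) = σ.1 x
        rw [RingEquiv.symm_apply_apply]
      right_inv := fun g => by
        ext x
        show g (βe (βe.symm x)) = g x
        rw [RingEquiv.apply_symm_apply] }

end EmbEquiv

/-- maximal spectra of isomorphic rings. -/
def maxSpecCongr {B C : Type*} [CommRing B] [CommRing C] (e : B ≃+* C) :
    MaximalSpectrum B ≃ MaximalSpectrum C where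
  toFun m := ⟨m.asIdeal.comap e.symm, haveI := m.isMaximal; inferInstance⟩
  invFun m := ⟨m.asIdeal.comap e, haveI := m.isMaximal; inferInstance⟩
  left_inv m := by
    apply MaximalSpectrum.ext
    ext x
    show e.symm (e x) ∈ m.asIdeal ↔ x ∈ m.asIdeal
    rw [RingEquiv.symm_apply_apply]
  right_inv m := by
    apply MaximalSpectrum.ext
    ext x
    show e (e.symm x) ∈ m.asIdeal ↔ x ∈ m.asIdeal
    rw [RingEquiv.apply_symm_apply]

section RT

variable (R : Type u) [CommRing R] [IsDomain R] (p : Ideal R) [p.IsPrime]

local notation "Kf" => FractionRing R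
local notation "Ap" => Localization.AtPrime p
local notation "R1" => integralClosure R (FractionRing R)
local notation "N1" => integralClosure (Localization.AtPrime p) (FractionRing R)

/-- the comparison isomorphism `normRed A_p ≃ N`. -/
noncomputable def normEquiv : CAlg2.normRed Ap ≃+* N1 :=
  Classical.choose (isModel_N R p).exists_equiv

theorem normEquiv_toNorm (a : Ap) : normEquiv R p (toNorm Ap a) = algebraMap Ap N1 a :=
  Classical.choose_spec (isModel_N R p).exists_equiv a

/-- points of the fibre and maximal ideals of `normRed A_p`. -/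
noncomputable def fibEquiv' : Fib R p ≃ MaximalSpectrum (CAlg2.normRed Ap) :=
  (fibEquiv R p).trans (maxSpecCongr (normEquiv R p).symm)

theorem fibEquiv'_asIdeal (q : Fib R p) :
    (fibEquiv' R p q).asIdeal = (fibEquiv R p q).asIdeal.comap (normEquiv R p) := rfl

theorem finite_minimalPrimes : (minimalPrimes Ap).Finite := by
  rw [IsDomain.minimalPrimes_eq_singleton_bot]
  exact Set.finite_singleton _

theorem numBranches_localization : Brnch.numBranches Ap = ENat.card (Fib R p) := by
  unfold Brnch.numBranches
  rw [if_pos (finite_minimalPrimes R p)]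
  exact (ENat.card_congr (fibEquiv' R p)).symm

theorem theta_comp (q : Fib R p) (a : Ap) :
    theta q (algebraMap Ap N1 a) =
      Ideal.ResidueField.map p q.1.asIdeal (algebraMap R R1) q.2.symm (residue Ap a) := by
  have h : (theta q).comp (algebraMap Ap N1) =
      (Ideal.ResidueField.map p q.1.asIdeal (algebraMap R R1) q.2.symm).comp (residue Ap) := by
    apply IsLocalization.ringHom_ext p.primeCompl
    ext r
    show theta q (algebraMap Ap N1 (algebraMap R Ap r)) =
      Ideal.ResidueField.map p q.1.asIdeal (algebraMap R R1) q.2.symm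
        (residue Ap (algebraMap R Ap r))
    rw [← IsScalarTower.algebraMap_apply R Ap N1, IsScalarTower.algebraMap_apply R R1 N1,
      theta_algebraMap]
    have : residue Ap (algebraMap R Ap r) = algebraMap R p.ResidueField r := rfl
    rw [this, Ideal.ResidueField.map_algebraMap]
  exact congrArg (fun g => g a) h

theorem numGeomBranches_localization :
    Brnch.numGeomBranches Ap = ∑' q : Fib R p,
      (letI := (Ideal.ResidueField.map p q.1.asIdeal (algebraMap R R1) q.2.symm).toAlgebra
       ENat.card (Field.Emb p.ResidueField q.1.asIdeal.ResidueField)) := by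
  unfold Brnch.numGeomBranches
  rw [if_pos (finite_minimalPrimes R p), card_sigma_eq_tsum, ← (fibEquiv' R p).tsum_eq]
  refine tsum_congr fun q => ?_
  refine card_emb_eq (fibEquiv' R p q)
    (Ideal.ResidueField.map p q.1.asIdeal (algebraMap R R1) q.2.symm)
    ((theta q).comp (normEquiv R p : CAlg2.normRed Ap →+* N1)) ?_ ?_ ?_
  · exact (theta_surjective q).comp (normEquiv R p).surjective
  · rw [← RingHom.comap_ker, ker_theta, fibEquiv'_asIdeal]
    rfl
  · intro a
    show theta q (normEquiv R p (toNorm Ap a)) = _
    rw [normEquiv_toNorm, theta_comp]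

end RT


/-- The number of embeddings only depends on the isomorphism class of the extension. -/
theorem card_fieldEmb_congr {F E F' E' : Type u} [Field F] [Field E] [Field F'] [Field E']
    (φ : F →+* E) (φ' : F' →+* E') (e₁ : F ≃+* F') (e₂ : E ≃+* E')
    (h : ∀ x, e₂ (φ x) = φ' (e₁ x)) (halg : φ.IsIntegral) :
    ENat.card (@Field.Emb F E _ _ φ.toAlgebra) = ENat.card (@Field.Emb F' E' _ _ φ'.toAlgebra) := by
  letI := φ.toAlgebra
  letI := φ'.toAlgebra
  haveI : Algebra.IsIntegral F E := algebraMap_isIntegral_iff.mp halg
  haveI : Algebra.IsAlgebraic F E := Algebra.IsIntegral.isAlgebraic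
  letI : Algebra F (AlgebraicClosure E') :=
    ((algebraMap E' (AlgebraicClosure E')).comp (e₂.toRingHom.comp φ)).toAlgebra
  refine (ENat.card_congr (Field.embEquivOfIsAlgClosed F E (AlgebraicClosure E'))).trans ?_
  refine ENat.card_congr ?_
  exact
    { toFun := fun g =>
        { toRingHom := (g : E →+* AlgebraicClosure E').comp e₂.symm.toRingHom
          commutes' := fun k => by
            show g (e₂.symm (φ' k)) = algebraMap E' (AlgebraicClosure E') (φ' k)
            have hk : φ' k = e₂ (φ (e₁.symm k)) := by rw [h, RingEquiv.apply_symm_apply]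
            rw [hk, RingEquiv.symm_apply_apply]
            exact g.commutes (e₁.symm k) }
      invFun := fun g =>
        { toRingHom := (g : E' →+* AlgebraicClosure E').comp e₂.toRingHom
          commutes' := fun k => by
            show g (e₂ (φ k)) = algebraMap E' (AlgebraicClosure E') (e₂ (φ k))
            rw [h]
            exact g.commutes (e₁ k) }
      left_inv := fun g => by
        ext x
        show g (e₂.symm (e₂ x)) = g x
        rw [RingEquiv.symm_apply_apply]
      right_inv := fun g => by
        ext x
        show g (e₂ (e₂.symm x)) = g x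
        rw [RingEquiv.apply_symm_apply] }

section RT2

variable {R : Type u} [CommRing R] [IsDomain R] {p : Ideal R} [p.IsPrime]
variable {R3 : Type u} [CommRing R3] (ψ : R →+* R3)
  (e : ↥(integralClosure R (FractionRing R)) ≃+* R3)
  (he : ∀ r, e (algebraMap R ↥(integralClosure R (FractionRing R)) r) = ψ r)

local notation "Kf" => FractionRing R
local notation "Ap" => Localization.AtPrime p
local notation "R1" => integralClosure R (FractionRing R)
local notation "N1" => integralClosure (Localization.AtPrime p) (FractionRing R)

theorem isIntegral_residueField_map (q : Fib R p) :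
    (Ideal.ResidueField.map p q.1.asIdeal (algebraMap R R1) q.2.symm).IsIntegral := by
  have h1 : (((theta q).comp (normEquiv R p : CAlg2.normRed Ap →+* N1)).comp
      (toNorm Ap)).IsIntegral :=
    RingHom.IsIntegral.trans _ _ (toNorm_isIntegral Ap) (RingHom.isIntegral_of_surjective _
      ((theta_surjective q).comp (normEquiv R p).surjective))
  have h2 : ((theta q).comp (normEquiv R p : CAlg2.normRed Ap →+* N1)).comp (toNorm Ap) =
      (Ideal.ResidueField.map p q.1.asIdeal (algebraMap R R1) q.2.symm).comp (residue Ap) := by
    ext a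
    show theta q (normEquiv R p (toNorm Ap a)) = _
    rw [normEquiv_toNorm, theta_comp]
    rfl
  rw [h2] at h1
  exact RingHom.IsIntegral.tower_top _ _ h1

/-- the fibre over `p` in a model of the integral closure. -/
abbrev Fib3 (p : Ideal R) (ψ : R →+* R3) : Type u :=
  {q : PrimeSpectrum R3 // q.asIdeal.comap ψ = p}

include he in
theorem fibModel_aux1 (q : Fib R p) :
    (PrimeSpectrum.comap e.symm.toRingHom q.1).asIdeal.comap ψ = p := by
  refine Eq.trans ?_ q.2
  ext r
  show e.symm (ψ r) ∈ q.1.asIdeal ↔ algebraMap R R1 r ∈ q.1.asIdeal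
  have h1 : ψ r = e (algebraMap R R1 r) := (he r).symm
  rw [h1, RingEquiv.symm_apply_apply]

include he in
theorem fibModel_aux2 (q : Fib3 p ψ) :
    (PrimeSpectrum.comap e.toRingHom q.1).asIdeal.comap (algebraMap R R1) = p := by
  refine Eq.trans ?_ q.2
  ext r
  show e (algebraMap R R1 r) ∈ q.1.asIdeal ↔ ψ r ∈ q.1.asIdeal
  rw [he r]

/-- transport of the fibre to a model. -/
noncomputable def fibModelEquiv : Fib R p ≃ Fib3 p ψ where
  toFun q := ⟨PrimeSpectrum.comap e.symm.toRingHom q.1, fibModel_aux1 ψ e he q⟩
  invFun q := ⟨PrimeSpectrum.comap e.toRingHom q.1, fibModel_aux2 ψ e he q⟩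
  left_inv q := by
    apply Subtype.ext
    apply PrimeSpectrum.ext
    ext x
    show e.symm (e x) ∈ q.1.asIdeal ↔ x ∈ q.1.asIdeal
    rw [RingEquiv.symm_apply_apply]
  right_inv q := by
    apply Subtype.ext
    apply PrimeSpectrum.ext
    ext x
    show e (e.symm x) ∈ q.1.asIdeal ↔ x ∈ q.1.asIdeal
    rw [RingEquiv.apply_symm_apply]

include he in
theorem numBranches_localization_model :
    Brnch.numBranches (Localization.AtPrime p) = ENat.card (Fib3 p ψ) :=
  (numBranches_localization R p).trans (ENat.card_congr (fibModelEquiv ψ e he))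

theorem fibModel_aux3 (q : Fib R p) :
    q.1.asIdeal = ((fibModelEquiv ψ e he q).1.asIdeal).comap e.toRingHom := by
  ext x
  show x ∈ q.1.asIdeal ↔ e.symm (e x) ∈ q.1.asIdeal
  rw [RingEquiv.symm_apply_apply]

/-- integrality is transported along isomorphisms of arrows of fields -/
theorem isIntegral_of_conj {F E F' E' : Type u} [Field F] [Field E] [Field F'] [Field E']
    (φ : F →+* E) (φ' : F' →+* E') (e₁ : F ≃+* F') (e₂ : E ≃+* E')
    (h : ∀ x, e₂ (φ x) = φ' (e₁ x)) (halg : φ.IsIntegral) : φ'.IsIntegral := by
  have h1 : φ' = (e₂.toRingHom.comp φ).comp e₁.symm.toRingHom := by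
    ext x
    show φ' x = e₂ (φ (e₁.symm x))
    rw [h, RingEquiv.apply_symm_apply]
  rw [h1]
  refine RingHom.IsIntegral.trans _ _ (RingHom.isIntegral_of_surjective _ e₁.symm.surjective) ?_
  exact RingHom.IsIntegral.trans _ _ halg (RingHom.isIntegral_of_surjective _ e₂.surjective)

theorem residueField_bijective_model (q : Fib R p) :
    Function.Bijective (Ideal.ResidueField.map q.1.asIdeal (fibModelEquiv ψ e he q).1.asIdeal
      e.toRingHom (fibModel_aux3 ψ e he q)) :=
  RingHom.SurjectiveOnStalks.residueFieldMap_bijective
    (RingHom.surjectiveOnStalks_of_surjective (f := e.toRingHom) e.surjective)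
    q.1.asIdeal (fibModelEquiv ψ e he q).1.asIdeal (fibModel_aux3 ψ e he q)

theorem residueField_compat_model (q : Fib R p) (x : p.ResidueField) :
    (RingEquiv.ofBijective _ (residueField_bijective_model ψ e he q))
      (Ideal.ResidueField.map p q.1.asIdeal (algebraMap R R1) q.2.symm x) =
    (Ideal.ResidueField.map p (fibModelEquiv ψ e he q).1.asIdeal ψ
      (fibModelEquiv ψ e he q).2.symm) ((RingEquiv.refl _) x) := by
  show (Ideal.ResidueField.map q.1.asIdeal (fibModelEquiv ψ e he q).1.asIdeal e.toRingHom
      (fibModel_aux3 ψ e he q)).comp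
      (Ideal.ResidueField.map p q.1.asIdeal (algebraMap R R1) q.2.symm) x =
    (Ideal.ResidueField.map p (fibModelEquiv ψ e he q).1.asIdeal ψ
      (fibModelEquiv ψ e he q).2.symm) x
  congr 1
  apply Ideal.ResidueField.ringHom_ext
  ext r
  simp only [RingHom.comp_apply, Ideal.ResidueField.map_algebraMap]
  congr 1
  exact he r

include he in
theorem isIntegral_residueField_map_model (q : Fib3 p ψ) :
    (Ideal.ResidueField.map p q.1.asIdeal ψ q.2.symm).IsIntegral := by
  obtain ⟨q, rfl⟩ := (fibModelEquiv ψ e he).surjective q
  exact isIntegral_of_conj _ _ (RingEquiv.refl _)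
    (RingEquiv.ofBijective _ (residueField_bijective_model ψ e he q))
    (residueField_compat_model ψ e he q) (isIntegral_residueField_map q)

include he in
theorem numGeomBranches_localization_model :
    Brnch.numGeomBranches (Localization.AtPrime p) = ∑' q : Fib3 p ψ,
      (letI := (Ideal.ResidueField.map p q.1.asIdeal ψ q.2.symm).toAlgebra
       ENat.card (Field.Emb p.ResidueField q.1.asIdeal.ResidueField)) := by
  rw [numGeomBranches_localization R p, ← (fibModelEquiv ψ e he).tsum_eq]
  refine tsum_congr fun q => ?_
  exact card_fieldEmb_congr _ _ (RingEquiv.refl _)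
    (RingEquiv.ofBijective _ (residueField_bijective_model ψ e he q))
    (residueField_compat_model ψ e he q) (isIntegral_residueField_map q)

end RT2

end Groth.Agent.Lib.Helper69.BranchNorm
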