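import Mathlib
import Groth.Prelude.Def_Pi1
import Groth.Prelude.Def_BlowUp2
import Groth.Agent.Lib.Helper69.NormField3
import Groth.Agent.Lib.Helper82.EffCartier
import Groth.Agent.Lib.Helper82.BlowUpPullback

/-!
# Split components of the preimage of a normal Cartier divisor under a finite étale map (helper69)

Building blocks for S17377.
-/

set_option autoImplicit false
set_option linter.style.haveILetI false
set_option linter.unusedSectionVars false
set_option backward.isDefEq.respectTransparency false
set_option backward.defeqAttrib.useBackward true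
universe u
open CategoryTheory CategoryTheory.Limits AlgebraicGeometry TopologicalSpace

namespace Groth.Agent.Lib.Helper69.CartSplit

/-- a surjective morphism of integral schemes maps the generic point to the generic point. -/
theorem map_genericPoint_of_surjective {N Y : Scheme.{u}} [IsIntegral N] [IsIntegral Y]
    (d : N ⟶ Y) (hsurj : Function.Surjective d) : d (genericPoint N) = genericPoint Y := by
  obtain ⟨e, he⟩ := hsurj (genericPoint Y)
  have h1 : d (genericPoint N) ⤳ genericPoint Y := by
    rw [← he]
    exact (genericPoint_specializes e).map d.continuous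
  exact (h1.antisymm (genericPoint_specializes _)).eq

/-- a field extension of degree one is surjective. -/
theorem surjective_of_finrank_eq_one {K L : Type*} [Field K] [Field L] (φ : K →+* L)
    (h : letI := φ.toAlgebra; Module.finrank K L = 1) : Function.Surjective φ := by
  letI := φ.toAlgebra
  have h1 : (⊥ : Subalgebra K L) = ⊤ := Subalgebra.bot_eq_top_of_finrank_eq_one h
  have h2 : Function.Surjective (algebraMap K L) :=
    Algebra.surjective_algebraMap_iff.mpr h1.symm
  exact h2

/-- an integral morphism of integral schemes onto a normal scheme which maps generic point to generic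
point with residue degree one is an isomorphism. -/
theorem isIso_of_integral_residueDegree_one {N Y : Scheme.{u}} [IsIntegral N] [IsIntegral Y]
    (hY : Pi1.IsNormalScheme Y) (d : N ⟶ Y) [IsIntegralHom d]
    (hgen : d (genericPoint N) = genericPoint Y)
    (hdeg : d.residueDegree (genericPoint N) = 1) : IsIso d := by
  obtain ⟨ξ, hξ⟩ : ∃ ξ : N, ξ = genericPoint N := ⟨_, rfl⟩
  rw [← hξ] at hgen hdeg
  let τ : Spec (CommRingCat.of (N.residueField ξ)) ⟶ N :=
    Spec.map (𝟙 (N.residueField ξ)) ≫ N.fromSpecResidueField ξ
  have hri := (Scheme.SpecToEquivOfField (N.residueField ξ) N).right_inv ⟨ξ, 𝟙 _⟩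
  rw [Scheme.SpecToEquivOfField_eq_iff] at hri
  obtain ⟨e, he⟩ := hri
  replace e : τ (IsLocalRing.closedPoint (N.residueField ξ)) = ξ := e
  replace he : N.descResidueField (Scheme.stalkClosedPointTo τ) =
      (N.residueFieldCongr e).hom ≫ 𝟙 _ := he
  refine Groth.Agent.Lib.Helper69.NormField.isIso_of_integral_birational hY d τ (e.trans hξ) ?_ ?_
  · rw [Scheme.Hom.comp_apply, e, hgen]
  · -- surjectivity
    have h1 : Y.residue _ ≫ Y.descResidueField (Scheme.stalkClosedPointTo (τ ≫ d)) =
        Scheme.stalkClosedPointTo (τ ≫ d) := Scheme.residue_descResidueField _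
    have h2 : Y.descResidueField (Scheme.stalkClosedPointTo (τ ≫ d)) =
        d.residueFieldMap (τ (IsLocalRing.closedPoint _)) ≫
          N.descResidueField (Scheme.stalkClosedPointTo τ) :=
      Scheme.descResidueField_stalkClosedPointTo_comp d τ
    rw [← e] at hdeg
    have h3 : Function.Surjective (d.residueFieldMap (τ (IsLocalRing.closedPoint _))).hom :=
      surjective_of_finrank_eq_one _ hdeg
    have h4 : Function.Surjective (N.descResidueField (Scheme.stalkClosedPointTo τ)).hom := by
      rw [he, Category.comp_id]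
      exact (ConcreteCategory.bijective_of_isIso (N.residueFieldCongr e).hom).2
    rw [← h1, h2]
    intro l
    obtain ⟨a, ha⟩ := h4 l
    obtain ⟨b, hb⟩ := h3 a
    obtain ⟨c, hc⟩ := Y.residue_surjective _ b
    exact ⟨c, by simp [hc, hb, ha]⟩

/-- kernels of the maps on sections agree when factoring through an open immersion covering the
preimage. -/
theorem ker_app_eq {Z P Y : Scheme.{u}} (j : Z ⟶ P) [IsOpenImmersion j] (π : P ⟶ Y) (ι : Z ⟶ Y)
    (h : j ≫ π = ι) (N : Y.Opens) (hN : π ⁻¹ᵁ N ≤ j.opensRange) :
    RingHom.ker (ι.app N).hom = RingHom.ker (π.app N).hom := by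
  subst h
  haveI : IsIso (j.app (π ⁻¹ᵁ N)) := j.isIso_app _ hN
  have hinj : Function.Injective (j.app (π ⁻¹ᵁ N)).hom :=
    (ConcreteCategory.bijective_of_isIso (j.app (π ⁻¹ᵁ N))).1
  ext x
  rw [RingHom.mem_ker, RingHom.mem_ker, Scheme.Hom.comp_app]
  constructor
  · intro hx
    apply hinj
    rw [map_zero]
    exact hx
  · intro hx
    show (j.app (π ⁻¹ᵁ N)).hom ((π.app N).hom x) = 0
    rw [hx, map_zero]

theorem ideal_eq_ker_app {Y : Scheme.{u}} (E : Y.IdealSheafData) (N : Y.affineOpens) :
    E.ideal N = RingHom.ker (E.subschemeι.app N.1).hom := by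
  conv_lhs => rw [← E.ker_subschemeι]
  exact Scheme.Hom.ker_apply _ N

/-- a closed subscheme which is open in the preimage of an effective Cartier divisor under a flat
morphism is an effective Cartier divisor. -/
theorem isEffCartier_of_open_in_preimage {X Y : Scheme.{u}} (f : Y ⟶ X) [Flat f]
    (D : X.IdealSheafData) (hD : BlowUp.IsEffCartierIdeal D) (E : Y.IdealSheafData)
    (j : E.subscheme ⟶ pullback f D.subschemeι) [IsOpenImmersion j]
    (hj : j ≫ pullback.fst f D.subschemeι = E.subschemeι) :
    BlowUp.IsEffCartierIdeal E := by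
  have hD' : BlowUp.IsEffCartierIdeal (D.comap f) :=
    Groth.Agent.Lib.Helper82.isEffCartierIdeal_comap_of_flat f D hD
  have hker : ∀ N : Y.affineOpens, (D.comap f).ideal N =
      RingHom.ker ((pullback.fst f D.subschemeι).app N.1).hom := fun N =>
    Scheme.Hom.ker_apply _ N
  intro y
  by_cases hy : y ∈ Set.range E.subschemeι
  · obtain ⟨e, rfl⟩ := hy
    have hCclosed : IsClosed ((pullback.fst f D.subschemeι) '' ((j.opensRange : Set _)ᶜ)) :=
      (pullback.fst f D.subschemeι).isClosedEmbedding.isClosedMap _
        j.opensRange.isOpen.isClosed_compl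
    let W : Y.Opens := ⟨_, hCclosed.isOpen_compl⟩
    have hyW : E.subschemeι e ∈ W := by
      rintro ⟨p, hp, hpe⟩
      rw [← hj, Scheme.Hom.comp_apply] at hpe
      have := (pullback.fst f D.subschemeι).isClosedEmbedding.injective hpe
      exact hp (this ▸ ⟨e, rfl⟩)
    obtain ⟨N, hyN, hNW, a, ha, hIa⟩ :=
      Groth.Agent.Lib.Helper82.exists_affine_isPrincipalNZD_le (D.comap f) hD' W _ hyW
    refine ⟨N, hyN, a, ha, ?_⟩
    rw [← hIa, hker N, ideal_eq_ker_app]
    refine ker_app_eq j _ _ hj N.1 ?_
    intro p hp
    by_contra hpO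
    exact hNW hp ⟨p, hpO, rfl⟩
  · have hclosed : IsClosed (Set.range E.subschemeι) := E.subschemeι.isClosedEmbedding.isClosed_range
    let V : Y.Opens := ⟨_, hclosed.isOpen_compl⟩
    obtain ⟨N, hN, hyN, hNV⟩ := exists_isAffineOpen_mem_and_subset (U := V) (x := y) hy
    refine ⟨⟨N, hN⟩, hyN, 1, one_mem _, ?_⟩
    rw [Ideal.span_singleton_one, ideal_eq_ker_app]
    have hbot : E.subschemeι ⁻¹ᵁ N = ⊥ := by
      ext e
      simp only [Opens.coe_bot, Set.mem_empty_iff_false, iff_false]
      intro he
      exact hNV he ⟨e, rfl⟩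
    have hsub : Subsingleton Γ(E.subscheme, E.subschemeι ⁻¹ᵁ N) := by
      rw [hbot]; infer_instance
    rw [eq_top_iff]
    intro x _
    rw [RingHom.mem_ker]
    exact Subsingleton.elim _ _

end Groth.Agent.Lib.Helper69.CartSplit
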