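import Mathlib

set_option autoImplicit false
universe u
open TensorProduct

namespace Groth.Agent.Lib.Helper69.Cyc1940Q3

/-- **Q3**: for a flat `A`-algebra `B`, a prime `P` of `A` and `c ∉ P`, the image of `c` in
`B ⧸ P B` is a non-zero-divisor. -/
theorem mk_map_mem_nonZeroDivisors {A B : Type u} [CommRing A] [CommRing B] [Algebra A B]
    [Module.Flat A B] (P : Ideal A) [P.IsPrime] (c : A) (hc : c ∉ P) :
    Ideal.Quotient.mk (P.map (algebraMap A B)) (algebraMap A B c) ∈
      nonZeroDivisors (B ⧸ P.map (algebraMap A B)) := by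
  -- multiplication by `c` on `A ⧸ P` is injective
  let f : (A ⧸ P) →ₗ[A] (A ⧸ P) := LinearMap.lsmul A (A ⧸ P) c
  have hf : Function.Injective f := by
    rw [← LinearMap.ker_eq_bot, LinearMap.ker_eq_bot']
    intro x hx
    have hx' : c • x = 0 := hx
    obtain ⟨a, rfl⟩ := Ideal.Quotient.mk_surjective x
    rw [← Ideal.Quotient.mk_eq_mk, ← Submodule.Quotient.mk_smul] at hx'
    rw [Submodule.Quotient.mk_eq_zero] at hx'
    rw [Ideal.Quotient.eq_zero_iff_mem]
    rw [smul_eq_mul] at hx'
    exact (Ideal.IsPrime.mem_or_mem ‹P.IsPrime› hx').resolve_left hc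
  have hfl : Function.Injective (f.lTensor B) :=
    Module.Flat.lTensor_preserves_injective_linearMap f hf
  have key : ∀ y : B ⊗[A] (A ⧸ P), f.lTensor B y = c • y := by
    intro y
    induction y using TensorProduct.induction_on with
    | zero => simp
    | tmul b x =>
      simp only [LinearMap.lTensor_tmul]
      rw [TensorProduct.smul_tmul', TensorProduct.smul_tmul]
      rfl
    | add y z hy hz => rw [map_add, hy, hz, smul_add]
  have hfl' : ∀ y : B ⊗[A] (A ⧸ P), c • y = 0 → y = 0 := by
    intro y hy
    apply hfl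
    rw [map_zero, key, hy]
  let e := Algebra.TensorProduct.quotIdealMapEquivTensorQuot B P
  rw [mem_nonZeroDivisors_iff_left]
  intro x hx
  apply e.injective
  rw [map_zero]
  apply hfl'
  have h1 : c • e x = e ((algebraMap A B c) • x) := by
    rw [map_smul, algebraMap_smul]
  rw [h1]
  have h2 : (algebraMap A B c) • x =
      Ideal.Quotient.mk (P.map (algebraMap A B)) (algebraMap A B c) * x := by
    obtain ⟨b, rfl⟩ := Ideal.Quotient.mk_surjective x
    rw [Algebra.smul_def]
    rfl
  rw [h2, hx, map_zero]

end Groth.Agent.Lib.Helper69.Cyc1940Q3
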