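import Groth.Agent.Lib.Helper69.Pi0FF5
import Groth.Agent.Lib.Helper69.EtSplit
import Groth.Agent.Lib.Helper87.HensStrictProps
import Groth.Agent.Lib.Helper41.QCClosure


/-!
# Restriction of finite étale covers to a dense open is fully faithful when punctured strict
henselizations at the missing (closed) points are connected (helper69)

`false_of_specializes` (local key), `clopen_lift`, `fullyFaithful_of_punctured_connected`.
-/
set_option autoImplicit false
set_option linter.style.haveILetI false
set_option linter.unusedSectionVars false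
set_option backward.isDefEq.respectTransparency false
set_option backward.defeqAttrib.useBackward true
open CategoryTheory Limits AlgebraicGeometry MorphismProperty Opposite TopologicalSpace
open IsLocalRing

universe u
namespace Groth.Agent.Lib.Helper69.DenseFF

/-- `Spec 𝒪_{Y,y} ⟶ Y` is flat. -/
lemma flat_fromSpecStalk (Y : Scheme.{u}) (y : Y) : Flat (Y.fromSpecStalk y) := by
  obtain ⟨_, ⟨U : Y.Opens, hU : IsAffineOpen U, rfl⟩, hyU, -⟩ :=
    Y.isBasis_affineOpens.exists_subset_of_mem_open (Set.mem_univ y) isOpen_univ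
  rw [← hU.fromSpecStalk_eq_fromSpecStalk hyU, IsAffineOpen.fromSpecStalk]
  have : Flat (Spec.map (Y.presheaf.germ U y hyU)) := by
    rw [Flat.SpecMap_iff]
    let _ : Algebra Γ(Y, U) (Y.presheaf.stalk y) :=
      TopCat.Presheaf.algebra_section_stalk Y.presheaf ⟨y, hyU⟩
    have := hU.isLocalization_stalk ⟨y, hyU⟩
    have hfl : Module.Flat Γ(Y, U) (Y.presheaf.stalk y) :=
      IsLocalization.flat _ (hU.primeIdealOf ⟨y, hyU⟩).asIdeal.primeCompl
    exact hfl
  infer_instance

section pt

variable {X : Scheme.{u}} (x : X) (R : Type u) [CommRing R] [IsLocalRing R]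
  [Algebra (X.presheaf.stalk x) R] [IsLocalHom (algebraMap (X.presheaf.stalk x) R)]

/-- the morphism `Spec R ⟶ X` for a local algebra `R` over the local ring at `x`. -/
noncomputable def shPt : Spec (CommRingCat.of R) ⟶ X :=
  Spec.map (CommRingCat.ofHom (algebraMap (X.presheaf.stalk x) R)) ≫ X.fromSpecStalk x

lemma shPt_closedPoint : shPt x R (closedPoint R) = x := by
  rw [shPt, Scheme.Hom.comp_apply]
  have : Spec.map (CommRingCat.ofHom (algebraMap (X.presheaf.stalk x) R)) (closedPoint R) =
      closedPoint (X.presheaf.stalk x) := IsLocalRing.comap_closedPoint _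
  rw [this]
  exact Scheme.fromSpecStalk_closedPoint

variable [Hensel.IsStrictHenselization (X.presheaf.stalk x) R]

lemma flat_shPt : Flat (shPt x R) := by
  have h1 : Flat (X.fromSpecStalk x) := flat_fromSpecStalk X x
  have h2 : Flat (Spec.map (CommRingCat.ofHom (algebraMap (X.presheaf.stalk x) R))) := by
    rw [Flat.SpecMap_iff, CommRingCat.hom_ofHom, RingHom.flat_algebraMap_iff]
    exact Groth.Agent.Lib.Helper87.Hens.flat_of_isStrictHenselization (X.presheaf.stalk x) R
  rw [shPt]
  infer_instance

lemma eq_closedPoint_of_shPt_eq (p : Spec (CommRingCat.of R)) (hp : shPt x R p = x) :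
    p = closedPoint R := by
  rw [shPt, Scheme.Hom.comp_apply] at hp
  have h1 : Spec.map (CommRingCat.ofHom (algebraMap (X.presheaf.stalk x) R)) p =
      closedPoint (X.presheaf.stalk x) := by
    apply (X.fromSpecStalk x).isEmbedding.injective
    exact hp.trans Scheme.fromSpecStalk_closedPoint.symm
  have h2 : p.asIdeal.comap (algebraMap (X.presheaf.stalk x) R) =
      maximalIdeal (X.presheaf.stalk x) := congrArg PrimeSpectrum.asIdeal h1
  have h3 : maximalIdeal R ≤ p.asIdeal := by
    rw [← Groth.Agent.Lib.Helper87.Hens.map_maximalIdeal_of_isStrictHenselization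
      (X.presheaf.stalk x) R, Ideal.map_le_iff_le_comap, h2]
  apply PrimeSpectrum.ext
  exact ((maximalIdeal.isMaximal R).eq_of_le p.2.ne_top h3).symm

end pt

section key

open Groth.Agent.Lib.Helper87.Hens in
/-- The key local statement: a point outside `g⁻¹ U` cannot be a specialization of points of both
parts of an open partition of `g⁻¹ U`, when the punctured strict henselization is connected. -/
theorem false_of_specializes {X : Scheme.{u}} (U : X.Opens)
    (hcl : ∀ x : X, x ∉ U → IsClosed ({x} : Set X))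
    (hsh : ∀ x : X, x ∉ U → ∀ (R : Type u) [CommRing R] [IsLocalRing R]
      [Algebra (X.presheaf.stalk x) R]
      [IsLocalHom (algebraMap (X.presheaf.stalk x) R)]
      [Hensel.IsStrictHenselization (X.presheaf.stalk x) R],
      ConnectedSpace (FEt.puncturedSpec R : Scheme.{u}))
    {W : Scheme.{u}} (g : W ⟶ X) (hg : FEt.prop g)
    (D D' : Set W) (hD : IsOpen D) (hD' : IsOpen D') (hdisj : Disjoint D D')
    (hun : D ∪ D' = g ⁻¹' (U : Set X))
    (w : W) (hw : g w ∉ U) (d d' : W) (hd : d ∈ D) (hd' : d' ∈ D')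
    (hdw : d ⤳ w) (hdw' : d' ⤳ w) : False := by
  set x : X := g w with hx
  let R : Type u := Hsh (X.presheaf.stalk x)
  haveI hSH : Hensel.IsStrictHenselization (X.presheaf.stalk x) R :=
    isStrictHenselization_Hsh (X.presheaf.stalk x)
  haveI : HenselianLocalRing R := hSH.henselian
  haveI : IsSepClosed (ResidueField R) := hSH.isSepClosure.sep_closed
  let j := shPt x R
  haveI : Etale g := hg.2
  obtain ⟨h, hh, hhw⟩ := Groth.Agent.Lib.Helper69.EtSplit.exists_lift_of_strictlyHenselian g j w
    (shPt_closedPoint x R).symm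
  -- flatness of `h`
  have hflat : Flat h := by
    let σ : Spec (CommRingCat.of R) ⟶ pullback g j :=
      pullback.lift h (𝟙 _) (by rw [hh, Category.id_comp])
    have hσ1 : σ ≫ pullback.fst g j = h := pullback.lift_fst _ _ _
    have hσ2 : σ ≫ pullback.snd g j = 𝟙 _ := pullback.lift_snd _ _ _
    have hsnd : FEt.prop (pullback.snd g j) := FEt.prop.pullback_snd _ _ hg
    have hprop : FEt.prop σ :=
      FEt.prop.of_postcomp (W' := FEt.prop) σ (pullback.snd g j) hsnd
        (by rw [hσ2]; exact FEt.prop.id_mem _)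
    have : IsFinite σ := hprop.1
    have : Etale σ := hprop.2
    haveI : Flat j := flat_shPt x R
    rw [← hσ1]
    infer_instance
  have hgen : GeneralizingMap h := Flat.generalizingMap h
  obtain ⟨p, -, hp⟩ := hgen (a := closedPoint R) (b := d) (by rw [hhw]; exact hdw)
  obtain ⟨p', -, hp'⟩ := hgen (a := closedPoint R) (b := d') (by rw [hhw]; exact hdw')
  have hsubU : ∀ z, z ∈ D ∪ D' → g z ∈ U := fun z hz => by
    rw [hun] at hz; exact hz
  have hpne : p ≠ closedPoint R := by
    rintro rfl
    rw [hhw] at hp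
    apply hw
    rw [hx, hp]
    exact hsubU d (Or.inl hd)
  have hpne' : p' ≠ closedPoint R := by
    rintro rfl
    rw [hhw] at hp'
    apply hw
    rw [hx, hp']
    exact hsubU d' (Or.inr hd')
  have hmem : ∀ q : Spec (CommRingCat.of R), q ≠ closedPoint R → h q ∈ D ∪ D' := by
    intro q hq
    rw [hun]
    show g (h q) ∈ U
    by_contra hnot
    have e : g (h q) = j q := by rw [← Scheme.Hom.comp_apply, hh]
    have hcl' := hcl _ hnot
    have spec : j q ⤳ x := by
      have := (specializes_closedPoint q).map j.continuous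
      rwa [shPt_closedPoint x R] at this
    have h1 : x ∈ closure ({j q} : Set X) := spec.mem_closure
    rw [e] at hcl'
    rw [hcl'.closure_eq] at h1
    exact hq (eq_closedPoint_of_shPt_eq x R q (Set.mem_singleton_iff.mp h1).symm)
  -- connectedness
  haveI hconn : ConnectedSpace (FEt.puncturedSpec R : Scheme.{u}) := hsh x hw R
  have hpre : _root_.IsPreconnected ((FEt.puncturedSpec R : (Spec (CommRingCat.of R)).Opens) :
      Set (Spec (CommRingCat.of R))) := by
    rw [isPreconnected_iff_preconnectedSpace]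
    exact hconn.toPreconnectedSpace
  have hPmem : ∀ q : Spec (CommRingCat.of R), q ≠ closedPoint R →
      q ∈ ((FEt.puncturedSpec R : (Spec (CommRingCat.of R)).Opens) :
        Set (Spec (CommRingCat.of R))) := fun q hq => hq
  obtain ⟨q, hq, hq1, hq2⟩ := hpre (h ⁻¹' D) (h ⁻¹' D') (hD.preimage h.continuous)
    (hD'.preimage h.continuous) (fun q hq => hmem q hq) ⟨p, hPmem p hpne, by
      show h p ∈ D
      rw [hp]; exact hd⟩ ⟨p', hPmem p' hpne', by
      show h p' ∈ D'
      rw [hp']; exact hd'⟩
  exact Set.disjoint_left.mp hdisj hq1 hq2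

end key

section global

variable {X : Scheme.{u}} (U : X.Opens)

lemma range_fst_ι (W : FEt.Cat X) :
    Set.range (pullback.fst W.hom U.ι) = W.hom ⁻¹' (U : Set X) := by
  rw [Scheme.Pullback.range_fst, Scheme.Opens.range_ι]

lemma denseRange_fst (hU : Dense (U : Set X)) (W : FEt.Cat X) :
    DenseRange (pullback.fst W.hom U.ι) := by
  haveI : Etale W.hom := W.prop.2
  show Dense (Set.range (pullback.fst W.hom U.ι))
  rw [range_fst_ι]
  exact hU.preimage W.hom.isOpenMap

/-- abstract clopen lifting from a dense open, given that closures of the two parts of an open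
partition do not meet. -/
lemma exists_clopen_of_disjoint_closure {T : Type*} [TopologicalSpace T] (V D D' : Set T)
    (hV : Dense V) (hun : D ∪ D' = V)
    (hdc : Disjoint (closure D) (closure D')) :
    IsClopen (closure D) ∧ closure D ∩ V = D := by
  have hcov : closure D ∪ closure D' = Set.univ := by
    rw [← closure_union, hun, hV.closure_eq]
  have hcompl : closure D = (closure D')ᶜ := by
    ext z
    constructor
    · intro hz hz'
      exact Set.disjoint_left.mp hdc hz hz'
    · intro hz
      have : z ∈ closure D ∪ closure D' := by rw [hcov]; trivial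
      rcases this with h | h
      · exact h
      · exact absurd h hz
  refine ⟨⟨isClosed_closure, ?_⟩, ?_⟩
  · rw [hcompl]
    exact isClosed_closure.isOpen_compl
  · ext z
    constructor
    · rintro ⟨hz, hzV⟩
      rw [← hun] at hzV
      rcases hzV with h | h
      · exact h
      · exact absurd (subset_closure h) (fun h' => Set.disjoint_left.mp hdc hz h')
    · intro hz
      exact ⟨subset_closure hz, by rw [← hun]; exact Or.inl hz⟩

theorem clopen_lift (hU : Dense (U : Set X)) [QuasiCompact U.ι]
    (hcl : ∀ x : X, x ∉ U → IsClosed ({x} : Set X))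
    (hsh : ∀ x : X, x ∉ U → ∀ (R : Type u) [CommRing R] [IsLocalRing R]
      [Algebra (X.presheaf.stalk x) R]
      [IsLocalHom (algebraMap (X.presheaf.stalk x) R)]
      [Hensel.IsStrictHenselization (X.presheaf.stalk x) R],
      ConnectedSpace (FEt.puncturedSpec R : Scheme.{u}))
    (W : FEt.Cat X) (C₀ : Set ↥(pullback W.hom U.ι)) (hC₀ : IsClopen C₀) :
    ∃ C : Set W.left, IsClopen C ∧ (pullback.fst W.hom U.ι) ⁻¹' C = C₀ := by
  haveI : Etale W.hom := W.prop.2
  set p₁ := pullback.fst W.hom U.ι with hp₁
  have hinj : Function.Injective p₁ := p₁.isOpenEmbedding.injective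
  let D : Set W.left := p₁ '' C₀
  let D' : Set W.left := p₁ '' C₀ᶜ
  have hD : IsOpen D := p₁.isOpenEmbedding.isOpenMap _ hC₀.isOpen
  have hD' : IsOpen D' := p₁.isOpenEmbedding.isOpenMap _ hC₀.compl.isOpen
  have hdisj : Disjoint D D' := (Set.disjoint_image_iff hinj).mpr disjoint_compl_right
  have hun : D ∪ D' = W.hom ⁻¹' (U : Set X) := by
    rw [← Set.image_union, Set.union_compl_self, Set.image_univ, range_fst_ι]
  -- specializations
  have hspec : ∀ (C₁ : Set ↥(pullback W.hom U.ι)), IsClopen C₁ → ∀ w ∈ closure (p₁ '' C₁),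
      ∃ d ∈ p₁ '' C₁, d ⤳ w := by
    intro C₁ hC₁ w hw
    let O : (pullback W.hom U.ι).Opens := ⟨C₁, hC₁.isOpen⟩
    haveI : IsFinite O.ι :=
      Groth.Agent.Lib.Helper82.Pi0FEt.isFinite_ι_of_isClosed O hC₁.isClosed
    have hr : Set.range (O.ι ≫ p₁) = p₁ '' C₁ := by
      rw [Scheme.Hom.comp_base, TopCat.coe_comp, Set.range_comp, Scheme.Opens.range_ι]
      rfl
    obtain ⟨z, hz⟩ := Groth.Agent.Lib.Helper41.exists_specializes_of_mem_closure_range
      (O.ι ≫ p₁) w (by rw [← hr] at hw; exact hw)
    exact ⟨_, by rw [← hr]; exact ⟨z, rfl⟩, hz⟩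
  have hdc : Disjoint (closure D) (closure D') := by
    rw [Set.disjoint_left]
    intro w hw hw'
    obtain ⟨d, hd, hdw⟩ := hspec C₀ hC₀ w hw
    obtain ⟨d', hd', hdw'⟩ := hspec C₀ᶜ hC₀.compl w hw'
    by_cases hwU : W.hom w ∈ U
    · have : w ∈ D ∪ D' := by rw [hun]; exact hwU
      rcases this with h | h
      · exact Set.disjoint_left.mp hdisj (hdw'.mem_open hD h) hd'
      · exact Set.disjoint_left.mp hdisj hd (hdw.mem_open hD' h)
    · exact false_of_specializes U hcl hsh W.hom W.prop D D' hD hD' hdisj hun w hwU d d' hd hd'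
        hdw hdw'
  have hV : Dense (W.hom ⁻¹' (U : Set X)) := hU.preimage W.hom.isOpenMap
  obtain ⟨hclopen, hinter⟩ := exists_clopen_of_disjoint_closure _ D D' hV hun hdc
  refine ⟨closure D, hclopen, ?_⟩
  ext c
  constructor
  · intro hc
    have h1 : p₁ c ∈ closure D ∩ W.hom ⁻¹' (U : Set X) :=
      ⟨hc, by rw [← range_fst_ι]; exact ⟨c, rfl⟩⟩
    rw [hinter] at h1
    obtain ⟨c', hc', e⟩ := h1
    rwa [← hinj e]
  · intro hc
    exact subset_closure ⟨c, hc, rfl⟩

theorem fullyFaithful_of_punctured_connected (hU : Dense (U : Set X)) [QuasiCompact U.ι]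
    (hcl : ∀ x : X, x ∉ U → IsClosed ({x} : Set X))
    (hsh : ∀ x : X, x ∉ U → ∀ (R : Type u) [CommRing R] [IsLocalRing R]
      [Algebra (X.presheaf.stalk x) R]
      [IsLocalHom (algebraMap (X.presheaf.stalk x) R)]
      [Hensel.IsStrictHenselization (X.presheaf.stalk x) R],
      ConnectedSpace (FEt.puncturedSpec R : Scheme.{u})) :
    (FEt.restrict U.ι).Full ∧ (FEt.restrict U.ι).Faithful :=
  ⟨Groth.Agent.Lib.Helper69.Pi0FF.full_of_clopen_lift_of_dense U.ι (denseRange_fst U hU)
      (clopen_lift U hU hcl hsh),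
    Groth.Agent.Lib.Helper69.Pi0FF.faithful_of_dense U.ι (denseRange_fst U hU)⟩

end global

end Groth.Agent.Lib.Helper69.DenseFF
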