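import Groth.Agent.Lib.Helper69.DenseFF
import Mathlib.AlgebraicGeometry.Morphisms.QuasiFinite

/-!
# Variant of `DenseFF` for bases with locally finitely many irreducible components (helper69)

`exists_maximal_generization`, `exists_finite_generic`, `exists_specializes_of_mem_closure_open`,
`disjoint_closure_of_irr`, `fullyFaithful_of_punctured_connected_of_irr`.
-/

set_option autoImplicit false
set_option linter.style.haveILetI false
set_option linter.unusedSectionVars false
set_option backward.isDefEq.respectTransparency false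
set_option backward.defeqAttrib.useBackward true
open CategoryTheory Limits AlgebraicGeometry MorphismProperty Opposite TopologicalSpace
open IsLocalRing

universe u
namespace Groth.Agent.Lib.Helper69.DenseFF

/-- in a quasi-sober T0 space, a nonempty closed set has a point with no proper generization in
the set -/
lemma exists_maximal_generization {T : Type*} [TopologicalSpace T] [QuasiSober T] [T0Space T]
    (Z : Set T) (hZ : IsClosed Z) (hne : Z.Nonempty) :
    ∃ w ∈ Z, ∀ z ∈ Z, z ⤳ w → z = w := by
  obtain ⟨z₀, hz₀⟩ := hne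
  haveI : QuasiSober ↥Z := hZ.isClosedEmbedding_subtypeVal.quasiSober
  let T₀ : Set ↥Z := irreducibleComponent (⟨z₀, hz₀⟩ : ↥Z)
  have hirr : IsIrreducible T₀ := isIrreducible_irreducibleComponent
  have hcl : IsClosed T₀ := isClosed_irreducibleComponent
  obtain ⟨w', hw'⟩ := QuasiSober.sober hirr hcl
  refine ⟨w'.1, w'.2, ?_⟩
  intro z hz hzw
  have h1 : (⟨z, hz⟩ : ↥Z) ⤳ w' := by
    rw [← Topology.IsInducing.subtypeVal.specializes_iff]
    exact hzw
  have h2 : T₀ ⊆ closure ({(⟨z, hz⟩ : ↥Z)} : Set ↥Z) := by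
    rw [← hw'.def]
    exact closure_minimal (Set.singleton_subset_iff.mpr h1.mem_closure) isClosed_closure
  have h3 : closure ({(⟨z, hz⟩ : ↥Z)} : Set ↥Z) = T₀ :=
    (irreducibleComponent_property (⟨z₀, hz₀⟩ : ↥Z)).2.2 _
      (isIrreducible_singleton.closure).isPreirreducible h2
  have h4 : IsGenericPoint (⟨z, hz⟩ : ↥Z) T₀ := h3
  have := h4.eq hw'
  exact congrArg Subtype.val this

/-- finitely many points generizing every point of an open with finitely many irreducible
components -/
lemma exists_finite_generic {X : Scheme.{u}} (V : X.Opens)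
    (hV : (irreducibleComponents ↥V).Finite) :
    ∃ S : Set X, S.Finite ∧ ∀ v ∈ V, ∃ ξ ∈ S, ξ ⤳ v := by
  haveI : QuasiSober ↥V := V.isOpenEmbedding.quasiSober
  have hgen : ∀ T : irreducibleComponents ↥V, ∃ ξ : ↥V, IsGenericPoint ξ (T : Set ↥V) := fun T =>
    QuasiSober.sober T.2.1 (isClosed_of_mem_irreducibleComponents _ T.2)
  choose ξ hξ using hgen
  haveI : Finite (irreducibleComponents ↥V) := hV.to_subtype
  refine ⟨Set.range (fun T => ((ξ T : ↥V) : X)), Set.finite_range _, ?_⟩
  intro v hv
  let T : irreducibleComponents ↥V :=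
    ⟨irreducibleComponent (⟨v, hv⟩ : ↥V), irreducibleComponent_mem_irreducibleComponents _⟩
  refine ⟨_, ⟨T, rfl⟩, ?_⟩
  have h1 : ξ T ⤳ (⟨v, hv⟩ : ↥V) := (hξ T).specializes mem_irreducibleComponent
  exact h1.map continuous_subtype_val

/-- over a base with locally finitely many irreducible components, points in the closure of an
open subset of a finite flat cover are specializations of points of the open subset. -/
lemma exists_specializes_of_mem_closure_open {X W : Scheme.{u}}
    (hirr : ∀ V : X.Opens, IsCompact (V : Set X) → (irreducibleComponents ↥V).Finite)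
    (g : W ⟶ X) [IsFinite g] [Flat g] (D : Set W) (hD : IsOpen D) (w : W)
    (hw : w ∈ closure D) : ∃ η ∈ D, η ⤳ w := by
  obtain ⟨_, ⟨V, hV, rfl⟩, hxV, -⟩ :=
    X.isBasis_affineOpens.exists_subset_of_mem_open (Set.mem_univ (g w)) isOpen_univ
  have hV' : IsAffineOpen V := hV
  obtain ⟨S, hSfin, hS⟩ := exists_finite_generic V (hirr V hV'.isCompact)
  have hF : (g ⁻¹' S).Finite := hSfin.preimage' (fun y _ => g.finite_preimage_singleton y)
  let K : Set W := ⋃ η ∈ (g ⁻¹' S) ∩ D, closure {η}
  have hK : IsClosed K :=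
    (hF.subset Set.inter_subset_left).isClosed_biUnion (fun _ _ => isClosed_closure)
  have hgen : GeneralizingMap g := Flat.generalizingMap g
  have hsub : D ∩ g ⁻¹' (V : Set X) ⊆ K := by
    rintro d ⟨hdD, hdV⟩
    obtain ⟨ξ, hξS, hξ⟩ := hS (g d) hdV
    obtain ⟨η, hη, rfl⟩ := hgen (a := d) (b := ξ) hξ
    exact Set.mem_biUnion (⟨hξS, hη.mem_open hD hdD⟩ : η ∈ (g ⁻¹' S) ∩ D) hη.mem_closure
  have hopen : IsOpen (g ⁻¹' (V : Set X)) := V.isOpen.preimage g.continuous
  have hwK : w ∈ K := closure_minimal hsub hK (hopen.closure_inter ⟨hw, hxV⟩)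
  obtain ⟨η, hη, hwη⟩ := Set.mem_iUnion₂.mp hwK
  exact ⟨η, hη.2, specializes_iff_mem_closure.mpr hwη⟩

open Groth.Agent.Lib.Helper87.Hens in
/-- key statement for bases with locally finitely many irreducible components. -/
theorem disjoint_closure_of_irr {X : Scheme.{u}} (U : X.Opens)
    (hirr : ∀ V : X.Opens, IsCompact (V : Set X) → (irreducibleComponents ↥V).Finite)
    (hsh : ∀ x : X, x ∉ U → ∀ (R : Type u) [CommRing R] [IsLocalRing R]
      [Algebra (X.presheaf.stalk x) R]
      [IsLocalHom (algebraMap (X.presheaf.stalk x) R)]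
      [Hensel.IsStrictHenselization (X.presheaf.stalk x) R],
      ConnectedSpace (FEt.puncturedSpec R : Scheme.{u}))
    {W : Scheme.{u}} (g : W ⟶ X) (hg : FEt.prop g)
    (D D' : Set W) (hD : IsOpen D) (hD' : IsOpen D') (hdisj : Disjoint D D')
    (hun : D ∪ D' = g ⁻¹' (U : Set X)) (hdense : Dense (g ⁻¹' (U : Set X))) :
    Disjoint (closure D) (closure D') := by
  haveI : IsFinite g := hg.1
  haveI : Etale g := hg.2
  rw [Set.disjoint_iff_inter_eq_empty]
  by_contra hne
  obtain ⟨w, hwZ, hmax⟩ := exists_maximal_generization (closure D ∩ closure D')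
    (isClosed_closure.inter isClosed_closure) (Set.nonempty_iff_ne_empty.mpr hne)
  have hdc1 : Disjoint D (closure D') := hdisj.closure_right hD
  have hdc2 : Disjoint (closure D) D' := hdisj.closure_left hD'
  have hw : g w ∉ U := by
    intro hwU
    have : w ∈ D ∪ D' := by rw [hun]; exact hwU
    rcases this with h | h
    · exact Set.disjoint_left.mp hdc1 h hwZ.2
    · exact Set.disjoint_left.mp hdc2 hwZ.1 h
  obtain ⟨d, hd, hdw⟩ := exists_specializes_of_mem_closure_open hirr g D hD w hwZ.1
  obtain ⟨d', hd', hdw'⟩ := exists_specializes_of_mem_closure_open hirr g D' hD' w hwZ.2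
  set x : X := g w with hx
  let R : Type u := Hsh (X.presheaf.stalk x)
  haveI hSH : Hensel.IsStrictHenselization (X.presheaf.stalk x) R :=
    isStrictHenselization_Hsh (X.presheaf.stalk x)
  haveI : HenselianLocalRing R := hSH.henselian
  haveI : IsSepClosed (ResidueField R) := hSH.isSepClosure.sep_closed
  let j := shPt x R
  obtain ⟨h, hh, hhw⟩ := Groth.Agent.Lib.Helper69.EtSplit.exists_lift_of_strictlyHenselian g j w
    (shPt_closedPoint x R).symm
  -- flatness of `h`
  have hflat : Flat h := by
    let σ : Spec (CommRingCat.of R) ⟶ pullback g j :=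
      pullback.lift h (𝟙 _) (by rw [hh, Category.id_comp])
    have hσ1 : σ ≫ pullback.fst g j = h := pullback.lift_fst _ _ _
    have hσ2 : σ ≫ pullback.snd g j = 𝟙 _ := pullback.lift_snd _ _ _
    have hsnd : FEt.prop (pullback.snd g j) := FEt.prop.pullback_snd _ _ hg
    have hprop : FEt.prop σ :=
      FEt.prop.of_postcomp (W' := FEt.prop) σ (pullback.snd g j) hsnd
        (by rw [hσ2]; exact FEt.prop.id_mem _)
    have : IsFinite σ := hprop.1
    have : Etale σ := hprop.2
    haveI : Flat j := flat_shPt x R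
    rw [← hσ1]
    infer_instance
  have hgen : GeneralizingMap h := Flat.generalizingMap h
  obtain ⟨p, -, hp⟩ := hgen (a := closedPoint R) (b := d) (by rw [hhw]; exact hdw)
  obtain ⟨p', -, hp'⟩ := hgen (a := closedPoint R) (b := d') (by rw [hhw]; exact hdw')
  have hsubU : ∀ z, z ∈ D ∪ D' → g z ∈ U := fun z hz => by
    rw [hun] at hz; exact hz
  have hpne : p ≠ closedPoint R := by
    rintro rfl
    rw [hhw] at hp
    apply hw
    rw [hx, hp]
    exact hsubU d (Or.inl hd)
  have hpne' : p' ≠ closedPoint R := by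
    rintro rfl
    rw [hhw] at hp'
    apply hw
    rw [hx, hp']
    exact hsubU d' (Or.inr hd')
  have hmem : ∀ q : Spec (CommRingCat.of R), q ≠ closedPoint R →
      h q ∈ (closure D')ᶜ ∪ (closure D)ᶜ := by
    intro q hq
    by_contra hnot
    have hqZ : h q ∈ closure D ∩ closure D' := by
      simp only [Set.mem_union, Set.mem_compl_iff, not_or, not_not] at hnot
      exact ⟨hnot.2, hnot.1⟩
    have spec : h q ⤳ w := by
      have := (specializes_closedPoint q).map h.continuous
      rwa [hhw] at this
    have e1 : h q = w := hmax _ hqZ spec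
    have e : g (h q) = j q := by rw [← Scheme.Hom.comp_apply, hh]
    rw [e1] at e
    exact hq (eq_closedPoint_of_shPt_eq x R q e.symm)
  -- connectedness
  haveI hconn : ConnectedSpace (FEt.puncturedSpec R : Scheme.{u}) := hsh x hw R
  have hpre : _root_.IsPreconnected ((FEt.puncturedSpec R : (Spec (CommRingCat.of R)).Opens) :
      Set (Spec (CommRingCat.of R))) := by
    rw [isPreconnected_iff_preconnectedSpace]
    exact hconn.toPreconnectedSpace
  have hPmem : ∀ q : Spec (CommRingCat.of R), q ≠ closedPoint R →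
      q ∈ ((FEt.puncturedSpec R : (Spec (CommRingCat.of R)).Opens) :
        Set (Spec (CommRingCat.of R))) := fun q hq => hq
  obtain ⟨q, hq, hq1, hq2⟩ := hpre (h ⁻¹' (closure D')ᶜ) (h ⁻¹' (closure D)ᶜ)
    (isClosed_closure.isOpen_compl.preimage h.continuous)
    (isClosed_closure.isOpen_compl.preimage h.continuous) (fun q hq => hmem q hq)
    ⟨p, hPmem p hpne, by
      show h p ∈ (closure D')ᶜ
      rw [hp]; exact fun hc => Set.disjoint_left.mp hdc1 hd hc⟩
    ⟨p', hPmem p' hpne', by
      show h p' ∈ (closure D)ᶜ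
      rw [hp']; exact fun hc => Set.disjoint_left.mp hdc2 hc hd'⟩
  have hcov : closure D ∪ closure D' = Set.univ := by
    rw [← closure_union, hun, hdense.closure_eq]
  have : h q ∈ closure D ∪ closure D' := by rw [hcov]; trivial
  rcases this with h' | h'
  · exact hq2 h'
  · exact hq1 h'

section global'

variable {X : Scheme.{u}} (U : X.Opens)

theorem clopen_lift_of_irr (hU : Dense (U : Set X))
    (hirr : ∀ V : X.Opens, IsCompact (V : Set X) → (irreducibleComponents ↥V).Finite)
    (hsh : ∀ x : X, x ∉ U → ∀ (R : Type u) [CommRing R] [IsLocalRing R]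
      [Algebra (X.presheaf.stalk x) R]
      [IsLocalHom (algebraMap (X.presheaf.stalk x) R)]
      [Hensel.IsStrictHenselization (X.presheaf.stalk x) R],
      ConnectedSpace (FEt.puncturedSpec R : Scheme.{u}))
    (W : FEt.Cat X) (C₀ : Set ↥(pullback W.hom U.ι)) (hC₀ : IsClopen C₀) :
    ∃ C : Set W.left, IsClopen C ∧ (pullback.fst W.hom U.ι) ⁻¹' C = C₀ := by
  haveI : Etale W.hom := W.prop.2
  set p₁ := pullback.fst W.hom U.ι with hp₁
  have hinj : Function.Injective p₁ := p₁.isOpenEmbedding.injective
  let D : Set W.left := p₁ '' C₀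
  let D' : Set W.left := p₁ '' C₀ᶜ
  have hD : IsOpen D := p₁.isOpenEmbedding.isOpenMap _ hC₀.isOpen
  have hD' : IsOpen D' := p₁.isOpenEmbedding.isOpenMap _ hC₀.compl.isOpen
  have hdisj : Disjoint D D' := (Set.disjoint_image_iff hinj).mpr disjoint_compl_right
  have hun : D ∪ D' = W.hom ⁻¹' (U : Set X) := by
    rw [← Set.image_union, Set.union_compl_self, Set.image_univ, range_fst_ι]
  have hV : Dense (W.hom ⁻¹' (U : Set X)) := hU.preimage W.hom.isOpenMap
  have hdc : Disjoint (closure D) (closure D') :=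
    disjoint_closure_of_irr U hirr hsh W.hom W.prop D D' hD hD' hdisj hun hV
  obtain ⟨hclopen, hinter⟩ := exists_clopen_of_disjoint_closure _ D D' hV hun hdc
  refine ⟨closure D, hclopen, ?_⟩
  ext c
  constructor
  · intro hc
    have h1 : p₁ c ∈ closure D ∩ W.hom ⁻¹' (U : Set X) :=
      ⟨hc, by rw [← range_fst_ι]; exact ⟨c, rfl⟩⟩
    rw [hinter] at h1
    obtain ⟨c', hc', e⟩ := h1
    rwa [← hinj e]
  · intro hc
    exact subset_closure ⟨c, hc, rfl⟩

theorem fullyFaithful_of_punctured_connected_of_irr (hU : Dense (U : Set X))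
    (hirr : ∀ V : X.Opens, IsCompact (V : Set X) → (irreducibleComponents ↥V).Finite)
    (hsh : ∀ x : X, x ∉ U → ∀ (R : Type u) [CommRing R] [IsLocalRing R]
      [Algebra (X.presheaf.stalk x) R]
      [IsLocalHom (algebraMap (X.presheaf.stalk x) R)]
      [Hensel.IsStrictHenselization (X.presheaf.stalk x) R],
      ConnectedSpace (FEt.puncturedSpec R : Scheme.{u})) :
    (FEt.restrict U.ι).Full ∧ (FEt.restrict U.ι).Faithful :=
  ⟨Groth.Agent.Lib.Helper69.Pi0FF.full_of_clopen_lift_of_dense U.ι (denseRange_fst U hU)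
      (clopen_lift_of_irr U hU hirr hsh),
    Groth.Agent.Lib.Helper69.Pi0FF.faithful_of_dense U.ι (denseRange_fst U hU)⟩

end global'

end Groth.Agent.Lib.Helper69.DenseFF
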