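import Mathlib.RingTheory.Etale.Pi
import Mathlib.RingTheory.Smooth.Flat
import Mathlib.RingTheory.Ideal.IdempotentFG
import Mathlib.RingTheory.Localization.Away.Lemmas
import Mathlib.RingTheory.Flat.IsBaseChange
import Mathlib.RingTheory.TensorProduct.IsBaseChangeRightExact
import Mathlib.RingTheory.TensorProduct.IsBaseChangePi
import Mathlib.Algebra.Module.FinitePresentation
import Mathlib.RingTheory.Flat.EquationalCriterion
import Mathlib.Tactic

set_option autoImplicit false

namespace Groth.Agent.Lib.Helper69

open TensorProduct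

universe u

theorem exists_idem_ker_algebraMap {A B : Type*} [CommRing A] [CommRing B] [Algebra A B]
    [IsNoetherianRing A] [Module.Projective A B] :
    ∃ e : A, IsIdempotentElem e ∧ RingHom.ker (algebraMap A B) = Ideal.span {e} := by
  obtain ⟨s, hs⟩ := (Module.projective_def (R := A) (P := B)).mp inferInstance
  let T : Ideal A := Ideal.span (Set.range fun x : B × B => s x.1 x.2)
  have hmem : ∀ b c, s b c ∈ T := fun b c => Ideal.subset_span ⟨(b, c), rfl⟩
  have h1 : ∀ b : B, b = (s b).sum fun c a => a • c := by
    intro b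
    have := hs b
    rw [Finsupp.linearCombination_apply] at this
    simpa using this.symm
  have h2 : ∀ b : B, s b = (s b).sum fun d a => a • s d := by
    intro b
    conv_lhs => rw [h1 b]
    rw [map_finsuppSum]
    simp [map_smul]
  have TT : T ≤ T * T := by
    refine Ideal.span_le.mpr ?_
    rintro _ ⟨⟨b, c⟩, rfl⟩
    show s b c ∈ T * T
    rw [h2 b, Finsupp.sum_apply]
    refine Ideal.sum_mem _ fun d _ => ?_
    simp only [Finsupp.smul_apply, smul_eq_mul]
    exact Ideal.mul_mem_mul (hmem b d) (hmem d c)
  have hT : IsIdempotentElem T := le_antisymm Ideal.mul_le_right TT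
  obtain ⟨ε, hε, hTε⟩ := (Ideal.isIdempotentElem_iff_of_fg T (IsNoetherian.noetherian T)).mp hT
  refine ⟨1 - ε, hε.one_sub, ?_⟩
  have hkill : ∀ a ∈ RingHom.ker (algebraMap A B), ∀ t ∈ T, a * t = 0 := by
    intro a ha t ht
    induction ht using Submodule.span_induction with
    | mem x hx =>
      obtain ⟨⟨b, c⟩, rfl⟩ := hx
      have : a • b = 0 := by
        rw [Algebra.smul_def, (RingHom.mem_ker).mp ha, zero_mul]
      have h3 : s (a • b) c = 0 := by rw [this, map_zero]; rfl
      rw [map_smul] at h3
      simpa using h3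
    | zero => simp
    | add x y _ _ hx hy => rw [mul_add, hx, hy, add_zero]
    | smul r x _ hx => rw [smul_eq_mul, mul_left_comm, hx, mul_zero]
  have hεT : ε ∈ T := by rw [hTε]; exact Ideal.mem_span_singleton_self ε
  apply le_antisymm
  · intro a ha
    have : a * ε = 0 := hkill a ha ε hεT
    rw [Ideal.mem_span_singleton']
    exact ⟨a, by rw [mul_sub, mul_one, this, sub_zero]⟩
  · rw [Ideal.span_le, Set.singleton_subset_iff]
    show algebraMap A B (1 - ε) = 0
    have hone : ∀ t ∈ T, (1 - ε) * t = 0 := by
      intro t ht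
      rw [hTε, Ideal.mem_span_singleton'] at ht
      obtain ⟨x, rfl⟩ := ht
      have : (1 - ε) * ε = 0 := by rw [sub_mul, one_mul, hε.eq, sub_self]
      rw [mul_left_comm, this, mul_zero]
    have : algebraMap A B (1 - ε) = (1 - ε) • (1 : B) := by rw [Algebra.smul_def, mul_one]
    rw [this]
    conv_lhs => rw [h1 (1 : B)]
    rw [Finsupp.smul_sum]
    refine Finset.sum_eq_zero fun c _ => ?_
    show (1 - ε) • ((s 1 c) • c) = 0
    rw [smul_smul, hone _ (hmem 1 c), zero_smul]

theorem exists_idem_ker_algHom {R A B : Type*} [CommRing R] [CommRing A] [CommRing B]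
    [Algebra R A] [Algebra R B] [IsNoetherianRing R] [Module.Finite R A] [Module.Finite R B]
    [Algebra.Etale R A] [Algebra.Etale R B] (f : A →ₐ[R] B) :
    ∃ e : A, IsIdempotentElem e ∧ RingHom.ker f = Ideal.span {e} := by
  letI : Algebra A B := f.toRingHom.toAlgebra
  have : IsScalarTower R A B := IsScalarTower.of_algebraMap_eq (fun r => (f.commutes r).symm)
  have : IsNoetherianRing A := IsNoetherianRing.of_finite R A
  have : Module.Finite A B := Module.Finite.of_restrictScalars_finite R A B
  have : Algebra.Etale A B := Algebra.Etale.of_restrictScalars R A B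
  have : Module.FinitePresentation A B := Module.finitePresentation_of_finite A B
  have : Module.Projective A B := Module.Flat.projective_of_finitePresentation
  exact exists_idem_ker_algebraMap (A := A) (B := B)

theorem etale_quot_idem {R A : Type*} [CommRing R] [CommRing A] [Algebra R A]
    [Algebra.Etale R A] {e : A} (he : IsIdempotentElem e) :
    Algebra.Etale R (A ⧸ Ideal.span {e}) := by
  have : IsLocalization.Away (1 - e) (A ⧸ Ideal.span {e}) := by
    refine IsLocalization.away_of_isIdempotentElem he.one_sub ?_ Ideal.Quotient.mk_surjective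
    rw [sub_sub_cancel]
    exact Ideal.mk_ker
  have : Algebra.Etale A (A ⧸ Ideal.span {e}) := Algebra.Etale.of_isLocalizationAway (1 - e)
  exact Algebra.Etale.comp R A (A ⧸ Ideal.span {e})

section ProdEtale

variable (R : Type*) [CommRing R] (A B : Type u) [CommRing A] [CommRing B] [Algebra R A] [Algebra R B]

def BoolFam : Bool → Type u := fun b => Bool.rec B A b

instance boolFamCommRing : ∀ b, CommRing (BoolFam A B b) := fun b =>
  Bool.rec (inferInstanceAs (CommRing B)) (inferInstanceAs (CommRing A)) b

instance boolFamAlgebra : ∀ b, Algebra R (BoolFam A B b) := fun b =>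
  Bool.rec (inferInstanceAs (Algebra R B)) (inferInstanceAs (Algebra R A)) b

def prodEquivBoolFam : (A × B) ≃ₐ[R] (Π b, BoolFam A B b) where
  toFun x := fun b => Bool.rec (motive := BoolFam A B) x.2 x.1 b
  invFun g := (g true, g false)
  left_inv x := rfl
  right_inv g := by funext b; cases b <;> rfl
  map_mul' x y := by funext b; cases b <;> rfl
  map_add' x y := by funext b; cases b <;> rfl
  commutes' r := by funext b; cases b <;> rfl

theorem etale_prod [Algebra.Etale R A] [Algebra.Etale R B] : Algebra.Etale R (A × B) := by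
  have : ∀ b, Algebra.Etale R (BoolFam A B b) := fun b =>
    Bool.rec (inferInstanceAs (Algebra.Etale R B)) (inferInstanceAs (Algebra.Etale R A)) b
  exact Algebra.Etale.of_equiv (prodEquivBoolFam R A B).symm

end ProdEtale

theorem bijective_prod_of_idem {R A B D : Type*} [CommRing R] [CommRing A] [CommRing B] [CommRing D]
    [Algebra R A] [Algebra R B] [Algebra R D] (f : A →ₐ[R] B) (π : A →ₐ[R] D) (e : A)
    (he : IsIdempotentElem e) (hf : Function.Surjective f) (hπ : Function.Surjective π)
    (hkf : RingHom.ker f = Ideal.span {e}) (hkπ : RingHom.ker π = Ideal.span {1 - e}) :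
    Function.Bijective (AlgHom.prod f π) := by
  have hfe : f e = 0 := by
    have : e ∈ RingHom.ker f := by rw [hkf]; exact Ideal.mem_span_singleton_self _
    exact this
  have hπe : π (1 - e) = 0 := by
    have : 1 - e ∈ RingHom.ker π := by rw [hkπ]; exact Ideal.mem_span_singleton_self _
    exact this
  have hπe' : π e = 1 := by
    rw [map_sub, map_one, sub_eq_zero] at hπe
    exact hπe.symm
  have h0 : e * (1 - e) = 0 := by rw [mul_sub, mul_one, he.eq, sub_self]
  constructor
  · rw [injective_iff_map_eq_zero]
    intro a ha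
    have h1 : f a = 0 := congrArg Prod.fst ha
    have h2 : π a = 0 := congrArg Prod.snd ha
    have h1' : a ∈ RingHom.ker f := h1
    have h2' : a ∈ RingHom.ker π := h2
    rw [hkf, Ideal.mem_span_singleton'] at h1'
    rw [hkπ, Ideal.mem_span_singleton'] at h2'
    obtain ⟨x, hx⟩ := h1'
    obtain ⟨y, hy⟩ := h2'
    have : a = a * e := by rw [← hx, mul_assoc, he.eq]
    rw [this, ← hy, mul_assoc, mul_comm (1 - e) e, h0, mul_zero]
  · rintro ⟨b, d⟩
    obtain ⟨b', rfl⟩ := hf b
    obtain ⟨d', rfl⟩ := hπ d
    refine ⟨b' * (1 - e) + d' * e, ?_⟩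
    show (f (b' * (1 - e) + d' * e), π (b' * (1 - e) + d' * e)) = (f b', π d')
    rw [map_add, map_mul, map_mul, map_add, map_mul, map_mul, hπe, hπe', hfe, map_sub, map_one,
      hfe]
    simp

section PurePushout

variable {R A B C : Type*} [CommRing R] [CommRing A] [CommRing B] [CommRing C]
  [Algebra R A] [Algebra R B] [Algebra R C] (f : A →ₐ[R] B) (g : A →ₐ[R] C)

theorem pure_pushout (e : A ⊗[R] A)
    (hker : RingHom.ker (Algebra.TensorProduct.productMap (AlgHom.id R A) (AlgHom.id R A)) =
      Ideal.span {e})
    (e' : B ⊗[R] C)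
    (he' : Algebra.TensorProduct.productMap (S := B ⊗[R] C)
            ((Algebra.TensorProduct.includeLeft (R := R) (S := R) (A := B) (B := C)).comp f)
            ((Algebra.TensorProduct.includeRight (R := R) (A := B) (B := C)).comp g) e = e')
    (K : Type*) [CommRing K] [Algebra R K]
    (jl : B →ₐ[R] (B ⊗[R] C) ⧸ Ideal.span {e'}) (jr : C →ₐ[R] (B ⊗[R] C) ⧸ Ideal.span {e'})
    (hjl : ∀ b, jl b = Ideal.Quotient.mk _ (b ⊗ₜ 1))
    (hjr : ∀ c, jr c = Ideal.Quotient.mk _ (1 ⊗ₜ c)) :
    (∀ (β : B →ₐ[R] K) (γ : C →ₐ[R] K), β.comp f = γ.comp g →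
      ∃ ψ : (B ⊗[R] C) ⧸ Ideal.span {e'} →ₐ[R] K, ψ.comp jl = β ∧ ψ.comp jr = γ) ∧
    (∀ ψ ψ' : (B ⊗[R] C) ⧸ Ideal.span {e'} →ₐ[R] K,
      ψ.comp jl = ψ'.comp jl → ψ.comp jr = ψ'.comp jr → ψ = ψ') := by
  constructor
  · intro β γ hβγ
    have hcomp : (Algebra.TensorProduct.productMap β γ).comp
        (Algebra.TensorProduct.productMap (S := B ⊗[R] C)
            ((Algebra.TensorProduct.includeLeft (R := R) (S := R) (A := B) (B := C)).comp f)
            ((Algebra.TensorProduct.includeRight (R := R) (A := B) (B := C)).comp g)) =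
        (β.comp f).comp (Algebra.TensorProduct.productMap (AlgHom.id R A) (AlgHom.id R A)) := by
      apply Algebra.TensorProduct.ext'
      intro a a'
      have h2 : β (f a') = γ (g a') := congrArg (fun k => k a') hβγ
      simp [h2]
    have hz : Algebra.TensorProduct.productMap β γ e' = 0 := by
      have := congrArg (fun k => k e) hcomp
      rw [← he']
      have h3 : e ∈ RingHom.ker (Algebra.TensorProduct.productMap (AlgHom.id R A) (AlgHom.id R A)) := by
        rw [hker]; exact Ideal.mem_span_singleton_self _
      have h4 : (β.comp f).comp (Algebra.TensorProduct.productMap (AlgHom.id R A) (AlgHom.id R A)) e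
          = 0 := by
        show β (f (Algebra.TensorProduct.productMap (AlgHom.id R A) (AlgHom.id R A) e)) = 0
        rw [(RingHom.mem_ker).mp h3, map_zero, map_zero]
      exact this.trans h4
    refine ⟨Ideal.Quotient.liftₐ (Ideal.span {e'}) (Algebra.TensorProduct.productMap β γ) ?_,
      ?_, ?_⟩
    · intro a ha
      rw [Ideal.mem_span_singleton'] at ha
      obtain ⟨c, rfl⟩ := ha
      rw [map_mul, hz, mul_zero]
    · apply AlgHom.ext; intro b
      rw [AlgHom.comp_apply, hjl]
      show Algebra.TensorProduct.productMap β γ (b ⊗ₜ 1) = β b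
      rw [Algebra.TensorProduct.productMap_apply_tmul, map_one, mul_one]
    · apply AlgHom.ext; intro c
      rw [AlgHom.comp_apply, hjr]
      show Algebra.TensorProduct.productMap β γ (1 ⊗ₜ c) = γ c
      rw [Algebra.TensorProduct.productMap_apply_tmul, map_one, one_mul]
  · intro ψ ψ' h1 h2
    apply AlgHom.ext
    intro t
    obtain ⟨t, rfl⟩ := Ideal.Quotient.mk_surjective t
    have key : ψ.comp (Ideal.Quotient.mkₐ R (Ideal.span {e'})) =
        ψ'.comp (Ideal.Quotient.mkₐ R (Ideal.span {e'})) := by
      apply Algebra.TensorProduct.ext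
      · apply AlgHom.ext; intro b
        have h3 := congrArg (fun k => k b) h1
        simp only [AlgHom.comp_apply, hjl] at h3
        exact h3
      · apply AlgHom.ext; intro c
        have h3 := congrArg (fun k => k c) h2
        simp only [AlgHom.comp_apply, hjr] at h3
        exact h3
    exact congrArg (fun k => k t) key

end PurePushout

end Groth.Agent.Lib.Helper69
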