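import Groth.Agent.Lib.Helper69.EtAlg
import Mathlib.RingTheory.Flat.Rank
import Mathlib.RingTheory.Flat.FaithfullyFlat.Algebra
import Mathlib.RingTheory.LocalRing.Module
import Mathlib.RingTheory.Support
import Mathlib.LinearAlgebra.FiniteDimensional.Lemmas

set_option autoImplicit false

namespace Groth.Agent.Lib.Helper69

open TensorProduct

universe u

theorem rTensor_injective_of_faithfullyFlat {R A B : Type*} [CommRing R] [CommRing A] [CommRing B]
    [Algebra R A] [Algebra R B] [Algebra A B] [IsScalarTower R A B] [Module.FaithfullyFlat A B]
    (K : Type*) [AddCommGroup K] [Module R K] :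
    Function.Injective (LinearMap.rTensor K (IsScalarTower.toAlgHom R A B).toLinearMap) := by
  have h1 := Module.FaithfullyFlat.tensorProduct_mk_injective (A := A) (B := B) (A ⊗[R] K)
  have h2 : ∀ x : A ⊗[R] K,
      (LinearMap.rTensor K (IsScalarTower.toAlgHom R A B).toLinearMap) x =
        (TensorProduct.AlgebraTensorModule.cancelBaseChange R A B B K)
          (TensorProduct.mk A B (A ⊗[R] K) 1 x) := by
    intro x
    induction x using TensorProduct.induction_on with
    | zero => simp
    | tmul a k =>
      simp [Algebra.smul_def]
    | add x y hx hy => simp only [map_add, hx, hy]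
  intro x y hxy
  apply h1
  apply (TensorProduct.AlgebraTensorModule.cancelBaseChange R A B B K).injective
  rw [← h2, ← h2, hxy]

theorem surjective_of_injective_of_rank_eq {R A B : Type*} [CommRing R] [CommRing A] [CommRing B]
    [Algebra R A] [Algebra R B] [IsNoetherianRing R] [Module.Finite R A] [Module.Finite R B]
    [Algebra.Etale R A] [Algebra.Etale R B] (f : A →ₐ[R] B) (hf : Function.Injective f)
    (hrank : ∀ P : PrimeSpectrum R, Module.rankAtStalk A P = Module.rankAtStalk B P) :
    Function.Surjective f := by
  letI : Algebra A B := f.toRingHom.toAlgebra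
  have : IsScalarTower R A B := IsScalarTower.of_algebraMap_eq (fun r => (f.commutes r).symm)
  have hfeq : (IsScalarTower.toAlgHom R A B) = f := by ext; rfl
  have : IsNoetherianRing A := IsNoetherianRing.of_finite R A
  have : Module.Finite A B := Module.Finite.of_restrictScalars_finite R A B
  have : Algebra.Etale A B := Algebra.Etale.of_restrictScalars R A B
  have : Module.FaithfullyFlat A B :=
    Module.FaithfullyFlat.of_comap_surjective
      ((PrimeSpectrum.comap_surjective_iff_injective_of_finite (R := A) (S := B)).mpr hf)
  have hC : Subsingleton (B ⧸ LinearMap.range f.toLinearMap) := by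
    rw [← Module.support_eq_empty_iff (R := R), Set.eq_empty_iff_forall_notMem]
    intro P
    rw [Module.mem_support_iff_nontrivial_residueField_tensorProduct,
      not_nontrivial_iff_subsingleton]
    have hinj : Function.Injective (LinearMap.lTensor P.asIdeal.ResidueField f.toLinearMap) := by
      rw [← LinearMap.comm_comp_rTensor_comp_comm_eq]
      simp only [LinearMap.coe_comp, LinearEquiv.coe_coe, EmbeddingLike.comp_injective,
        EquivLike.injective_comp]
      rw [← hfeq]
      exact rTensor_injective_of_faithfullyFlat (R := R) (A := A) (B := B) _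
    have hsurj : Function.Surjective (LinearMap.lTensor P.asIdeal.ResidueField f.toLinearMap) := by
      have h1 : Function.Injective (LinearMap.baseChange P.asIdeal.ResidueField f.toLinearMap) :=
        hinj
      have h2 := (LinearMap.injective_iff_surjective_of_finrank_eq_finrank
        (f := LinearMap.baseChange P.asIdeal.ResidueField f.toLinearMap)
        (by rw [← Module.rankAtStalk_eq, ← Module.rankAtStalk_eq, hrank])).mp h1
      exact h2
    constructor
    intro x y
    have hz : ∀ z : P.asIdeal.ResidueField ⊗[R] (B ⧸ LinearMap.range f.toLinearMap), z = 0 := by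
      intro z
      obtain ⟨w, rfl⟩ := LinearMap.lTensor_surjective P.asIdeal.ResidueField
        (Submodule.mkQ_surjective (LinearMap.range f.toLinearMap)) z
      obtain ⟨v, rfl⟩ := hsurj w
      rw [← LinearMap.comp_apply, ← LinearMap.lTensor_comp]
      have : (LinearMap.range f.toLinearMap).mkQ ∘ₗ f.toLinearMap = 0 := by
        ext a
        simp
      rw [this, LinearMap.lTensor_zero, LinearMap.zero_apply]
    rw [hz x, hz y]
  intro b
  have : (LinearMap.range f.toLinearMap).mkQ b = 0 := Subsingleton.elim _ _
  rw [Submodule.mkQ_apply, Submodule.Quotient.mk_eq_zero] at this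
  obtain ⟨a, ha⟩ := this
  exact ⟨a, ha⟩

theorem lTensor_injective_of_injective_etale {R A B : Type*} [CommRing R] [CommRing A] [CommRing B]
    [Algebra R A] [Algebra R B] [IsNoetherianRing R] [Module.Finite R A] [Module.Finite R B]
    [Algebra.Etale R A] [Algebra.Etale R B] (f : A →ₐ[R] B) (hf : Function.Injective f)
    (K : Type*) [AddCommGroup K] [Module R K] :
    Function.Injective (LinearMap.lTensor K f.toLinearMap) := by
  letI : Algebra A B := f.toRingHom.toAlgebra
  have : IsScalarTower R A B := IsScalarTower.of_algebraMap_eq (fun r => (f.commutes r).symm)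
  have hfeq : (IsScalarTower.toAlgHom R A B) = f := by ext; rfl
  have : IsNoetherianRing A := IsNoetherianRing.of_finite R A
  have : Module.Finite A B := Module.Finite.of_restrictScalars_finite R A B
  have : Algebra.Etale A B := Algebra.Etale.of_restrictScalars R A B
  have : Module.FaithfullyFlat A B :=
    Module.FaithfullyFlat.of_comap_surjective
      ((PrimeSpectrum.comap_surjective_iff_injective_of_finite (R := A) (S := B)).mpr hf)
  rw [← LinearMap.comm_comp_rTensor_comp_comm_eq]
  simp only [LinearMap.coe_comp, LinearEquiv.coe_coe, EmbeddingLike.comp_injective,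
    EquivLike.injective_comp]
  rw [← hfeq]
  exact rTensor_injective_of_faithfullyFlat (R := R) (A := A) (B := B) _

end Groth.Agent.Lib.Helper69
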