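import Groth.Prelude.Def_SchFin
import Groth.Prelude.Def_SchFin2
import Groth.Agent.Lib.Helper69.EtAlg

set_option autoImplicit false

namespace Groth.Agent.Lib.Helper69

open SchFin CategoryTheory TensorProduct

universe u

section BC

variable {R S : Type u} [CommRing R] [CommRing S] (g : R →+* S)

theorem isBCAlong_quot_idem {A A' : Type u} [CommRing A] [CommRing A'] [Algebra R A] [Algebra S A']
    (ψ : A →ₛₗ[g] A') (hmul : ∀ a b, ψ (a * b) = ψ a * ψ b) (hψ : IsBCAlong g ψ)
    (e : A) (e' : A') (he : ψ e = e')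
    (q : (A ⧸ Ideal.span {e}) →ₛₗ[g] (A' ⧸ Ideal.span {e'}))
    (hq : ∀ a, q (Ideal.Quotient.mk _ a) = Ideal.Quotient.mk _ (ψ a)) :
    IsBCAlong g q := by
  unfold IsBCAlong at hψ ⊢
  letI : Algebra R S := g.toAlgebra
  letI : Module R A' := Module.compHom A' g
  haveI : IsScalarTower R S A' := IsScalarTower.of_algebraMap_smul fun _ _ => rfl
  letI : Module R (A' ⧸ Ideal.span {e'}) := Module.compHom _ g
  haveI : IsScalarTower R S (A' ⧸ Ideal.span {e'}) :=
    IsScalarTower.of_algebraMap_smul fun _ _ => rfl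
  refine IsBaseChange.of_right_exact S
    (f := LinearMap.mulLeft R e) (g := (Ideal.Quotient.mkₐ R (Ideal.span {e})).toLinearMap)
    (f' := LinearMap.mulLeft S e') (g' := (Ideal.Quotient.mkₐ S (Ideal.span {e'})).toLinearMap)
    _ _ _ ?_ ?_ hψ hψ ?_ ?_ ?_ ?_
  · ext a
    simp [hmul, he]
  · ext a
    simp [hq]
  · intro y
    simp only [AlgHom.toLinearMap_apply, Ideal.Quotient.mkₐ_eq_mk, Ideal.Quotient.eq_zero_iff_mem,
      Ideal.mem_span_singleton', Set.mem_range, LinearMap.mulLeft_apply]
    constructor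
    · rintro ⟨a, rfl⟩; exact ⟨a, mul_comm _ _⟩
    · rintro ⟨a, rfl⟩; exact ⟨a, mul_comm _ _⟩
  · exact Ideal.Quotient.mk_surjective
  · intro y
    simp only [AlgHom.toLinearMap_apply, Ideal.Quotient.mkₐ_eq_mk, Ideal.Quotient.eq_zero_iff_mem,
      Ideal.mem_span_singleton', Set.mem_range, LinearMap.mulLeft_apply]
    constructor
    · rintro ⟨a, rfl⟩; exact ⟨a, mul_comm _ _⟩
    · rintro ⟨a, rfl⟩; exact ⟨a, mul_comm _ _⟩
  · exact Ideal.Quotient.mk_surjective

theorem idem_compat_of_flat (hflat : g.Flat) {A A' B B' : Type u} [CommRing A] [CommRing A']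
    [CommRing B] [CommRing B'] [Algebra R A] [Algebra S A'] [Algebra R B] [Algebra S B']
    (ψA : A →ₛₗ[g] A') (hmulA : ∀ a b, ψA (a * b) = ψA a * ψA b) (hψA : IsBCAlong g ψA)
    (ψB : B →ₛₗ[g] B') (hψB : IsBCAlong g ψB)
    (f : A →ₐ[R] B) (f' : A' →ₐ[S] B') (hcomm : ∀ a, ψB (f a) = f' (ψA a))
    (e : A) (e' : A') (hidemE : IsIdempotentElem e) (hidem : IsIdempotentElem e')
    (hker : RingHom.ker f = Ideal.span {e}) (hker' : RingHom.ker f' = Ideal.span {e'}) :
    ψA e = e' := by
  unfold IsBCAlong at hψA hψB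
  letI : Algebra R S := g.toAlgebra
  letI : Module R A' := Module.compHom A' g
  haveI : IsScalarTower R S A' := IsScalarTower.of_algebraMap_smul fun _ _ => rfl
  letI : Module R B' := Module.compHom B' g
  haveI : IsScalarTower R S B' := IsScalarTower.of_algebraMap_smul fun _ _ => rfl
  haveI : Module.Flat R S := hflat
  let M₁ : Submodule R A := LinearMap.ker f.toLinearMap
  let N₁ : Submodule S A' := LinearMap.ker f'.toLinearMap
  have hmem : ∀ x : M₁, ψA x.1 ∈ N₁ := by
    intro x
    have hx : f x.1 = 0 := x.2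
    show f' (ψA x.1) = 0
    rw [← hcomm, hx, map_zero]
  let h₁ : M₁ →ₗ[R] N₁ :=
    { toFun := fun x => ⟨ψA x.1, hmem x⟩
      map_add' := fun x y => Subtype.ext (by simp)
      map_smul' := fun r x => Subtype.ext (by
        show ψA (r • x.1) = g r • ψA x.1
        rw [LinearMap.map_smulₛₗ]) }
  have key : IsBaseChange S h₁ := by
    refine IsBaseChange.of_left_exact S (f := M₁.subtype) (g := f.toLinearMap)
      (f' := N₁.subtype) (g' := f'.toLinearMap) h₁ _ _ ?_ ?_ hψA hψB ?_ ?_ ?_ ?_
    · ext x; rfl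
    · ext a; exact hcomm a
    · exact LinearMap.exact_subtype_ker_map _
    · exact Subtype.val_injective
    · exact LinearMap.exact_subtype_ker_map _
    · exact Subtype.val_injective
  have he'mem : e' ∈ N₁ := by
    show f' e' = 0
    have : e' ∈ RingHom.ker f' := by rw [hker']; exact Ideal.mem_span_singleton_self _
    exact this
  have h1 : ∀ x : N₁, (x : A') = ψA e * x := by
    intro x
    induction x using key.inductionOn with
    | zero => simp
    | tmul m =>
      obtain ⟨m, hm⟩ := m
      have : m ∈ RingHom.ker f := hm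
      rw [hker, Ideal.mem_span_singleton'] at this
      obtain ⟨a, rfl⟩ := this
      show ψA (a * e) = ψA e * ψA (a * e)
      rw [← hmulA, mul_left_comm, hidemE.eq]
    | smul s n hn =>
      show s • (n : A') = ψA e * (s • (n : A'))
      rw [mul_smul_comm, ← hn]
    | add x y hx hy =>
      show (x : A') + (y : A') = ψA e * ((x : A') + (y : A'))
      rw [mul_add, ← hx, ← hy]
  have h2 : e' = ψA e * e' := h1 ⟨e', he'mem⟩
  have h3 : ψA e ∈ RingHom.ker f' := by
    show f' (ψA e) = 0
    rw [← hcomm]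
    have : e ∈ RingHom.ker f := by rw [hker]; exact Ideal.mem_span_singleton_self _
    rw [(RingHom.mem_ker).mp this, map_zero]
  rw [hker', Ideal.mem_span_singleton'] at h3
  obtain ⟨a, ha⟩ := h3
  rw [h2, ← ha, mul_assoc, hidem.eq]

theorem isBCAlong_prod {M N M' N' : Type u} [AddCommGroup M] [AddCommGroup N] [AddCommGroup M']
    [AddCommGroup N'] [Module R M] [Module R N] [Module S M'] [Module S N']
    (φ : M →ₛₗ[g] M') (ψ : N →ₛₗ[g] N') (hφ : IsBCAlong g φ) (hψ : IsBCAlong g ψ)
    (q : (M × N) →ₛₗ[g] (M' × N')) (hq : ∀ x, q x = (φ x.1, ψ x.2)) :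
    IsBCAlong g q := by
  unfold IsBCAlong at hφ hψ ⊢
  letI : Algebra R S := g.toAlgebra
  letI : Module R M' := Module.compHom M' g
  haveI : IsScalarTower R S M' := IsScalarTower.of_algebraMap_smul fun _ _ => rfl
  letI : Module R N' := Module.compHom N' g
  haveI : IsScalarTower R S N' := IsScalarTower.of_algebraMap_smul fun _ _ => rfl
  letI : Module R (M' × N') := Module.compHom _ g
  haveI : IsScalarTower R S (M' × N') := IsScalarTower.of_algebraMap_smul fun _ _ => rfl
  apply IsBaseChange.of_equiv (TensorProduct.prodRight R S S M N ≪≫ₗ hφ.equiv.prodCongr hψ.equiv)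
  intro p
  simp [IsBaseChange.equiv_tmul, hq]

theorem isBCAlong_self (ψ : R →ₛₗ[g] S) (hψ : ∀ r, ψ r = g r) : IsBCAlong g ψ := by
  unfold IsBCAlong
  letI : Algebra R S := g.toAlgebra
  letI : Module R S := Module.compHom S g
  haveI : IsScalarTower R S S := IsScalarTower.of_algebraMap_smul fun _ _ => rfl
  apply IsBaseChange.of_equiv (TensorProduct.AlgebraTensorModule.rid R S S)
  intro x
  simp [hψ]
  show g x • (1 : S) = g x
  rw [smul_eq_mul, mul_one]

theorem isBCAlong_tensor {M N M' N' : Type u} [AddCommGroup M] [AddCommGroup N] [AddCommGroup M']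
    [AddCommGroup N'] [Module R M] [Module R N] [Module S M'] [Module S N']
    (φ : M →ₛₗ[g] M') (ψ : N →ₛₗ[g] N') (hφ : IsBCAlong g φ) (hψ : IsBCAlong g ψ)
    (q : (M ⊗[R] N) →ₛₗ[g] (M' ⊗[S] N')) (hq : ∀ m n, q (m ⊗ₜ n) = φ m ⊗ₜ ψ n) :
    IsBCAlong g q := by
  unfold IsBCAlong at hφ hψ ⊢
  letI : Algebra R S := g.toAlgebra
  letI instP : Module R (M' ⊗[S] N') := Module.compHom _ g
  haveI towerP : IsScalarTower R S (M' ⊗[S] N') := IsScalarTower.of_algebraMap_smul fun _ _ => rfl
  letI : Module R M' := Module.compHom M' g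
  haveI : IsScalarTower R S M' := IsScalarTower.of_algebraMap_smul fun _ _ => rfl
  letI : Module R N' := Module.compHom N' g
  haveI : IsScalarTower R S N' := IsScalarTower.of_algebraMap_smul fun _ _ => rfl
  apply IsBaseChange.of_equiv
    ((TensorProduct.AlgebraTensorModule.distribBaseChange R S M N) ≪≫ₗ
      TensorProduct.congr hφ.equiv hψ.equiv)
  intro x
  induction x using TensorProduct.induction_on with
  | zero => simp
  | tmul m n =>
    simp [IsBaseChange.equiv_tmul, hq]
  | add x y hx hy =>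
    rw [TensorProduct.tmul_add, map_add, hx, hy]
    simp

end BC

section QuotAlg

variable {X : RSpace.{u}}

def quotAlg (A : Alg X) (e : ∀ p, A.carrier p)
    (he : ∀ {p q : X.pt} (h : p ≤ q), A.res h (e p) = e q) : Alg X where
  carrier p := A.carrier p ⧸ Ideal.span {e p}
  res {p q} h := Ideal.quotientMap (Ideal.span {e q}) (A.res h) (by
    rw [Ideal.span_le, Set.singleton_subset_iff]
    show A.res h (e p) ∈ Ideal.span {e q}
    rw [he h]
    exact Ideal.mem_span_singleton_self _)
  res_algebraMap {p q} h a := by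
    show Ideal.quotientMap _ (A.res h) _ (Ideal.Quotient.mk _ (algebraMap _ _ a)) =
      Ideal.Quotient.mk _ (algebraMap _ _ (X.res h a))
    rw [Ideal.quotientMap_mk, A.res_algebraMap]
  res_self p b := by
    obtain ⟨b, rfl⟩ := Ideal.Quotient.mk_surjective b
    rw [Ideal.quotientMap_mk, A.res_self]
  res_comp {p q s} h h' b := by
    obtain ⟨b, rfl⟩ := Ideal.Quotient.mk_surjective b
    rw [Ideal.quotientMap_mk, Ideal.quotientMap_mk, Ideal.quotientMap_mk, A.res_comp]

variable (A : Alg X) (e : ∀ p, A.carrier p)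
    (he : ∀ {p q : X.pt} (h : p ≤ q), A.res h (e p) = e q)

theorem quotAlg_isEtCover (hA : A.IsEtCover) (hidem : ∀ p, IsIdempotentElem (e p)) :
    (quotAlg A e he).IsEtCover := by
  refine ⟨?_, fun p => ⟨?_, ?_⟩⟩
  · intro p q h
    exact isBCAlong_quot_idem (A := A.carrier p) (A' := A.carrier q) (X.res h) (A.toMod.res h)
      (fun a b => map_mul (A.res h) a b)
      (hA.1 p q h) (e p) (e q) (he h) ((quotAlg A e he).toMod.res h) (fun a => rfl)
  · have := (hA.2 p).1
    exact Module.Finite.quotient _ _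
  · have := (hA.2 p).2
    exact etale_quot_idem (hidem p)

def quotMk : A ⟶ quotAlg A e he where
  app p := Ideal.Quotient.mkₐ (X.ring p) (Ideal.span {e p})
  compat h b := rfl

def quotLift {B : Alg X} (f : A ⟶ B) (hf : ∀ p, f.app p (e p) = 0) : quotAlg A e he ⟶ B where
  app p := Ideal.Quotient.liftₐ (Ideal.span {e p}) (f.app p) (by
    intro a ha
    rw [Ideal.mem_span_singleton'] at ha
    obtain ⟨c, rfl⟩ := ha
    rw [map_mul, hf p, mul_zero])
  compat {p q} h b := by
    obtain ⟨b, rfl⟩ := Ideal.Quotient.mk_surjective b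
    show B.res h (f.app p b) = f.app q (A.res h b)
    exact f.compat h b

theorem exists_kerIdem (hX : X.IsFinSp) {A B : Alg X} (hA : A.IsEtCover) (hB : B.IsEtCover)
    (f : A ⟶ B) :
    ∃ e : ∀ p, A.carrier p, (∀ p, IsIdempotentElem (e p)) ∧
      (∀ p, RingHom.ker (f.app p) = Ideal.span {e p}) ∧
      ∀ {p q : X.pt} (h : p ≤ q), A.res h (e p) = e q := by
  have hex : ∀ p, ∃ e : A.carrier p, IsIdempotentElem e ∧ RingHom.ker (f.app p) = Ideal.span {e} := by
    intro p
    have := hX.1 p
    have := (hA.2 p).1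
    have := (hA.2 p).2
    have := (hB.2 p).1
    have := (hB.2 p).2
    exact exists_idem_ker_algHom (f.app p)
  choose e he1 he2 using hex
  refine ⟨e, he1, he2, ?_⟩
  intro p q h
  exact idem_compat_of_flat (A := A.carrier p) (A' := A.carrier q) (B := B.carrier p)
    (B' := B.carrier q) (X.res h) (hX.2 p q h) (A.toMod.res h)
    (fun a b => map_mul (A.res h) a b) (hA.1 p q h) (B.toMod.res h) (hB.1 p q h)
    (f.app p) (f.app q) (fun a => f.compat h a) (e p) (e q) (he1 p) (he1 q) (he2 p) (he2 q)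

theorem quotMk_lift {B : Alg X} (f : A ⟶ B) (hf : ∀ p, f.app p (e p) = 0) :
    quotMk A e he ≫ quotLift A e he f hf = f := by
  apply Alg.hom_ext; intro p; apply AlgHom.ext; intro a; rfl

theorem quot_hom_ext {B : Alg X} (m m' : quotAlg A e he ⟶ B)
    (h : quotMk A e he ≫ m = quotMk A e he ≫ m') : m = m' := by
  apply Alg.hom_ext; intro p; apply AlgHom.ext; intro a
  obtain ⟨a, rfl⟩ := Ideal.Quotient.mk_surjective a
  exact congrArg (fun k => k.app p a) h

end QuotAlg

section ProdAlg

variable {X : RSpace.{u}}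

def prodAlg (A B : Alg X) : Alg X where
  carrier p := A.carrier p × B.carrier p
  res {p q} h := RingHom.prodMap (A.res h) (B.res h)
  res_algebraMap {p q} h a := by
    show (A.res h (algebraMap _ _ a), B.res h (algebraMap _ _ a)) = _
    rw [A.res_algebraMap, B.res_algebraMap]
    rfl
  res_self p b := by
    show (A.res _ b.1, B.res _ b.2) = b
    rw [A.res_self, B.res_self]
  res_comp {p q s} h h' b := by
    show (A.res h' (A.res h b.1), B.res h' (B.res h b.2)) = (A.res _ b.1, B.res _ b.2)
    rw [A.res_comp, B.res_comp]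

theorem prodAlg_isEtCover {A B : Alg X} (hA : A.IsEtCover) (hB : B.IsEtCover) :
    (prodAlg A B).IsEtCover := by
  refine ⟨?_, fun p => ⟨?_, ?_⟩⟩
  · intro p q h
    exact isBCAlong_prod (M := A.carrier p) (N := B.carrier p) (M' := A.carrier q)
      (N' := B.carrier q) (X.res h) (A.toMod.res h) (B.toMod.res h) (hA.1 p q h) (hB.1 p q h)
      ((prodAlg A B).toMod.res h) (fun x => rfl)
  · have := (hA.2 p).1
    have := (hB.2 p).1
    exact Module.Finite.prod
  · have := (hA.2 p).2
    have := (hB.2 p).2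
    exact etale_prod (X.ring p) (A.carrier p) (B.carrier p)

def prodFst (A B : Alg X) : prodAlg A B ⟶ A where
  app p := AlgHom.fst (X.ring p) (A.carrier p) (B.carrier p)
  compat h b := rfl

def prodSnd (A B : Alg X) : prodAlg A B ⟶ B where
  app p := AlgHom.snd (X.ring p) (A.carrier p) (B.carrier p)
  compat h b := rfl

def prodLift {A B C : Alg X} (f : C ⟶ A) (g : C ⟶ B) : C ⟶ prodAlg A B where
  app p := AlgHom.prod (f.app p) (g.app p)
  compat {p q} h b := by
    show (A.res h (f.app p b), B.res h (g.app p b)) = (f.app q (C.res h b), g.app q (C.res h b))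
    rw [f.compat, g.compat]

def idemMixAlgHom (R : Type*) [CommRing R] (A : Type*) [CommRing A] [Algebra R A] (e : A)
    (he : IsIdempotentElem e) : (A × A) →ₐ[R] A where
  toFun x := x.1 * (1 - e) + x.2 * e
  map_one' := by simp
  map_mul' x y := by
    have h1 : (1 - e) * (1 - e) = 1 - e := he.one_sub.eq
    have h2 : e * e = e := he.eq
    have h3 : (1 - e) * e = 0 := by rw [sub_mul, one_mul, h2, sub_self]
    have h4 : e * (1 - e) = 0 := by rw [mul_comm, h3]
    show (x.1 * y.1) * (1 - e) + (x.2 * y.2) * e =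
      (x.1 * (1 - e) + x.2 * e) * (y.1 * (1 - e) + y.2 * e)
    have : (x.1 * (1 - e) + x.2 * e) * (y.1 * (1 - e) + y.2 * e) =
        x.1 * y.1 * ((1 - e) * (1 - e)) + x.1 * y.2 * ((1 - e) * e) + x.2 * y.1 * (e * (1 - e)) +
          x.2 * y.2 * (e * e) := by ring
    rw [this, h1, h2, h3, h4]
    ring
  map_zero' := by simp
  map_add' x y := by
    show (x.1 + y.1) * (1 - e) + (x.2 + y.2) * e = _
    ring
  commutes' r := by
    show algebraMap R A r * (1 - e) + algebraMap R A r * e = algebraMap R A r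
    ring

def idemMix (A : Alg X) (e : ∀ p, A.carrier p) (hidem : ∀ p, IsIdempotentElem (e p))
    (he : ∀ {p q : X.pt} (h : p ≤ q), A.res h (e p) = e q) : prodAlg A A ⟶ A where
  app p := idemMixAlgHom (X.ring p) (A.carrier p) (e p) (hidem p)
  compat {p q} h b := by
    show A.res h (b.1 * (1 - e p) + b.2 * e p) = A.res h b.1 * (1 - e q) + A.res h b.2 * e q
    rw [map_add, map_mul, map_mul, map_sub, map_one, he h]

theorem str_isEtCover (X : RSpace.{u}) : (Alg.str X).IsEtCover := by
  refine ⟨?_, fun p => ⟨?_, ?_⟩⟩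
  · intro p q h
    exact isBCAlong_self (X.res h) ((Alg.str X).toMod.res h) (fun r => rfl)
  · exact (inferInstance : Module.Finite (X.ring p) (X.ring p))
  · exact (inferInstance : Algebra.Etale (X.ring p) (X.ring p))

def strFEt (X : RSpace.{u}) : FEt X := ⟨Alg.str X, str_isEtCover X⟩

def strHom (A : Alg X) : Alg.str X ⟶ A where
  app p := Algebra.ofId (X.ring p) (A.carrier p)
  compat {p q} h b := by
    exact A.res_algebraMap h b

theorem strHom_unique {A : Alg X} (f : Alg.str X ⟶ A) : f = strHom A := by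
  apply Alg.hom_ext
  intro p
  apply AlgHom.ext
  intro a
  exact (f.app p).commutes a

def zeroAlg (X : RSpace.{u}) : Alg X :=
  quotAlg (Alg.str X) (fun _ => 1) (fun h => map_one (X.res h))

theorem zeroAlg_isEtCover (X : RSpace.{u}) : (zeroAlg X).IsEtCover :=
  quotAlg_isEtCover (Alg.str X) (fun _ => 1) (fun h => map_one (X.res h)) (str_isEtCover X)
    (fun _ => IsIdempotentElem.one)

instance zeroAlg_subsingleton (X : RSpace.{u}) (p : X.pt) : Subsingleton ((zeroAlg X).carrier p) := by
  show Subsingleton (X.ring p ⧸ Ideal.span {(1 : X.ring p)})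
  rw [Ideal.Quotient.subsingleton_iff, Ideal.span_singleton_one]

def toZeroAlg (A : Alg X) : A ⟶ zeroAlg X where
  app p :=
    { toFun := fun _ => 0
      map_one' := Subsingleton.elim _ _
      map_mul' := fun _ _ => Subsingleton.elim _ _
      map_zero' := rfl
      map_add' := fun _ _ => Subsingleton.elim _ _
      commutes' := fun _ => Subsingleton.elim _ _ }
  compat h b := Subsingleton.elim _ _

theorem toZeroAlg_unique {A : Alg X} (f : A ⟶ zeroAlg X) : f = toZeroAlg A := by
  apply Alg.hom_ext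
  intro p
  apply AlgHom.ext
  intro a
  exact Subsingleton.elim _ _

noncomputable def invOfBijective {A B : Alg X} (f : A ⟶ B)
    (hf : ∀ p, Function.Bijective (f.app p)) : B ⟶ A where
  app p := (AlgEquiv.ofBijective (f.app p) (hf p)).symm
  compat {p q} h b := by
    apply (hf q).1
    have h1 : f.app q ((AlgEquiv.ofBijective (f.app q) (hf q)).symm (B.res h b)) = B.res h b :=
      (AlgEquiv.ofBijective (f.app q) (hf q)).apply_symm_apply _
    have h2 : f.app p ((AlgEquiv.ofBijective (f.app p) (hf p)).symm b) = b :=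
      (AlgEquiv.ofBijective (f.app p) (hf p)).apply_symm_apply _
    show f.app q (A.res h ((AlgEquiv.ofBijective (f.app p) (hf p)).symm b)) =
      f.app q ((AlgEquiv.ofBijective (f.app q) (hf q)).symm (B.res h b))
    rw [h1, ← f.compat, h2]

theorem hom_invOfBijective {A B : Alg X} (f : A ⟶ B) (hf : ∀ p, Function.Bijective (f.app p)) :
    f ≫ invOfBijective f hf = 𝟙 A := by
  apply Alg.hom_ext
  intro p
  apply AlgHom.ext
  intro a
  exact (AlgEquiv.ofBijective (f.app p) (hf p)).symm_apply_apply a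

theorem invOfBijective_hom {A B : Alg X} (f : A ⟶ B) (hf : ∀ p, Function.Bijective (f.app p)) :
    invOfBijective f hf ≫ f = 𝟙 B := by
  apply Alg.hom_ext
  intro p
  apply AlgHom.ext
  intro a
  exact (AlgEquiv.ofBijective (f.app p) (hf p)).apply_symm_apply a

theorem isIso_of_bijective {A B : FEt X} (f : A ⟶ B)
    (hf : ∀ p, Function.Bijective (f.hom.app p)) : IsIso f :=
  ⟨ObjectProperty.homMk (invOfBijective f.hom hf),
    ObjectProperty.hom_ext _ (hom_invOfBijective f.hom hf),
    ObjectProperty.hom_ext _ (invOfBijective_hom f.hom hf)⟩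

end ProdAlg

theorem productMap_mapRingHom {R R' B C D B' C' D' : Type*} [CommRing R] [CommRing R'] [CommRing B]
    [CommRing C] [CommRing D] [CommRing B'] [CommRing C'] [CommRing D'] [Algebra R B] [Algebra R C]
    [Algebra R D] [Algebra R' B'] [Algebra R' C'] [Algebra R' D']
    (fR : R →+* R') (fB : B →+* B') (fC : C →+* C') (fD : D →+* D')
    (HB : fB.comp (algebraMap _ _) = (algebraMap _ _).comp fR)
    (HC : fC.comp (algebraMap _ _) = (algebraMap _ _).comp fR)
    (u : B →ₐ[R] D) (v : C →ₐ[R] D) (u' : B' →ₐ[R'] D') (v' : C' →ₐ[R'] D')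
    (hu : ∀ b, fD (u b) = u' (fB b)) (hv : ∀ c, fD (v c) = v' (fC c)) (t : B ⊗[R] C) :
    fD (Algebra.TensorProduct.productMap u v t) =
      Algebra.TensorProduct.productMap u' v' (Algebra.TensorProduct.mapRingHom fR fB fC HB HC t) := by
  induction t using TensorProduct.induction_on with
  | zero => simp
  | tmul b c =>
    rw [Algebra.TensorProduct.mapRingHom_tmul, Algebra.TensorProduct.productMap_apply_tmul,
      Algebra.TensorProduct.productMap_apply_tmul, map_mul, hu, hv]
  | add x y hx hy => rw [map_add, map_add, map_add, map_add, hx, hy]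

section TensorAlg

variable {X : RSpace.{u}}

def tensorAlg (B C : Alg X) : Alg X where
  carrier p := B.carrier p ⊗[X.ring p] C.carrier p
  res {p q} h := Algebra.TensorProduct.mapRingHom (X.res h) (B.res h) (C.res h)
      (by ext a; exact B.res_algebraMap h a) (by ext a; exact C.res_algebraMap h a)
  res_algebraMap {p q} h a := by
    rw [Algebra.TensorProduct.algebraMap_apply, Algebra.TensorProduct.mapRingHom_tmul, map_one,
      B.res_algebraMap, Algebra.TensorProduct.algebraMap_apply]
  res_self p b := by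
    induction b using TensorProduct.induction_on with
    | zero => simp
    | tmul b c => rw [Algebra.TensorProduct.mapRingHom_tmul, B.res_self, C.res_self]
    | add x y hx hy => rw [map_add, hx, hy]
  res_comp {p q s} h h' b := by
    induction b using TensorProduct.induction_on with
    | zero => simp
    | tmul b c =>
      rw [Algebra.TensorProduct.mapRingHom_tmul, Algebra.TensorProduct.mapRingHom_tmul,
        Algebra.TensorProduct.mapRingHom_tmul, B.res_comp, C.res_comp]
    | add x y hx hy => rw [map_add, map_add, map_add, hx, hy]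

theorem tensorAlg_res_tmul (B C : Alg X) {p q : X.pt} (h : p ≤ q) (b : B.carrier p)
    (c : C.carrier p) :
    (tensorAlg B C).res h (b ⊗ₜ c) = (B.res h b) ⊗ₜ[X.ring q] (C.res h c) :=
  Algebra.TensorProduct.mapRingHom_tmul (X.res h) (B.res h) (C.res h)
    (by ext a; exact B.res_algebraMap h a) (by ext a; exact C.res_algebraMap h a) b c

theorem tensorAlg_isEtCover {B C : Alg X} (hB : B.IsEtCover) (hC : C.IsEtCover) :
    (tensorAlg B C).IsEtCover := by
  refine ⟨?_, fun p => ⟨?_, ?_⟩⟩
  · intro p q h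
    exact isBCAlong_tensor (M := B.carrier p) (N := C.carrier p) (M' := B.carrier q)
      (N' := C.carrier q) (X.res h) (B.toMod.res h) (C.toMod.res h) (hB.1 p q h) (hC.1 p q h)
      ((tensorAlg B C).toMod.res h) (fun b c => tensorAlg_res_tmul B C h b c)
  · have := (hB.2 p).1
    have := (hC.2 p).1
    exact (inferInstance : Module.Finite (X.ring p) (B.carrier p ⊗[X.ring p] C.carrier p))
  · have := (hB.2 p).2
    have := (hC.2 p).2
    exact Algebra.Etale.comp (X.ring p) (B.carrier p) (B.carrier p ⊗[X.ring p] C.carrier p)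

def tensorInl (B C : Alg X) : B ⟶ tensorAlg B C where
  app p := Algebra.TensorProduct.includeLeft
  compat {p q} h b := by
    show (tensorAlg B C).res h (b ⊗ₜ 1) = (B.res h b) ⊗ₜ 1
    rw [tensorAlg_res_tmul, map_one]

def tensorInr (B C : Alg X) : C ⟶ tensorAlg B C where
  app p := Algebra.TensorProduct.includeRight
  compat {p q} h c := by
    show (tensorAlg B C).res h (1 ⊗ₜ c) = 1 ⊗ₜ (C.res h c)
    rw [tensorAlg_res_tmul, map_one]

def tensorDesc {B C D : Alg X} (u : B ⟶ D) (v : C ⟶ D) : tensorAlg B C ⟶ D where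
  app p := Algebra.TensorProduct.productMap (u.app p) (v.app p)
  compat {p q} h t :=
    productMap_mapRingHom (X.res h) (B.res h) (C.res h) (D.res h)
      (by ext a; exact B.res_algebraMap h a) (by ext a; exact C.res_algebraMap h a)
      (u.app p) (v.app p) (u.app q) (v.app q) (u.compat h) (v.compat h) t

theorem tensorInl_desc {B C D : Alg X} (u : B ⟶ D) (v : C ⟶ D) :
    tensorInl B C ≫ tensorDesc u v = u := by
  apply Alg.hom_ext; intro p; apply AlgHom.ext; intro b
  show Algebra.TensorProduct.productMap (u.app p) (v.app p) (b ⊗ₜ 1) = u.app p b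
  rw [Algebra.TensorProduct.productMap_apply_tmul, map_one, mul_one]

theorem tensorInr_desc {B C D : Alg X} (u : B ⟶ D) (v : C ⟶ D) :
    tensorInr B C ≫ tensorDesc u v = v := by
  apply Alg.hom_ext; intro p; apply AlgHom.ext; intro c
  show Algebra.TensorProduct.productMap (u.app p) (v.app p) (1 ⊗ₜ c) = v.app p c
  rw [Algebra.TensorProduct.productMap_apply_tmul, map_one, one_mul]

theorem tensor_hom_ext {B C D : Alg X} (m m' : tensorAlg B C ⟶ D)
    (h1 : tensorInl B C ≫ m = tensorInl B C ≫ m') (h2 : tensorInr B C ≫ m = tensorInr B C ≫ m') :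
    m = m' := by
  apply Alg.hom_ext; intro p
  exact Algebra.TensorProduct.ext (AlgHom.ext fun b => congrArg (fun k => k.app p b) h1)
    (AlgHom.ext fun c => congrArg (fun k => k.app p c) h2)

theorem exists_pushout (hX : X.IsFinSp) {A B C : Alg X} (hA : A.IsEtCover) (hB : B.IsEtCover)
    (hC : C.IsEtCover) (f : A ⟶ B) (g : A ⟶ C) :
    ∃ (P : Alg X) (_ : P.IsEtCover) (inl : B ⟶ P) (inr : C ⟶ P), f ≫ inl = g ≫ inr ∧
      ∀ (D : Alg X) (u : B ⟶ D) (v : C ⟶ D), f ≫ u = g ≫ v →
        ∃ m : P ⟶ D, (inl ≫ m = u ∧ inr ≫ m = v) ∧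
          ∀ m' : P ⟶ D, inl ≫ m' = u → inr ≫ m' = v → m' = m := by
  let μ : tensorAlg A A ⟶ A := tensorDesc (𝟙 A) (𝟙 A)
  obtain ⟨e, he1, he2, he3⟩ := exists_kerIdem hX (tensorAlg_isEtCover hA hA) hA μ
  let φ : tensorAlg A A ⟶ tensorAlg B C :=
    tensorDesc (f ≫ tensorInl B C) (g ≫ tensorInr B C)
  have hφl : tensorInl A A ≫ φ = f ≫ tensorInl B C := tensorInl_desc _ _
  have hφr : tensorInr A A ≫ φ = g ≫ tensorInr B C := tensorInr_desc _ _
  have hμl : tensorInl A A ≫ μ = 𝟙 A := tensorInl_desc _ _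
  have hμr : tensorInr A A ≫ μ = 𝟙 A := tensorInr_desc _ _
  let e' : ∀ p, (tensorAlg B C).carrier p := fun p => φ.app p (e p)
  have he'1 : ∀ p, IsIdempotentElem (e' p) := fun p => (he1 p).map (φ.app p)
  have he'3 : ∀ {p q : X.pt} (h : p ≤ q), (tensorAlg B C).res h (e' p) = e' q := by
    intro p q h
    show (tensorAlg B C).res h (φ.app p (e p)) = φ.app q (e q)
    rw [φ.compat h, he3 h]
  have hμe : ∀ p, μ.app p (e p) = 0 := by
    intro p
    have : e p ∈ RingHom.ker (μ.app p) := by rw [he2 p]; exact Ideal.mem_span_singleton_self _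
    exact this
  refine ⟨quotAlg (tensorAlg B C) e' he'3,
    quotAlg_isEtCover _ e' he'3 (tensorAlg_isEtCover hB hC) he'1,
    tensorInl B C ≫ quotMk _ e' he'3, tensorInr B C ≫ quotMk _ e' he'3, ?_, ?_⟩
  · rw [← Category.assoc, ← Category.assoc, ← hφl, ← hφr]
    apply Alg.hom_ext; intro p; apply AlgHom.ext; intro a
    show Ideal.Quotient.mk (Ideal.span {e' p}) (φ.app p ((tensorInl A A).app p a)) =
      Ideal.Quotient.mk (Ideal.span {e' p}) (φ.app p ((tensorInr A A).app p a))
    rw [Ideal.Quotient.eq, ← map_sub]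
    have hk : (tensorInl A A).app p a - (tensorInr A A).app p a ∈ RingHom.ker (μ.app p) := by
      rw [RingHom.mem_ker, map_sub]
      have e1 := congrArg (fun k => k.app p a) hμl
      have e2 := congrArg (fun k => k.app p a) hμr
      have e1' : μ.app p ((tensorInl A A).app p a) = a := e1
      have e2' : μ.app p ((tensorInr A A).app p a) = a := e2
      rw [e1', e2', sub_self]
    rw [he2 p, Ideal.mem_span_singleton'] at hk
    obtain ⟨x, hx⟩ := hk
    rw [← hx, map_mul]
    exact Ideal.mul_mem_left _ _ (Ideal.mem_span_singleton_self _)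
  · intro D u v huv
    have hcomp : φ ≫ tensorDesc u v = μ ≫ (f ≫ u) := by
      apply tensor_hom_ext
      · rw [← Category.assoc, hφl, Category.assoc, tensorInl_desc, ← Category.assoc, hμl,
          Category.id_comp]
      · rw [← Category.assoc, hφr, Category.assoc, tensorInr_desc, ← Category.assoc, hμr,
          Category.id_comp, huv]
    have hzero : ∀ p, (tensorDesc u v).app p (e' p) = 0 := by
      intro p
      have := congrArg (fun k => k.app p (e p)) hcomp
      have h2 : (tensorDesc u v).app p (φ.app p (e p)) = (f ≫ u).app p (μ.app p (e p)) := this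
      rw [hμe p, map_zero] at h2
      exact h2
    refine ⟨quotLift _ e' he'3 (tensorDesc u v) hzero, ⟨?_, ?_⟩, ?_⟩
    · rw [Category.assoc, quotMk_lift, tensorInl_desc]
    · rw [Category.assoc, quotMk_lift, tensorInr_desc]
    · intro m' h1 h2
      apply quot_hom_ext
      rw [quotMk_lift]
      apply tensor_hom_ext
      · rw [tensorInl_desc, ← Category.assoc, h1]
      · rw [tensorInr_desc, ← Category.assoc, h2]

theorem exists_pushout_pt (hX : X.IsFinSp) {A B C : Alg X} (hA : A.IsEtCover) (hB : B.IsEtCover)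
    (hC : C.IsEtCover) (f : A ⟶ B) (g : A ⟶ C) :
    ∃ (P : Alg X) (_ : P.IsEtCover) (inl : B ⟶ P) (inr : C ⟶ P), f ≫ inl = g ≫ inr ∧
      (∀ (D : Alg X) (u : B ⟶ D) (v : C ⟶ D), f ≫ u = g ≫ v →
        ∃ m : P ⟶ D, (inl ≫ m = u ∧ inr ≫ m = v) ∧
          ∀ m' : P ⟶ D, inl ≫ m' = u → inr ≫ m' = v → m' = m) ∧
      ∀ (p : X.pt) (K : Type u) [CommRing K] [Algebra (X.ring p) K],
        (∀ (β : B.carrier p →ₐ[X.ring p] K) (γ : C.carrier p →ₐ[X.ring p] K),
          β.comp (f.app p) = γ.comp (g.app p) →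
            ∃ ψ : P.carrier p →ₐ[X.ring p] K, ψ.comp (inl.app p) = β ∧ ψ.comp (inr.app p) = γ) ∧
        (∀ ψ ψ' : P.carrier p →ₐ[X.ring p] K, ψ.comp (inl.app p) = ψ'.comp (inl.app p) →
          ψ.comp (inr.app p) = ψ'.comp (inr.app p) → ψ = ψ') := by
  let μ : tensorAlg A A ⟶ A := tensorDesc (𝟙 A) (𝟙 A)
  obtain ⟨e, he1, he2, he3⟩ := exists_kerIdem hX (tensorAlg_isEtCover hA hA) hA μ
  let φ : tensorAlg A A ⟶ tensorAlg B C :=
    tensorDesc (f ≫ tensorInl B C) (g ≫ tensorInr B C)
  have hφl : tensorInl A A ≫ φ = f ≫ tensorInl B C := tensorInl_desc _ _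
  have hφr : tensorInr A A ≫ φ = g ≫ tensorInr B C := tensorInr_desc _ _
  have hμl : tensorInl A A ≫ μ = 𝟙 A := tensorInl_desc _ _
  have hμr : tensorInr A A ≫ μ = 𝟙 A := tensorInr_desc _ _
  let e' : ∀ p, (tensorAlg B C).carrier p := fun p => φ.app p (e p)
  have he'1 : ∀ p, IsIdempotentElem (e' p) := fun p => (he1 p).map (φ.app p)
  have he'3 : ∀ {p q : X.pt} (h : p ≤ q), (tensorAlg B C).res h (e' p) = e' q := by
    intro p q h
    show (tensorAlg B C).res h (φ.app p (e p)) = φ.app q (e q)
    rw [φ.compat h, he3 h]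
  have hμe : ∀ p, μ.app p (e p) = 0 := by
    intro p
    have : e p ∈ RingHom.ker (μ.app p) := by rw [he2 p]; exact Ideal.mem_span_singleton_self _
    exact this
  refine ⟨quotAlg (tensorAlg B C) e' he'3,
    quotAlg_isEtCover _ e' he'3 (tensorAlg_isEtCover hB hC) he'1,
    tensorInl B C ≫ quotMk _ e' he'3, tensorInr B C ≫ quotMk _ e' he'3, ?_, ?_, ?_⟩
  · rw [← Category.assoc, ← Category.assoc, ← hφl, ← hφr]
    apply Alg.hom_ext; intro p; apply AlgHom.ext; intro a
    show Ideal.Quotient.mk (Ideal.span {e' p}) (φ.app p ((tensorInl A A).app p a)) =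
      Ideal.Quotient.mk (Ideal.span {e' p}) (φ.app p ((tensorInr A A).app p a))
    rw [Ideal.Quotient.eq, ← map_sub]
    have hk : (tensorInl A A).app p a - (tensorInr A A).app p a ∈ RingHom.ker (μ.app p) := by
      rw [RingHom.mem_ker, map_sub]
      have e1 := congrArg (fun k => k.app p a) hμl
      have e2 := congrArg (fun k => k.app p a) hμr
      have e1' : μ.app p ((tensorInl A A).app p a) = a := e1
      have e2' : μ.app p ((tensorInr A A).app p a) = a := e2
      rw [e1', e2', sub_self]
    rw [he2 p, Ideal.mem_span_singleton'] at hk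
    obtain ⟨x, hx⟩ := hk
    rw [← hx, map_mul]
    exact Ideal.mul_mem_left _ _ (Ideal.mem_span_singleton_self _)
  · intro D u v huv
    have hcomp : φ ≫ tensorDesc u v = μ ≫ (f ≫ u) := by
      apply tensor_hom_ext
      · rw [← Category.assoc, hφl, Category.assoc, tensorInl_desc, ← Category.assoc, hμl,
          Category.id_comp]
      · rw [← Category.assoc, hφr, Category.assoc, tensorInr_desc, ← Category.assoc, hμr,
          Category.id_comp, huv]
    have hzero : ∀ p, (tensorDesc u v).app p (e' p) = 0 := by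
      intro p
      have := congrArg (fun k => k.app p (e p)) hcomp
      have h2 : (tensorDesc u v).app p (φ.app p (e p)) = (f ≫ u).app p (μ.app p (e p)) := this
      rw [hμe p, map_zero] at h2
      exact h2
    refine ⟨quotLift _ e' he'3 (tensorDesc u v) hzero, ⟨?_, ?_⟩, ?_⟩
    · rw [Category.assoc, quotMk_lift, tensorInl_desc]
    · rw [Category.assoc, quotMk_lift, tensorInr_desc]
    · intro m' h1 h2
      apply quot_hom_ext
      rw [quotMk_lift]
      apply tensor_hom_ext
      · rw [tensorInl_desc, ← Category.assoc, h1]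
      · rw [tensorInr_desc, ← Category.assoc, h2]
  · intro p K _ _
    exact pure_pushout (f.app p) (g.app p) (e p) (he2 p) (e' p) rfl K
      ((tensorInl B C ≫ quotMk _ e' he'3).app p) ((tensorInr B C ≫ quotMk _ e' he'3).app p)
      (fun b => rfl) (fun c => rfl)

end TensorAlg

end Groth.Agent.Lib.Helper69
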