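import Groth.Agent.Lib.Helper69.AffGlue
import Groth.Agent.Lib.Helper69.AffDictFEt

set_option linter.style.haveILetI false
set_option linter.unusedSectionVars false
set_option backward.isDefEq.respectTransparency false
set_option backward.defeqAttrib.useBackward true
open CategoryTheory Limits AlgebraicGeometry MorphismProperty Opposite TopologicalSpace

universe u
namespace Groth.Agent.Lib.Helper69

section good

variable {X : Scheme.{u}} (Y Z : AffOver X)

/-- affine opens over which the ranks of `Y` and `Z` are constant -/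
def goodSet : Set X.Opens :=
  {U | IsAffineOpen U ∧ (∃ m : ℕ, ∀ x ∈ U, Scheme.Hom.finrank (S := X) Y.hom x = m) ∧
    (∃ n : ℕ, ∀ x ∈ U, Scheme.Hom.finrank (S := X) Z.hom x = n)}

lemma goodSet_isBasis (hY : FEt.prop Y.hom) (hZ : FEt.prop Z.hom) :
    Opens.IsBasis (goodSet Y Z) := by
  have : IsFinite (Y := X) Y.hom := hY.1
  have : Etale (Y := X) Y.hom := hY.2
  have : IsFinite (Y := X) Z.hom := hZ.1
  have : Etale (Y := X) Z.hom := hZ.2
  rw [Opens.isBasis_iff_nbhd]
  intro V x hxV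
  have hlcY : IsLocallyConstant (Scheme.Hom.finrank (S := X) Y.hom) :=
    Scheme.Hom.isLocallyConstant_finrank _
  have hlcZ : IsLocallyConstant (Scheme.Hom.finrank (S := X) Z.hom) :=
    Scheme.Hom.isLocallyConstant_finrank _
  let V1 : X.Opens := ⟨{y | Scheme.Hom.finrank (S := X) Y.hom y =
    Scheme.Hom.finrank (S := X) Y.hom x}, hlcY.isOpen_fiber _⟩
  let V2 : X.Opens := ⟨{y | Scheme.Hom.finrank (S := X) Z.hom y =
    Scheme.Hom.finrank (S := X) Z.hom x}, hlcZ.isOpen_fiber _⟩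
  have hx : x ∈ V ⊓ V1 ⊓ V2 := ⟨⟨hxV, rfl⟩, rfl⟩
  obtain ⟨U, hUaff, hxU, hUle⟩ := Opens.isBasis_iff_nbhd.mp X.isBasis_affineOpens hx
  exact ⟨U, ⟨hUaff, ⟨_, fun y hy => (hUle hy).1.2⟩, ⟨_, fun y hy => (hUle hy).2⟩⟩, hxU,
    fun y hy => (hUle hy).1.1⟩

/-- the basis of good affine opens -/
def goodBasis (hY : FEt.prop Y.hom) (hZ : FEt.prop Z.hom) : AffBasis X :=
  ⟨goodSet Y Z, goodSet_isBasis Y Z hY hZ, fun _ h => h.1⟩

end good

section fetColim

variable {X : Scheme.{u}}

/-- the coequalizer in `AffOver X` of a pair of maps between finite étale `X`-schemes is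
finite étale -/
lemma fet_of_isColimit_glob {Y Z Q : AffOver X} (a b : Y ⟶ Z) (π : Z ⟶ Q) (w : a ≫ π = b ≫ π)
    (h : IsColimit (Cofork.ofπ π w)) (hY : FEt.prop Y.hom) (hZ : FEt.prop Z.hom) :
    FEt.prop Q.hom := by
  have : IsFinite (Y := X) Y.hom := hY.1
  have : Etale (Y := X) Y.hom := hY.2
  have : IsFinite (Y := X) Z.hom := hZ.1
  have : Etale (Y := X) Z.hom := hZ.2
  let 𝔅 := goodBasis Y Z hY hZ
  have key : ∀ i : 𝔅.cover.I₀, FEt.prop (pullback.snd Q.hom (𝔅.cover.f i)) := by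
    intro i
    obtain ⟨hUaff, ⟨m, hm⟩, ⟨n, hn⟩⟩ := i.2
    have h1 := 𝔅.isColimitRestr (parallelPair a b) _ h i
    have h2 := isColimitMapCoconeCoforkEquiv (pbFun (𝔅.cover.f i)) w h1
    have hmem : ∀ y : 𝔅.cover.X i, (𝔅.cover.f i) y ∈ i.1 := fun y => by
      simpa using y.2
    refine fet_of_isColimit (X := 𝔅.cover.X i) ((pbFun _).map a) ((pbFun _).map b)
      ((pbFun _).map π) _ h2 (n := n) (m := m) (FEt.prop.pullback_snd _ _ hY)
      (FEt.prop.pullback_snd _ _ hZ) ?_ ?_
    · intro y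
      exact (Scheme.Hom.finrank_pullback_snd (Z := X) Y.hom (𝔅.cover.f i) y).trans
        (hm _ (hmem y))
    · intro y
      exact (Scheme.Hom.finrank_pullback_snd (Z := X) Z.hom (𝔅.cover.f i) y).trans
        (hn _ (hmem y))
  constructor
  · exact IsZariskiLocalAtTarget.of_openCover (P := @IsFinite) 𝔅.cover (fun i => (key i).1)
  · exact IsZariskiLocalAtTarget.of_openCover (P := @Etale) 𝔅.cover (fun i => (key i).2)

lemma fet_le_aff : FEt.prop.{u} ≤ affProp.{u} := fun _ _ f hf => by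
  have : IsFinite f := hf.1
  show IsAffineHom f
  infer_instance

/-- the inclusion of finite étale schemes into affine schemes over `X` -/
abbrev fetIncl (X : Scheme.{u}) : FEt.Cat X ⥤ AffOver X :=
  MorphismProperty.Over.changeProp X fet_le_aff le_rfl

/-- existence of a coequalizer cofork in `FEt.Cat X` which remains a coequalizer in
`AffOver X` -/
lemma exists_fet_cofork {Y Z : FEt.Cat X} (a b : Y ⟶ Z) :
    ∃ (Q₀ : FEt.Cat X) (π₀ : Z ⟶ Q₀) (w₀ : a ≫ π₀ = b ≫ π₀),
      Nonempty (IsColimit (Cofork.ofπ π₀ w₀)) ∧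
      Nonempty (IsColimit ((fetIncl X).mapCocone (Cofork.ofπ π₀ w₀))) := by
  let F := fetIncl X
  let π := coequalizer.π (F.map a) (F.map b)
  have hQ : FEt.prop (coequalizer (F.map a) (F.map b)).hom :=
    fet_of_isColimit_glob (F.map a) (F.map b) π (coequalizer.condition _ _)
      (coequalizerIsCoequalizer _ _) Y.prop Z.prop
  let Q₀ : FEt.Cat X := MorphismProperty.Over.mk ⊤ (coequalizer (F.map a) (F.map b)).hom hQ
  let π₀ : Z ⟶ Q₀ := MorphismProperty.Over.homMk π.left (MorphismProperty.Over.w π) trivial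
  have w₀ : a ≫ π₀ = b ≫ π₀ := by
    apply MorphismProperty.Over.Hom.ext
    exact congrArg (fun k => k.left) (coequalizer.condition (F.map a) (F.map b))
  have hcol' : IsColimit (F.mapCocone (Cofork.ofπ π₀ w₀)) := by
    refine (isColimitMapCoconeCoforkEquiv F w₀).symm ?_
    exact coequalizerIsCoequalizer (F.map a) (F.map b)
  exact ⟨Q₀, π₀, w₀, ⟨isColimitOfReflects F hcol'⟩, ⟨hcol'⟩⟩

instance fet_hasCoequalizers (X : Scheme.{u}) : HasCoequalizers (FEt.Cat X) := by
  have : ∀ {Y Z : FEt.Cat X} {a b : Y ⟶ Z}, HasColimit (parallelPair a b) := by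
    intro Y Z a b
    obtain ⟨Q₀, π₀, w₀, ⟨h⟩, -⟩ := exists_fet_cofork a b
    exact ⟨⟨⟨_, h⟩⟩⟩
  exact hasCoequalizers_of_hasColimit_parallelPair _

instance fetIncl_preservesCoequalizers (X : Scheme.{u}) :
    PreservesColimitsOfShape WalkingParallelPair (fetIncl X) := by
  constructor
  intro K
  suffices h : ∀ {Y Z : FEt.Cat X} (a b : Y ⟶ Z),
      PreservesColimit (parallelPair a b) (fetIncl X) by
    have := h (K.map .left) (K.map .right)
    exact preservesColimit_of_iso_diagram _ (diagramIsoParallelPair K).symm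
  intro Y Z a b
  obtain ⟨Q₀, π₀, w₀, ⟨h⟩, ⟨h'⟩⟩ := exists_fet_cofork a b
  exact preservesColimit_of_preserves_colimit_cocone h h'

end fetColim

end Groth.Agent.Lib.Helper69
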