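import Groth.Agent.Lib.Helper69.FEtColim

set_option linter.style.haveILetI false
set_option linter.unusedSectionVars false
set_option backward.isDefEq.respectTransparency false
set_option backward.defeqAttrib.useBackward true
open CategoryTheory Limits AlgebraicGeometry MorphismProperty Opposite TopologicalSpace

universe u
namespace Groth.Agent.Lib.Helper69

section generalPb

lemma isPullback_overPullback_map {P : MorphismProperty Scheme.{u}} [P.IsStableUnderBaseChange]
    {X X' : Scheme.{u}} (g : X' ⟶ X) {W W' : P.Over ⊤ X} (m : W ⟶ W') :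
    IsPullback ((MorphismProperty.Over.pullback P ⊤ g).map m).left (pullback.fst W.hom g)
      (pullback.fst W'.hom g) m.left := by
  refine IsPullback.of_right ?_ ?_ (IsPullback.of_hasPullback W'.hom g).flip
  · have e1 : ((MorphismProperty.Over.pullback P ⊤ g).map m).left ≫ pullback.snd W'.hom g =
        pullback.snd W.hom g := pullback.lift_snd _ _ _
    have e2 : m.left ≫ W'.hom = W.hom := MorphismProperty.Over.w m
    rw [e1, e2]
    exact (IsPullback.of_hasPullback W.hom g).flip
  · exact pullback.lift_fst _ _ _

end generalPb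

section coprod

variable {X : Scheme.{u}}

lemma fet_coprodDesc {U V : Scheme.{u}} (f : U ⟶ X) (g : V ⟶ X) (hf : FEt.prop f)
    (hg : FEt.prop g) : FEt.prop (coprod.desc f g) := by
  have : IsFinite f := hf.1
  have : IsFinite g := hg.1
  refine ⟨inferInstance, ?_⟩
  rw [IsZariskiLocalAtSource.iff_of_openCover (P := @Etale) (coprodOpenCover.{_, 0} U V)]
  rintro (⟨⟩ | ⟨⟩)
  · show Etale (coprod.inl ≫ coprod.desc f g)
    rw [coprod.inl_desc]; exact hf.2
  · show Etale (coprod.inr ≫ coprod.desc f g)
    rw [coprod.inr_desc]; exact hg.2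

/-- the binary coproduct in `FEt.Cat X` -/
noncomputable def fetCoprod (Y Z : FEt.Cat X) : FEt.Cat X :=
  MorphismProperty.Over.mk ⊤ (coprod.desc Y.hom Z.hom) (fet_coprodDesc _ _ Y.prop Z.prop)

/-- left inclusion -/
noncomputable def fetInl (Y Z : FEt.Cat X) : Y ⟶ fetCoprod Y Z :=
  MorphismProperty.Over.homMk (coprod.inl : Y.left ⟶ Y.left ⨿ Z.left) (coprod.inl_desc _ _) trivial

/-- right inclusion -/
noncomputable def fetInr (Y Z : FEt.Cat X) : Z ⟶ fetCoprod Y Z :=
  MorphismProperty.Over.homMk (coprod.inr : Z.left ⟶ Y.left ⨿ Z.left) (coprod.inr_desc _ _) trivial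

@[simp] lemma fetInl_left (Y Z : FEt.Cat X) : (fetInl Y Z).left = coprod.inl := rfl
@[simp] lemma fetInr_left (Y Z : FEt.Cat X) : (fetInr Y Z).left = coprod.inr := rfl

/-- the binary coproduct cofan is a colimit -/
noncomputable def fetCoprodIsColimit (Y Z : FEt.Cat X) :
    IsColimit (BinaryCofan.mk (fetInl Y Z) (fetInr Y Z)) :=
  BinaryCofan.isColimitMk
    (fun s => MorphismProperty.Over.homMk
      (coprod.desc s.inl.left s.inr.left : Y.left ⨿ Z.left ⟶ s.pt.left) (by
        apply coprod.hom_ext
        · rw [coprod.inl_desc_assoc]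
          exact (MorphismProperty.Over.w s.inl).trans (coprod.inl_desc _ _).symm
        · rw [coprod.inr_desc_assoc]
          exact (MorphismProperty.Over.w s.inr).trans (coprod.inr_desc _ _).symm) trivial)
    (fun s => by
      apply MorphismProperty.Over.Hom.ext
      exact coprod.inl_desc _ _)
    (fun s => by
      apply MorphismProperty.Over.Hom.ext
      exact coprod.inr_desc _ _)
    (fun s m h1 h2 => by
      apply MorphismProperty.Over.Hom.ext
      apply coprod.hom_ext
      · exact (congrArg (fun k => k.left) h1).trans (coprod.inl_desc s.inl.left s.inr.left).symm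
      · exact (congrArg (fun k => k.left) h2).trans (coprod.inr_desc s.inl.left s.inr.left).symm)

instance fet_hasBinaryCoproducts (X : Scheme.{u}) : HasBinaryCoproducts (FEt.Cat X) := by
  have : ∀ Y Z : FEt.Cat X, HasColimit (pair Y Z) :=
    fun Y Z => ⟨⟨⟨_, fetCoprodIsColimit Y Z⟩⟩⟩
  exact hasBinaryCoproducts_of_hasColimit_pair _

/-- objects with empty underlying scheme are initial -/
noncomputable def fetIsInitialOfIsEmpty (Y : FEt.Cat X) [IsEmpty Y.left] : IsInitial Y :=
  IsInitial.ofUniqueHom
    (fun Z => MorphismProperty.Over.homMk ((isInitialOfIsEmpty (X := Y.left)).to Z.left)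
      ((isInitialOfIsEmpty (X := Y.left)).hom_ext _ _) trivial)
    (fun Z m => by
      apply MorphismProperty.Over.Hom.ext
      exact (isInitialOfIsEmpty (X := Y.left)).hom_ext _ _)

/-- the initial object of `FEt.Cat X` -/
noncomputable def fetInitial (X : Scheme.{u}) : FEt.Cat X :=
  MorphismProperty.Over.mk ⊤ (initial.to X) ⟨inferInstance, inferInstance⟩

instance (X : Scheme.{u}) : IsEmpty (fetInitial X).left :=
  inferInstanceAs (IsEmpty (⊥_ Scheme.{u}))

instance fet_hasInitial (X : Scheme.{u}) : HasInitial (FEt.Cat X) :=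
  (fetIsInitialOfIsEmpty (fetInitial X)).hasInitial

instance fet_hasFiniteCoproducts (X : Scheme.{u}) : HasFiniteCoproducts (FEt.Cat X) :=
  hasFiniteCoproducts_of_has_binary_and_initial

instance fet_hasFiniteColimits (X : Scheme.{u}) : HasFiniteColimits (FEt.Cat X) :=
  hasFiniteColimits_of_hasCoequalizers_and_finite_coproducts

end coprod

section lim

instance fet_postcomp : (FEt.prop.{u}).HasOfPostcompProperty FEt.prop.{u} where
  of_postcomp f g hg hfg := by
    have := hg.1; have := hg.2; have := hfg.1; have := hfg.2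
    exact ⟨IsFinite.of_comp f g, Etale.of_comp f g⟩

instance fet_hasFiniteLimits (X : Scheme.{u}) : HasFiniteLimits (FEt.Cat X) := inferInstance

instance fet_restrict_preservesFiniteLimits {X Y : Scheme.{u}} (f : X ⟶ Y) :
    PreservesFiniteLimits (FEt.restrict f) := by
  unfold FEt.restrict
  infer_instance

end lim

end Groth.Agent.Lib.Helper69
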