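import Groth.Agent.Lib.Helper69.FEtSpec

set_option linter.style.haveILetI false
set_option linter.unusedSectionVars false
set_option backward.isDefEq.respectTransparency false
set_option backward.defeqAttrib.useBackward true
open CategoryTheory Limits AlgebraicGeometry MorphismProperty Opposite TopologicalSpace
open Groth.Agent.Lib.Helper58.FEtHens

universe u
namespace Groth.Agent.Lib.Helper69

section secIso

variable {X : Scheme.{u}} {Ω : Type u} [Field Ω] (ξ : Spec (CommRingCat.of Ω) ⟶ X)

/-- points of the fibre are sections of the base change -/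
noncomputable def fiberSecEquiv (Y : FEt.Cat X) :
    FEt.fiberObj ξ Y ≃ FEt.fiberObj (𝟙 (Spec (CommRingCat.of Ω))) ((FEt.restrict ξ).obj Y) where
  toFun s := ⟨(pullback.lift s.1 (𝟙 _) (by rw [s.2, Category.id_comp]) :
      Spec (CommRingCat.of Ω) ⟶ pullback Y.hom ξ), pullback.lift_snd _ _ _⟩
  invFun t := ⟨(t.1 : Spec (CommRingCat.of Ω) ⟶ pullback Y.hom ξ) ≫ pullback.fst Y.hom ξ, by
    have h2 : (t.1 : Spec (CommRingCat.of Ω) ⟶ pullback Y.hom ξ) ≫ pullback.snd Y.hom ξ = 𝟙 _ :=
      t.2
    rw [Category.assoc, pullback.condition, ← Category.assoc, h2, Category.id_comp]⟩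
  left_inv s := Subtype.ext (pullback.lift_fst _ _ _)
  right_inv t := by
    have h2 : (t.1 : Spec (CommRingCat.of Ω) ⟶ pullback Y.hom ξ) ≫ pullback.snd Y.hom ξ = 𝟙 _ :=
      t.2
    apply Subtype.ext
    apply pullback.hom_ext
    · exact pullback.lift_fst _ _ _
    · exact (pullback.lift_snd _ _ _).trans h2.symm

/-- the fibre functor is base change followed by sections -/
noncomputable def fiberSecIso :
    FEt.fiber ξ ≅ FEt.restrict ξ ⋙ FEt.fiber (𝟙 (Spec (CommRingCat.of Ω))) :=
  NatIso.ofComponents (fun Y => (fiberSecEquiv ξ Y).toIso) (fun {Y Y'} φ => by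
    apply ConcreteCategory.hom_ext
    intro s
    apply Subtype.ext
    apply pullback.hom_ext
    · show (pullback.lift (s.1 ≫ φ.left) (𝟙 _) _ : _ ⟶ pullback Y'.hom ξ) ≫ pullback.fst _ _ =
        ((pullback.lift s.1 (𝟙 _) _ : _ ⟶ pullback Y.hom ξ) ≫
          ((FEt.restrict ξ).map φ).left) ≫ pullback.fst _ _
      rw [pullback.lift_fst, Category.assoc]
      erw [pullback.lift_fst]
      rw [pullback.lift_fst_assoc]
    · show (pullback.lift (s.1 ≫ φ.left) (𝟙 _) _ : _ ⟶ pullback Y'.hom ξ) ≫ pullback.snd _ _ =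
        ((pullback.lift s.1 (𝟙 _) _ : _ ⟶ pullback Y.hom ξ) ≫
          ((FEt.restrict ξ).map φ).left) ≫ pullback.snd _ _
      rw [pullback.lift_snd, Category.assoc]
      erw [pullback.lift_snd]
      rw [pullback.lift_snd])

end secIso

section specSec

variable (Ω : Type u) [Field Ω]

lemma specMap_algebraMap_self :
    Spec.map (CommRingCat.ofHom (algebraMap Ω Ω)) = 𝟙 (Spec (CommRingCat.of Ω)) := by
  have : CommRingCat.ofHom (algebraMap Ω Ω) = 𝟙 (CommRingCat.of Ω) := rfl
  rw [this, Spec.map_id]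

/-- an algebra map to `Ω` gives a section -/
noncomputable def secOfAlgHom (S : Type u) [CommRing S] [Algebra Ω S] [Module.Finite Ω S]
    [Algebra.Etale Ω S] (φ : S →ₐ[Ω] Ω) :
    FEt.fiberObj (𝟙 (Spec (CommRingCat.of Ω))) (mkObj Ω S) :=
  ⟨(Spec.map (CommRingCat.ofHom φ.toRingHom) :
      Spec (CommRingCat.of Ω) ⟶ Spec (CommRingCat.of S)),
    (specFun_comm Ω φ).trans (specMap_algebraMap_self Ω)⟩

lemma secOfAlgHom_bijective (S : Type u) [CommRing S] [Algebra Ω S] [Module.Finite Ω S]
    [Algebra.Etale Ω S] : Function.Bijective (secOfAlgHom Ω S) := by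
  constructor
  · intro φ ψ h
    have h1 : Spec.map (CommRingCat.ofHom φ.toRingHom) =
        Spec.map (CommRingCat.ofHom ψ.toRingHom) := congrArg Subtype.val h
    have h2 := congrArg CommRingCat.Hom.hom (Spec.map_injective h1)
    apply AlgHom.ext
    intro x
    exact congrArg (fun k => k x) h2
  · intro s
    obtain ⟨τ, hτ⟩ := exists_algHom_of_over (A := Ω) (B := Ω) (C := S)
      (s.1 : Spec (CommRingCat.of Ω) ⟶ Spec (CommRingCat.of S))
      ((s.2 : _ = 𝟙 _).trans (specMap_algebraMap_self Ω).symm)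
    exact ⟨τ, Subtype.ext hτ.symm⟩

/-- sections of `Spec S ⟶ Spec Ω` are `Ω`-algebra maps `S ⟶ Ω` -/
noncomputable def specSecIso :
    CommAlgCat.FiniteEtale.fiber.{u} Ω Ω ⋙ FintypeCat.incl ≅
      specFun Ω ⋙ FEt.fiber (𝟙 (Spec (CommRingCat.of Ω))) :=
  NatIso.ofComponents
    (fun S => (Equiv.ofBijective _ (secOfAlgHom_bijective Ω S.unop.obj)).toIso)
    (fun {S T} f => by
      apply ConcreteCategory.hom_ext
      intro φ
      apply Subtype.ext
      show Spec.map (CommRingCat.ofHom
          ((φ : S.unop.obj →ₐ[Ω] Ω).comp f.unop.hom.hom).toRingHom) =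
        Spec.map (CommRingCat.ofHom (φ : S.unop.obj →ₐ[Ω] Ω).toRingHom) ≫
          Spec.map (CommRingCat.ofHom f.unop.hom.hom.toRingHom)
      rw [← Spec.map_comp]
      rfl)

variable [IsSepClosed Ω]

/-- the sections functor over a separably closed field, up to equivalences, is the inclusion of
finite sets into sets -/
noncomputable def secFunIso :
    FEt.fiber (𝟙 (Spec (CommRingCat.of Ω))) ≅
      (specFun Ω).inv ⋙ CommAlgCat.FiniteEtale.fiber.{u} Ω Ω ⋙ FintypeCat.incl :=
  (Functor.leftUnitor _).symm ≪≫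
    Functor.isoWhiskerRight (specFun Ω).asEquivalence.counitIso.symm _ ≪≫
    Functor.associator _ _ _ ≪≫
    Functor.isoWhiskerLeft (specFun Ω).inv (specSecIso Ω).symm

instance secFun_preservesFiniteColimits :
    PreservesFiniteColimits (FEt.fiber (𝟙 (Spec (CommRingCat.of Ω)))) :=
  preservesFiniteColimits_of_natIso (secFunIso Ω).symm

instance secFun_preservesFiniteLimits :
    PreservesFiniteLimits (FEt.fiber (𝟙 (Spec (CommRingCat.of Ω)))) :=
  preservesFiniteLimits_of_natIso (secFunIso Ω).symm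

end specSec

section fiber

variable {X : Scheme.{u}} {Ω : Type u} [Field Ω] [IsSepClosed Ω]
  (ξ : Spec (CommRingCat.of Ω) ⟶ X)

instance fiber_preservesFiniteColimits : PreservesFiniteColimits (FEt.fiber ξ) :=
  preservesFiniteColimits_of_natIso (fiberSecIso ξ).symm

instance fiber_preservesFiniteLimits : PreservesFiniteLimits (FEt.fiber ξ) :=
  preservesFiniteLimits_of_natIso (fiberSecIso ξ).symm

end fiber

end Groth.Agent.Lib.Helper69
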