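import Mathlib
import Groth.Prelude.Def_Pi1
import Groth.Agent.Lib.Helper69.FEtNormal
import Groth.Agent.Lib.Helper80.EqLocus

/-! Fullness of restriction of finite étale covers of a normal integral scheme to the generic point
(helper69): graph closure + `Scheme.Hom.finrank` argument. -/

set_option autoImplicit false
set_option linter.style.haveILetI false
universe u

open CategoryTheory CategoryTheory.Limits AlgebraicGeometry TopologicalSpace

namespace Groth.Agent.Lib.Helper69.FEtNormal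

/-- Fullness key: for `X` normal integral and `j : S ⟶ X` a preimmersion with image the generic
point, every `S`-morphism between the base changes of two finite étale `X`-schemes extends to an
`X`-morphism (graph closure + rank argument). -/
theorem full_key {X S : Scheme.{u}} [IsIntegral X] (hX : Pi1.IsNormalScheme X) (j : S ⟶ X)
    [IsPreimmersion j] (hj : ∀ s : S, j s = genericPoint X) [Nonempty S]
    {Z₁ Z₂ : Scheme.{u}} (p₁ : Z₁ ⟶ X) (p₂ : Z₂ ⟶ X) [IsFinite p₁] [Etale p₁] [IsFinite p₂]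
    [Etale p₂] (ψ : pullback p₁ j ⟶ pullback p₂ j)
    (hψ : ψ ≫ pullback.snd p₂ j = pullback.snd p₁ j) :
    ∃ φ : Z₁ ⟶ Z₂, φ ≫ p₂ = p₁ ∧ pullback.fst p₁ j ≫ φ = ψ ≫ pullback.fst p₂ j := by
  -- the fibre product `W = Z₁ ×_X Z₂`
  set π₁ := pullback.fst p₁ p₂ with hπ₁
  set π₂ := pullback.snd p₁ p₂ with hπ₂
  set ρ : pullback p₁ p₂ ⟶ X := π₁ ≫ p₁ with hρ
  have hW : Pi1.IsNormalScheme (pullback p₁ p₂) := isNormalScheme_of_etale ρ hX
  have hWd : ∀ w : ↥(pullback p₁ p₂), IsDomain ((pullback p₁ p₂).presheaf.stalk w) :=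
    fun w => (hW w).1
  set q₁ := pullback.fst p₁ j with hq₁
  set q₂ := pullback.fst p₂ j with hq₂
  set σ₁ := pullback.snd p₁ j with hσ₁
  set σ₂ := pullback.snd p₂ j with hσ₂
  have c₁ : q₁ ≫ p₁ = σ₁ ≫ j := pullback.condition
  have c₂ : q₂ ≫ p₂ = σ₂ ≫ j := pullback.condition
  -- the graph
  let γ : pullback p₁ j ⟶ pullback p₁ p₂ := pullback.lift q₁ (ψ ≫ q₂)
    (by rw [c₁, Category.assoc, c₂, ← Category.assoc, hψ])
  have hγ₁ : γ ≫ π₁ = q₁ := pullback.lift_fst _ _ _
  have hγ₂ : γ ≫ π₂ = ψ ≫ q₂ := pullback.lift_snd _ _ _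
  have hγρ : ∀ z, ρ (γ z) = genericPoint X := by
    intro z
    rw [← Scheme.Hom.comp_apply, hρ, ← Category.assoc, hγ₁, c₁, Scheme.Hom.comp_apply, hj]
  -- the clopen subset
  have hfin : (ρ ⁻¹' {genericPoint X}).Finite := ρ.finite_preimage_singleton _
  have hrfin : (Set.range γ).Finite := hfin.subset (by rintro _ ⟨z, rfl⟩; exact hγρ z)
  set G : Set ↥(pullback p₁ p₂) := ⋃ w ∈ Set.range γ, closure {w} with hG
  have hGclopen : IsClopen G := by
    apply hrfin.isClopen_biUnion
    rintro _ ⟨z, rfl⟩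
    exact isClopen_closure ρ hWd (hγρ z)
  let G' : (pullback p₁ p₂).Opens := ⟨G, hGclopen.isOpen⟩
  haveI : IsClosedImmersion G'.ι :=
    IsClosedImmersion.of_isPreimmersion _ (by rw [Scheme.Opens.range_ι]; exact hGclopen.isClosed)
  let g : G'.toScheme ⟶ Z₁ := G'.ι ≫ π₁
  haveI : IsFinite g := inferInstance
  haveI : Flat g := inferInstance
  haveI : LocallyOfFinitePresentation g := inferInstance
  have hγG : Set.range γ ⊆ Set.range G'.ι := by
    rw [Scheme.Opens.range_ι]
    rintro _ ⟨z, rfl⟩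
    exact Set.mem_biUnion ⟨z, rfl⟩ (subset_closure rfl)
  let γ' : pullback p₁ j ⟶ G'.toScheme := IsOpenImmersion.lift G'.ι γ hγG
  have hγ' : γ' ≫ G'.ι = γ := IsOpenImmersion.lift_fac _ _ _
  have hγ'g : γ' ≫ g = q₁ := by rw [← Category.assoc, hγ', hγ₁]
  -- base change of `g` to the generic fibre
  set fP := pullback.fst g q₁ with hfP
  set sP := pullback.snd g q₁ with hsP
  have cP : fP ≫ g = sP ≫ q₁ := pullback.condition
  let s : pullback p₁ j ⟶ pullback g q₁ := pullback.lift γ' (𝟙 _) (by rw [hγ'g, Category.id_comp])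
  have hs₁ : s ≫ fP = γ' := pullback.lift_fst _ _ _
  have hs₂ : s ≫ sP = 𝟙 _ := pullback.lift_snd _ _ _
  let u : pullback g q₁ ⟶ Z₂ := fP ≫ G'.ι ≫ π₂
  let v : pullback g q₁ ⟶ Z₂ := sP ≫ ψ ≫ q₂
  have hπ : π₁ ≫ p₁ = π₂ ≫ p₂ := pullback.condition
  have huv : u ≫ p₂ = v ≫ p₂ := by
    simp only [u, v, Category.assoc]
    rw [← hπ, c₂, ← Category.assoc ψ, hψ, ← c₁, ← Category.assoc sP, ← cP]
    simp only [g, Category.assoc]
  have hsuv : s ≫ u = s ≫ v := by
    simp only [u, v]
    rw [← Category.assoc, hs₁, ← Category.assoc, hγ', hγ₂, ← Category.assoc s, hs₂,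
      Category.id_comp]
  obtain ⟨U, hU, hUt, -⟩ := Groth.Agent.Lib.Helper80.exists_opens_eqLocus p₂ u v huv
  have hssurj : Function.Surjective s := by
    intro t
    have hmem : G'.ι (fP t) ∈ G := by
      have : G'.ι (fP t) ∈ Set.range G'.ι := ⟨_, rfl⟩
      rwa [Scheme.Opens.range_ι] at this
    rw [hG] at hmem
    simp only [Set.mem_iUnion, exists_prop] at hmem
    obtain ⟨_, ⟨z, rfl⟩, hz⟩ := hmem
    have hspec : γ z ⤳ G'.ι (fP t) := specializes_iff_mem_closure.mpr hz
    have hρt : ρ (G'.ι (fP t)) = genericPoint X := by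
      have : ρ (G'.ι (fP t)) = (fP ≫ g ≫ p₁) t := by
        simp only [g, hρ, Scheme.Hom.comp_apply]
      rw [this, ← Category.assoc, cP, Category.assoc, c₁]
      simp only [Scheme.Hom.comp_apply, hj]
    have heq : γ z = G'.ι (fP t) :=
      eq_of_specializes_of_fibre ρ hspec ((hγρ z).trans hρt.symm)
    have h1 : γ' z = fP t := by
      apply G'.ι.isOpenEmbedding.injective
      rw [← heq, ← Scheme.Hom.comp_apply, hγ']
    refine ⟨z, ?_⟩
    apply (pullback.fst g q₁).isEmbedding.injective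
    rw [← Scheme.Hom.comp_apply, ← hfP, hs₁, h1]
  have huv' : u = v := by
    have hsub : Set.range s ⊆ (U : Set ↥(pullback g q₁)) := hUt s hsuv
    have hU' : U = ⊤ := by
      apply TopologicalSpace.Opens.ext
      rw [TopologicalSpace.Opens.coe_top, ← Set.univ_subset_iff, ← hssurj.range_eq]
      exact hsub
    subst hU'
    have h1 := congrArg (fun m => (pullback g q₁).topIso.inv ≫ m) hU
    simp only [← Category.assoc, Scheme.toIso_inv_ι, Category.id_comp] at h1
    exact h1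
  have hsPγ : sP ≫ γ' = fP := by
    rw [← cancel_mono G'.ι, Category.assoc, hγ']
    apply pullback.hom_ext
    · rw [Category.assoc, Category.assoc, ← hπ₁, hγ₁, ← cP]
    · rw [Category.assoc, Category.assoc, ← hπ₂, hγ₂]
      exact huv'.symm
  haveI : IsIso sP := by
    refine ⟨s, ?_, hs₂⟩
    apply pullback.hom_ext
    · rw [Category.assoc, ← hfP, hs₁, hsPγ, Category.id_comp]
    · rw [Category.assoc, ← hsP, hs₂, Category.comp_id, Category.id_comp]
  have hrank : ∀ z : ↥(pullback p₁ j), Scheme.Hom.finrank g (q₁ z) = 1 := by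
    intro z
    rw [← Scheme.Hom.finrank_pullback_snd g q₁ z, ← hsP, Scheme.Hom.finrank_eq_one_of_isIso]
    rfl
  have hrank' : Scheme.Hom.finrank g = 1 := by
    funext z
    obtain ⟨ξ, hξ, hξz⟩ := exists_gen p₁ z
    have hξmem : ξ ∈ Set.range q₁ := by
      rw [hq₁, Scheme.Pullback.range_fst]
      obtain ⟨s₀⟩ := ‹Nonempty S›
      exact ⟨s₀, (hj s₀).trans hξ.symm⟩
    obtain ⟨z', rfl⟩ := hξmem
    have hopen := (Scheme.Hom.isLocallyConstant_finrank g).isOpen_fiber (Scheme.Hom.finrank g z)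
    have := hξz.mem_open hopen rfl
    simp only [Set.mem_ofPred_eq] at this
    rw [← this, hrank z']
    rfl
  haveI : IsIso g := (Scheme.Hom.isIso_iff_finrank_eq g).mpr hrank'
  refine ⟨inv g ≫ G'.ι ≫ π₂, ?_, ?_⟩
  · rw [Category.assoc, Category.assoc, ← hπ, IsIso.inv_comp_eq]
    simp only [g, Category.assoc]
  · have : q₁ ≫ inv g = γ' := by rw [IsIso.comp_inv_eq, hγ'g]
    rw [← Category.assoc, this, ← Category.assoc, hγ', hγ₂]


end Groth.Agent.Lib.Helper69.FEtNormal
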