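import Groth.Agent.Lib.Helper69.FEtFiber
import Groth.Agent.Lib.Helper82.Pi0FEt
import Groth.Agent.S0294

set_option linter.style.haveILetI false
set_option linter.unusedSectionVars false
set_option backward.isDefEq.respectTransparency false
set_option backward.defeqAttrib.useBackward true
open CategoryTheory Limits AlgebraicGeometry MorphismProperty Opposite TopologicalSpace
open Groth.Agent.Lib.Helper58.FEtHens

universe u
namespace Groth.Agent.Lib.Helper69

lemma hasColimitsOfShape_singleObj {C : Type*} [Category* C] [HasFiniteColimits C]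
    (G : Type u) [Group G] [Finite G] : HasColimitsOfShape (SingleObj G) C := by
  obtain ⟨G', hg, hf, ⟨e⟩⟩ := Finite.exists_type_univ_nonempty_mulEquiv G
  exact Limits.hasColimitsOfShape_of_equivalence e.toSingleObjEquiv.symm

lemma preservesColimitsOfShape_singleObj {C D : Type*} [Category* C] [Category* D] (F : C ⥤ D)
    [PreservesFiniteColimits F] (G : Type u) [Group G] [Finite G] :
    PreservesColimitsOfShape (SingleObj G) F := by
  obtain ⟨G', hg, hf, ⟨e⟩⟩ := Finite.exists_type_univ_nonempty_mulEquiv G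
  exact preservesColimitsOfShape_of_equiv e.toSingleObjEquiv.symm F

section abstractIso

variable {C : Type (u + 1)} [Category.{u} C] [HasPullbacks C] (F : C ⥤ Type u)
  [PreservesLimitsOfShape WalkingCospan F] [PreservesColimitsOfShape (Discrete WalkingPair) F]
  (G3 : ∀ {X Y : C} (i : X ⟶ Y) [Mono i], ∃ (Z : C) (u : Z ⟶ Y),
    Nonempty (IsColimit (BinaryCofan.mk i u)))
  (K : ∀ Y : C, IsEmpty (F.obj Y) → Nonempty (IsInitial Y))

include G3 K in
lemma isIso_of_mono_of_isIso_map {A B : C} (i : A ⟶ B) [Mono i] (h : IsIso (F.map i)) :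
    IsIso i := by
  obtain ⟨Z, u, ⟨hcol⟩⟩ := G3 i
  have h1 : IsColimit (BinaryCofan.mk (F.map i) (F.map u)) :=
    isColimitMapCoconeBinaryCofanEquiv F i u (isColimitOfPreserves F hcol)
  obtain ⟨-, -, hc⟩ := (Types.binaryCofan_isColimit_iff _).mp ⟨h1⟩
  have hsurj : Function.Surjective (F.map i) := ((isIso_iff_bijective (F.map i)).mp h).2
  have hempty : IsEmpty (F.obj Z) := by
    refine ⟨fun z => ?_⟩
    obtain ⟨a, ha⟩ := hsurj (F.map u z)
    have hd := hc.disjoint
    rw [Set.disjoint_iff] at hd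
    exact hd ⟨⟨a, ha⟩, ⟨z, rfl⟩⟩
  obtain ⟨hZ⟩ := K Z hempty
  exact (BinaryCofan.isColimit_iff_isIso_inl hZ (BinaryCofan.mk i u)).mp ⟨hcol⟩

include G3 K in
lemma isIso_of_isIso_map {Y Z : C} (φ : Y ⟶ Z) (h : IsIso (F.map φ)) : IsIso φ := by
  have hpb := IsPullback.of_hasPullback φ φ
  have hpbF := hpb.map F
  have h1 : IsIso (F.map (pullback.fst φ φ)) := hpbF.isIso_fst_of_isIso
  let Δ : Y ⟶ pullback φ φ := pullback.lift (𝟙 _) (𝟙 _) rfl
  have hΔ : Δ ≫ pullback.fst φ φ = 𝟙 _ := pullback.lift_fst _ _ _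
  have : IsSplitMono Δ := ⟨⟨⟨pullback.fst φ φ, hΔ⟩⟩⟩
  have h2 : IsIso (F.map Δ) := by
    have h3 : F.map Δ ≫ F.map (pullback.fst φ φ) = 𝟙 _ := by
      rw [← F.map_comp, hΔ, F.map_id]
    have : IsIso (F.map Δ ≫ F.map (pullback.fst φ φ)) := by rw [h3]; infer_instance
    exact IsIso.of_isIso_comp_right (F.map Δ) (F.map (pullback.fst φ φ))
  have h4 : IsIso Δ := isIso_of_mono_of_isIso_map F G3 K Δ h2
  have h5 : IsIso (pullback.fst φ φ) := by
    have : pullback.fst φ φ = inv Δ := by
      rw [← cancel_epi Δ, hΔ, IsIso.hom_inv_id]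
    rw [this]; infer_instance
  have : Mono φ := IsKernelPair.mono_of_isIso_fst hpb
  exact isIso_of_mono_of_isIso_map F G3 K φ h

end abstractIso

section G3

variable {X : Scheme.{u}}

/-- the forgetful functor to schemes -/
noncomputable abbrev fetForget (X : Scheme.{u}) : FEt.Cat X ⥤ Scheme.{u} :=
  MorphismProperty.Over.forget FEt.prop.{u} ⊤ X ⋙ CategoryTheory.Over.forget X

lemma fet_left_prop {Y Z : FEt.Cat X} (i : Y ⟶ Z) : FEt.prop i.left :=
  FEt.prop.of_postcomp (W' := FEt.prop) i.left Z.hom Z.prop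
    (by rw [MorphismProperty.Over.w]; exact Y.prop)

lemma fet_mono_left {Y Z : FEt.Cat X} (i : Y ⟶ Z) [Mono i] : Mono i.left := by
  have : Mono ((fetForget X).map i) := preserves_mono_of_preservesLimit (fetForget X) i
  exact this

/-- monomorphisms of finite étale covers are inclusions of direct summands -/
lemma fet_mono_summand {Y Z : FEt.Cat X} (i : Y ⟶ Z) [Mono i] :
    ∃ (W : FEt.Cat X) (u : W ⟶ Z), Nonempty (IsColimit (BinaryCofan.mk i u)) := by
  have hi := fet_left_prop i
  have : IsFinite i.left := hi.1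
  have : Etale i.left := hi.2
  have : Mono i.left := fet_mono_left i
  have hopen : IsOpenImmersion i.left := IsOpenImmersion.of_flat_of_mono i.left
  have hclosed : IsClosed (Set.range i.left) := i.left.isClosedMap.isClosed_range
  let W : Z.left.Opens := ⟨(Set.range i.left)ᶜ, hclosed.isOpen_compl⟩
  have hW : IsClosed (W : Set Z.left) := by
    show IsClosed (Set.range i.left)ᶜ
    exact i.left.isOpenEmbedding.isOpen_range.isClosed_compl
  have hWfin : IsFinite W.ι := Groth.Agent.Lib.Helper82.Pi0FEt.isFinite_ι_of_isClosed W hW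
  let W' : FEt.Cat X := MorphismProperty.Over.mk ⊤ (W.ι ≫ Z.hom)
    (FEt.prop.comp_mem _ _ ⟨hWfin, inferInstance⟩ Z.prop)
  let u : W' ⟶ Z := MorphismProperty.Over.homMk W.ι rfl trivial
  refine ⟨W', u, ⟨?_⟩⟩
  apply isColimitOfReflects (fetForget X)
  refine (isColimitMapCoconeBinaryCofanEquiv (fetForget X) i u).symm ?_
  refine (nonempty_isColimit_binaryCofanMk_of_isCompl i.left W.ι ?_).some
  rw [Scheme.Opens.opensRange_ι]
  simp only [isCompl_iff, disjoint_iff, codisjoint_iff, ← TopologicalSpace.Opens.coe_inj]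
  constructor
  · show Set.range i.left ∩ (Set.range i.left)ᶜ = ∅
    exact Set.inter_compl_self _
  · show Set.range i.left ∪ (Set.range i.left)ᶜ = Set.univ
    exact Set.union_compl_self _

end G3

section K

variable {X : Scheme.{u}} [ConnectedSpace X] {Ω : Type u} [Field Ω] [IsSepClosed Ω]
  (ξ : Spec (CommRingCat.of Ω) ⟶ X)

lemma fiber_nonempty_of_nonempty (Y : FEt.Cat X) [hne : Nonempty Y.left] :
    Nonempty (FEt.fiberObj ξ Y) := by
  have hcl : IsClopen (Set.range Y.hom.base : Set X) :=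
    Groth.Agent.Lib.Helper82.Pi0FEt.isClopen_range_hom Y
  have huniv : (Set.range Y.hom.base : Set X) = Set.univ := by
    rcases (isClopen_iff (α := X)).mp hcl with h | h
    · exfalso
      obtain ⟨y⟩ := hne
      have : Y.hom.base y ∈ (∅ : Set X) := h ▸ ⟨y, rfl⟩
      exact this
    · exact h
  let pt : Spec (CommRingCat.of Ω) := (⟨⊥, Ideal.isPrime_bot⟩ : PrimeSpectrum Ω)
  obtain ⟨y, hy⟩ : ξ.base pt ∈ Set.range Y.hom.base := huniv ▸ Set.mem_univ _
  obtain ⟨z, hz1, hz2⟩ := Scheme.Pullback.exists_preimage_pullback (f := Y.hom) (g := ξ) y pt hy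
  obtain ⟨B, _, _, h1, h2, ⟨e⟩⟩ := exists_iso_mkObj ((FEt.restrict ξ).obj Y)
  let p : PrimeSpectrum B := (e.hom.left.base z : Spec (CommRingCat.of B))
  let φ : B →ₐ[Ω] Ω := (Algebra.IsFiniteSplit.algHomEquivPrimeSpectrum Ω B).symm p
  let s := secOfAlgHom Ω B φ
  let s' := (FEt.fiber (𝟙 _)).map e.inv s
  exact ⟨(fiberSecEquiv ξ Y).symm s'⟩

lemma fiber_key (Y : FEt.Cat X) (hY : IsEmpty ((FEt.fiber ξ).obj Y)) : Nonempty (IsInitial Y) := by
  by_cases hne : Nonempty Y.left
  · exact (hY.false (fiber_nonempty_of_nonempty ξ Y).some).elim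
  · have : IsEmpty Y.left := not_nonempty_iff.mp hne
    exact ⟨fetIsInitialOfIsEmpty Y⟩

end K

section assemble

instance fet_preGalois (X : Scheme.{u}) : PreGaloisCategory (FEt.Cat X) where
  hasQuotientsByFiniteGroups G _ _ := hasColimitsOfShape_singleObj G
  monoInducesIsoOnDirectSummand i _ := fet_mono_summand i

variable {X : Scheme.{u}} {Ω : Type u} [Field Ω] (ξ : Spec (CommRingCat.of Ω) ⟶ X)

/-- the fibre functor, with values in finite sets -/
noncomputable def fibFin : FEt.Cat X ⥤ FintypeCat.{u} :=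
  ObjectProperty.lift Finite (FEt.fiber ξ) (fun Y => Groth.Agent.S0294.result ξ Y)

/-- comparison with the set-valued fibre functor -/
noncomputable def fibFinIso : fibFin ξ ⋙ FintypeCat.incl ≅ FEt.fiber ξ :=
  ObjectProperty.liftCompιIso _ _ _

variable [IsSepClosed Ω]

instance fibFin_preservesFiniteLimits : PreservesFiniteLimits (fibFin ξ) := by
  have : PreservesFiniteLimits (fibFin ξ ⋙ FintypeCat.incl) :=
    preservesFiniteLimits_of_natIso (fibFinIso ξ).symm
  exact preservesFiniteLimits_of_reflects_of_preserves (fibFin ξ) FintypeCat.incl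

instance fibFin_preservesFiniteColimits : PreservesFiniteColimits (fibFin ξ) := by
  have : PreservesFiniteColimits (fibFin ξ ⋙ FintypeCat.incl) :=
    preservesFiniteColimits_of_natIso (fibFinIso ξ).symm
  exact preservesFiniteColimits_of_reflects_of_preserves (fibFin ξ) FintypeCat.incl

variable [ConnectedSpace X]

instance fibFin_reflectsIsos : (fibFin ξ).ReflectsIsomorphisms where
  reflects φ h := by
    have h' : IsIso ((FEt.fiber ξ).map φ) :=
      (inferInstance : IsIso (FintypeCat.incl.map ((fibFin ξ).map φ)))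
    exact isIso_of_isIso_map (FEt.fiber ξ) (fun i _ => fet_mono_summand i)
      (fun Y hY => fiber_key ξ Y hY) φ h'

instance fibFin_fiberFunctor : PreGaloisCategory.FiberFunctor (fibFin ξ) where
  preservesQuotientsByFiniteGroups G _ _ := preservesColimitsOfShape_singleObj _ G

end assemble

end Groth.Agent.Lib.Helper69
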