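import Groth.Agent.Lib.Helper58.FEtHens
import Groth.Agent.Lib.Helper69.FEtColim3

set_option linter.style.haveILetI false
set_option linter.unusedSectionVars false
set_option backward.isDefEq.respectTransparency false
set_option backward.defeqAttrib.useBackward true
open CategoryTheory Limits AlgebraicGeometry MorphismProperty Opposite TopologicalSpace
open Groth.Agent.Lib.Helper58.FEtHens

universe u
namespace Groth.Agent.Lib.Helper69

section Spec

variable (A : Type u) [CommRing A]

lemma specFun_comm {S T : Type u} [CommRing S] [CommRing T] [Algebra A S] [Algebra A T]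
    (φ : T →ₐ[A] S) :
    Spec.map (CommRingCat.ofHom φ.toRingHom) ≫ Spec.map (CommRingCat.ofHom (algebraMap A T)) =
      Spec.map (CommRingCat.ofHom (algebraMap A S)) := by
  rw [← Spec.map_comp]
  congr 1
  ext a
  exact φ.commutes a

/-- `Spec`, as a functor from finite étale algebras to finite étale covers -/
noncomputable def specFun :
    (CommAlgCat.FiniteEtale.{u} A)ᵒᵖ ⥤ FEt.Cat (Spec (CommRingCat.of A)) where
  obj S := mkObj A S.unop.obj
  map {S T} f := MorphismProperty.Over.homMk
    (Spec.map (CommRingCat.ofHom f.unop.hom.hom.toRingHom) :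
      Spec (CommRingCat.of S.unop.obj) ⟶ Spec (CommRingCat.of T.unop.obj))
    (specFun_comm A f.unop.hom.hom) trivial
  map_id S := by
    apply MorphismProperty.Over.Hom.ext
    show Spec.map (CommRingCat.ofHom (AlgHom.id A S.unop.obj).toRingHom) = 𝟙 _
    exact Spec.map_id _
  map_comp {S T U} f g := by
    apply MorphismProperty.Over.Hom.ext
    show Spec.map (CommRingCat.ofHom ((f.unop.hom.hom).comp (g.unop.hom.hom)).toRingHom) =
      Spec.map (CommRingCat.ofHom f.unop.hom.hom.toRingHom) ≫
        Spec.map (CommRingCat.ofHom g.unop.hom.hom.toRingHom)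
    rw [← Spec.map_comp]
    rfl

instance specFun_faithful : (specFun A).Faithful where
  map_injective {S T} f g h := by
    have h1 : Spec.map (CommRingCat.ofHom f.unop.hom.hom.toRingHom) =
        Spec.map (CommRingCat.ofHom g.unop.hom.hom.toRingHom) := congrArg (fun k => k.left) h
    have h2 := congrArg CommRingCat.Hom.hom (Spec.map_injective h1)
    apply Quiver.Hom.unop_inj
    apply ObjectProperty.hom_ext
    apply CommAlgCat.hom_ext
    apply AlgHom.ext
    intro x
    exact congrArg (fun k => k x) h2

instance specFun_full : (specFun A).Full where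
  map_surjective {S T} g := by
    obtain ⟨τ, hτ⟩ := exists_algHom_of_over (A := A) (B := S.unop.obj) (C := T.unop.obj) g.left
      (MorphismProperty.Over.w g)
    refine ⟨(ObjectProperty.homMk (CommAlgCat.ofHom τ) : T.unop ⟶ S.unop).op, ?_⟩
    apply MorphismProperty.Over.Hom.ext
    exact hτ.symm

instance specFun_essSurj : (specFun A).EssSurj where
  mem_essImage Y := by
    obtain ⟨B, _, _, h1, h2, ⟨e⟩⟩ := exists_iso_mkObj Y
    exact ⟨op (CommAlgCat.FiniteEtale.of A B), ⟨e.symm⟩⟩

instance specFun_isEquivalence : (specFun A).IsEquivalence where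

end Spec

end Groth.Agent.Lib.Helper69
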