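import Mathlib
import Groth.Agent.Lib.Helper20.FPApprox

/-!
# [FPF]: elements of a filtered-colimit-preserving functor come from finitely presented algebras
-/

set_option autoImplicit false
universe u

open CategoryTheory

namespace Groth.Agent.Lib.Helper69.FPFactor

open Groth.Agent.Lib.Helper20.FPApprox Limits

section

variable {A : Type u} [CommRing A] (Λ : Type u) [CommRing Λ] [Algebra A Λ]

/-- all presentations are good -/
abbrev allGood : Pres A Λ → Prop := fun _ => True

/-- the diagram in `CommAlgCat A` -/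
noncomputable def diag : GoodPres (allGood (A := A) Λ) ⥤ CommAlgCat.{u} A where
  obj j := CommAlgCat.of A j.1.Alg
  map {j j'} g := CommAlgCat.ofHom (Pres.trans (j := j.1) (j' := j'.1) (leOfHom g))
  map_id j := by
    ext x
    exact Pres.trans_refl (j := j.1) le_rfl x
  map_comp {j j' j''} g g' := by
    ext x
    exact (Pres.trans_trans (j := j.1) (j' := j'.1) (j'' := j''.1) (leOfHom g) (leOfHom g')
      (leOfHom (g ≫ g')) x).symm

/-- the cocone in `CommAlgCat A` -/
noncomputable def coconeAlg : Cocone (diag (A := A) Λ) where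
  pt := CommAlgCat.of A Λ
  ι :=
    { app := fun j => CommAlgCat.ofHom j.1.leg
      naturality := fun j j' g => by
        ext x
        exact Pres.leg_trans (j := j.1) (j' := j'.1) (leOfHom g) x }

end

theorem exists_fp_factor {A : Type u} [CommRing A] (Λ : Type u) [CommRing Λ] [Algebra A Λ]
    (F : CommAlgCat.{u} A ⥤ Type u) [Limits.PreservesFilteredColimits F]
    (ξ : F.obj (CommAlgCat.of A Λ)) :
    ∃ (B : Type u) (_ : CommRing B) (_ : Algebra A B) (_ : Algebra.FinitePresentation A B)
      (ι : B →ₐ[A] Λ) (ξ₀ : F.obj (CommAlgCat.of A B)), F.map (CommAlgCat.ofHom ι) ξ₀ = ξ := by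
  classical
  have hcof : ∀ S₀ : Finset Λ, ∃ j : Pres A Λ, allGood (A := A) Λ j ∧ S₀ ⊆ j.S := fun S₀ =>
    ⟨⟨S₀, ⊥, Submodule.fg_bot, fun x hx => by rw [(Submodule.mem_bot _).1 hx, map_zero]⟩, trivial,
      Finset.Subset.refl _⟩
  have hup : ∀ (j : Pres A Λ) (I' : Ideal (MvPolynomial j.S A)) (fg' : I'.FG)
      (le_ker' : ∀ x ∈ I', ev A Λ j.S x = 0), j.I ≤ I' → allGood (A := A) Λ j →
        allGood (A := A) Λ ⟨j.S, I', fg', le_ker'⟩ := fun _ _ _ _ _ _ => trivial
  obtain ⟨hd, hn, ⟨hcolim⟩⟩ := exists_isColimit (allGood (A := A) Λ) hcof hup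
  haveI := hd
  haveI := hn
  have h2 : IsColimit ((commAlgCatEquivUnder (.of A)).functor.mapCocone (coconeAlg (A := A) Λ)) :=
    hcolim
  have h3 : IsColimit (coconeAlg (A := A) Λ) :=
    isColimitOfReflects (commAlgCatEquivUnder (.of A)).functor h2
  haveI : PreservesColimitsOfShape (GoodPres (allGood (A := A) Λ)) F :=
    PreservesFilteredColimitsOfSize.preserves_filtered_colimits _
  have h4 : IsColimit (F.mapCocone (coconeAlg (A := A) Λ)) := isColimitOfPreserves F h3
  obtain ⟨j, y, hy⟩ := Types.jointly_surjective_of_isColimit h4 ξ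
  exact ⟨j.1.Alg, inferInstance, inferInstance, j.1.finitePresentation, j.1.leg, y, hy⟩

end Groth.Agent.Lib.Helper69.FPFactor
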