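import Groth.Agent.Lib.Helper69.FEt
import Groth.Agent.Lib.Helper69.EtRank
import Mathlib.RingTheory.TotallySplit
import Mathlib.RingTheory.Etale.Field

set_option autoImplicit false

namespace Groth.Agent.Lib.Helper69

open SchFin CategoryTheory TensorProduct

universe u

theorem algHom_prod_domain {R A B K : Type*} [CommRing R] [CommRing A] [CommRing B] [CommRing K]
    [IsDomain K] [Algebra R A] [Algebra R B] [Algebra R K] (χ : A × B →ₐ[R] K) :
    (∃ φ : A →ₐ[R] K, χ = φ.comp (AlgHom.fst R A B)) ∨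
      (∃ ψ : B →ₐ[R] K, χ = ψ.comp (AlgHom.snd R A B)) := by
  have hidem : χ ((1, 0) : A × B) * χ ((1, 0) : A × B) = χ ((1, 0) : A × B) := by
    rw [← map_mul]; congr 1; ext <;> simp
  have hsum : χ ((1, 0) : A × B) + χ ((0, 1) : A × B) = 1 := by
    rw [← map_add, ← map_one χ]; congr 1; ext <;> simp
  have h01 : χ ((1, 0) : A × B) = 0 ∨ χ ((1, 0) : A × B) = 1 := by
    have : χ ((1, 0) : A × B) * (χ ((1, 0) : A × B) - 1) = 0 := by
      rw [mul_sub, hidem, mul_one, sub_self]
    rcases mul_eq_zero.mp this with h | h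
    · exact Or.inl h
    · exact Or.inr (sub_eq_zero.mp h)
  rcases h01 with h | h
  · right
    have h1 : χ ((0, 1) : A × B) = 1 := by rw [h, zero_add] at hsum; exact hsum
    refine ⟨{ toFun := fun b => χ (0, b)
              map_one' := h1
              map_mul' := fun b b' => by rw [← map_mul]; congr 1; ext <;> simp
              map_zero' := by
                have : ((0, 0) : A × B) = 0 := rfl
                rw [this, map_zero]
              map_add' := fun b b' => by rw [← map_add]; congr 1; ext <;> simp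
              commutes' := fun r => by
                have : ((0, algebraMap R B r) : A × B) = algebraMap R (A × B) r * (0, 1) := by
                  ext <;> simp
                rw [this, map_mul, h1, mul_one, AlgHom.commutes] }, ?_⟩
    apply AlgHom.ext
    rintro ⟨a, b⟩
    show χ (a, b) = χ (0, b)
    have : ((a, b) : A × B) = (a, 0) * (1, 0) + (0, b) := by ext <;> simp
    rw [this, map_add, map_mul, h, mul_zero, zero_add]
  · left
    have h1 : χ ((0, 1) : A × B) = 0 := by rw [h] at hsum; linear_combination hsum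
    refine ⟨{ toFun := fun a => χ (a, 0)
              map_one' := h
              map_mul' := fun b b' => by rw [← map_mul]; congr 1; ext <;> simp
              map_zero' := by
                have : ((0, 0) : A × B) = 0 := rfl
                rw [this, map_zero]
              map_add' := fun b b' => by rw [← map_add]; congr 1; ext <;> simp
              commutes' := fun r => by
                have : ((algebraMap R A r, 0) : A × B) = algebraMap R (A × B) r * (1, 0) := by
                  ext <;> simp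
                rw [this, map_mul, h, mul_one, AlgHom.commutes] }, ?_⟩
    apply AlgHom.ext
    rintro ⟨a, b⟩
    show χ (a, b) = χ (a, 0)
    have : ((a, b) : A × B) = (a, 0) + (0, b) * (0, 1) := by ext <;> simp
    rw [this, map_add, map_mul, h1, mul_zero, add_zero]

section Fib

variable {X : RSpace.{u}} {Ω : Type u} [Field Ω] [IsAlgClosed Ω] (ξ : GeomPt X Ω)

@[reducible] def ptAlgebra : Algebra (X.ring ξ.base) Ω := ξ.toField.toAlgebra

attribute [local instance] ptAlgebra

abbrev Pt (A : Alg X) : Type u := A.carrier ξ.base →ₐ[X.ring ξ.base] Ω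

noncomputable def ptLift (A : Alg X) (φ : Pt ξ A) :
    (Ω ⊗[X.ring ξ.base] A.carrier ξ.base) →ₐ[Ω] Ω :=
  Algebra.TensorProduct.liftEquivRight (X.ring ξ.base) Ω (A.carrier ξ.base) Ω φ

noncomputable def ptToFib (A : Alg X) (φ : Pt ξ A) : ξ.Fib A :=
  ⟨RingHom.ker (ptLift ξ A φ), RingHom.ker_isPrime _⟩

theorem ptToFib_bijective (A : Alg X) (hA : A.IsEtCover) : Function.Bijective (ptToFib ξ A) := by
  have := (hA.2 ξ.base).1
  have := (hA.2 ξ.base).2
  have h1 := (Algebra.TensorProduct.liftEquivRight (X.ring ξ.base) Ω (A.carrier ξ.base) Ω).bijective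
  have h2 := (Algebra.IsFiniteSplit.algHomEquivPrimeSpectrum Ω
    (Ω ⊗[X.ring ξ.base] A.carrier ξ.base)).bijective
  exact h2.comp h1

theorem fibMap_ptToFib {A B : Alg X} (f : A ⟶ B) (φ : Pt ξ B) :
    ξ.fibMap f (ptToFib ξ B φ) = ptToFib ξ A (φ.comp (f.app ξ.base)) := by
  apply PrimeSpectrum.ext
  show Ideal.comap (Algebra.TensorProduct.map (AlgHom.id Ω Ω) (f.app ξ.base)).toRingHom
    (RingHom.ker (ptLift ξ B φ)) = RingHom.ker (ptLift ξ A (φ.comp (f.app ξ.base)))
  have key : (ptLift ξ B φ).comp (Algebra.TensorProduct.map (AlgHom.id Ω Ω) (f.app ξ.base)) =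
      ptLift ξ A (φ.comp (f.app ξ.base)) := by
    apply Algebra.TensorProduct.ext'
    intro a b
    simp [ptLift]
  ext t
  simp only [Ideal.mem_comap, RingHom.mem_ker]
  rw [← key]
  rfl

theorem fib_str_nonempty : Nonempty (ξ.Fib (Alg.str X)) :=
  ⟨ptToFib ξ (Alg.str X) (Algebra.ofId (X.ring ξ.base) Ω)⟩

theorem fib_str_subsingleton : Subsingleton (ξ.Fib (Alg.str X)) := by
  constructor
  intro y z
  obtain ⟨φ, rfl⟩ := (ptToFib_bijective ξ (Alg.str X) (str_isEtCover X)).2 y
  obtain ⟨ψ, rfl⟩ := (ptToFib_bijective ξ (Alg.str X) (str_isEtCover X)).2 z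
  congr 1
  apply AlgHom.ext
  intro a
  exact (φ.commutes a).trans (ψ.commutes a).symm

theorem fib_zero_isEmpty : IsEmpty (ξ.Fib (zeroAlg X)) := by
  constructor
  intro y
  obtain ⟨φ, rfl⟩ := (ptToFib_bijective ξ (zeroAlg X) (zeroAlg_isEtCover X)).2 y
  have h1 : φ 1 = 1 := map_one φ
  have h0 : φ 0 = 0 := map_zero φ
  have : (1 : (zeroAlg X).carrier ξ.base) = 0 := Subsingleton.elim _ _
  rw [this, h0] at h1
  exact zero_ne_one h1

theorem fib_prod {A B : Alg X} (hA : A.IsEtCover) (hB : B.IsEtCover) :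
    Function.Injective (ξ.fibMap (prodFst A B)) ∧ Function.Injective (ξ.fibMap (prodSnd A B)) ∧
    (∀ y z, ξ.fibMap (prodFst A B) y ≠ ξ.fibMap (prodSnd A B) z) ∧
    ∀ w, (∃ y, ξ.fibMap (prodFst A B) y = w) ∨ (∃ z, ξ.fibMap (prodSnd A B) z = w) := by
  have bA := ptToFib_bijective ξ A hA
  have bB := ptToFib_bijective ξ B hB
  have bP := ptToFib_bijective ξ (prodAlg A B) (prodAlg_isEtCover hA hB)
  refine ⟨?_, ?_, ?_, ?_⟩
  · intro y y' h
    obtain ⟨φ, rfl⟩ := bA.2 y
    obtain ⟨φ', rfl⟩ := bA.2 y'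
    rw [fibMap_ptToFib, fibMap_ptToFib] at h
    have h2 := bP.1 h
    congr 1
    apply AlgHom.ext
    intro a
    have := congrArg (fun k => k ((a, 0) : A.carrier ξ.base × B.carrier ξ.base)) h2
    exact this
  · intro y y' h
    obtain ⟨φ, rfl⟩ := bB.2 y
    obtain ⟨φ', rfl⟩ := bB.2 y'
    rw [fibMap_ptToFib, fibMap_ptToFib] at h
    have h2 := bP.1 h
    congr 1
    apply AlgHom.ext
    intro b
    have := congrArg (fun k => k ((0, b) : A.carrier ξ.base × B.carrier ξ.base)) h2
    exact this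
  · intro y z h
    obtain ⟨φ, rfl⟩ := bA.2 y
    obtain ⟨ψ, rfl⟩ := bB.2 z
    rw [fibMap_ptToFib, fibMap_ptToFib] at h
    have h2 := bP.1 h
    have := congrArg (fun k => k ((1, 0) : A.carrier ξ.base × B.carrier ξ.base)) h2
    have h3 : φ 1 = ψ 0 := this
    rw [map_one, map_zero] at h3
    exact one_ne_zero h3
  · intro w
    obtain ⟨χ, rfl⟩ := bP.2 w
    rcases algHom_prod_domain (R := X.ring ξ.base) (A := A.carrier ξ.base) (B := B.carrier ξ.base)
      (K := Ω) χ with ⟨φ, hφ⟩ | ⟨ψ, hψ⟩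
    · left
      refine ⟨ptToFib ξ A φ, ?_⟩
      rw [fibMap_ptToFib, hφ]
      rfl
    · right
      refine ⟨ptToFib ξ B ψ, ?_⟩
      rw [fibMap_ptToFib, hψ]
      rfl

theorem fibMap_surjective_of_injective (hX : X.IsFinSp) {A B : Alg X} (hA : A.IsEtCover)
    (hB : B.IsEtCover) (f : A ⟶ B) (hf : Function.Injective (f.app ξ.base)) :
    Function.Surjective (ξ.fibMap f) := by
  have := hX.1 ξ.base
  have := (hA.2 ξ.base).1
  have := (hA.2 ξ.base).2
  have := (hB.2 ξ.base).1
  have := (hB.2 ξ.base).2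
  have hinj : Function.Injective
      (Algebra.TensorProduct.map (AlgHom.id Ω Ω) (f.app ξ.base)).toRingHom :=
    lTensor_injective_of_injective_etale (f.app ξ.base) hf Ω
  have hint : (Algebra.TensorProduct.map (AlgHom.id Ω Ω) (f.app ξ.base)).toRingHom.IsIntegral := by
    apply RingHom.IsIntegral.tower_top (algebraMap Ω (Ω ⊗[X.ring ξ.base] A.carrier ξ.base))
    have : (Algebra.TensorProduct.map (AlgHom.id Ω Ω) (f.app ξ.base)).toRingHom.comp
        (algebraMap Ω (Ω ⊗[X.ring ξ.base] A.carrier ξ.base)) =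
        algebraMap Ω (Ω ⊗[X.ring ξ.base] B.carrier ξ.base) := by
      ext a
      exact (Algebra.TensorProduct.map (AlgHom.id Ω Ω) (f.app ξ.base)).commutes a
    rw [this]
    exact algebraMap_isIntegral_iff.mpr inferInstance
  exact RingHom.IsIntegral.comap_surjective hint hinj

theorem fib_pushout {A B C P : Alg X} (hA : A.IsEtCover) (hB : B.IsEtCover) (hC : C.IsEtCover)
    (hP : P.IsEtCover) (f : A ⟶ B) (g : A ⟶ C) (inl : B ⟶ P) (inr : C ⟶ P)
    (hex : ∀ (β : B.carrier ξ.base →ₐ[X.ring ξ.base] Ω) (γ : C.carrier ξ.base →ₐ[X.ring ξ.base] Ω),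
          β.comp (f.app ξ.base) = γ.comp (g.app ξ.base) →
            ∃ ψ : P.carrier ξ.base →ₐ[X.ring ξ.base] Ω,
              ψ.comp (inl.app ξ.base) = β ∧ ψ.comp (inr.app ξ.base) = γ)
    (huniq : ∀ ψ ψ' : P.carrier ξ.base →ₐ[X.ring ξ.base] Ω,
      ψ.comp (inl.app ξ.base) = ψ'.comp (inl.app ξ.base) →
        ψ.comp (inr.app ξ.base) = ψ'.comp (inr.app ξ.base) → ψ = ψ')
    (y : ξ.Fib B) (z : ξ.Fib C) (hyz : ξ.fibMap f y = ξ.fibMap g z) :
    ∃ w : ξ.Fib P, (ξ.fibMap inl w = y ∧ ξ.fibMap inr w = z) ∧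
      ∀ w' : ξ.Fib P, ξ.fibMap inl w' = y → ξ.fibMap inr w' = z → w' = w := by
  have bA := ptToFib_bijective ξ A hA
  have bB := ptToFib_bijective ξ B hB
  have bC := ptToFib_bijective ξ C hC
  have bP := ptToFib_bijective ξ P hP
  obtain ⟨β, rfl⟩ := bB.2 y
  obtain ⟨γ, rfl⟩ := bC.2 z
  rw [fibMap_ptToFib, fibMap_ptToFib] at hyz
  obtain ⟨ψ, hψ1, hψ2⟩ := hex β γ (bA.1 hyz)
  refine ⟨ptToFib ξ P ψ, ⟨?_, ?_⟩, ?_⟩
  · rw [fibMap_ptToFib, hψ1]
  · rw [fibMap_ptToFib, hψ2]
  · intro w' h1 h2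
    obtain ⟨ψ', rfl⟩ := bP.2 w'
    rw [fibMap_ptToFib] at h1 h2
    have e1 := bB.1 h1
    have e2 := bC.1 h2
    congr 1
    exact huniq ψ' ψ (e1.trans hψ1.symm) (e2.trans hψ2.symm)

end Fib

end Groth.Agent.Lib.Helper69
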