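import Groth.Agent.Lib.Helper69.EtAlg
import Mathlib.RingTheory.Idempotents
import Mathlib.RingTheory.Etale.Pi
import Mathlib.RingTheory.Etale.Descent
import Mathlib.RingTheory.Flat.IsBaseChange
import Mathlib.RingTheory.TensorProduct.IsBaseChangePi

/-!
# Invariants of a finite family of algebra endomorphisms of a split algebra `Fin n → T`

The subalgebra of `Fin n → T` fixed by finitely many `T`-algebra endomorphisms is étale over `T`:
the matrix entries of the endomorphisms are idempotents, their common refinement is a complete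
orthogonal family of idempotents of `T`, and over each piece the endomorphisms permute coordinates.
-/

set_option autoImplicit false

namespace Groth.Agent.Lib.Helper69

open scoped BigOperators

section Refine

variable {T : Type*} [CommRing T] {P : Type*} [Fintype P] [DecidableEq P] {n : ℕ}
  (a : P → Fin n → T)

/-- the common refinement of the families `a p`, indexed by choice functions -/
def refIdem (φ : P → Fin n) : T := ∏ p, a p (φ p)

variable {a}
variable (hmul : ∀ p j k, a p j * a p k = if j = k then a p j else 0)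

include hmul in
theorem refIdem_mul_factor (φ : P → Fin n) (p : P) :
    refIdem a φ * a p (φ p) = refIdem a φ := by
  unfold refIdem
  rw [← Finset.mul_prod_erase Finset.univ (fun p => a p (φ p)) (Finset.mem_univ p)]
  have h := hmul p (φ p) (φ p)
  rw [if_pos rfl] at h
  calc (a p (φ p) * ∏ x ∈ Finset.univ.erase p, a x (φ x)) * a p (φ p)
      = (a p (φ p) * a p (φ p)) * ∏ x ∈ Finset.univ.erase p, a x (φ x) := by ring
    _ = _ := by rw [h]

include hmul in
theorem refIdem_mul (φ : P → Fin n) (p : P) (j : Fin n) :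
    refIdem a φ * a p j = if φ p = j then refIdem a φ else 0 := by
  rw [← refIdem_mul_factor hmul φ p, mul_assoc, hmul p (φ p) j]
  split_ifs with h
  · rfl
  · rw [mul_zero]

include hmul in
theorem refIdem_ortho (φ ψ : P → Fin n) (h : φ ≠ ψ) : refIdem a φ * refIdem a ψ = 0 := by
  obtain ⟨p, hp⟩ := Function.ne_iff.mp h
  rw [← refIdem_mul_factor hmul ψ p, mul_comm (refIdem a ψ), ← mul_assoc,
    refIdem_mul hmul φ p (ψ p), if_neg hp, zero_mul]

variable (hsum : ∀ p, ∑ j, a p j = 1)

include hsum in
theorem refIdem_sum : ∑ φ : P → Fin n, refIdem a φ = 1 := by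
  unfold refIdem
  rw [← Fintype.prod_sum]
  simp [hsum]

include hmul hsum in
theorem refIdem_complete : CompleteOrthogonalIdempotents (refIdem a) := by
  refine ⟨⟨fun φ => ?_, fun φ ψ h => refIdem_ortho hmul φ ψ h⟩, refIdem_sum hsum⟩
  show refIdem a φ * refIdem a φ = refIdem a φ
  have h1 : refIdem a φ * ∑ ψ : P → Fin n, refIdem a ψ = refIdem a φ := by
    rw [refIdem_sum hsum, mul_one]
  rw [Finset.mul_sum, Finset.sum_eq_single φ] at h1
  · exact h1
  · intro ψ _ hψ
    exact refIdem_ortho hmul φ ψ (Ne.symm hψ)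
  · intro h; exact absurd (Finset.mem_univ φ) h

include hsum in
theorem eq_of_refIdem_mul_eq {u v : T} (h : ∀ φ : P → Fin n, refIdem a φ * u = refIdem a φ * v) :
    u = v := by
  calc u = (∑ φ : P → Fin n, refIdem a φ) * u := by rw [refIdem_sum hsum, one_mul]
    _ = ∑ φ : P → Fin n, refIdem a φ * u := Finset.sum_mul _ _ _
    _ = ∑ φ : P → Fin n, refIdem a φ * v := Finset.sum_congr rfl (fun φ _ => h φ)
    _ = (∑ φ : P → Fin n, refIdem a φ) * v := (Finset.sum_mul _ _ _).symm
    _ = v := by rw [refIdem_sum hsum, one_mul]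

end Refine

section Matrix

variable {T : Type*} [CommRing T] {n : ℕ} (s : (Fin n → T) →ₐ[T] (Fin n → T))

/-- the matrix entry of an algebra endomorphism of `Fin n → T` -/
def mat (i j : Fin n) : T := s (Pi.single j 1) i

theorem mat_mul (i j k : Fin n) : mat s i j * mat s i k = if j = k then mat s i j else 0 := by
  unfold mat
  have h : (Pi.single j 1 : Fin n → T) * Pi.single k 1 = if j = k then Pi.single j 1 else 0 := by
    split_ifs with hjk
    · subst hjk
      funext l
      by_cases hl : l = j
      · subst hl; simp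
      · simp [Pi.single_eq_of_ne hl]
    · funext l
      by_cases hl : l = j
      · subst hl
        simp [Pi.single_eq_of_ne hjk]
      · simp [Pi.single_eq_of_ne hl]
  have h2 := congrFun (congrArg s h) i
  rw [map_mul, Pi.mul_apply] at h2
  rw [h2]
  split_ifs
  · rfl
  · rw [map_zero]; rfl

theorem mat_sum (i : Fin n) : ∑ j, mat s i j = 1 := by
  unfold mat
  have h : (∑ j : Fin n, (Pi.single j 1 : Fin n → T)) = 1 := by
    have := Finset.univ_sum_single (fun _ : Fin n => (1 : T))
    exact this
  have h2 := congrFun (congrArg s h) i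
  rw [map_sum, Finset.sum_apply, map_one] at h2
  exact h2

theorem apply_eq_sum (x : Fin n → T) (i : Fin n) : s x i = ∑ j, x j * mat s i j := by
  have hx : x = ∑ j : Fin n, x j • (Pi.single j 1 : Fin n → T) := by
    have := (Finset.univ_sum_single x).symm
    rw [this]
    apply Finset.sum_congr rfl
    intro j _
    funext l
    by_cases hl : l = j
    · subst hl; simp
    · simp [Pi.single_eq_of_ne hl]
  conv_lhs => rw [hx]
  rw [map_sum, Finset.sum_apply]
  apply Finset.sum_congr rfl
  intro j _
  rw [map_smul, Pi.smul_apply, smul_eq_mul]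
  rfl

end Matrix

section Inv

universe u v

variable {T : Type u} [CommRing T] {n : ℕ} {ι : Type v}
  (σ : ι → ((Fin n → T) →ₐ[T] (Fin n → T)))

/-- the subalgebra of elements fixed by all `σ g` -/
def invSubalg : Subalgebra T (Fin n → T) where
  carrier := {x | ∀ g, σ g x = x}
  mul_mem' {x y} hx hy g := by rw [map_mul, hx g, hy g]
  add_mem' {x y} hx hy g := by rw [map_add, hx g, hy g]
  algebraMap_mem' r g := (σ g).commutes r

theorem mem_invSubalg {x : Fin n → T} : x ∈ invSubalg σ ↔ ∀ g, σ g x = x := Iff.rfl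

/-- the matrix entries of all the `σ g`, indexed by `ι × Fin n` -/
def matFam (p : ι × Fin n) (j : Fin n) : T := mat (σ p.1) p.2 j

theorem matFam_mul (p : ι × Fin n) (j k : Fin n) :
    matFam σ p j * matFam σ p k = if j = k then matFam σ p j else 0 := mat_mul _ _ _ _

theorem matFam_sum (p : ι × Fin n) : ∑ j, matFam σ p j = 1 := mat_sum _ _

variable [Fintype ι] [DecidableEq ι]

theorem refIdem_mul_apply (φ : ι × Fin n → Fin n) (g : ι) (x : Fin n → T) (i : Fin n) :
    refIdem (matFam σ) φ * σ g x i = refIdem (matFam σ) φ * x (φ (g, i)) := by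
  rw [apply_eq_sum, Finset.mul_sum, Finset.sum_eq_single (φ (g, i))]
  · rw [mul_left_comm]
    show x (φ (g, i)) * (refIdem (matFam σ) φ * matFam σ (g, i) (φ (g, i))) = _
    rw [refIdem_mul_factor (matFam_mul σ), mul_comm]
  · intro j _ hj
    rw [mul_left_comm]
    show x j * (refIdem (matFam σ) φ * matFam σ (g, i) j) = 0
    rw [refIdem_mul (matFam_mul σ), if_neg (Ne.symm hj), mul_zero]
  · intro h; exact absurd (Finset.mem_univ _) h

/-- the relation on coordinates generated by the local permutation pattern `φ` -/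
def coordRel (φ : ι × Fin n → Fin n) (i j : Fin n) : Prop := ∃ g, φ (g, i) = j

theorem refIdem_mul_eq_of_quot_eq (φ : ι × Fin n → Fin n) {x : Fin n → T} (hx : x ∈ invSubalg σ)
    {i j : Fin n} (hij : Quot.mk (coordRel φ) i = Quot.mk (coordRel φ) j) :
    refIdem (matFam σ) φ * x i = refIdem (matFam σ) φ * x j := by
  have hresp : ∀ i j, coordRel φ i j →
      refIdem (matFam σ) φ * x i = refIdem (matFam σ) φ * x j := by
    rintro i j ⟨g, rfl⟩
    rw [← refIdem_mul_apply σ φ g x i, hx g]
  exact congrArg (Quot.lift (fun i => refIdem (matFam σ) φ * x i) hresp) hij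

/-- evaluation of invariants at representatives of the classes of `coordRel φ`, modulo `1 - ε_φ` -/
noncomputable def evalRep (φ : ι × Fin n → Fin n) :
    invSubalg σ →ₐ[T] (Quot (coordRel φ) → T ⧸ Ideal.span {1 - refIdem (matFam σ) φ}) :=
  Pi.algHom T _ (fun q => (Ideal.Quotient.mkₐ T _).comp
    ((Pi.evalAlgHom T (fun _ : Fin n => T) q.out).comp (invSubalg σ).val))

theorem evalRep_apply (φ : ι × Fin n → Fin n) (x : invSubalg σ) (q : Quot (coordRel φ)) :
    evalRep σ φ x q = Ideal.Quotient.mk _ (x.1 q.out) := rfl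

theorem evalRep_surjective (φ : ι × Fin n → Fin n) : Function.Surjective (evalRep σ φ) := by
  intro y
  choose y' hy' using fun q => Ideal.Quotient.mk_surjective (y q)
  set ε := refIdem (matFam σ) φ with hε
  have hidem : ε * ε = ε := ((refIdem_complete (matFam_mul σ) (matFam_sum σ)).idem φ).eq
  let x : Fin n → T := fun i => ε * y' (Quot.mk _ i)
  have hx : x ∈ invSubalg σ := by
    intro g
    funext i
    apply eq_of_refIdem_mul_eq (matFam_sum σ)
    intro ψ
    rw [refIdem_mul_apply]
    by_cases hψ : ψ = φ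
    · subst hψ
      have : Quot.mk (coordRel ψ) (ψ (g, i)) = Quot.mk (coordRel ψ) i :=
        (Quot.sound ⟨g, rfl⟩).symm
      show _ * (ε * y' (Quot.mk _ (ψ (g, i)))) = _ * (ε * y' (Quot.mk _ i))
      rw [this]
    · show _ * (ε * _) = _ * (ε * _)
      rw [← mul_assoc, ← mul_assoc, hε, refIdem_ortho (matFam_mul σ) ψ φ hψ, zero_mul, zero_mul]
  refine ⟨⟨x, hx⟩, ?_⟩
  funext q
  rw [evalRep_apply, ← hy' q]
  show Ideal.Quotient.mk _ (ε * y' (Quot.mk _ q.out)) = _
  rw [Quot.out_eq, Ideal.Quotient.eq, Ideal.mem_span_singleton']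
  exact ⟨-y' q, by ring⟩

theorem ker_evalRep (φ : ι × Fin n → Fin n) :
    RingHom.ker (evalRep σ φ) =
      Ideal.span {1 - algebraMap T (invSubalg σ) (refIdem (matFam σ) φ)} := by
  set ε := refIdem (matFam σ) φ with hε
  have hidem : ε * ε = ε := ((refIdem_complete (matFam_mul σ) (matFam_sum σ)).idem φ).eq
  apply le_antisymm
  · intro x hx
    rw [RingHom.mem_ker] at hx
    have h0 : ∀ i, ε * x.1 i = 0 := by
      intro i
      have h1 := congrFun hx (Quot.mk _ i)
      rw [evalRep_apply] at h1
      change Ideal.Quotient.mk _ _ = 0 at h1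
      rw [Ideal.Quotient.eq_zero_iff_mem, Ideal.mem_span_singleton'] at h1
      obtain ⟨c, hc⟩ := h1
      have h2 : ε * x.1 (Quot.mk (coordRel φ) i).out = 0 := by
        rw [← hc]
        calc ε * (c * (1 - ε)) = c * (ε - ε * ε) := by ring
          _ = 0 := by rw [hidem, sub_self, mul_zero]
      rw [← h2]
      exact refIdem_mul_eq_of_quot_eq σ φ x.2 (Quot.out_eq _).symm
    rw [Ideal.mem_span_singleton']
    refine ⟨x, ?_⟩
    apply Subtype.ext
    funext i
    show x.1 i * (1 - algebraMap T (Fin n → T) ε i) = x.1 i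
    rw [Pi.algebraMap_apply, Algebra.algebraMap_self, RingHom.id_apply, mul_sub, mul_one,
      mul_comm, h0 i, sub_zero]
  · rw [Ideal.span_le, Set.singleton_subset_iff, SetLike.mem_coe, RingHom.mem_ker, map_sub,
      map_one, AlgHom.commutes, sub_eq_zero]
    funext q
    rw [Pi.algebraMap_apply, Ideal.Quotient.algebraMap_eq, Pi.one_apply]
    symm
    rw [← sub_eq_zero, ← map_one (Ideal.Quotient.mk _), ← map_sub,
      Ideal.Quotient.eq_zero_iff_mem]
    have : refIdem (matFam σ) φ - 1 = -(1 - refIdem (matFam σ) φ) := by ring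
    rw [this]
    exact neg_mem (Ideal.mem_span_singleton_self _)

end Inv

section InvEtale

universe u v

variable {T : Type u} [CommRing T] {n : ℕ} {ι : Type v}
  (σ : ι → ((Fin n → T) →ₐ[T] (Fin n → T)))

set_option backward.isDefEq.respectTransparency false in
/-- The invariants of finitely many algebra endomorphisms of `Fin n → T` are étale over `T`. -/
theorem etale_invSubalg [Finite ι] : Algebra.Etale T (invSubalg σ) := by
  classical
  cases nonempty_fintype ι
  have he := refIdem_complete (matFam_mul σ) (matFam_sum σ)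
  have he' := he.map (algebraMap T (invSubalg σ))
  have bij := he'.bijective_pi
  have hfac : ∀ φ : ι × Fin n → Fin n, Algebra.Etale T
      (invSubalg σ ⧸ Ideal.span {1 - (algebraMap T (invSubalg σ) ∘ refIdem (matFam σ)) φ}) := by
    intro φ
    have h1 : Algebra.Etale T (T ⧸ Ideal.span {1 - refIdem (matFam σ) φ}) :=
      etale_quot_idem (he.idem φ).one_sub
    have hfin : Finite (Quot (coordRel φ)) :=
      Finite.of_surjective (Quot.mk _) Quot.exists_rep
    have h2 : Algebra.Etale T (Quot (coordRel φ) → T ⧸ Ideal.span {1 - refIdem (matFam σ) φ}) :=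
      inferInstance
    have hk : Ideal.span {1 - (algebraMap T (invSubalg σ) ∘ refIdem (matFam σ)) φ} =
        RingHom.ker (evalRep σ φ) := (ker_evalRep σ φ).symm
    exact Algebra.Etale.of_equiv
      ((Ideal.quotientEquivAlgOfEq T hk).trans
        (Ideal.quotientKerAlgEquivOfSurjective (evalRep_surjective σ φ))).symm
  let E : invSubalg σ ≃ₐ[T]
      (∀ φ : ι × Fin n → Fin n,
        invSubalg σ ⧸ Ideal.span {1 - (algebraMap T (invSubalg σ) ∘ refIdem (matFam σ)) φ}) :=
    AlgEquiv.ofBijective (Pi.algHom T _ (fun φ => Ideal.Quotient.mkₐ T _)) bij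
  have hPi : Algebra.Etale T (∀ φ : ι × Fin n → Fin n,
        invSubalg σ ⧸ Ideal.span {1 - (algebraMap T (invSubalg σ) ∘ refIdem (matFam σ)) φ}) :=
    inferInstance
  exact @Algebra.Etale.of_equiv T _ _ _ _ _ _ _ hPi E.symm

end InvEtale

section InvBC

variable {R : Type*} [CommRing R] {S : Type*} [CommRing S] [Algebra R S]
  {M N : Type*} [AddCommGroup M] [Module R M] [AddCommGroup N] [Module R N] [Module S N]
  [IsScalarTower R S N] {ι : Type*}

/-- the map whose kernel is the module of invariants -/
def invDiff (σ : ι → M →ₗ[R] M) : M →ₗ[R] (ι → M) :=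
  LinearMap.pi fun g => σ g - LinearMap.id

/-- the submodule of elements fixed by all `σ g` -/
def invSubmodule (σ : ι → M →ₗ[R] M) : Submodule R M := LinearMap.ker (invDiff σ)

theorem mem_invSubmodule {σ : ι → M →ₗ[R] M} {m : M} : m ∈ invSubmodule σ ↔ ∀ g, σ g m = m := by
  unfold invSubmodule invDiff
  rw [LinearMap.mem_ker]
  constructor
  · intro h g
    have := congrFun h g
    simpa [sub_eq_zero] using this
  · intro h
    funext g
    simp [h g]

variable (σ : ι → M →ₗ[R] M) (σ' : ι → N →ₗ[S] N) (h : M →ₗ[R] N)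
  (hcomm : ∀ g m, h (σ g m) = σ' g (h m))

/-- the map induced on invariants -/
def invMap : invSubmodule σ →ₗ[R] invSubmodule σ' where
  toFun x := ⟨h x.1, by
    rw [mem_invSubmodule]
    intro g
    rw [← hcomm, mem_invSubmodule.mp x.2 g]⟩
  map_add' x y := Subtype.ext (by simp)
  map_smul' r x := Subtype.ext (by simp)

theorem invMap_coe (x : invSubmodule σ) : ((invMap σ σ' h hcomm x : invSubmodule σ') : N) = h x.1 :=
  rfl

/-- Flat base change commutes with taking the invariants of finitely many endomorphisms. -/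
theorem isBaseChange_invMap [Module.Flat R S] [Finite ι] (hh : IsBaseChange S h) :
    IsBaseChange S (invMap σ σ' h hcomm) := by
  have h3 : IsBaseChange S (LinearMap.pi fun g : ι => h ∘ₗ LinearMap.proj g :
      (ι → M) →ₗ[R] (ι → N)) := IsBaseChange.pi (fun _ => h) (fun _ => hh)
  refine IsBaseChange.of_left_exact S (invMap σ σ' h hcomm) h
    (LinearMap.pi fun g : ι => h ∘ₗ LinearMap.proj g)
    (f := (invSubmodule σ).subtype) (g := invDiff σ)
    (f' := (invSubmodule σ').subtype) (g' := invDiff σ') ?_ ?_ hh h3 ?_ ?_ ?_ ?_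
  · ext x; rfl
  · ext m g
    simp [invDiff, hcomm]
  · exact LinearMap.exact_subtype_ker_map _
  · exact Subtype.val_injective
  · exact LinearMap.exact_subtype_ker_map _
  · exact Subtype.val_injective

end InvBC

section InvBC2

variable {R : Type*} [CommRing R] {S : Type*} [CommRing S] [Algebra R S]
  {M N : Type*} [AddCommGroup M] [Module R M] [AddCommGroup N] [Module R N] [Module S N]
  [IsScalarTower R S N] {ι : Type*}
  {M₁ N₁ : Type*} [AddCommGroup M₁] [Module R M₁] [AddCommGroup N₁] [Module R N₁] [Module S N₁]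
  [IsScalarTower R S N₁]

/-- Flat base change commutes with invariants; version for arbitrary models of the invariants. -/
theorem isBaseChange_of_invariants [Module.Flat R S] [Finite ι]
    (σ : ι → M →ₗ[R] M) (σ' : ι → N →ₗ[S] N) (h : M →ₗ[R] N)
    (hcomm : ∀ g m, h (σ g m) = σ' g (h m)) (hh : IsBaseChange S h)
    (f : M₁ →ₗ[R] M) (f' : N₁ →ₗ[S] N) (h₁ : M₁ →ₗ[R] N₁)
    (hf : Function.Injective f) (hf' : Function.Injective f')
    (hr : ∀ m, (∀ g, σ g m = m) ↔ m ∈ Set.range f)
    (hr' : ∀ m, (∀ g, σ' g m = m) ↔ m ∈ Set.range f')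
    (hc : ∀ x, h (f x) = f' (h₁ x)) :
    IsBaseChange S h₁ := by
  have h3 : IsBaseChange S (LinearMap.pi fun g : ι => h ∘ₗ LinearMap.proj g :
      (ι → M) →ₗ[R] (ι → N)) := IsBaseChange.pi (fun _ => h) (fun _ => hh)
  refine IsBaseChange.of_left_exact S h₁ h
    (LinearMap.pi fun g : ι => h ∘ₗ LinearMap.proj g)
    (f := f) (g := invDiff σ) (f' := f') (g' := invDiff σ') ?_ ?_ hh h3 ?_ hf ?_ hf'
  · ext x; exact hc x
  · ext m g
    simp [invDiff, hcomm]
  · intro m
    rw [← hr, ← mem_invSubmodule]
    rfl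
  · intro m
    rw [← hr', ← mem_invSubmodule]
    rfl

end InvBC2

section InvAlg

open TensorProduct

universe u v w

variable {R : Type u} [CommRing R] {A : Type v} [CommRing A] [Algebra R A] {ι : Type w}

/-- the subalgebra of elements fixed by all `σ g` -/
def invSubalgebra (σ : ι → A →ₐ[R] A) : Subalgebra R A where
  carrier := {x | ∀ g, σ g x = x}
  mul_mem' {x y} hx hy g := by rw [map_mul, hx g, hy g]
  add_mem' {x y} hx hy g := by rw [map_add, hx g, hy g]
  algebraMap_mem' r g := (σ g).commutes r

theorem mem_invSubalgebra {σ : ι → A →ₐ[R] A} {x : A} : x ∈ invSubalgebra σ ↔ ∀ g, σ g x = x :=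
  Iff.rfl

theorem invSubalg_eq {T : Type u} [CommRing T] {n : ℕ}
    (σ : ι → ((Fin n → T) →ₐ[T] (Fin n → T))) : invSubalg σ = invSubalgebra σ := rfl

set_option backward.isDefEq.respectTransparency false in
/-- Invariants of finitely many endomorphisms of an algebra that becomes split after a faithfully
flat base change are étale. -/
theorem etale_invSubalgebra_of_split {B : Type v} [CommRing B] [Algebra R B]
    [Module.FaithfullyFlat R B] {n : ℕ} (e : B ⊗[R] A ≃ₐ[B] (Fin n → B)) [Finite ι]
    (σ : ι → A →ₐ[R] A) : Algebra.Etale R (invSubalgebra σ) := by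
  let τ : ι → (B ⊗[R] A) →ₐ[B] (B ⊗[R] A) := fun g =>
    Algebra.TensorProduct.map (AlgHom.id B B) (σ g)
  let σ' : ι → (Fin n → B) →ₐ[B] (Fin n → B) := fun g =>
    (e.toAlgHom.comp (τ g)).comp e.symm.toAlgHom
  let hA : A →ₐ[R] (Fin n → B) :=
    (e.toAlgHom.restrictScalars R).comp Algebra.TensorProduct.includeRight
  have hh : IsBaseChange B hA.toLinearMap := IsBaseChange.of_equiv e.toLinearEquiv (fun a => rfl)
  have hcomm : ∀ g a, hA.toLinearMap ((σ g).toLinearMap a) = (σ' g).toLinearMap (hA.toLinearMap a) := by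
    intro g a
    show e (1 ⊗ₜ σ g a) = e (τ g (e.symm (e (1 ⊗ₜ a))))
    rw [e.symm_apply_apply]
    rfl
  let C := invSubalgebra σ
  let C' := invSubalg σ'
  have hmem : ∀ c : C, hA c.1 ∈ C' := by
    intro c g
    have h0 : (σ' g) (hA c.1) = hA (σ g c.1) := (hcomm g c.1).symm
    rw [h0, c.2 g]
  let j : C →ₐ[R] C' :=
    { toFun := fun c => ⟨hA c.1, hmem c⟩
      map_one' := Subtype.ext (map_one hA)
      map_mul' := fun x y => Subtype.ext (map_mul hA x.1 y.1)
      map_zero' := Subtype.ext (map_zero hA)
      map_add' := fun x y => Subtype.ext (map_add hA x.1 y.1)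
      commutes' := fun r => Subtype.ext (hA.commutes r) }
  have key : IsBaseChange B j.toLinearMap := by
    refine isBaseChange_of_invariants (fun g => (σ g).toLinearMap) (fun g => (σ' g).toLinearMap)
      hA.toLinearMap hcomm hh C.val.toLinearMap C'.val.toLinearMap j.toLinearMap
      Subtype.val_injective Subtype.val_injective ?_ ?_ ?_
    · intro m
      constructor
      · intro hm; exact ⟨⟨m, hm⟩, rfl⟩
      · rintro ⟨c, rfl⟩; exact c.2
    · intro m
      constructor
      · intro hm; exact ⟨⟨m, hm⟩, rfl⟩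
      · rintro ⟨c, rfl⟩; exact c.2
    · intro x; rfl
  let Θ : B ⊗[R] C →ₐ[B] C' :=
    Algebra.TensorProduct.lift (Algebra.ofId B C') j (fun _ _ => Commute.all _ _)
  have hΘ : ⇑Θ = ⇑key.equiv := by
    funext x
    induction x using TensorProduct.induction_on with
    | zero => simp
    | tmul b c =>
      rw [IsBaseChange.equiv_tmul]
      show Algebra.ofId B C' b * j c = b • j c
      rw [Algebra.smul_def]; rfl
    | add x y hx hy => rw [map_add, map_add, hx, hy]
  have bij : Function.Bijective Θ := by rw [hΘ]; exact key.equiv.bijective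
  have h1 : Algebra.Etale B C' := etale_invSubalg σ'
  have h2 : Algebra.Etale B (B ⊗[R] C) :=
    Algebra.Etale.of_equiv (AlgEquiv.ofBijective Θ bij).symm
  exact Algebra.Etale.of_etale_tensorProduct_of_faithfullyFlat B

end InvAlg

end Groth.Agent.Lib.Helper69
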