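import Groth.Agent.Lib.Helper69.FEt
import Groth.Agent.Lib.Helper69.InvSplit

/-!
# Invariants of an étale cover over a finite ringed poset under finitely many endomorphisms
-/

set_option autoImplicit false

namespace Groth.Agent.Lib.Helper69

open SchFin CategoryTheory TensorProduct

universe u

section BCInv

variable {R S : Type u} [CommRing R] [CommRing S] (g : R →+* S)

theorem isBCAlong_inv (hflat : g.Flat) {A A' : Type u} [CommRing A] [CommRing A'] [Algebra R A]
    [Algebra S A'] (ψ : A →ₛₗ[g] A') (hψ : IsBCAlong g ψ) {ι : Type*} [Finite ι]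
    (σ : ι → A →ₐ[R] A) (σ' : ι → A' →ₐ[S] A') (hcomm : ∀ k a, ψ (σ k a) = σ' k (ψ a))
    (q : invSubalgebra σ →ₛₗ[g] invSubalgebra σ') (hq : ∀ c, (q c).1 = ψ c.1) :
    IsBCAlong g q := by
  unfold IsBCAlong at hψ ⊢
  letI : Algebra R S := g.toAlgebra
  letI : Module R A' := Module.compHom A' g
  haveI : IsScalarTower R S A' := IsScalarTower.of_algebraMap_smul fun _ _ => rfl
  letI : Module R (invSubalgebra σ') := Module.compHom _ g
  haveI : IsScalarTower R S (invSubalgebra σ') := IsScalarTower.of_algebraMap_smul fun _ _ => rfl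
  haveI : Module.Flat R S := hflat
  refine isBaseChange_of_invariants (S := S) (fun k => (σ k).toLinearMap)
    (fun k => (σ' k).toLinearMap)
    ({ toFun := ψ, map_add' := ψ.map_add, map_smul' := ψ.map_smulₛₗ } : A →ₗ[R] A')
    (fun k a => hcomm k a) hψ (invSubalgebra σ).val.toLinearMap
    (invSubalgebra σ').val.toLinearMap _ Subtype.val_injective Subtype.val_injective ?_ ?_ ?_
  · intro m
    constructor
    · intro hm; exact ⟨⟨m, hm⟩, rfl⟩
    · rintro ⟨c, rfl⟩; exact c.2
  · intro m
    constructor
    · intro hm; exact ⟨⟨m, hm⟩, rfl⟩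
    · rintro ⟨c, rfl⟩; exact c.2
  · intro c
    exact (hq c).symm

end BCInv

section InvAlg

variable {X : RSpace.{u}} (A : Alg X) {ι : Type*} (σ : ι → (A ⟶ A))

/-- the pointwise invariants of finitely many endomorphisms of an algebra -/
def invAlg : Alg X where
  carrier p := invSubalgebra (fun g => (σ g).app p)
  res {p q} h :=
    { toFun := fun c => ⟨A.res h c.1, fun g => by
        show (σ g).app q (A.res h c.1) = A.res h c.1
        rw [← (σ g).compat h, c.2 g]⟩
      map_one' := Subtype.ext (map_one (A.res h))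
      map_mul' := fun x y => Subtype.ext (map_mul (A.res h) x.1 y.1)
      map_zero' := Subtype.ext (map_zero (A.res h))
      map_add' := fun x y => Subtype.ext (map_add (A.res h) x.1 y.1) }
  res_algebraMap {p q} h a := Subtype.ext (A.res_algebraMap h a)
  res_self p b := Subtype.ext (A.res_self p b.1)
  res_comp {p q s} h h' b := Subtype.ext (A.res_comp h h' b.1)

/-- the inclusion of the invariants -/
def invIncl : invAlg A σ ⟶ A where
  app p := (invSubalgebra (fun g => (σ g).app p)).val
  compat h b := rfl

theorem invIncl_comp (g : ι) : invIncl A σ ≫ σ g = invIncl A σ := by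
  apply Alg.hom_ext; intro p; apply AlgHom.ext; intro c
  exact c.2 g

theorem invIncl_injective (p : X.pt) : Function.Injective ((invIncl A σ).app p) :=
  Subtype.val_injective

/-- the universal property of the invariants -/
def invLift {D : Alg X} (f : D ⟶ A) (hf : ∀ g, f ≫ σ g = f) : D ⟶ invAlg A σ where
  app p := (f.app p).codRestrict (invSubalgebra (fun g => (σ g).app p))
    (fun d g => congrArg (fun k => k.app p d) (hf g))
  compat h b := Subtype.ext (f.compat h b)

theorem invLift_incl {D : Alg X} (f : D ⟶ A) (hf : ∀ g, f ≫ σ g = f) :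
    invLift A σ f hf ≫ invIncl A σ = f := by
  apply Alg.hom_ext; intro p; apply AlgHom.ext; intro c; rfl

theorem inv_hom_ext {D : Alg X} (m m' : D ⟶ invAlg A σ)
    (h : m ≫ invIncl A σ = m' ≫ invIncl A σ) : m = m' := by
  apply Alg.hom_ext; intro p; apply AlgHom.ext; intro d
  apply Subtype.ext
  exact congrArg (fun k => k.app p d) h

theorem invAlg_isEtCover [Finite ι] (hX : X.IsFinSp) (hA : A.IsEtCover)
    (hsplit : ∃ (B : Alg X) (n : ℕ), B.IsCovering ∧ ∀ p : X.pt,
      Nonempty (TensorProduct (X.ring p) (B.carrier p) (A.carrier p) ≃ₐ[B.carrier p]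
        (Fin n → B.carrier p))) :
    (invAlg A σ).IsEtCover := by
  refine ⟨?_, fun p => ⟨?_, ?_⟩⟩
  · intro p q h
    exact isBCAlong_inv (A := A.carrier p) (A' := A.carrier q) (X.res h) (hX.2 p q h)
      (A.toMod.res h) (hA.1 p q h) (fun g => (σ g).app p) (fun g => (σ g).app q)
      (fun k a => (σ k).compat h a) ((invAlg A σ).toMod.res h) (fun c => rfl)
  · have := hX.1 p
    have := (hA.2 p).1
    have : IsNoetherian (X.ring p) (A.carrier p) := isNoetherian_of_isNoetherianRing_of_finite _ _
    exact Module.Finite.of_injective ((invIncl A σ).app p).toLinearMap (invIncl_injective A σ p)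
  · obtain ⟨B, n, hB, he⟩ := hsplit
    obtain ⟨e⟩ := he p
    have := (hB.2 p).2
    exact etale_invSubalgebra_of_split e (fun g => (σ g).app p)

end InvAlg

end Groth.Agent.Lib.Helper69
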