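import Mathlib.Algebra.Polynomial.AlgebraMap
import Mathlib.Algebra.Polynomial.Eval.Coeff
import Mathlib.RingTheory.Polynomial.Basic
import Mathlib.RingTheory.Finiteness.Basic
import Mathlib.Algebra.Group.Action.Basic
import Mathlib.Tactic

/-!
# Points of an algebra with a finite group action that agree on the invariants are conjugate
-/

set_option autoImplicit false

namespace Groth.Agent.Lib.Helper69

open Polynomial

section Orbit

variable {R A Ω : Type*} [CommRing R] [CommRing A] [Algebra R A] [Module.Finite R A]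
  [CommRing Ω] [IsDomain Ω] [Algebra R Ω] {G : Type*} [Group G] [Finite G]

theorem coeff_sum_C_mul_X_pow {K : Type*} [CommRing K] {m : ℕ} (c : Fin m → K) (i₀ : Fin m) :
    (∑ i : Fin m, C (c i) * X ^ (i : ℕ)).coeff (i₀ : ℕ) = c i₀ := by
  rw [Polynomial.finset_sum_coeff, Finset.sum_eq_single i₀]
  · rw [Polynomial.coeff_C_mul_X_pow, if_pos rfl]
  · intro j _ hj
    rw [Polynomial.coeff_C_mul_X_pow, if_neg]
    intro h
    exact hj (Fin.ext h.symm)
  · intro h; exact absurd (Finset.mem_univ _) h

/-- Two points of a finite algebra with values in a domain that agree on the invariants of a finite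
group of automorphisms differ by an element of the group. -/
theorem exists_eq_comp_of_eqOn_invariants (σ : G → A →ₐ[R] A)
    (h1 : σ 1 = AlgHom.id R A) (hmul : ∀ g h, σ (g * h) = (σ g).comp (σ h))
    (φ ψ : A →ₐ[R] Ω) (hφψ : ∀ a, (∀ g, σ g a = a) → φ a = ψ a) :
    ∃ g, ψ = φ.comp (σ g) := by
  classical
  cases nonempty_fintype G
  obtain ⟨m, s, hs⟩ := Module.Finite.exists_fin (R := R) (M := A)
  let a : A[X] := ∑ i : Fin m, C (s i) * X ^ (i : ℕ)
  let S : G → A[X] →+* A[X] := fun g => Polynomial.mapRingHom (σ g).toRingHom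
  let Φ : A[X] →+* Ω[X] := Polynomial.mapRingHom φ.toRingHom
  let Ψ : A[X] →+* Ω[X] := Polynomial.mapRingHom ψ.toRingHom
  let P : A[X][X] := ∏ g : G, (X - C (S g a))
  have hS : ∀ h g (b : A[X]), S h (S g b) = S (h * g) b := by
    intro h g b
    show Polynomial.map _ (Polynomial.map _ b) = Polynomial.map _ b
    rw [Polynomial.map_map, hmul]
    rfl
  have hP : ∀ h, Polynomial.map (S h) P = P := by
    intro h
    show Polynomial.map (S h) (∏ g : G, (X - C (S g a))) = ∏ g : G, (X - C (S g a))
    rw [Polynomial.map_prod]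
    have : ∀ g : G, Polynomial.map (S h) (X - C (S g a)) = X - C (S (h * g) a) := by
      intro g
      rw [Polynomial.map_sub, Polynomial.map_X, Polynomial.map_C, hS]
    simp_rw [this]
    exact Equiv.prod_comp (Equiv.mulLeft h) (fun g => (X - C (S g a) : A[X][X]))
  have hcoef : ∀ k, Φ (P.coeff k) = Ψ (P.coeff k) := by
    intro k
    apply Polynomial.ext
    intro l
    show (Polynomial.map _ (P.coeff k)).coeff l = (Polynomial.map _ (P.coeff k)).coeff l
    rw [Polynomial.coeff_map, Polynomial.coeff_map]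
    apply hφψ
    intro g
    have h2 := congrArg (fun Q : A[X][X] => (Q.coeff k).coeff l) (hP g)
    simp only [Polynomial.coeff_map] at h2
    have h3 : ((S g) (P.coeff k)).coeff l = σ g ((P.coeff k).coeff l) := by
      show (Polynomial.map _ (P.coeff k)).coeff l = _
      rw [Polynomial.coeff_map]; rfl
    rw [← h3]
    exact h2
  have hmap : Polynomial.map Φ P = Polynomial.map Ψ P := by
    apply Polynomial.ext
    intro k
    rw [Polynomial.coeff_map, Polynomial.coeff_map, hcoef]
  have hS1 : S 1 a = a := by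
    show Polynomial.map _ a = a
    rw [h1]
    exact Polynomial.map_id
  have hzero : (Polynomial.map Ψ P).eval (Ψ a) = 0 := by
    show (Polynomial.map Ψ (∏ g : G, (X - C (S g a)))).eval (Ψ a) = 0
    rw [Polynomial.map_prod, Polynomial.eval_prod]
    apply Finset.prod_eq_zero (Finset.mem_univ (1 : G))
    rw [Polynomial.map_sub, Polynomial.map_X, Polynomial.map_C, Polynomial.eval_sub,
      Polynomial.eval_X, Polynomial.eval_C, hS1, sub_self]
  rw [← hmap] at hzero
  have hzero' : ∏ g : G, (Ψ a - Φ (S g a)) = 0 := by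
    have : (Polynomial.map Φ (∏ g : G, (X - C (S g a)))).eval (Ψ a) = 0 := hzero
    rw [Polynomial.map_prod, Polynomial.eval_prod] at this
    rw [← this]
    apply Finset.prod_congr rfl
    intro g _
    rw [Polynomial.map_sub, Polynomial.map_X, Polynomial.map_C, Polynomial.eval_sub,
      Polynomial.eval_X, Polynomial.eval_C]
  obtain ⟨g, -, hg⟩ := Finset.prod_eq_zero_iff.mp hzero'
  refine ⟨g, ?_⟩
  have hΨa : Ψ a = ∑ i : Fin m, C (ψ (s i)) * X ^ (i : ℕ) := by
    show Polynomial.map _ (∑ i : Fin m, C (s i) * X ^ (i : ℕ)) = _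
    rw [Polynomial.map_sum]
    apply Finset.sum_congr rfl
    intro i _
    rw [Polynomial.map_mul, Polynomial.map_pow, Polynomial.map_X, Polynomial.map_C]
    rfl
  have hΦa : Φ (S g a) = ∑ i : Fin m, C (φ (σ g (s i))) * X ^ (i : ℕ) := by
    show Polynomial.map _ (Polynomial.map _ (∑ i : Fin m, C (s i) * X ^ (i : ℕ))) = _
    rw [Polynomial.map_sum, Polynomial.map_sum]
    apply Finset.sum_congr rfl
    intro i _
    rw [Polynomial.map_mul, Polynomial.map_pow, Polynomial.map_X, Polynomial.map_C,
      Polynomial.map_mul, Polynomial.map_pow, Polynomial.map_X, Polynomial.map_C]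
    rfl
  have hgen : ∀ i, ψ (s i) = φ (σ g (s i)) := by
    intro i
    have h3 := congrArg (fun Q : Ω[X] => Q.coeff (i : ℕ)) (sub_eq_zero.mp hg)
    simp only [hΨa, hΦa] at h3
    rw [coeff_sum_C_mul_X_pow, coeff_sum_C_mul_X_pow] at h3
    exact h3
  have hlin : ψ.toLinearMap = (φ.comp (σ g)).toLinearMap := by
    apply LinearMap.ext_on_range hs
    intro i
    exact hgen i
  exact AlgHom.toLinearMap_injective hlin

end Orbit

end Groth.Agent.Lib.Helper69
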