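import Groth.Agent.Lib.Helper69.Fib
import Groth.Agent.Lib.Helper69.InvFEt
import Groth.Agent.Lib.Helper69.InvOrbit

/-!
# The fibre of the invariants of an étale cover is the orbit space of the fibre
-/

set_option autoImplicit false

namespace Groth.Agent.Lib.Helper69

open SchFin CategoryTheory TensorProduct

universe u

section

variable {X : RSpace.{u}} {Ω : Type u} [Field Ω] [IsAlgClosed Ω] (ξ : GeomPt X Ω)

attribute [local instance] ptAlgebra

theorem fib_inv_surjective (hX : X.IsFinSp) {A : Alg X} (hA : A.IsEtCover) {ι : Type*}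
    (σ : ι → (A ⟶ A)) (hI : (invAlg A σ).IsEtCover) :
    Function.Surjective (ξ.fibMap (invIncl A σ)) :=
  fibMap_surjective_of_injective ξ hX hI hA (invIncl A σ) (invIncl_injective A σ ξ.base)

theorem fib_inv_orbit {A : Alg X} (hA : A.IsEtCover) {G : Type*} [Group G] [Finite G]
    (σ : G → (A ⟶ A)) (h1 : σ 1 = 𝟙 A) (hmul : ∀ g h, σ (g * h) = σ g ≫ σ h)
    (hI : (invAlg A σ).IsEtCover) (y y' : ξ.Fib A)
    (hy : ξ.fibMap (invIncl A σ) y = ξ.fibMap (invIncl A σ) y') :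
    ∃ g, y' = ξ.fibMap (σ g) y := by
  obtain ⟨φ, rfl⟩ := (ptToFib_bijective ξ A hA).2 y
  obtain ⟨ψ, rfl⟩ := (ptToFib_bijective ξ A hA).2 y'
  rw [fibMap_ptToFib, fibMap_ptToFib] at hy
  have hφψ := (ptToFib_bijective ξ (invAlg A σ) hI).1 hy
  have := (hA.2 ξ.base).1
  let τ : G → A.carrier ξ.base →ₐ[X.ring ξ.base] A.carrier ξ.base := fun g => (σ g⁻¹).app ξ.base
  have hτ1 : τ 1 = AlgHom.id _ _ := by
    show (σ (1 : G)⁻¹).app ξ.base = _
    rw [inv_one, h1]
    rfl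
  have hτmul : ∀ g h, τ (g * h) = (τ g).comp (τ h) := by
    intro g h
    show (σ (g * h)⁻¹).app ξ.base = ((σ g⁻¹).app ξ.base).comp ((σ h⁻¹).app ξ.base)
    rw [mul_inv_rev, hmul]
    rfl
  have hagree : ∀ a, (∀ g, τ g a = a) → φ a = ψ a := by
    intro a ha
    have hmem : a ∈ invSubalgebra (fun g => (σ g).app ξ.base) := by
      intro g
      have := ha g⁻¹
      show (σ g).app ξ.base a = a
      simpa [τ] using this
    exact congrArg (fun k : Pt ξ (invAlg A σ) => k ⟨a, hmem⟩) hφψ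
  obtain ⟨g, hg⟩ := exists_eq_comp_of_eqOn_invariants τ hτ1 hτmul φ ψ hagree
  refine ⟨g⁻¹, ?_⟩
  rw [fibMap_ptToFib, hg]

end

end Groth.Agent.Lib.Helper69
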