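import Groth.Agent.Lib.Helper69.FEt
import Groth.Agent.Lib.Helper69.EtRank
import Mathlib.RingTheory.Spectrum.Prime.FreeLocus
import Mathlib.Topology.LocallyConstant.Basic

set_option autoImplicit false

namespace Groth.Agent.Lib.Helper69

open SchFin CategoryTheory TensorProduct

universe u

theorem idem_trivial_of_connected {R : Type*} [CommRing R] [ConnectedSpace (PrimeSpectrum R)]
    (s : R) (hs : IsIdempotentElem s) : s = 0 ∨ s = 1 := by
  have hclopen : IsClopen ((PrimeSpectrum.basicOpen s : TopologicalSpace.Opens (PrimeSpectrum R)) :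
      Set (PrimeSpectrum R)) := PrimeSpectrum.isClopen_iff.mpr ⟨s, hs, rfl⟩
  have hnil : ∀ t : R, IsIdempotentElem t → IsNilpotent t → t = 0 := by
    intro t ht ⟨n, hn⟩
    cases n with
    | zero => rw [pow_zero] at hn; rw [← mul_one t, hn, mul_zero]
    | succ n => rw [ht.pow_succ_eq] at hn; exact hn
  rcases isClopen_iff.mp hclopen with h | h
  · left
    apply hnil s hs
    rw [← PrimeSpectrum.basicOpen_eq_bot_iff]
    exact TopologicalSpace.Opens.ext h
  · right
    have h2 : (PrimeSpectrum.basicOpen (1 - s) : Set (PrimeSpectrum R)) = ∅ := by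
      rw [← PrimeSpectrum.zeroLocus_eq_basicOpen_of_isIdempotentElem s hs]
      ext x
      simp only [PrimeSpectrum.mem_zeroLocus, Set.singleton_subset_iff, SetLike.mem_coe,
        Set.mem_empty_iff_false, iff_false]
      intro hx
      have : x ∈ (PrimeSpectrum.basicOpen s : Set (PrimeSpectrum R)) := by rw [h]; trivial
      exact this hx
    have h3 : 1 - s = 0 := by
      apply hnil (1 - s) hs.one_sub
      rw [← PrimeSpectrum.basicOpen_eq_bot_iff]
      exact TopologicalSpace.Opens.ext h2
    exact (sub_eq_zero.mp h3).symm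

section RankConst

variable {X : RSpace.{u}}

theorem rank_const_point (hX : X.IsFinSp) (hpw : X.IsPwConnected) {A : Alg X} (hA : A.IsEtCover)
    (p : X.pt) (P P' : PrimeSpectrum (X.ring p)) :
    Module.rankAtStalk (A.carrier p) P = Module.rankAtStalk (A.carrier p) P' := by
  have := hX.1 p
  have := (hA.2 p).1
  have := (hA.2 p).2
  have := hpw p
  have : Module.FinitePresentation (X.ring p) (A.carrier p) :=
    Module.finitePresentation_of_finite _ _
  exact (Module.isLocallyConstant_rankAtStalk (R := X.ring p) (M := A.carrier p)).apply_eq_of_preconnectedSpace P P'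

theorem rankAtStalk_of_isBCAlong {R S : Type u} [CommRing R] [CommRing S] (g : R →+* S)
    {M N : Type u} [AddCommGroup M] [AddCommGroup N] [Module R M] [Module S N]
    (hflat : Module.Flat R M) (hfin : Module.Finite R M)
    (f : M →ₛₗ[g] N) (hf : IsBCAlong g f) (P : PrimeSpectrum S) :
    Module.rankAtStalk N P = Module.rankAtStalk M (P.comap g) := by
  unfold IsBCAlong at hf
  letI : Algebra R S := g.toAlgebra
  letI : Module R N := Module.compHom N g
  haveI : IsScalarTower R S N := IsScalarTower.of_algebraMap_smul fun _ _ => rfl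
  exact Module.rankAtStalk_isBaseChange hf P

theorem rank_res {A : Alg X} (hA : A.IsEtCover) {p q : X.pt} (h : p ≤ q)
    (P : PrimeSpectrum (X.ring q)) :
    Module.rankAtStalk (A.carrier q) P = Module.rankAtStalk (A.carrier p) (P.comap (X.res h)) := by
  have := (hA.2 p).1
  have := (hA.2 p).2
  exact rankAtStalk_of_isBCAlong (M := A.carrier p) (N := A.carrier q) (X.res h)
    (inferInstance : Module.Flat (X.ring p) (A.carrier p))
    (inferInstance : Module.Finite (X.ring p) (A.carrier p)) (A.toMod.res h)
    (hA.1 p q h) P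

theorem rank_const (hX : X.IsFinSp) (hwc : X.IsWellConnected) {A : Alg X} (hA : A.IsEtCover)
    (p q : X.pt) (P : PrimeSpectrum (X.ring p)) (Q : PrimeSpectrum (X.ring q)) :
    Module.rankAtStalk (A.carrier p) P = Module.rankAtStalk (A.carrier q) Q := by
  classical
  have ne : ∀ t : X.pt, Nonempty (PrimeSpectrum (X.ring t)) := fun t =>
    (hwc.2 t).toNonempty
  have nt : ∀ t : X.pt, Nontrivial (X.ring t) := fun t => by
    obtain ⟨P⟩ := ne t
    exact ⟨⟨0, 1, fun h => P.isPrime.ne_top ((Ideal.eq_top_iff_one _).mpr (h ▸ P.asIdeal.zero_mem))⟩⟩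
  let r : X.pt → ℕ := fun t => Module.rankAtStalk (A.carrier t) (Classical.choice (ne t))
  have hr : ∀ (t : X.pt) (T : PrimeSpectrum (X.ring t)), Module.rankAtStalk (A.carrier t) T = r t :=
    fun t T => rank_const_point hX hwc.2 hA t T _
  have hle : ∀ t t' : X.pt, t ≤ t' → r t = r t' := by
    intro t t' h
    have h1 := rank_res hA h (Classical.choice (ne t'))
    rw [hr t] at h1
    exact h1.symm
  rw [hr p P, hr q Q]
  by_contra hne
  let s : X.sectRing Set.univ :=
    ⟨fun t => if r t.1 = r p then 1 else 0, by
      intro t t' h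
      have := hle t.1 t'.1 h
      show X.res h (if r t.1 = r p then 1 else 0) = if r t'.1 = r p then 1 else 0
      rw [this]
      split_ifs
      · exact map_one _
      · exact map_zero _⟩
  have hs : IsIdempotentElem s := by
    apply Subtype.ext
    funext t
    show (if r t.1 = r p then (1 : X.ring t.1) else 0) * (if r t.1 = r p then 1 else 0) =
      if r t.1 = r p then 1 else 0
    split_ifs <;> simp
  have : ConnectedSpace (PrimeSpectrum (X.sectRing Set.univ)) := hwc.1
  rcases idem_trivial_of_connected s hs with h | h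
  · have h2 := congrArg (fun k => k.1 ⟨p, trivial⟩) h
    have h3 : (if r p = r p then (1 : X.ring p) else 0) = 0 := h2
    rw [if_pos rfl] at h3
    have := nt p
    exact one_ne_zero h3
  · have h2 := congrArg (fun k => k.1 ⟨q, trivial⟩) h
    have h3 : (if r q = r p then (1 : X.ring q) else 0) = 1 := h2
    rw [if_neg (fun e => hne e.symm)] at h3
    have := nt q
    exact zero_ne_one h3

end RankConst

end Groth.Agent.Lib.Helper69
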