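import Groth.Agent.Lib.Helper69.Fib
import Groth.Agent.Lib.Helper69.Rank

set_option autoImplicit false

namespace Groth.Agent.Lib.Helper69

open SchFin CategoryTheory TensorProduct

universe u

section FibRank

variable {X : RSpace.{u}} {Ω : Type u} [Field Ω] [IsAlgClosed Ω] (ξ : GeomPt X Ω)

attribute [local instance] ptAlgebra

def basePrime : PrimeSpectrum (X.ring ξ.base) :=
  (⟨⊥, Ideal.isPrime_bot⟩ : PrimeSpectrum Ω).comap (algebraMap (X.ring ξ.base) Ω)

theorem card_fib_eq_rank (A : Alg X) (hA : A.IsEtCover) :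
    Nat.card (ξ.Fib A) = Module.rankAtStalk (A.carrier ξ.base) (basePrime ξ) := by
  have := (hA.2 ξ.base).1
  have := (hA.2 ξ.base).2
  have hfin : Finite (PrimeSpectrum (Ω ⊗[X.ring ξ.base] A.carrier ξ.base)) := by
    have : Module.Finite Ω (Ω ⊗[X.ring ξ.base] A.carrier ξ.base) := inferInstance
    have : IsArtinianRing (Ω ⊗[X.ring ξ.base] A.carrier ξ.base) := IsArtinianRing.of_finite Ω _
    infer_instance
  letI := Fintype.ofFinite (PrimeSpectrum (Ω ⊗[X.ring ξ.base] A.carrier ξ.base))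
  have h1 : Module.finrank Ω (Ω ⊗[X.ring ξ.base] A.carrier ξ.base) =
      Fintype.card (PrimeSpectrum (Ω ⊗[X.ring ξ.base] A.carrier ξ.base)) := by
    rw [(Algebra.FormallyEtale.equivPiOfIsSepClosed Ω
      (Ω ⊗[X.ring ξ.base] A.carrier ξ.base)).toLinearEquiv.finrank_eq]
    exact Module.finrank_fintype_fun_eq_card Ω
  have h2 : Module.rankAtStalk (Ω ⊗[X.ring ξ.base] A.carrier ξ.base)
      (⟨⊥, Ideal.isPrime_bot⟩ : PrimeSpectrum Ω) =
      Module.rankAtStalk (A.carrier ξ.base) (basePrime ξ) :=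
    Module.rankAtStalk_baseChange _
  have h3 : Module.rankAtStalk (Ω ⊗[X.ring ξ.base] A.carrier ξ.base)
      (⟨⊥, Ideal.isPrime_bot⟩ : PrimeSpectrum Ω) =
      Module.finrank Ω (Ω ⊗[X.ring ξ.base] A.carrier ξ.base) := by
    rw [Module.rankAtStalk_eq_finrank_of_free]
    rfl
  show Nat.card (PrimeSpectrum (Ω ⊗[X.ring ξ.base] A.carrier ξ.base)) = _
  rw [Nat.card_eq_fintype_card, ← h1, ← h3, h2]

end FibRank

end Groth.Agent.Lib.Helper69
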