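import Mathlib

set_option linter.style.haveILetI false

open scoped Pointwise Topology IntermediateField

namespace Groth.Agent.Lib.Helper69.FieldGal

/-- The automorphism group of an algebraic field extension is compact for the Krull topology
(no normality or separability needed). -/
theorem compactSpace_algEquiv (K L : Type*) [Field K] [Field L] [Algebra K L]
    [Algebra.IsAlgebraic K L] : CompactSpace (L ≃ₐ[K] L) := by
  classical
  rw [← isCompact_univ_iff, isCompact_iff_ultrafilter_le_nhds]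
  intro 𝒰 _
  have key : ∀ x : L, ∃ y : L, {σ : L ≃ₐ[K] L | σ x = y} ∈ 𝒰 := by
    intro x
    have hS : ((minpoly K x).rootSet L).Finite := Polynomial.rootSet_finite _ _
    have hmem : (minpoly K x).rootSet L ∈ 𝒰.map (fun σ : L ≃ₐ[K] L => σ x) := by
      rw [Ultrafilter.mem_map]
      refine 𝒰.sets_of_superset 𝒰.univ_mem ?_
      intro σ _
      simp only [Set.mem_preimage]
      rw [Polynomial.mem_rootSet]
      refine ⟨minpoly.ne_zero (Algebra.IsIntegral.isIntegral x), ?_⟩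
      rw [Polynomial.aeval_algEquiv, AlgHom.comp_apply]
      simp [minpoly.aeval]
    obtain ⟨y, -, hy⟩ := Ultrafilter.eq_pure_of_finite_mem hS hmem
    refine ⟨y, ?_⟩
    have h1 : ({y} : Set L) ∈ 𝒰.map (fun σ : L ≃ₐ[K] L => σ x) := by
      rw [hy]; exact Filter.mem_pure.mpr rfl
    exact h1
  choose φ hφ using key
  have hinter : ∀ (s : Finset L), {σ : L ≃ₐ[K] L | ∀ x ∈ s, σ x = φ x} ∈ 𝒰 := by
    intro s
    have : {σ : L ≃ₐ[K] L | ∀ x ∈ s, σ x = φ x} = ⋂ x ∈ s, {σ | σ x = φ x} := by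
      ext; simp
    rw [this]
    exact (Filter.biInter_finset_mem s).mpr (fun x _ => hφ x)
  have hex : ∀ (s : Finset L), ∃ σ : L ≃ₐ[K] L, ∀ x ∈ s, σ x = φ x :=
    fun s => 𝒰.nonempty_of_mem (hinter s)
  let ψ : L →ₐ[K] L :=
    { toFun := φ
      map_one' := by
        obtain ⟨σ, h⟩ := hex {1}
        rw [← h 1 (by simp), map_one]
      map_mul' := fun x y => by
        obtain ⟨σ, h⟩ := hex {x, y, x * y}
        rw [← h x (by simp), ← h y (by simp), ← h (x * y) (by simp), map_mul]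
      map_zero' := by
        obtain ⟨σ, h⟩ := hex {0}
        rw [← h 0 (by simp), map_zero]
      map_add' := fun x y => by
        obtain ⟨σ, h⟩ := hex {x, y, x + y}
        rw [← h x (by simp), ← h y (by simp), ← h (x + y) (by simp), map_add]
      commutes' := fun r => by
        obtain ⟨σ, h⟩ := hex {algebraMap K L r}
        rw [← h _ (by simp), σ.commutes] }
  let σ₀ : L ≃ₐ[K] L := AlgEquiv.ofBijective ψ (Algebra.IsAlgebraic.algHom_bijective ψ)
  have hσ₀ : ∀ x, σ₀ x = φ x := fun x => rfl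
  refine ⟨σ₀, Set.mem_univ _, ?_⟩
  intro N hN
  rw [← map_mul_left_nhds_one, Filter.mem_map, krullTopology_mem_nhds_one_iff] at hN
  obtain ⟨E, hE, hEN⟩ := hN
  obtain ⟨t, ht⟩ := (Module.Finite.fg_top : (⊤ : Submodule K E).FG)
  let s : Finset L := Finset.image (fun e : E => (e : L)) t
  refine 𝒰.sets_of_superset (hinter s) ?_
  intro σ hσ
  have hτ : σ₀⁻¹ * σ ∈ E.fixingSubgroup := by
    rw [IntermediateField.mem_fixingSubgroup_iff]
    intro x hx
    have h2 : ((σ₀⁻¹ * σ : L ≃ₐ[K] L).toLinearMap ∘ₗ E.val.toLinearMap) = E.val.toLinearMap := by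
      apply LinearMap.ext_on ht
      intro e he
      have he' : (e : L) ∈ s := Finset.mem_image.mpr ⟨e, he, rfl⟩
      have h3 : σ (e : L) = φ e := hσ _ he'
      show (σ₀⁻¹ * σ) (e : L) = (e : L)
      rw [AlgEquiv.mul_apply, h3, ← hσ₀]
      exact σ₀.symm_apply_apply _
    exact congrArg (fun f => f ⟨x, hx⟩) h2
  have := hEN hτ
  simpa using this

theorem isOpen_setOf_comp_eq {K L B : Type*} [Field K] [Field L] [Algebra K L]
    [Algebra.IsAlgebraic K L] [CommRing B] [Algebra K B] [Module.Finite K B] (φ : B →ₐ[K] L) :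
    IsOpen {σ : L ≃ₐ[K] L | ∀ b, σ (φ b) = φ b} := by
  classical
  obtain ⟨t, ht⟩ := (Module.Finite.fg_top : (⊤ : Submodule K B).FG)
  have : {σ : L ≃ₐ[K] L | ∀ b, σ (φ b) = φ b} =
      ⋂ b ∈ t, (MulAction.stabilizer (L ≃ₐ[K] L) (φ b) : Set (L ≃ₐ[K] L)) := by
    ext σ
    simp only [Set.mem_ofPred_eq, Set.mem_iInter, SetLike.mem_coe, MulAction.mem_stabilizer_iff]
    constructor
    · intro h b _; exact h b
    · intro h b
      have h2 : σ.toLinearMap ∘ₗ φ.toLinearMap = φ.toLinearMap :=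
        LinearMap.ext_on ht (fun b hb => h b hb)
      exact congrArg (fun f => f b) h2
  rw [this]
  exact isOpen_biInter_finset (fun b _ => stabilizer_isOpen_of_isIntegral _)

theorem exists_algEquiv_comp_eq {K Ω B : Type*} [Field K] [Field Ω] [Algebra K Ω] [Normal K Ω]
    [CommRing B] [Algebra K B] [Module.Finite K B] (φ ψ : B →ₐ[K] Ω)
    (h : RingHom.ker φ = RingHom.ker ψ) :
    ∃ σ : Ω ≃ₐ[K] Ω, ∀ b, σ (φ b) = ψ b := by
  haveI : IsArtinianRing B := IsArtinianRing.of_finite K B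
  haveI : (RingHom.ker φ).IsPrime := RingHom.ker_isPrime φ
  haveI : (RingHom.ker ψ).IsPrime := RingHom.ker_isPrime ψ
  haveI h1 : (RingHom.ker φ).IsMaximal := IsArtinianRing.isMaximal_of_isPrime _
  haveI h2 : (RingHom.ker ψ).IsMaximal := IsArtinianRing.isMaximal_of_isPrime _
  letI : Field (B ⧸ RingHom.ker φ) := Ideal.Quotient.field _
  letI : Field (B ⧸ RingHom.ker ψ) := Ideal.Quotient.field _
  letI : Algebra (B ⧸ RingHom.ker φ) Ω := (Ideal.kerLiftAlg φ).toRingHom.toAlgebra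
  letI : Algebra (B ⧸ RingHom.ker ψ) Ω := (Ideal.kerLiftAlg ψ).toRingHom.toAlgebra
  haveI : IsScalarTower K (B ⧸ RingHom.ker φ) Ω :=
    IsScalarTower.of_algebraMap_eq (fun x => ((Ideal.kerLiftAlg φ).commutes x).symm)
  haveI : IsScalarTower K (B ⧸ RingHom.ker ψ) Ω :=
    IsScalarTower.of_algebraMap_eq (fun x => ((Ideal.kerLiftAlg ψ).commutes x).symm)
  let χ : (B ⧸ RingHom.ker φ) ≃ₐ[K] (B ⧸ RingHom.ker ψ) := Ideal.quotientEquivAlgOfEq K h
  refine ⟨χ.liftNormal Ω, fun b => ?_⟩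
  exact χ.liftNormal_commutes Ω (Ideal.Quotient.mk _ b)

theorem algEquiv_eq_one_of_forall_separable {K Ω : Type*} [Field K] [Field Ω] [Algebra K Ω]
    [Algebra.IsAlgebraic K Ω] (σ : Ω ≃ₐ[K] Ω) (h : ∀ x : Ω, IsSeparable K x → σ x = x) :
    σ = 1 := by
  have hinj := IsPurelyInseparable.injective_comp_algebraMap (separableClosure K Ω) Ω Ω
  have h1 : (σ : Ω →+* Ω).comp (algebraMap (separableClosure K Ω) Ω) =
      (RingHom.id Ω).comp (algebraMap _ Ω) := by
    ext ⟨x, hx⟩
    exact h x (mem_separableClosure_iff.mp hx)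
  have h2 := hinj h1
  ext x
  exact congrArg (fun f => f x) h2

-- finite étale-ness of simple separable extension
theorem etale_adjoin_simple {K Ω : Type*} [Field K] [Field Ω] [Algebra K Ω] (x : Ω)
    (hx : IsSeparable K x) : Module.Finite K K⟮x⟯ ∧ Algebra.Etale K K⟮x⟯ := by
  have h1 : FiniteDimensional K K⟮x⟯ := IntermediateField.adjoin.finiteDimensional hx.isIntegral
  have h2 : Algebra.IsSeparable K K⟮x⟯ :=
    (IntermediateField.isSeparable_adjoin_simple_iff_isSeparable K Ω).mpr hx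
  have h3 : Algebra.FormallyEtale K K⟮x⟯ := Algebra.FormallyEtale.of_isSeparable K _
  have h4 : Algebra.FinitePresentation K K⟮x⟯ := Algebra.FinitePresentation.of_finiteType.mp inferInstance
  exact ⟨h1, ⟨h3, h4⟩⟩

end Groth.Agent.Lib.Helper69.FieldGal
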