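import Groth.Agent.Lib.Helper69.FEtGalois2
import Groth.Agent.Lib.Helper69.FieldGal

set_option linter.style.haveILetI false
set_option linter.unusedSectionVars false
set_option backward.isDefEq.respectTransparency false
set_option backward.defeqAttrib.useBackward true
open CategoryTheory Limits AlgebraicGeometry MorphismProperty Opposite TopologicalSpace
open Groth.Agent.Lib.Helper58.FEtHens

universe u
namespace Groth.Agent.Lib.Helper69.FieldPi1

section

variable (K : Type u) [Field K]

/-- the absolute Galois group, as a group of algebra automorphisms -/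
abbrev Gal : Type u := AlgebraicClosure K ≃ₐ[K] AlgebraicClosure K

/-- the geometric point `Spec K̄ ⟶ Spec K` -/
noncomputable abbrev geomPt :
    Spec (CommRingCat.of (AlgebraicClosure K)) ⟶ Spec (CommRingCat.of K) :=
  Spec.map (CommRingCat.ofHom (algebraMap K (AlgebraicClosure K)))

/-- the automorphism of `Spec K̄` induced by `σ` -/
noncomputable def specAut (σ : Gal K) :
    Spec (CommRingCat.of (AlgebraicClosure K)) ⟶ Spec (CommRingCat.of (AlgebraicClosure K)) :=
  Spec.map (CommRingCat.ofHom (σ : AlgebraicClosure K →+* AlgebraicClosure K))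

lemma specAut_geomPt (σ : Gal K) : specAut K σ ≫ geomPt K = geomPt K := by
  rw [specAut, geomPt, ← Spec.map_comp]
  congr 1
  ext x
  exact σ.commutes x

lemma specAut_one : specAut K 1 = 𝟙 _ := by
  rw [specAut, ← Spec.map_id]
  rfl

lemma specAut_mul (σ τ : Gal K) : specAut K (σ * τ) = specAut K σ ≫ specAut K τ := by
  rw [specAut, specAut, specAut, ← Spec.map_comp]
  rfl

noncomputable instance fiberMulAction (Y : FEt.Cat (Spec (CommRingCat.of K))) :
    MulAction (Gal K) (FEt.fiberObj (geomPt K) Y) where
  smul σ s := ⟨specAut K σ ≫ s.1, by rw [Category.assoc, s.2, specAut_geomPt]⟩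
  one_smul s := Subtype.ext (by
    show specAut K 1 ≫ s.1 = s.1
    rw [specAut_one, Category.id_comp])
  mul_smul σ τ s := Subtype.ext (by
    show specAut K (σ * τ) ≫ s.1 = specAut K σ ≫ specAut K τ ≫ s.1
    rw [specAut_mul, Category.assoc])

noncomputable instance fiberMulAction' (Y : FEt.Cat (Spec (CommRingCat.of K))) :
    MulAction (Gal K) ((FEt.fiber (geomPt K)).obj Y) := fiberMulAction K Y

lemma smul_val (Y : FEt.Cat (Spec (CommRingCat.of K))) (σ : Gal K)
    (s : FEt.fiberObj (geomPt K) Y) : (σ • s).1 = specAut K σ ≫ s.1 := rfl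

lemma fiber_map_smul {Y Z : FEt.Cat (Spec (CommRingCat.of K))} (f : Y ⟶ Z) (σ : Gal K)
    (s : FEt.fiberObj (geomPt K) Y) :
    (FEt.fiber (geomPt K)).map f (σ • s) = σ • (FEt.fiber (geomPt K)).map f s := by
  apply Subtype.ext
  show (specAut K σ ≫ s.1) ≫ f.left = specAut K σ ≫ s.1 ≫ f.left
  rw [Category.assoc]

noncomputable instance fibFinMulAction (Y : FEt.Cat (Spec (CommRingCat.of K))) :
    MulAction (Gal K) ((fibFin (geomPt K)).obj Y) := fiberMulAction K Y

variable {K}

/-- the point of `Spec B` defined by an algebra map `B → K̄` -/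
noncomputable def ptOfAlgHom {B : Type u} [CommRing B] [Algebra K B] [Module.Finite K B]
    [Algebra.Etale K B] (τ : B →ₐ[K] AlgebraicClosure K) :
    FEt.fiberObj (geomPt K) (mkObj K B) :=
  ⟨(Spec.map (CommRingCat.ofHom τ.toRingHom) :
      Spec (CommRingCat.of (AlgebraicClosure K)) ⟶ Spec (CommRingCat.of B)), by
    show Spec.map (CommRingCat.ofHom τ.toRingHom) ≫
      Spec.map (CommRingCat.ofHom (algebraMap K B)) = _
    rw [← Spec.map_comp]
    congr 1
    ext x
    exact τ.commutes x⟩

variable {B : Type u} [CommRing B] [Algebra K B] [Module.Finite K B] [Algebra.Etale K B]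

lemma ptOfAlgHom_surjective : Function.Surjective (ptOfAlgHom (K := K) (B := B)) := by
  intro s
  obtain ⟨τ, hτ⟩ := exists_algHom_of_over (A := K) (B := AlgebraicClosure K) (C := B)
    (s.1 : Spec (CommRingCat.of (AlgebraicClosure K)) ⟶ Spec (CommRingCat.of B)) s.2
  exact ⟨τ, Subtype.ext hτ.symm⟩

lemma ptOfAlgHom_injective : Function.Injective (ptOfAlgHom (K := K) (B := B)) := by
  intro φ ψ h
  have h1 : Spec.map (CommRingCat.ofHom φ.toRingHom) =
      Spec.map (CommRingCat.ofHom ψ.toRingHom) := congrArg Subtype.val h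
  have h2 := congrArg CommRingCat.Hom.hom (Spec.map_injective h1)
  apply AlgHom.ext
  intro x
  exact congrArg (fun k => k x) h2

lemma smul_ptOfAlgHom (σ : Gal K) (τ : B →ₐ[K] AlgebraicClosure K) :
    σ • ptOfAlgHom τ = ptOfAlgHom ((σ : AlgebraicClosure K →ₐ[K] AlgebraicClosure K).comp τ) := by
  apply Subtype.ext
  show specAut K σ ≫ Spec.map (CommRingCat.ofHom τ.toRingHom) = Spec.map _
  rw [specAut, ← Spec.map_comp]
  rfl

end

section conn

variable {S : Scheme.{u}}

/-- connected objects of `FEt.Cat S` have (pre)connected underlying space -/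
lemma preconnectedSpace_left (Y : FEt.Cat S) [PreGaloisCategory.IsConnected Y] :
    PreconnectedSpace Y.left := by
  rw [preconnectedSpace_iff_clopen]
  intro s hs
  by_cases hne : s.Nonempty
  · right
    let W : Y.left.Opens := ⟨s, hs.isOpen⟩
    have hWfin : IsFinite W.ι :=
      Groth.Agent.Lib.Helper82.Pi0FEt.isFinite_ι_of_isClosed W hs.isClosed
    let W' : FEt.Cat S := MorphismProperty.Over.mk ⊤ (W.ι ≫ Y.hom)
      (FEt.prop.comp_mem _ _ ⟨hWfin, inferInstance⟩ Y.prop)
    let u : W' ⟶ Y := MorphismProperty.Over.homMk W.ι rfl trivial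
    have hmono : Mono u := by
      have : Mono ((fetForget S).map u) := (inferInstance : Mono W.ι)
      exact (fetForget S).mono_of_mono_map this
    have hni : IsInitial W' → False := by
      intro hI
      obtain ⟨w, hw⟩ := hne
      let g : (W : Scheme.{u}) ⟶ (fetInitial S).left := (hI.to (fetInitial S)).left
      exact (inferInstance : IsEmpty (fetInitial S).left).false (g.base ⟨w, hw⟩)
    have hiso : IsIso u := PreGaloisCategory.IsConnected.noTrivialComponent W' u hni
    have hiso' : IsIso W.ι := (inferInstance : IsIso ((fetForget S).map u))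
    have hsurj : Function.Surjective W.ι.base :=
      (ConcreteCategory.bijective_of_isIso W.ι.base).2
    have h1 : (W : Set Y.left) = Set.univ := by
      rw [← Scheme.Opens.range_ι W]
      exact hsurj.range_eq
    exact h1
  · left
    exact Set.not_nonempty_iff_eq_empty.mp hne

end conn

section field

open scoped IntermediateField

variable {K : Type u} [Field K]

lemma fiber_map_injective {Y Z : FEt.Cat (Spec (CommRingCat.of K))} (e : Y ≅ Z) :
    Function.Injective ((FEt.fiber (geomPt K)).map e.hom) :=
  ((isIso_iff_bijective ((FEt.fiber (geomPt K)).map e.hom)).mp inferInstance).1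

lemma subsingleton_primeSpectrum (Y : FEt.Cat (Spec (CommRingCat.of K)))
    [PreGaloisCategory.IsConnected Y] {B : Type u} [CommRing B] [Algebra K B] [Module.Finite K B]
    [Algebra.Etale K B] (e : Y ≅ mkObj K B) : Subsingleton (PrimeSpectrum B) := by
  have := preconnectedSpace_left Y
  haveI : IsArtinianRing B := IsArtinianRing.of_finite K B
  have hiso : IsIso e.hom.left := (inferInstance : IsIso ((fetForget _).map e.hom))
  have hs : Function.Surjective e.hom.left.base :=
    (ConcreteCategory.bijective_of_isIso e.hom.left.base).2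
  have hpre : PreconnectedSpace (PrimeSpectrum B) := by
    refine ⟨?_⟩
    have h1 := isPreconnected_range e.hom.left.continuous
    rw [hs.range_eq] at h1
    exact h1
  exact PreconnectedSpace.trivial_of_discrete

lemma isOpen_stabilizer (Y : FEt.Cat (Spec (CommRingCat.of K)))
    (x : FEt.fiberObj (geomPt K) Y) :
    IsOpen (MulAction.stabilizer (Gal K) x : Set (Gal K)) := by
  obtain ⟨B, _, _, h1, h2, ⟨e⟩⟩ := exists_iso_mkObj Y
  obtain ⟨τ, hτ⟩ := ptOfAlgHom_surjective ((FEt.fiber (geomPt K)).map e.hom x)
  apply Subgroup.isOpen_of_mem_nhds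
  refine Filter.mem_of_superset
    ((FieldGal.isOpen_setOf_comp_eq τ).mem_nhds
      (show (1 : Gal K) ∈ {σ : Gal K | ∀ b, σ (τ b) = τ b} from fun b => rfl)) ?_
  intro σ hσ
  rw [SetLike.mem_coe, MulAction.mem_stabilizer_iff]
  apply fiber_map_injective e
  rw [fiber_map_smul, ← hτ, smul_ptOfAlgHom]
  congr 1
  ext b
  exact hσ b

lemma exists_smul_eq (Y : FEt.Cat (Spec (CommRingCat.of K))) [PreGaloisCategory.IsConnected Y]
    (x x' : FEt.fiberObj (geomPt K) Y) : ∃ σ : Gal K, σ • x = x' := by
  obtain ⟨B, _, _, h1, h2, ⟨e⟩⟩ := exists_iso_mkObj Y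
  obtain ⟨τ, hτ⟩ := ptOfAlgHom_surjective ((FEt.fiber (geomPt K)).map e.hom x)
  obtain ⟨τ', hτ'⟩ := ptOfAlgHom_surjective ((FEt.fiber (geomPt K)).map e.hom x')
  have hss : Subsingleton (PrimeSpectrum B) := subsingleton_primeSpectrum Y e
  have hker : RingHom.ker τ = RingHom.ker τ' := by
    have := Subsingleton.elim (⟨RingHom.ker τ, RingHom.ker_isPrime τ⟩ : PrimeSpectrum B)
      ⟨RingHom.ker τ', RingHom.ker_isPrime τ'⟩
    exact congrArg PrimeSpectrum.asIdeal this
  obtain ⟨σ, hσ⟩ := FieldGal.exists_algEquiv_comp_eq τ τ' hker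
  refine ⟨σ, ?_⟩
  apply fiber_map_injective e
  rw [fiber_map_smul, ← hτ, ← hτ', smul_ptOfAlgHom]
  congr 1
  ext b
  exact hσ b

lemma eq_one_of_forall_smul_eq (σ : Gal K)
    (h : ∀ (Y : FEt.Cat (Spec (CommRingCat.of K))) (x : FEt.fiberObj (geomPt K) Y), σ • x = x) :
    σ = 1 := by
  apply FieldGal.algEquiv_eq_one_of_forall_separable
  intro x hx
  obtain ⟨h1, h2⟩ := FieldGal.etale_adjoin_simple (K := K) x hx
  let τ : K⟮x⟯ →ₐ[K] AlgebraicClosure K := (K⟮x⟯).val
  have h3 := h (mkObj K K⟮x⟯) (ptOfAlgHom τ)
  rw [smul_ptOfAlgHom] at h3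
  have h4 := ptOfAlgHom_injective h3
  exact congrArg (fun f => f ⟨x, IntermediateField.mem_adjoin_simple_self K x⟩) h4

end field

section fund

open PreGaloisCategory
open scoped FintypeCatDiscrete

variable (K : Type u) [Field K]

instance : CompactSpace (Gal K) := FieldGal.compactSpace_algEquiv K (AlgebraicClosure K)

instance fieldGaloisCategory : GaloisCategory (FEt.Cat (Spec (CommRingCat.of K))) :=
  fet_galoisCategory (geomPt K)

instance isFundamentalGroup : IsFundamentalGroup (fibFin (geomPt K)) (Gal K) where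
  naturality g _ _ f x := fiber_map_smul K f g x
  transitive_of_isGalois X _ := ⟨fun x x' => exists_smul_eq X x x'⟩
  continuous_smul X := by
    rw [continuousSMul_iff_stabilizer_isOpen]
    intro x
    exact isOpen_stabilizer X x
  non_trivial' g h := eq_one_of_forall_smul_eq g h

/-- the absolute Galois group is the automorphism group of the fibre functor, topologically -/
noncomputable def galEquivAut : Gal K ≃ₜ* Aut (fibFin (geomPt K)) :=
  { toAutMulEquiv (fibFin (geomPt K)) (Gal K) with
    continuous_toFun := (toAut_isHomeomorph (fibFin (geomPt K)) (Gal K)).continuous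
    continuous_invFun := (toAutHomeo (fibFin (geomPt K)) (Gal K)).symm.continuous }

/-- finite étale covers of `Spec K` are finite continuous Galois sets -/
noncomputable def fetEquivContAction :
    FEt.Cat (Spec (CommRingCat.of K)) ≌ ContAction FintypeCat.{u} (Gal K) :=
  (functorToContAction (fibFin (geomPt K))).asEquivalence.trans
    (ContAction.resEquiv FintypeCat (galEquivAut K))

/-- the abstract group isomorphism with the fundamental group -/
noncomputable def galEquivPiOne : Gal K ≃* FEt.piOne (Spec (CommRingCat.of K)) (geomPt K) :=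
  ((toAutMulEquiv (fibFin (geomPt K)) (Gal K)).trans
    ((Functor.FullyFaithful.whiskeringRight
      (Functor.FullyFaithful.ofFullyFaithful FintypeCat.incl)
      (FEt.Cat (Spec (CommRingCat.of K)))).autMulEquivOfFullyFaithful (fibFin (geomPt K)))).trans
    (Iso.conjAut (fibFinIso (geomPt K)))

end fund

end Groth.Agent.Lib.Helper69.FieldPi1
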