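import Mathlib
import Groth.Agent.Lib.Helper27.DiscLocal
import Groth.Agent.Lib.Helper23.StalkChart
import Groth.Agent.Lib.Helper19.StalkCriteria
import Groth.Agent.Lib.Helper19.UnramifiedFiber

set_option autoImplicit false
set_option linter.style.haveILetI false

namespace Groth.Agent.Lib.Helper69.FinFlatPurity

open Groth.Agent.Lib.Helper27.DiscEtale Groth.Agent.Lib.Helper27.DiscLocal

universe u

theorem isUnramifiedAt_congr {R B : Type*} [CommRing R] [CommRing B] [Algebra R B]
    (q q' : Ideal B) [q.IsPrime] [q'.IsPrime] (h : q = q') (hq : Algebra.IsUnramifiedAt R q) :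
    Algebra.IsUnramifiedAt R q' := by
  subst h; exact hq

section
variable (R B : Type u) [CommRing R] [CommRing B] [Algebra R B] (p : Ideal R) [p.IsPrime]

/-- transfer of unramifiedness between `B` and its localization at `p` -/
theorem formallyUnramified_atPrime_of_comap
    (n' : Ideal (Localization (Algebra.algebraMapSubmonoid B p.primeCompl))) [n'.IsPrime]
    (h : Algebra.IsUnramifiedAt R
      (n'.comap (algebraMap B (Localization (Algebra.algebraMapSubmonoid B p.primeCompl))))) :
    Algebra.FormallyUnramified R (Localization.AtPrime n') := by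
  have h' : Algebra.FormallyUnramified R (Localization.AtPrime
      (n'.comap (algebraMap B (Localization (Algebra.algebraMapSubmonoid B p.primeCompl))))) := h
  exact Algebra.FormallyUnramified.of_equiv
    ((IsLocalization.localizationLocalizationAtPrimeIsoLocalization
      (Algebra.algebraMapSubmonoid B p.primeCompl) n').restrictScalars R)

theorem isUnramifiedAt_comap_of_formallyUnramified
    (n' : Ideal (Localization (Algebra.algebraMapSubmonoid B p.primeCompl))) [n'.IsPrime]
    (h : Algebra.FormallyUnramified R (Localization.AtPrime n')) :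
    Algebra.IsUnramifiedAt R
      (n'.comap (algebraMap B (Localization (Algebra.algebraMapSubmonoid B p.primeCompl)))) := by
  change Algebra.FormallyUnramified R (Localization.AtPrime
      (n'.comap (algebraMap B (Localization (Algebra.algebraMapSubmonoid B p.primeCompl)))))
  exact Algebra.FormallyUnramified.of_equiv
    ((IsLocalization.localizationLocalizationAtPrimeIsoLocalization
      (Algebra.algebraMapSubmonoid B p.primeCompl) n').restrictScalars R).symm

variable [IsNoetherianRing R] [Module.Finite R B] [Module.Flat R B]

/-- Claim A: the localization of `B` at `p` is étale over `R_p`. -/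
theorem etale_localization
    (H : ∀ (n : Ideal B) [n.IsPrime], (n.comap (algebraMap R B)).height ≤ 1 →
      Algebra.IsUnramifiedAt R n) :
    Algebra.Etale (Localization.AtPrime p)
      (Localization (Algebra.algebraMapSubmonoid B p.primeCompl)) := by
  classical
  set R' := Localization.AtPrime p with hR'
  set B' := Localization (Algebra.algebraMapSubmonoid B p.primeCompl) with hB'
  haveI : Module.Finite R' B' := Module.Finite.of_isLocalization R B p.primeCompl
  haveI : Module.Flat R B' := Module.Flat.trans R B B'
  haveI : Module.Flat R' B' := (Module.flat_iff_of_isLocalization R' p.primeCompl B').mpr inferInstance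
  haveI : Module.Free R' B' := Module.free_of_flat_of_isLocalRing
  let b := Module.Free.chooseBasis R' B'
  rw [etale_iff_isUnit_discr b]
  by_contra hd
  have hdm : Algebra.discr R' b ∈ IsLocalRing.maximalIdeal R' := hd
  have hle : Ideal.span {Algebra.discr R' b} ≤ IsLocalRing.maximalIdeal R' :=
    (Ideal.span_singleton_le_iff_mem _).mpr hdm
  obtain ⟨q, hq, -⟩ := Ideal.exists_minimalPrimes_le hle
  haveI hqp : q.IsPrime := hq.1.1
  have hht : q.height ≤ 1 :=
    Ideal.height_le_one_of_isPrincipal_of_mem_minimalPrimes _ q hq
  have hdq : Algebra.discr R' b ∈ q := hq.1.2 (Ideal.subset_span rfl)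
  refine discr_notMem_of_isUnramifiedAt b q ?_ hdq
  intro n' hn' hn'q
  -- the prime of B below n'
  have hcomap : (n'.comap (algebraMap B B')).comap (algebraMap R B) = q.comap (algebraMap R R') := by
    rw [Ideal.comap_comap, ← IsScalarTower.algebraMap_eq, ← hn'q, Ideal.comap_comap,
      ← IsScalarTower.algebraMap_eq]
  have hht' : ((n'.comap (algebraMap B B')).comap (algebraMap R B)).height ≤ 1 := by
    rw [hcomap]
    have := IsLocalization.height_under p.primeCompl q
    rw [Ideal.under_def] at this
    rw [this]; exact hht
  have h1 := H (n'.comap (algebraMap B B')) hht'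
  have h2 : Algebra.FormallyUnramified R (Localization.AtPrime n') :=
    formallyUnramified_atPrime_of_comap R B p n' h1
  exact Algebra.FormallyUnramified.of_restrictScalars R R' (Localization.AtPrime n')

/-- **Purity of the branch locus for finite flat algebras**: a finite flat algebra over a
Noetherian ring which is unramified over all primes of height at most one is unramified. -/
theorem formallyUnramified_of_height_le_one
    (H : ∀ (n : Ideal B) [n.IsPrime], (n.comap (algebraMap R B)).height ≤ 1 →
      Algebra.IsUnramifiedAt R n) :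
    Algebra.FormallyUnramified R B := by
  rw [Algebra.formallyUnramified_iff_forall]
  intro n
  set p := n.asIdeal.comap (algebraMap R B) with hp
  haveI : p.IsPrime := Ideal.comap_isPrime _ _
  set B' := Localization (Algebra.algebraMapSubmonoid B p.primeCompl) with hB'
  have het := etale_localization R B p H
  have hdisj : Disjoint (Algebra.algebraMapSubmonoid B p.primeCompl : Set B) (n.asIdeal : Set B) := by
    rw [Set.disjoint_left]
    rintro _ ⟨r, hr, rfl⟩ hrn
    exact hr hrn
  have hn' : (n.asIdeal.map (algebraMap B B')).IsPrime :=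
    IsLocalization.isPrime_of_isPrime_disjoint _ B' n.asIdeal n.2 hdisj
  have hcomap : (n.asIdeal.map (algebraMap B B')).comap (algebraMap B B') = n.asIdeal :=
    IsLocalization.under_map_of_isPrime_disjoint _ B' n.2 hdisj
  haveI : Algebra.FormallyUnramified R (Localization.AtPrime p) :=
    Algebra.FormallyUnramified.of_isLocalization p.primeCompl
  haveI : Algebra.FormallyUnramified R B' :=
    Algebra.FormallyUnramified.comp R (Localization.AtPrime p) B'
  haveI : Algebra.FormallyUnramified B' (Localization.AtPrime (n.asIdeal.map (algebraMap B B'))) :=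
    Algebra.FormallyUnramified.of_isLocalization (n.asIdeal.map (algebraMap B B')).primeCompl
  have h1 : Algebra.FormallyUnramified R (Localization.AtPrime (n.asIdeal.map (algebraMap B B'))) :=
    Algebra.FormallyUnramified.comp R B' _
  have h2 := isUnramifiedAt_comap_of_formallyUnramified R B p (n.asIdeal.map (algebraMap B B')) h1
  exact isUnramifiedAt_congr _ _ hcomap h2

end

section Scheme

open AlgebraicGeometry CategoryTheory CategoryTheory.Limits

/-- **Purity of the branch locus for finite flat morphisms**: a finite flat morphism to a locally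
Noetherian scheme which is unramified over all points of codimension at most one is étale. -/
theorem etale_of_finite_flat {X Y : Scheme.{u}} [IsLocallyNoetherian Y] (f : X ⟶ Y) [IsFinite f]
    [Flat f] (U : Y.Opens)
    (hU : ∀ y : Y, y ∉ U → (2 : WithBot ℕ∞) ≤ ringKrullDim (Y.presheaf.stalk y))
    (hunr : ∀ x : X, f.base x ∈ U → (f.stalkMap x).hom.FormallyUnramified) : Etale f := by
  have hlfp : LocallyOfFinitePresentation f :=
    LocallyOfFinitePresentation.iff_locallyOfFiniteType.mpr inferInstance
  have hfu : FormallyUnramified f := by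
    refine Groth.Agent.Lib.Helper19.formallyUnramified_of_forall_exists_nhd f fun x => ?_
    obtain ⟨_, ⟨V : Y.Opens, hV : IsAffineOpen V, rfl⟩, hxV, -⟩ :=
      Y.isBasis_affineOpens.exists_subset_of_mem_open (Set.mem_univ (f x)) isOpen_univ
    have hW : IsAffineOpen (f ⁻¹ᵁ V) := hV.preimage f
    refine ⟨f ⁻¹ᵁ V, hxV, ?_⟩
    have hresp := Groth.Agent.Lib.Helper19.formallyUnramified_respectsRight_isOpenImmersion.{u}
    rw [Groth.Agent.Lib.Helper19.ι_comp_iff_appLE @FormallyUnramified f hV hW le_rfl]
    have hfin : (f.appLE V (f ⁻¹ᵁ V) le_rfl).hom.Finite := by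
      rw [Scheme.Hom.appLE_eq_app]; exact IsFinite.finite_app f V hV
    have hflat : (f.appLE V (f ⁻¹ᵁ V) le_rfl).hom.Flat :=
      HasRingHomProperty.appLE (P := @Flat) f inferInstance ⟨V, hV⟩ ⟨f ⁻¹ᵁ V, hW⟩ le_rfl
    haveI : IsNoetherianRing Γ(Y, V) := IsLocallyNoetherian.component_noetherian ⟨V, hV⟩
    algebraize [(f.appLE V (f ⁻¹ᵁ V) le_rfl).hom]
    change Algebra.FormallyUnramified Γ(Y, V) Γ(X, f ⁻¹ᵁ V)
    apply formallyUnramified_of_height_le_one
    intro n hn hht
    -- the point of X corresponding to n
    let y : X := hW.fromSpec ⟨n, hn⟩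
    have hyW : y ∈ f ⁻¹ᵁ V := by
      have : y ∈ Set.range hW.fromSpec := ⟨_, rfl⟩
      rw [hW.range_fromSpec] at this
      exact this
    have hprime : hW.primeIdealOf ⟨y, hyW⟩ = ⟨n, hn⟩ := by
      apply hW.fromSpec.isEmbedding.injective  
      rw [hW.fromSpec_primeIdealOf]
    have hcomap := IsAffineOpen.comap_primeIdealOf_appLE V hV (f ⁻¹ᵁ V) hW le_rfl hyW
    -- the dimension at f y
    have hfyU : f.base y ∈ U := by
      by_contra hnot
      have h2 := hU _ hnot
      have hloc := hV.isLocalization_stalk ⟨f.base y, hyW⟩
      letI := Y.presheaf.algebra_section_stalk ⟨f.base y, hyW⟩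
      rw [IsLocalization.AtPrime.ringKrullDim_eq_height
        (hV.primeIdealOf ⟨f.base y, hyW⟩).asIdeal (Y.presheaf.stalk (f.base y))] at h2
      have h3 : (hV.primeIdealOf ⟨f.base y, hyW⟩).asIdeal =
          n.comap (algebraMap Γ(Y, V) Γ(X, f ⁻¹ᵁ V)) := by
        rw [← hcomap, hprime]; rfl
      rw [h3] at h2
      have h4 : ((2 : ℕ∞) : WithBot ℕ∞) ≤ ((1 : ℕ∞) : WithBot ℕ∞) :=
        h2.trans (WithBot.coe_le_coe.mpr hht)
      have h5 : (2 : ℕ∞) ≤ 1 := WithBot.coe_le_coe.mp h4
      exact absurd h5 (by decide)
    have h6 := Groth.Agent.Lib.Helper23.isUnramifiedAt_of_stalkMap f hV hW le_rfl y hyW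
      (hunr y hfyU)
    exact isUnramifiedAt_congr _ _ (congrArg PrimeSpectrum.asIdeal hprime) h6
  exact Etale.of_formallyUnramified_of_flat f

end Scheme

end Groth.Agent.Lib.Helper69.FinFlatPurity
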