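import Mathlib
import Groth.Prelude.Def_EssEt
import Groth.Agent.Lib.Helper87.HensMain
import Groth.Agent.Lib.Helper87.FlatEtale

/-!
# Stages of the ind-étale construction as subalgebras (helper69)

For `H = H R Ω` (helper87) the stage maps `H.of i : i.L → H` are injective local homomorphisms
(faithfully flat), each `i.L` is an essentially étale local `R`-algebra, and every finite subset of
`H` lies in the image of one stage.
-/

set_option autoImplicit false
universe u

namespace Groth.Agent.Lib.Helper69.HensStage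

open Groth.Agent.Lib.Helper87.Hens IsLocalRing

variable {R : Type u} [CommRing R] {Ω : Type u} [Field Ω] [Algebra R Ω]

theorem isUnit_of_iff (i : Idx R Ω) (x : i.L) : IsUnit (H.of i x) ↔ IsUnit x := by
  rw [H.isUnit_iff, H.ε_of, Loc.isUnit_iff]

theorem of_injective (i : Idx R Ω) : Function.Injective (H.of i) := by
  letI : Algebra i.L (H R Ω) := (H.of i).toRingHom.toAlgebra
  have halg : ∀ z : i.L, algebraMap i.L (H R Ω) z = H.of i z := fun z => rfl
  haveI : IsScalarTower R i.L (H R Ω) :=
    IsScalarTower.of_algebraMap_eq (fun r => by rw [halg, AlgHom.commutes])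
  haveI : Module.Flat i.L (H R Ω) :=
    Groth.Agent.Lib.Helper87.flat_of_unramified_of_flat (R := R)
  haveI : IsLocalHom (algebraMap i.L (H R Ω)) := ⟨fun x hx => by
    rw [halg] at hx
    exact (isUnit_of_iff i x).mp hx⟩
  haveI : Module.FaithfullyFlat i.L (H R Ω) := Module.FaithfullyFlat.of_flat_of_isLocalHom
  exact FaithfulSMul.algebraMap_injective i.L (H R Ω)

variable [IsLocalRing R] [IsLocalHom (algebraMap R Ω)]

theorem comap_ker_pt (i : Idx R Ω) :
    (RingHom.ker i.pt).comap (algebraMap R i.A) = maximalIdeal R := by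
  ext r
  rw [Ideal.mem_comap, RingHom.mem_ker, AlgHom.commutes, mem_maximalIdeal, mem_nonunits_iff]
  constructor
  · intro h hu
    have := hu.map (algebraMap R Ω)
    rw [h] at this
    exact not_isUnit_zero this
  · intro h
    by_contra h0
    exact h (isUnit_of_map_unit (algebraMap R Ω) r (isUnit_iff_ne_zero.mpr h0))

theorem isEssentiallyEtale_stage (i : Idx R Ω) : EGA4loc.IsEssentiallyEtale R i.L :=
  ⟨i.A, inferInstance, inferInstance, RingHom.ker i.pt, inferInstance, inferInstance,
    comap_ker_pt i, ⟨AlgEquiv.refl⟩⟩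

theorem isEssentiallyEtale_of_algEquiv {B B' : Type u} [CommRing B] [CommRing B'] [Algebra R B]
    [Algebra R B'] (e : B ≃ₐ[R] B') (h : EGA4loc.IsEssentiallyEtale R B') :
    EGA4loc.IsEssentiallyEtale R B := by
  obtain ⟨C, i1, i2, q, i3, h1, h2, ⟨e'⟩⟩ := h
  exact ⟨C, i1, i2, q, i3, h1, h2, ⟨e.trans e'⟩⟩

end Groth.Agent.Lib.Helper69.HensStage
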