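import Mathlib
import Groth.Prelude.Def_EssEt
import Groth.Prelude.Def_Hensel
import Groth.Agent.Lib.Helper69.HensStage
import Groth.Agent.Lib.Helper87.HensStrictProps

/-!
# Essentially étale local subalgebras of a strict henselization (helper69)

* `props_of_isEssentiallyEtale` : an essentially étale local algebra is quasi-finite, flat,
  essentially of finite type and formally unramified.
* `exists_stage` : every finite subset of a strict henselization `S` of `A` lies in an essentially
  étale local `A`-subalgebra `E ⊆ S` with local inclusion.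
* `mem_of_mul_mem` : for such `E`, `b ∈ E` a non-zero-divisor of `S` and `b * x ∈ E` imply `x ∈ E`.
-/

set_option autoImplicit false
set_option linter.style.haveILetI false
set_option linter.unusedSectionVars false
universe u

namespace Groth.Agent.Lib.Helper69.HensStage2

open IsLocalRing

theorem props_of_isEssentiallyEtale (A E : Type u) [CommRing A] [IsLocalRing A] [CommRing E]
    [Algebra A E] (hE : EGA4loc.IsEssentiallyEtale A E) :
    Algebra.QuasiFinite A E ∧ Module.Flat A E ∧ Algebra.EssFiniteType A E ∧
      Algebra.FormallyUnramified A E := by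
  obtain ⟨C, _, _, q, _, hEt, hq, ⟨e⟩⟩ := hE
  have : Algebra.QuasiFinite A C := inferInstance
  have : Algebra.QuasiFinite A (Localization.AtPrime q) := inferInstance
  have hQF : Algebra.QuasiFinite A E := (Algebra.QuasiFinite.iff_of_algEquiv e).mpr inferInstance
  have : Module.Flat A C := inferInstance
  have : Module.Flat A (Localization.AtPrime q) := Module.Flat.trans A C _
  have hFl : Module.Flat A E := Module.Flat.of_linearEquiv e.toLinearEquiv
  have : Algebra.EssFiniteType C (Localization.AtPrime q) :=
    Algebra.EssFiniteType.of_isLocalization _ q.primeCompl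
  have : Algebra.EssFiniteType A (Localization.AtPrime q) := Algebra.EssFiniteType.comp A C _
  have hEF : Algebra.EssFiniteType A E :=
    Algebra.EssFiniteType.of_surjective e.symm.toAlgHom e.symm.surjective
  have : Algebra.FormallyUnramified C (Localization.AtPrime q) :=
    Algebra.FormallyUnramified.of_isLocalization q.primeCompl
  have : Algebra.FormallyUnramified A (Localization.AtPrime q) :=
    Algebra.FormallyUnramified.comp A C _
  have hFU : Algebra.FormallyUnramified A E := Algebra.FormallyUnramified.of_equiv e.symm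
  exact ⟨hQF, hFl, hEF, hFU⟩

variable (A S : Type u) [CommRing A] [IsLocalRing A]
  [CommRing S] [IsLocalRing S] [Algebra A S] [IsLocalHom (algebraMap A S)]
  [Hensel.IsStrictHenselization A S]

theorem exists_stage (σ : Finset S) :
    ∃ E : Subalgebra A S, (∀ x ∈ σ, x ∈ E) ∧ (∀ x : E, IsUnit (x : S) → IsUnit x) ∧
      ∃ _ : IsLocalRing E, EGA4loc.IsEssentiallyEtale A E := by
  classical
  obtain ⟨e⟩ := Groth.Agent.Lib.Helper87.Hens.nonempty_algEquiv_Hsh A S
  let σ' : Finset (Groth.Agent.Lib.Helper87.Hens.Hsh A) := σ.image (fun d : S => e d)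
  obtain ⟨i, hi⟩ := Groth.Agent.Lib.Helper87.Hens.H.exists_of_finset σ'
  let g : i.L →ₐ[A] S := (e.symm : Groth.Agent.Lib.Helper87.Hens.Hsh A →ₐ[A] S).comp
    (Groth.Agent.Lib.Helper87.Hens.H.of i)
  have hg : ∀ y, g y = e.symm (Groth.Agent.Lib.Helper87.Hens.H.of i y) := fun y => rfl
  have hg_inj : Function.Injective g := by
    intro x y hxy
    rw [hg, hg] at hxy
    exact Groth.Agent.Lib.Helper69.HensStage.of_injective i (e.symm.injective hxy)
  have hunit : ∀ y : i.L, IsUnit (g y) → IsUnit y := by
    intro y hy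
    have h1 : IsUnit (e (g y)) := hy.map e
    rw [hg, AlgEquiv.apply_symm_apply] at h1
    exact (Groth.Agent.Lib.Helper69.HensStage.isUnit_of_iff i y).mp h1
  let E : Subalgebra A S := g.range
  let eE : i.L ≃ₐ[A] E := AlgEquiv.ofInjective g hg_inj
  refine ⟨E, ?_, ?_, ?_, ?_⟩
  · intro x hx
    have hx' : e x ∈ σ' := Finset.mem_image.mpr ⟨x, hx, rfl⟩
    obtain ⟨y, hy⟩ := hi _ hx'
    refine ⟨y, ?_⟩
    change g y = _
    rw [hg, hy, AlgEquiv.symm_apply_apply]
  · rintro ⟨x, y, rfl⟩ hx
    have hy : IsUnit y := hunit y hx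
    exact hy.map eE
  · exact eE.toRingEquiv.isLocalRing
  · exact Groth.Agent.Lib.Helper69.HensStage.isEssentiallyEtale_of_algEquiv eE.symm
      (Groth.Agent.Lib.Helper69.HensStage.isEssentiallyEtale_stage i)

/-- `S` is faithfully flat over an essentially étale local subalgebra with local inclusion, hence
`E` is "saturated" in `S` with respect to non-zero-divisors. -/
theorem mem_of_mul_mem (E : Subalgebra A S) (hE : EGA4loc.IsEssentiallyEtale A E)
    [IsLocalRing E] (hloc : ∀ x : E, IsUnit (x : S) → IsUnit x) (b x : S) (hb : b ∈ E)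
    (hbS : b ∈ nonZeroDivisors S) (hbx : b * x ∈ E) : x ∈ E := by
  obtain ⟨-, -, hEF, hFU⟩ := props_of_isEssentiallyEtale A E hE
  haveI : Module.Flat A S := Groth.Agent.Lib.Helper87.Hens.flat_of_isStrictHenselization A S
  haveI : Module.Flat E S := Groth.Agent.Lib.Helper87.flat_of_unramified_of_flat (R := A)
  haveI : IsLocalHom (algebraMap E S) := ⟨fun a ha => hloc a ha⟩
  haveI : Module.FaithfullyFlat E S := Module.FaithfullyFlat.of_flat_of_isLocalHom
  have h1 : (⟨b * x, hbx⟩ : E) ∈ (Ideal.span {(⟨b, hb⟩ : E)}) := by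
    rw [← Ideal.comap_map_eq_self_of_faithfullyFlat (B := S) (Ideal.span {(⟨b, hb⟩ : E)}),
      Ideal.mem_comap, Ideal.map_span, Set.image_singleton]
    exact Ideal.mem_span_singleton.mpr ⟨x, rfl⟩
  obtain ⟨y, hy⟩ := Ideal.mem_span_singleton.mp h1
  have h2 : b * x = b * (y : S) := congrArg Subtype.val hy
  have h3 : x = (y : S) := by
    have : (x - (y : S)) * b = 0 := by rw [sub_mul, mul_comm x b, mul_comm (y : S) b, h2, sub_self]
    exact sub_eq_zero.mp ((mem_nonZeroDivisors_iff_right.mp hbS) _ this)
  rw [h3]
  exact y.2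

end Groth.Agent.Lib.Helper69.HensStage2
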