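import Mathlib
import Groth.Agent.Lib.Helper69.HensFinite

/-!
# Splitting of separable polynomials over strictly henselian rings, monogenic finite unramified
extensions of henselian rings (helper69)

* `exists_multiset_roots` : over a henselian local ring with separably closed residue field, a monic
  polynomial with separable reduction is a product of linear factors.
* `exists_monogenic` : a finite local unramified algebra `E` over a henselian local ring `A` is
  `A[θ]` with `θ` a root of a monic polynomial with separable reduction.
* `exists_multiset_of_dvd` : a monic divisor (over a field) of the image of a split polynomial is the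
  image of a split polynomial.
-/

set_option autoImplicit false
universe u

namespace Groth.Agent.Lib.Helper69.HensSplitRoots

open Polynomial IsLocalRing

theorem exists_multiset_roots (S : Type u) [CommRing S] [HenselianLocalRing S]
    [IsSepClosed (ResidueField S)] :
    ∀ (n : ℕ) (p : S[X]), p.Monic → p.natDegree = n → (p.map (residue S)).Separable →
      ∃ m : Multiset S, p = (m.map (fun r => X - C r)).prod := by
  intro n
  induction n with
  | zero =>
    intro p hp hdeg _
    refine ⟨0, ?_⟩
    rw [Multiset.map_zero, Multiset.prod_zero]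
    exact hp.natDegree_eq_zero.mp hdeg
  | succ n ih =>
    intro p hp hdeg hsep
    have hpb : (p.map (residue S)).Monic := hp.map _
    have hdegb : (p.map (residue S)).degree ≠ 0 := by
      rw [degree_eq_natDegree hpb.ne_zero, hp.natDegree_map, hdeg]
      exact_mod_cast Nat.succ_ne_zero n
    obtain ⟨xb, hxb⟩ := IsSepClosed.exists_root (p.map (residue S)) hdegb hsep
    obtain ⟨a₀, rfl⟩ := residue_surjective xb
    have h1 : p.eval a₀ ∈ maximalIdeal S := by
      rw [← residue_eq_zero_iff, ← eval_map_apply]; exact hxb
    have h2 : IsUnit (p.derivative.eval a₀) := by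
      rw [← residue_ne_zero_iff_isUnit, ← eval_map_apply, ← derivative_map]
      have := hsep.eval₂_derivative_ne_zero (RingHom.id _) (x := residue S a₀)
        (by rw [eval₂_id]; exact hxb)
      rwa [eval₂_id] at this
    obtain ⟨a, ha, -⟩ := HenselianLocalRing.is_henselian p hp a₀ h1 h2
    obtain ⟨q, hq⟩ := dvd_iff_isRoot.mpr ha
    have hqm : q.Monic := (monic_X_sub_C a).of_mul_monic_left (hq ▸ hp)
    have hqdeg : q.natDegree = n := by
      have := congrArg natDegree hq
      rw [(monic_X_sub_C a).natDegree_mul hqm, natDegree_X_sub_C, hdeg] at this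
      omega
    have hqsep : (q.map (residue S)).Separable := by
      have : p.map (residue S) = (X - C a).map (residue S) * q.map (residue S) := by
        rw [← Polynomial.map_mul, ← hq]
      rw [this] at hsep
      exact hsep.of_mul_right
    obtain ⟨m, hm⟩ := ih q hqm hqdeg hqsep
    exact ⟨a ::ₘ m, by rw [Multiset.map_cons, Multiset.prod_cons, ← hm, hq]⟩

theorem exists_multiset_of_dvd {S K : Type u} [CommRing S] [Field K] (ι : S →+* K) :
    ∀ (m : Multiset S) (g : K[X]), g.Monic → g ∣ (m.map (fun ρ => X - C (ι ρ))).prod →
      ∃ m' : Multiset S, g = (m'.map (fun ρ => X - C (ι ρ))).prod := by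
  intro m
  induction m using Multiset.induction_on with
  | empty =>
    intro g hg hdvd
    rw [Multiset.map_zero, Multiset.prod_zero] at hdvd
    refine ⟨0, ?_⟩
    rw [Multiset.map_zero, Multiset.prod_zero]
    exact hg.eq_one_of_isUnit (isUnit_of_dvd_one hdvd)
  | cons ρ m ih =>
    intro g hg hdvd
    rw [Multiset.map_cons, Multiset.prod_cons] at hdvd
    by_cases h : (X - C (ι ρ)) ∣ g
    · obtain ⟨g', hg'⟩ := h
      have hg'm : g'.Monic := (monic_X_sub_C (ι ρ)).of_mul_monic_left (hg' ▸ hg)
      have hdvd' : g' ∣ (m.map (fun ρ => X - C (ι ρ))).prod := by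
        rw [hg'] at hdvd
        exact (mul_dvd_mul_iff_left (X_sub_C_ne_zero (ι ρ))).mp hdvd
      obtain ⟨m', hm'⟩ := ih g' hg'm hdvd'
      exact ⟨ρ ::ₘ m', by rw [Multiset.map_cons, Multiset.prod_cons, ← hm', hg']⟩
    · have hcop : IsCoprime (X - C (ι ρ)) g :=
        (irreducible_X_sub_C (ι ρ)).coprime_iff_not_dvd.mpr h
      exact ih g hg (hcop.symm.dvd_of_dvd_mul_left hdvd)

theorem exists_monogenic (A E : Type u) [CommRing A] [HenselianLocalRing A] [CommRing E]
    [IsLocalRing E] [Algebra A E] [Module.Finite A E] [IsLocalHom (algebraMap A E)]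
    [Algebra.FormallyUnramified A E] :
    ∃ (θ : E) (f : A[X]), f.Monic ∧ aeval θ f = 0 ∧ (f.map (residue A)).Separable ∧
      Algebra.adjoin A {θ} = ⊤ := by
  haveI : Algebra.EssFiniteType A E := inferInstance
  haveI : Module.Finite (ResidueField A) (ResidueField E) := inferInstance
  haveI : Algebra.IsSeparable (ResidueField A) (ResidueField E) := inferInstance
  obtain ⟨α, hα⟩ := Field.exists_primitive_element (ResidueField A) (ResidueField E)
  have hαint : IsIntegral (ResidueField A) α := Algebra.IsIntegral.isIntegral α
  have hfb_monic : (minpoly (ResidueField A) α).Monic := minpoly.monic hαint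
  have hfb_sep : (minpoly (ResidueField A) α).Separable :=
    Algebra.IsSeparable.isSeparable (ResidueField A) α
  obtain ⟨f, hf_map, hf_deg, hf_monic⟩ := lifts_and_natDegree_eq_and_monic (f := residue A)
    (p := minpoly (ResidueField A) α)
    (by rw [lifts_iff_coeff_lifts]; intro n; exact residue_surjective _) hfb_monic
  haveI : HenselianLocalRing E :=
    Groth.Agent.Lib.Helper69.HensFinite.henselianLocalRing_of_isIntegral A E
  obtain ⟨a₀, ha₀⟩ := residue_surjective α
  have hcompat : ∀ p : A[X], (p.map (algebraMap A E)).map (residue E) =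
      (p.map (residue A)).map (algebraMap (ResidueField A) (ResidueField E)) := by
    intro p
    rw [Polynomial.map_map, Polynomial.map_map]
    rfl
  have hfE_monic : (f.map (algebraMap A E)).Monic := hf_monic.map _
  have h1 : (f.map (algebraMap A E)).eval a₀ ∈ maximalIdeal E := by
    rw [← residue_eq_zero_iff, ← eval_map_apply, hcompat, hf_map, ha₀, eval_map_algebraMap,
      minpoly.aeval]
  have h2 : IsUnit ((f.map (algebraMap A E)).derivative.eval a₀) := by
    rw [← residue_ne_zero_iff_isUnit, ← eval_map_apply, ← derivative_map, hcompat, hf_map, ha₀,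
      derivative_map, eval_map_algebraMap]
    exact hfb_sep.aeval_derivative_ne_zero (minpoly.aeval _ α)
  obtain ⟨θ, hθ, hθa⟩ := HenselianLocalRing.is_henselian _ hfE_monic a₀ h1 h2
  have hθα : residue E θ = α := by
    rw [← ha₀, ← sub_eq_zero, ← map_sub, residue_eq_zero_iff]; exact hθa
  refine ⟨θ, f, hf_monic, ?_, ?_, ?_⟩
  · rw [aeval_def, eval₂_eq_eval_map]; exact hθ
  · rw [hf_map]; exact hfb_sep
  · -- Nakayama
    rw [eq_top_iff]
    have hfg : (⊤ : Submodule A E).FG := Module.Finite.fg_top
    have hNak := Submodule.le_of_le_smul_of_le_jacobson_bot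
      (N := Subalgebra.toSubmodule (Algebra.adjoin A {θ})) hfg
      (IsLocalRing.maximalIdeal_le_jacobson (⊥ : Ideal A)) ?_
    · intro e _
      exact hNak (Submodule.mem_top : e ∈ (⊤ : Submodule A E))
    · intro e _
      -- residue e is a polynomial in α
      have htop : Algebra.adjoin (ResidueField A) {α} = ⊤ := by
        rw [← IntermediateField.adjoin_simple_toSubalgebra_of_isAlgebraic hαint.isAlgebraic, hα,
          IntermediateField.top_toSubalgebra]
      have hmem : residue E e ∈ Algebra.adjoin (ResidueField A) {α} := by rw [htop]; trivial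
      rw [Algebra.adjoin_singleton_eq_range_aeval] at hmem
      obtain ⟨pb, hpb⟩ := hmem
      obtain ⟨p, rfl⟩ := Polynomial.map_surjective (residue A) residue_surjective pb
      have h3 : residue E (aeval θ p) = residue E e := by
        have h4 : (aeval α) (p.map (residue A)) = residue E e := hpb
        rw [← h4, aeval_def θ, eval₂_eq_eval_map, ← eval_map_apply, hcompat, hθα,
          eval_map_algebraMap]
      have h5 : e - aeval θ p ∈ maximalIdeal E := by
        rw [← residue_eq_zero_iff, map_sub, h3, sub_self]
      rw [← Algebra.FormallyUnramified.map_maximalIdeal (R := A) (S := E)] at h5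
      have h6 : e - aeval θ p ∈ (maximalIdeal A • ⊤ : Submodule A E) := by
        rw [Ideal.smul_top_eq_map]; exact h5
      have h7 : aeval θ p ∈ Subalgebra.toSubmodule (Algebra.adjoin A {θ}) := by
        rw [Subalgebra.mem_toSubmodule, Algebra.adjoin_singleton_eq_range_aeval]
        exact ⟨p, rfl⟩
      have : e = aeval θ p + (e - aeval θ p) := by ring
      rw [this]
      exact Submodule.add_mem_sup h7 h6

end Groth.Agent.Lib.Helper69.HensSplitRoots
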