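import Mathlib
import Groth.Agent.Lib.Helper69.HensSplitRoots

/-!
# Intersection of a subfield of `Frac S` with `S`, over a monogenic finite subalgebra (helper69)

`S` a domain, `A → S`, `L` a subfield of `Frac S` containing the image of `A`, `D = S ∩ L`.
If `θ ∈ S` is a root of a monic `f ∈ A[X]` which splits over `S`, then
* `exists_minimal_monic` : there is a monic `g ∈ D[X]` with `g(θ) = 0` and no non-zero polynomial of
  smaller degree over `D` kills `θ` (`g` is the minimal polynomial of `θ` over `L`);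
* `mem_map_of_mem_map` : if `D ⊆ E = A[θ]` then `m_A E ∩ D = m_A D`.
-/

set_option autoImplicit false
universe u

namespace Groth.Agent.Lib.Helper69.HensSubfield

open Polynomial IsLocalRing Groth.Agent.Lib.Helper69.HensSplitRoots

variable {A S : Type u} [CommRing A] [CommRing S] [IsDomain S] [Algebra A S]

theorem exists_minimal_monic (L : Subfield (FractionRing S))
    (hAL : ∀ a : A, algebraMap A (FractionRing S) a ∈ L)
    (D : Subalgebra A S) (hD : ∀ x : S, x ∈ D ↔ algebraMap S (FractionRing S) x ∈ L)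
    (θ : S) (f : A[X]) (hf : f.Monic) (hfθ : aeval θ f = 0)
    (m : Multiset S) (hm : f.map (algebraMap A S) = (m.map (fun r => X - C r)).prod) :
    ∃ g : D[X], g.Monic ∧ 0 < g.natDegree ∧ eval₂ (algebraMap D S) θ g = 0 ∧
      ∀ Q : D[X], Q.degree < g.degree → eval₂ (algebraMap D S) θ Q = 0 → Q = 0 := by
  classical
  set K := FractionRing S with hK
  set ι : S →+* K := algebraMap S K with hιdef
  have hι : Function.Injective ι := IsFractionRing.injective S K
  let φL : A →+* L := (algebraMap A K).codRestrict L hAL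
  let ψ : D →+* L := (ι.comp (algebraMap D S)).codRestrict L (fun d => (hD d).mp d.2)
  have hψ : Function.Injective ψ := by
    intro x y hxy
    have : ι (x : S) = ι (y : S) := congrArg Subtype.val hxy
    exact Subtype.ext (hι this)
  have hφL : (algebraMap L K).comp φL = algebraMap A K := by ext a; rfl
  have hψ' : (algebraMap L K).comp ψ = ι.comp (algebraMap D S) := by ext d; rfl
  have hAK : algebraMap A K = ι.comp (algebraMap A S) := IsScalarTower.algebraMap_eq A S K
  set x₀ : K := ι θ with hx₀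
  have hroot : eval₂ (algebraMap L K) x₀ (f.map φL) = 0 := by
    rw [eval₂_map, hφL, hAK, ← hom_eval₂, ← aeval_def, hfθ, map_zero]
  have hint : IsIntegral L x₀ := ⟨f.map φL, hf.map _, hroot⟩
  set g := minpoly L x₀ with hgdef
  have hg_monic : g.Monic := minpoly.monic hint
  have hg_dvd : g ∣ f.map φL := minpoly.dvd L x₀ (by rw [aeval_def]; exact hroot)
  have hfun : ((fun p : S[X] => p.map ι) ∘ fun r : S => X - C r) = fun ρ : S => X - C (ι ρ) := by
    funext ρ
    simp
  have hgK_dvd : g.map (algebraMap L K) ∣ (m.map (fun ρ => X - C (ι ρ))).prod := by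
    have h1 := Polynomial.map_dvd (algebraMap L K) hg_dvd
    rw [Polynomial.map_map, hφL, hAK, ← Polynomial.map_map, hm, Polynomial.map_multiset_prod,
      Multiset.map_map, hfun] at h1
    exact h1
  obtain ⟨m', hm'⟩ := exists_multiset_of_dvd ι m _ (hg_monic.map _) hgK_dvd
  set gS : S[X] := (m'.map (fun ρ => X - C ρ)).prod with hgS
  have hgS_monic : gS.Monic := monic_multiset_prod_of_monic _ _ (fun ρ _ => monic_X_sub_C ρ)
  have hgS_map : gS.map ι = g.map (algebraMap L K) := by
    rw [hm', hgS, Polynomial.map_multiset_prod, Multiset.map_map, hfun]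
  have hlifts : gS ∈ lifts (algebraMap D S) := by
    rw [lifts_iff_coeff_lifts]
    intro n
    have hmem : gS.coeff n ∈ D := by
      rw [hD]
      have h1 : ι (gS.coeff n) = ((g.coeff n : L) : K) := by
        rw [← coeff_map, hgS_map, coeff_map]; rfl
      rw [h1]; exact (g.coeff n).2
    exact ⟨⟨_, hmem⟩, rfl⟩
  obtain ⟨gD, hgD_map, hgD_deg, hgD_monic⟩ := lifts_and_natDegree_eq_and_monic hlifts hgS_monic
  have hdeg : gD.natDegree = g.natDegree := by
    rw [hgD_deg, ← hgS_monic.natDegree_map ι, hgS_map, hg_monic.natDegree_map]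
  refine ⟨gD, hgD_monic, ?_, ?_, ?_⟩
  · rw [hdeg]; exact minpoly.natDegree_pos hint
  · apply hι
    rw [map_zero, eval₂_eq_eval_map, hgD_map, ← eval_map_apply, hgS_map, eval_map, ← aeval_def,
      minpoly.aeval]
  · intro Q hQdeg hQ
    by_contra hQ0
    have hQL0 : Q.map ψ ≠ 0 := fun h =>
      hQ0 (Polynomial.map_injective ψ hψ (by rw [h, Polynomial.map_zero]))
    have haeval : aeval x₀ (Q.map ψ) = 0 := by
      rw [aeval_def, eval₂_map, hψ', ← hom_eval₂, hQ, map_zero]
    have h1 := minpoly.degree_le_of_ne_zero L x₀ hQL0 haeval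
    have h2 : (Q.map ψ).degree ≤ Q.degree := degree_map_le
    have h3 : gD.degree = g.degree := by
      rw [degree_eq_natDegree hgD_monic.ne_zero, degree_eq_natDegree hg_monic.ne_zero, hdeg]
    rw [h3] at hQdeg
    exact absurd (lt_of_le_of_lt (h1.trans h2) hQdeg) (lt_irrefl _)

theorem mem_map_of_mem_map [IsLocalRing A] (D E : Subalgebra A S) (hDE : D ≤ E) (θ : S)
    (hgen : ∀ e : S, e ∈ E → ∃ p : A[X], aeval θ p = e)
    (g : D[X]) (hg : g.Monic) (hgpos : 0 < g.natDegree) (hgθ : eval₂ (algebraMap D S) θ g = 0)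
    (hmin : ∀ Q : D[X], Q.degree < g.degree → eval₂ (algebraMap D S) θ Q = 0 → Q = 0)
    (x : D) (hx : (⟨(x : S), hDE x.2⟩ : E) ∈ Ideal.map (algebraMap A E) (maximalIdeal A)) :
    x ∈ Ideal.map (algebraMap A D) (maximalIdeal A) := by
  have stepa : ∀ y ∈ Ideal.map (algebraMap A E) (maximalIdeal A),
      ∃ P : A[X], (∀ i, P.coeff i ∈ maximalIdeal A) ∧ aeval θ P = (y : S) := by
    intro y hy
    refine Submodule.span_induction ?_ ?_ ?_ ?_ hy
    · rintro _ ⟨a, ha, rfl⟩
      refine ⟨C a, fun i => ?_, ?_⟩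
      · rw [coeff_C]; split_ifs
        · exact ha
        · exact zero_mem _
      · rw [aeval_C]; rfl
    · exact ⟨0, fun i => by simp, by simp⟩
    · rintro y z _ _ ⟨P, hP, hPy⟩ ⟨Q, hQ, hQz⟩
      exact ⟨P + Q, fun i => by rw [coeff_add]; exact add_mem (hP i) (hQ i),
        by rw [map_add, hPy, hQz]; rfl⟩
    · rintro e y _ ⟨P, hP, hPy⟩
      obtain ⟨p, hp⟩ := hgen (e : S) e.2
      refine ⟨p * P, fun i => ?_, ?_⟩
      · rw [coeff_mul]; exact Ideal.sum_mem _ (fun c _ => Ideal.mul_mem_left _ _ (hP _))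
      · rw [map_mul, hp, hPy]; rfl
  obtain ⟨P, hP, hPx⟩ := stepa _ hx
  set I := Ideal.map (algebraMap A D) (maximalIdeal A) with hI
  set PD := P.map (algebraMap A D) with hPD
  set Q := PD %ₘ g with hQ
  have hPD0 : PD.map (Ideal.Quotient.mk I) = 0 := by
    ext i
    rw [coeff_map, coeff_map, coeff_zero, Ideal.Quotient.eq_zero_iff_mem]
    exact Ideal.mem_map_of_mem _ (hP i)
  have hQ0 : Q.map (Ideal.Quotient.mk I) = 0 := by
    rw [hQ, map_modByMonic _ hg, hPD0, zero_modByMonic]
  have hQcoeff : ∀ i, Q.coeff i ∈ I := by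
    intro i
    rw [← Ideal.Quotient.eq_zero_iff_mem, ← coeff_map, hQ0, coeff_zero]
  have hQeval : eval₂ (algebraMap D S) θ Q = (x : S) := by
    have h1 : PD = Q + g * (PD /ₘ g) := (modByMonic_add_div PD g).symm
    have h2 : eval₂ (algebraMap D S) θ PD = (x : S) := by
      rw [hPD, eval₂_map, ← IsScalarTower.algebraMap_eq, ← aeval_def]; exact hPx
    rw [h1, eval₂_add, eval₂_mul, hgθ, zero_mul, add_zero] at h2
    exact h2
  have hQdeg : Q.degree < g.degree := degree_modByMonic_lt _ hg
  have hsub : Q - C x = 0 := by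
    apply hmin
    · refine lt_of_le_of_lt (degree_sub_le _ _) (max_lt hQdeg ?_)
      refine lt_of_le_of_lt degree_C_le ?_
      rw [degree_eq_natDegree hg.ne_zero]; exact_mod_cast hgpos
    · rw [eval₂_sub, hQeval, eval₂_C]; exact sub_self _
  have hQC : Q = C x := sub_eq_zero.mp hsub
  have h0 := hQcoeff 0
  rw [hQC, coeff_C_zero] at h0
  exact h0

end Groth.Agent.Lib.Helper69.HensSubfield
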