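import Mathlib
import Groth.Agent.Lib.Helper69.HensSubfield

/-!
# Intersection of a subfield of `Frac S` with a normal local domain `S`, over a localisation of a
monogenic integral algebra (helper69)

Generalisation of `HensSubfield` to the case where `E` is a localisation of `A[θ]` (standard étale
generation) and `S` is integrally closed (instead of `f` splitting over `S`).
-/

set_option autoImplicit false
universe u

namespace Groth.Agent.Lib.Helper69.HensSubfield2

open Polynomial IsLocalRing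

variable {A S : Type u} [CommRing A] [CommRing S] [IsDomain S] [Algebra A S]

theorem exists_minimal_monic_of_lift (L : Subfield (FractionRing S))
    (D : Subalgebra A S) (hD : ∀ x : S, x ∈ D ↔ algebraMap S (FractionRing S) x ∈ L)
    (θ : S) (hint : IsIntegral L (algebraMap S (FractionRing S) θ))
    (gS : S[X]) (hgS_monic : gS.Monic)
    (hgS_map : gS.map (algebraMap S (FractionRing S)) =
      (minpoly L (algebraMap S (FractionRing S) θ)).map (algebraMap L (FractionRing S))) :
    ∃ g : D[X], g.Monic ∧ 0 < g.natDegree ∧ eval₂ (algebraMap D S) θ g = 0 ∧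
      (∀ Q : D[X], Q.degree < g.degree → eval₂ (algebraMap D S) θ Q = 0 → Q = 0) ∧
      g.map (algebraMap D S) = gS := by
  classical
  set K := FractionRing S with hK
  set ι : S →+* K := algebraMap S K with hιdef
  have hι : Function.Injective ι := IsFractionRing.injective S K
  let ψ : D →+* L := (ι.comp (algebraMap D S)).codRestrict L (fun d => (hD d).mp d.2)
  have hψ : Function.Injective ψ := by
    intro x y hxy
    have : ι (x : S) = ι (y : S) := congrArg Subtype.val hxy
    exact Subtype.ext (hι this)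
  have hψ' : (algebraMap L K).comp ψ = ι.comp (algebraMap D S) := by ext d; rfl
  set x₀ : K := ι θ with hx₀
  set g := minpoly L x₀ with hgdef
  have hg_monic : g.Monic := minpoly.monic hint
  have hlifts : gS ∈ lifts (algebraMap D S) := by
    rw [lifts_iff_coeff_lifts]
    intro n
    have hmem : gS.coeff n ∈ D := by
      rw [hD]
      have h1 : ι (gS.coeff n) = ((g.coeff n : L) : K) := by
        rw [← coeff_map, hgS_map, coeff_map]; rfl
      rw [h1]; exact (g.coeff n).2
    exact ⟨⟨_, hmem⟩, rfl⟩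
  obtain ⟨gD, hgD_map, hgD_deg, hgD_monic⟩ := lifts_and_natDegree_eq_and_monic hlifts hgS_monic
  have hdeg : gD.natDegree = g.natDegree := by
    rw [hgD_deg, ← hgS_monic.natDegree_map ι, hgS_map, hg_monic.natDegree_map]
  refine ⟨gD, hgD_monic, ?_, ?_, ?_, hgD_map⟩
  · rw [hdeg]; exact minpoly.natDegree_pos hint
  · apply hι
    rw [map_zero, eval₂_eq_eval_map, hgD_map, ← eval_map_apply, hgS_map, eval_map, ← aeval_def,
      minpoly.aeval]
  · intro Q hQdeg hQ
    by_contra hQ0
    have hQL0 : Q.map ψ ≠ 0 := fun h =>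
      hQ0 (Polynomial.map_injective ψ hψ (by rw [h, Polynomial.map_zero]))
    have haeval : aeval x₀ (Q.map ψ) = 0 := by
      rw [aeval_def, eval₂_map, hψ', ← hom_eval₂, hQ, map_zero]
    have h1 := minpoly.degree_le_of_ne_zero L x₀ hQL0 haeval
    have h2 : (Q.map ψ).degree ≤ Q.degree := degree_map_le
    have h3 : gD.degree = g.degree := by
      rw [degree_eq_natDegree hgD_monic.ne_zero, degree_eq_natDegree hg_monic.ne_zero, hdeg]
    rw [h3] at hQdeg
    exact absurd (lt_of_le_of_lt (h1.trans h2) hQdeg) (lt_irrefl _)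

theorem exists_minimal_monic_of_isIntegrallyClosed [IsIntegrallyClosed S]
    (L : Subfield (FractionRing S))
    (hAL : ∀ a : A, algebraMap A (FractionRing S) a ∈ L)
    (D : Subalgebra A S) (hD : ∀ x : S, x ∈ D ↔ algebraMap S (FractionRing S) x ∈ L)
    (θ : S) (F : A[X]) (hF : F.Monic) (hFθ : aeval θ F = 0) :
    ∃ g : D[X], g.Monic ∧ 0 < g.natDegree ∧ eval₂ (algebraMap D S) θ g = 0 ∧
      (∀ Q : D[X], Q.degree < g.degree → eval₂ (algebraMap D S) θ Q = 0 → Q = 0) ∧
      ∀ i, IsIntegral A ((g.coeff i : D) : S) := by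
  classical
  set K := FractionRing S with hK
  set ι : S →+* K := algebraMap S K with hιdef
  let φL : A →+* L := (algebraMap A K).codRestrict L hAL
  have hφL : (algebraMap L K).comp φL = algebraMap A K := by ext a; rfl
  have hAK : algebraMap A K = ι.comp (algebraMap A S) := IsScalarTower.algebraMap_eq A S K
  set x₀ : K := ι θ with hx₀
  have hroot : eval₂ (algebraMap L K) x₀ (F.map φL) = 0 := by
    rw [eval₂_map, hφL, hAK, ← hom_eval₂, ← aeval_def, hFθ, map_zero]
  have hint : IsIntegral L x₀ := ⟨F.map φL, hF.map _, hroot⟩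
  set g := minpoly L x₀ with hgdef
  have hg_monic : g.Monic := minpoly.monic hint
  have hg_dvd : g ∣ F.map φL := minpoly.dvd L x₀ (by rw [aeval_def]; exact hroot)
  have hgK_dvd : g.map (algebraMap L K) ∣ F.map (algebraMap A K) := by
    have h1 := Polynomial.map_dvd (algebraMap L K) hg_dvd
    rwa [Polynomial.map_map, hφL] at h1
  have hcoeff : ∀ i, IsIntegral A ((g.map (algebraMap L K)).coeff i) :=
    fun i => isIntegral_coeff_of_dvd F _ hF (hg_monic.map _) hgK_dvd i
  have hlifts : g.map (algebraMap L K) ∈ lifts ι := by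
    rw [lifts_iff_coeff_lifts]
    intro i
    have h1 : IsIntegral S ((g.map (algebraMap L K)).coeff i) := (hcoeff i).tower_top
    obtain ⟨y, hy⟩ := IsIntegrallyClosed.algebraMap_eq_of_integral h1
    exact ⟨y, hy⟩
  obtain ⟨gS, hgS_map, -, hgS_monic⟩ :=
    lifts_and_natDegree_eq_and_monic hlifts (hg_monic.map _)
  obtain ⟨gD, h1, h2, h3, h4, h5⟩ :=
    exists_minimal_monic_of_lift L D hD θ hint gS hgS_monic hgS_map
  refine ⟨gD, h1, h2, h3, h4, fun i => ?_⟩
  have hι : Function.Injective ι := IsFractionRing.injective S K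
  have h6 : ((gD.coeff i : D) : S) = gS.coeff i := by
    rw [← h5, coeff_map]; rfl
  rw [h6]
  have h7 : ι (gS.coeff i) = (g.map (algebraMap L K)).coeff i := by
    rw [← hgS_map, coeff_map]
  have h8 : IsIntegral A (algebraMap S K (gS.coeff i)) := by
    change IsIntegral A (ι (gS.coeff i))
    rw [h7]; exact hcoeff i
  exact (isIntegral_algebraMap_iff hι).mp h8

variable [IsLocalRing S]

/-- the key coefficient comparison. -/
theorem key_coeff (D : Subalgebra A S) [IsLocalRing D] [IsLocalHom (algebraMap D S)] (θ : S)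
    (g : D[X]) (hg : g.Monic) (hgθ : eval₂ (algebraMap D S) θ g = 0)
    (hmin : ∀ Q : D[X], Q.degree < g.degree → eval₂ (algebraMap D S) θ Q = 0 → Q = 0)
    (x : D) (u b : D[X]) (hu : IsUnit (eval₂ (algebraMap D S) θ u))
    (hxub : (x : S) * eval₂ (algebraMap D S) θ u = eval₂ (algebraMap D S) θ b) :
    ∃ j, IsUnit ((u %ₘ g).coeff j) ∧ x * (u %ₘ g).coeff j = (b %ₘ g).coeff j := by
  have hev : ∀ p : D[X], eval₂ (algebraMap D S) θ (p %ₘ g) = eval₂ (algebraMap D S) θ p := by
    intro p
    have h1 : p = p %ₘ g + g * (p /ₘ g) := (modByMonic_add_div p g).symm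
    conv_rhs => rw [h1, eval₂_add, eval₂_mul, hgθ, zero_mul, add_zero]
  set U := u %ₘ g with hU
  set B := b %ₘ g with hB
  have hUdeg : U.degree < g.degree := degree_modByMonic_lt _ hg
  have hBdeg : B.degree < g.degree := degree_modByMonic_lt _ hg
  have hzero : C x * U - B = 0 := by
    apply hmin
    · refine lt_of_le_of_lt (degree_sub_le _ _) (max_lt ?_ hBdeg)
      refine lt_of_le_of_lt (degree_mul_le _ _) ?_
      have h1 : (C x).degree ≤ 0 := degree_C_le
      calc (C x).degree + U.degree ≤ 0 + U.degree := add_le_add_left h1 _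
        _ = U.degree := zero_add _
        _ < g.degree := hUdeg
    · rw [eval₂_sub, eval₂_mul, eval₂_C, hev, hev]
      exact sub_eq_zero.mpr hxub
  have hCU : C x * U = B := sub_eq_zero.mp hzero
  have hcoeffs : ∀ j, x * U.coeff j = B.coeff j := by
    intro j
    rw [← hCU, coeff_C_mul]
  -- some coefficient of `U` is a unit
  have hex : ∃ j, IsUnit (U.coeff j) := by
    by_contra hcon
    push Not at hcon
    have hUev : eval₂ (algebraMap D S) θ U ∈ maximalIdeal S := by
      rw [eval₂_eq_sum_range]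
      refine Ideal.sum_mem _ fun j _ => Ideal.mul_mem_right _ _ ?_
      rw [mem_maximalIdeal, mem_nonunits_iff]
      intro h
      exact hcon j (isUnit_of_map_unit (algebraMap D S) _ h)
    rw [hev, mem_maximalIdeal, mem_nonunits_iff] at hUev
    exact hUev hu
  obtain ⟨j, hj⟩ := hex
  exact ⟨j, hj, hcoeffs j⟩

omit [IsDomain S] [IsLocalRing S] in
theorem coeff_modByMonic_mem (D : Subalgebra A S) (D₁ : Subalgebra A D) (g : D[X]) (hg : g.Monic)
    (hgD₁ : ∀ i, g.coeff i ∈ D₁) (p : A[X]) (j : ℕ) :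
    ((p.map (algebraMap A D)) %ₘ g).coeff j ∈ D₁ := by
  have hlifts : g ∈ lifts (algebraMap D₁ D) := by
    rw [lifts_iff_coeff_lifts]
    intro i
    exact ⟨⟨_, hgD₁ i⟩, rfl⟩
  obtain ⟨g₁, hg₁_map, -, hg₁_monic⟩ := lifts_and_natDegree_eq_and_monic hlifts hg
  have h1 : (p.map (algebraMap A D₁)).map (algebraMap D₁ D) = p.map (algebraMap A D) := by
    rw [Polynomial.map_map, ← IsScalarTower.algebraMap_eq]
  have h2 : (p.map (algebraMap A D)) %ₘ g =
      ((p.map (algebraMap A D₁)) %ₘ g₁).map (algebraMap D₁ D) := by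
    rw [map_modByMonic _ hg₁_monic, h1, hg₁_map]
  rw [h2, coeff_map]
  exact (((p.map (algebraMap A D₁)) %ₘ g₁).coeff j).2

variable (D E : Subalgebra A S) [IsLocalRing D] [IsLocalHom (algebraMap D S)] (hDE : D ≤ E)
  (θ : S)
  (hgen : ∀ e : S, e ∈ E → ∃ u b : A[X], IsUnit (aeval θ u) ∧ e * aeval θ u = aeval θ b)
  (g : D[X]) (hg : g.Monic) (hgθ : eval₂ (algebraMap D S) θ g = 0)
  (hmin : ∀ Q : D[X], Q.degree < g.degree → eval₂ (algebraMap D S) θ Q = 0 → Q = 0)

include hDE hgen hg hgθ hmin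

theorem exists_unit_mul_mem (D₁ : Subalgebra A D) (hgD₁ : ∀ i, g.coeff i ∈ D₁) (d : D) :
    ∃ t ∈ D₁, IsUnit t ∧ d * t ∈ D₁ := by
  obtain ⟨u, b, hu, hub⟩ := hgen (d : S) (hDE d.2)
  have hmap : ∀ p : A[X], eval₂ (algebraMap D S) θ (p.map (algebraMap A D)) = aeval θ p := by
    intro p
    rw [eval₂_map, ← IsScalarTower.algebraMap_eq, ← aeval_def]
  obtain ⟨j, hj, hdj⟩ := key_coeff D θ g hg hgθ hmin d (u.map (algebraMap A D))
    (b.map (algebraMap A D)) (by rw [hmap]; exact hu) (by rw [hmap, hmap]; exact hub)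
  refine ⟨_, coeff_modByMonic_mem D D₁ g hg hgD₁ u j, hj, ?_⟩
  rw [hdj]
  exact coeff_modByMonic_mem D D₁ g hg hgD₁ b j

theorem essFiniteType : Algebra.EssFiniteType A D := by
  classical
  rw [Algebra.essFiniteType_iff]
  refine ⟨(Finset.range (g.natDegree + 1)).image g.coeff, fun d => ?_⟩
  have hgD₁ : ∀ i, g.coeff i ∈
      Algebra.adjoin A (((Finset.range (g.natDegree + 1)).image g.coeff : Finset D) : Set D) := by
    intro i
    by_cases hi : i < g.natDegree + 1
    · exact Algebra.subset_adjoin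
        (Finset.mem_coe.mpr (Finset.mem_image_of_mem _ (Finset.mem_range.mpr hi)))
    · rw [coeff_eq_zero_of_natDegree_lt (by omega)]
      exact zero_mem _
  exact exists_unit_mul_mem D E hDE θ hgen g hg hgθ hmin _ hgD₁ d

theorem mem_map_of_mem_map [IsLocalRing A]
    (x : D) (hx : (⟨(x : S), hDE x.2⟩ : E) ∈ Ideal.map (algebraMap A E) (maximalIdeal A)) :
    x ∈ Ideal.map (algebraMap A D) (maximalIdeal A) := by
  have stepa : ∀ y ∈ Ideal.map (algebraMap A E) (maximalIdeal A),
      ∃ u P : A[X], IsUnit (aeval θ u) ∧ (∀ i, P.coeff i ∈ maximalIdeal A) ∧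
        (y : S) * aeval θ u = aeval θ P := by
    intro y hy
    refine Submodule.span_induction ?_ ?_ ?_ ?_ hy
    · rintro _ ⟨a, ha, rfl⟩
      refine ⟨1, C a, by simp, fun i => ?_, ?_⟩
      · rw [coeff_C]; split_ifs
        · exact ha
        · exact zero_mem _
      · rw [aeval_C, map_one, mul_one]; rfl
    · exact ⟨1, 0, by simp, fun i => by simp, by simp⟩
    · rintro y z _ _ ⟨u₁, P₁, hu₁, hP₁, h₁⟩ ⟨u₂, P₂, hu₂, hP₂, h₂⟩
      refine ⟨u₁ * u₂, P₁ * u₂ + P₂ * u₁, ?_, fun i => ?_, ?_⟩
      · rw [map_mul]; exact hu₁.mul hu₂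
      · rw [coeff_add, coeff_mul, coeff_mul]
        exact add_mem (Ideal.sum_mem _ fun c _ => Ideal.mul_mem_right _ _ (hP₁ _))
          (Ideal.sum_mem _ fun c _ => Ideal.mul_mem_right _ _ (hP₂ _))
      · rw [map_add, map_mul, map_mul, map_mul, ← h₁, ← h₂]
        change ((y : S) + (z : S)) * _ = _
        ring
    · rintro e y _ ⟨u, P, hu, hP, h⟩
      obtain ⟨ue, be, hue, hbe⟩ := hgen (e : S) e.2
      refine ⟨ue * u, be * P, ?_, fun i => ?_, ?_⟩
      · rw [map_mul]; exact hue.mul hu
      · rw [coeff_mul]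
        exact Ideal.sum_mem _ fun c _ => Ideal.mul_mem_left _ _ (hP _)
      · rw [map_mul, map_mul, ← hbe, ← h]
        change ((e : S) * (y : S)) * _ = _
        ring
  obtain ⟨u, P, hu, hP, hxP⟩ := stepa _ hx
  have hmap : ∀ p : A[X], eval₂ (algebraMap D S) θ (p.map (algebraMap A D)) = aeval θ p := by
    intro p
    rw [eval₂_map, ← IsScalarTower.algebraMap_eq, ← aeval_def]
  obtain ⟨j, hj, hxj⟩ := key_coeff D θ g hg hgθ hmin x (u.map (algebraMap A D))
    (P.map (algebraMap A D)) (by rw [hmap]; exact hu) (by rw [hmap, hmap]; exact hxP)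
  set I := Ideal.map (algebraMap A D) (maximalIdeal A) with hI
  have hPD0 : (P.map (algebraMap A D)).map (Ideal.Quotient.mk I) = 0 := by
    ext i
    rw [coeff_map, coeff_map, coeff_zero, Ideal.Quotient.eq_zero_iff_mem]
    exact Ideal.mem_map_of_mem _ (hP i)
  have hQ0 : ((P.map (algebraMap A D)) %ₘ g).map (Ideal.Quotient.mk I) = 0 := by
    rw [map_modByMonic _ hg, hPD0, zero_modByMonic]
  have hQj : ((P.map (algebraMap A D)) %ₘ g).coeff j ∈ I := by
    rw [← Ideal.Quotient.eq_zero_iff_mem, ← coeff_map, hQ0, coeff_zero]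
  rw [← hxj] at hQj
  obtain ⟨v, hv⟩ := hj
  have : x = x * ((u.map (algebraMap A D)) %ₘ g).coeff j * ((v⁻¹ : Dˣ) : D) := by
    rw [mul_assoc, ← hv, Units.mul_inv, mul_one]
  rw [this]
  exact Ideal.mul_mem_right _ _ hQj

end Groth.Agent.Lib.Helper69.HensSubfield2
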