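import Mathlib
import Groth.Prelude.Def_EssEt

/-!
# Essentially étale local algebras are localisations of monogenic integral algebras (helper69)

`exists_standard_generation` : an essentially étale local `A`-algebra `E` contains `θ`, a root of a
monic `F ∈ A[X]`, such that every element of `E` is `b(θ)/u(θ)` with `u(θ)` a unit.
-/

set_option autoImplicit false
universe u

namespace Groth.Agent.Lib.Helper69.StdEtGen

open Polynomial

theorem exists_standard_generation (A E : Type u) [CommRing A] [IsLocalRing A] [CommRing E]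
    [Algebra A E] (hE : EGA4loc.IsEssentiallyEtale A E) :
    ∃ (θ : E) (F : A[X]), F.Monic ∧ aeval θ F = 0 ∧
      ∀ x : E, ∃ u b : A[X], IsUnit (aeval θ u) ∧ x * aeval θ u = aeval θ b := by
  obtain ⟨C, _, _, q, _, hEt, hq, ⟨e⟩⟩ := hE
  haveI : Algebra.FinitePresentation A C := inferInstance
  haveI : Algebra.IsEtaleAt A q := inferInstance
  obtain ⟨f', hf'q, hstd⟩ := Algebra.IsEtaleAt.exists_isStandardEtale (R := A) q
  let P : StandardEtalePresentation A (Localization.Away f') :=
    hstd.nonempty_standardEtalePresentation.some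
  have hunit : ∀ y : Submonoid.powers f',
      IsUnit ((IsScalarTower.toAlgHom A C (Localization.AtPrime q)) y) := by
    rintro ⟨_, n, rfl⟩
    have : f' ^ n ∈ q.primeCompl := q.primeCompl.pow_mem hf'q n
    exact IsLocalization.map_units (Localization.AtPrime q) ⟨f' ^ n, this⟩
  let φ : Localization.Away f' →ₐ[A] Localization.AtPrime q :=
    IsLocalization.liftAlgHom (M := Submonoid.powers f') hunit
  have hφ : ∀ c : C, φ (algebraMap C (Localization.Away f') c) =
      algebraMap C (Localization.AtPrime q) c := by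
    intro c
    change IsLocalization.lift hunit (algebraMap C (Localization.Away f') c) = _
    rw [IsLocalization.lift_eq]; rfl
  set θ₁ : Localization.AtPrime q := φ P.x with hθ₁
  have haev : ∀ p : A[X], aeval θ₁ p = φ (aeval P.x p) := fun p => aeval_algHom_apply φ P.x p
  have hγ : IsUnit (aeval θ₁ P.g) := by
    rw [haev]; exact P.hasMap.2.map φ
  have key : ∀ y : Localization.AtPrime q, ∃ u b : A[X], IsUnit (aeval θ₁ u) ∧
      y * aeval θ₁ u = aeval θ₁ b := by
    intro y
    obtain ⟨⟨c, s⟩, hy⟩ := IsLocalization.surj q.primeCompl y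
    obtain ⟨ps, n, hs⟩ :=
      P.exists_mul_aeval_x_g_pow_eq_aeval_x (algebraMap C (Localization.Away f') (s : C))
    obtain ⟨pc, m, hc⟩ :=
      P.exists_mul_aeval_x_g_pow_eq_aeval_x (algebraMap C (Localization.Away f') c)
    have hs' : algebraMap C (Localization.AtPrime q) (s : C) * aeval θ₁ P.g ^ n = aeval θ₁ ps := by
      rw [haev, haev, ← hφ, ← map_pow, ← map_mul, hs]
    have hc' : algebraMap C (Localization.AtPrime q) c * aeval θ₁ P.g ^ m = aeval θ₁ pc := by
      rw [haev, haev, ← hφ, ← map_pow, ← map_mul, hc]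
    have hsu : IsUnit (algebraMap C (Localization.AtPrime q) (s : C)) :=
      IsLocalization.map_units (Localization.AtPrime q) s
    refine ⟨ps * P.g ^ m, pc * P.g ^ n, ?_, ?_⟩
    · rw [map_mul, map_pow, ← hs']
      exact (hsu.mul (hγ.pow n)).mul (hγ.pow m)
    · change y * algebraMap C (Localization.AtPrime q) (s : C) =
        algebraMap C (Localization.AtPrime q) c at hy
      rw [map_mul, map_mul, map_pow, map_pow, ← hs', ← hc', ← hy]
      ring
  have h1 : ∀ p : A[X], aeval (e.symm θ₁) p = e.symm (aeval θ₁ p) :=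
    fun p => aeval_algHom_apply (e.symm : Localization.AtPrime q →ₐ[A] E) θ₁ p
  refine ⟨e.symm θ₁, P.f, P.monic_f, ?_, ?_⟩
  · have : aeval θ₁ P.f = 0 := by rw [haev, P.hasMap.1, map_zero]
    rw [h1, this, map_zero]
  · intro x
    obtain ⟨u, b, hu, hub⟩ := key (e x)
    refine ⟨u, b, ?_, ?_⟩
    · rw [h1]; exact hu.map e.symm
    · rw [h1, h1, ← hub, map_mul, AlgEquiv.symm_apply_apply]

end Groth.Agent.Lib.Helper69.StdEtGen
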