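import Mathlib
import Groth.Prelude.Def_EssEt
import Groth.Prelude.Def_Hensel
import Groth.Agent.Lib.Helper69.HensStage2
import Groth.Agent.Lib.Helper69.StdEtGen
import Groth.Agent.Lib.Helper69.HensSubfield2
import Groth.Agent.Lib.Helper87.HensNormal
import Groth.Agent.Lib.Helper87.HensStrictProps
import Groth.Agent.S16438

/-!
# Finitely generated subfields of the fraction field of the strict henselization of a normal local
domain (helper69)

`main` : `A` noetherian local, `S = A^sh` a normal domain, `s ⊆ S` finite, `L = Frac(A)(s)`.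
Then `D' = S ∩ L` is a local ring dominated by `S`, essentially étale over `A`, and a localisation
of `A[σ]` for a finite set `σ ⊆ D'` of elements integral over `A`.
-/

set_option autoImplicit false
set_option linter.style.haveILetI false
set_option linter.unusedSectionVars false
universe u

namespace Groth.Agent.Lib.Helper69.HensNormalMain

open Polynomial

theorem normal_strict (A S : Type u) [CommRing A] [IsLocalRing A] [IsDomain A]
    [IsIntegrallyClosed A] [CommRing S] [IsLocalRing S] [Algebra A S]
    [IsLocalHom (algebraMap A S)] [Hensel.IsStrictHenselization A S] :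
    IsDomain S ∧ IsIntegrallyClosed S := by
  obtain ⟨e⟩ := Groth.Agent.Lib.Helper87.Hens.nonempty_algEquiv_Hsh A S
  haveI : IsDomain (Groth.Agent.Lib.Helper87.Hens.Hsh A) := Groth.Agent.Lib.Helper87.Hens.H.isDomain
  haveI : IsIntegrallyClosed (Groth.Agent.Lib.Helper87.Hens.Hsh A) :=
    Groth.Agent.Lib.Helper87.Hens.H.isIntegrallyClosed
  exact Groth.Agent.Lib.Helper87.NormalDvd.isDomain_and_isIntegrallyClosed_of_ringEquiv
    e.symm.toRingEquiv

theorem main (A S : Type u) [CommRing A] [IsLocalRing A] [IsNoetherianRing A]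
    [CommRing S] [IsLocalRing S] [Algebra A S] [IsLocalHom (algebraMap A S)]
    [Hensel.IsStrictHenselization A S] [IsDomain S] [IsIntegrallyClosed S] (s : Finset S) :
    ∃ D' : Subalgebra A S,
      (∀ x : S, x ∈ D' ↔ algebraMap S (FractionRing S) x ∈
        Subfield.closure (Set.range (algebraMap A (FractionRing S)) ∪
          (algebraMap S (FractionRing S)) '' (s : Set S))) ∧
      ∃ _ : IsLocalRing D', IsLocalHom (algebraMap D' S) ∧ EGA4loc.IsEssentiallyEtale A D' ∧
      ∃ σ : Finset D', (∀ c ∈ σ, IsIntegral A ((c : D') : S)) ∧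
        ∀ x : D', ∃ t ∈ Algebra.adjoin A (σ : Set D'), IsUnit t ∧
          x * t ∈ Algebra.adjoin A (σ : Set D') := by
  classical
  have hS : Hensel.IsStrictHenselization A S := inferInstance
  let ι : S →+* FractionRing S := algebraMap S (FractionRing S)
  have hι : Function.Injective ι := IsFractionRing.injective S (FractionRing S)
  set L : Subfield (FractionRing S) := Subfield.closure
    (Set.range (algebraMap A (FractionRing S)) ∪ ι '' (s : Set S)) with hL
  have hAL : ∀ a : A, algebraMap A (FractionRing S) a ∈ L :=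
    fun a => Subfield.subset_closure (Or.inl ⟨a, rfl⟩)
  let L' : Subalgebra A (FractionRing S) :=
    { L.toSubring.toSubsemiring with algebraMap_mem' := hAL }
  let D : Subalgebra A S := L'.comap (IsScalarTower.toAlgHom A S (FractionRing S))
  have hD : ∀ x : S, x ∈ D ↔ ι x ∈ L := fun x => Iff.rfl
  have key : ∀ d : D, IsUnit (d : S) → IsUnit d := by
    rintro ⟨d, hd⟩ hu
    obtain ⟨u, rfl⟩ := hu
    have hinv : ((u⁻¹ : Sˣ) : S) ∈ D := by
      rw [hD]
      have h1 : ι ((u⁻¹ : Sˣ) : S) = (ι (u : S))⁻¹ := by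
        refine eq_inv_of_mul_eq_one_right ?_
        rw [← map_mul]; simp
      rw [h1]
      exact L.inv_mem ((hD _).mp hd)
    refine ⟨⟨⟨(u : S), hd⟩, ⟨((u⁻¹ : Sˣ) : S), hinv⟩, ?_, ?_⟩, rfl⟩
    · exact Subtype.ext (by simp)
    · exact Subtype.ext (by simp)
  have hlocal : IsLocalRing D := by
    refine IsLocalRing.of_isUnit_or_isUnit_one_sub_self fun a => ?_
    rcases IsLocalRing.isUnit_or_isUnit_one_sub_self (a : S) with h | h
    · exact Or.inl (key a h)
    · exact Or.inr (key (1 - a) (by simpa using h))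
  have hDS : IsLocalHom (algebraMap D S) := ⟨fun a ha => key a ha⟩
  refine ⟨D, hD, hlocal, hDS, ?_⟩
  obtain ⟨E, hσE, hlocE, hE_local, hE⟩ := Groth.Agent.Lib.Helper69.HensStage2.exists_stage A S s
  obtain ⟨hQF, hFl, hEF, hFU⟩ :=
    Groth.Agent.Lib.Helper69.HensStage2.props_of_isEssentiallyEtale A E hE
  let KE : Subfield (FractionRing S) := Subfield.closure (ι '' (E : Set S))
  have hLKE : L ≤ KE := by
    rw [hL, Subfield.closure_le]
    rintro y (⟨a, rfl⟩ | ⟨x, hx, rfl⟩)
    · refine Subfield.subset_closure ⟨algebraMap A S a, E.algebraMap_mem a, ?_⟩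
      exact (IsScalarTower.algebraMap_apply A S (FractionRing S) a).symm
    · exact Subfield.subset_closure ⟨x, hσE x (Finset.mem_coe.mp hx), rfl⟩
  have hDE : D ≤ E := by
    intro x hx
    have hxKE : ι x ∈ KE := hLKE ((hD x).mp hx)
    rw [Subfield.mem_closure_iff] at hxKE
    obtain ⟨y, hy, z, hz, hyz⟩ := hxKE
    have hcl : ∀ w ∈ Subring.closure (ι '' (E : Set S)), ∃ e ∈ E, ι e = w := by
      intro w hw
      have hle : Subring.closure (ι '' (E : Set S)) ≤ (E.toSubring.map ι) :=
        Subring.closure_le.mpr (by rintro _ ⟨e, he, rfl⟩; exact ⟨e, he, rfl⟩)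
      obtain ⟨e, he, rfl⟩ := hle hw
      exact ⟨e, he, rfl⟩
    obtain ⟨e₁, he₁, rfl⟩ := hcl y hy
    obtain ⟨e₂, he₂, rfl⟩ := hcl z hz
    by_cases h0 : e₂ = 0
    · rw [h0, map_zero, div_zero] at hyz
      have hx0 : x = 0 := hι (hyz.symm.trans (map_zero ι).symm)
      rw [hx0]; exact E.zero_mem
    · have h1 : e₂ * x = e₁ := by
        apply hι
        rw [map_mul, ← hyz]
        have : ι e₂ ≠ 0 := fun h => h0 (hι (h.trans (map_zero ι).symm))
        field_simp
      refine Groth.Agent.Lib.Helper69.HensStage2.mem_of_mul_mem A S E hE hlocE e₂ x he₂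
        (mem_nonZeroDivisors_of_ne_zero h0) ?_
      rw [h1]; exact he₁
  haveI hAE : IsLocalHom (algebraMap A E) := ⟨fun a ha => by
    have h1 : IsUnit (algebraMap E S (algebraMap A E a)) := ha.map _
    rw [← IsScalarTower.algebraMap_apply A E S] at h1
    exact isUnit_of_map_unit (algebraMap A S) a h1⟩
  obtain ⟨θE, F, hF, hFθ, hgenE⟩ :=
    Groth.Agent.Lib.Helper69.StdEtGen.exists_standard_generation A E hE
  set θ : S := (θE : S) with hθdef
  have haevE : ∀ p : A[X], aeval θ p = algebraMap E S (aeval θE p) :=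
    fun p => aeval_algebraMap_apply S θE p
  have hFθS : aeval θ F = 0 := by rw [haevE, hFθ, map_zero]
  have hgen : ∀ e : S, e ∈ E → ∃ u b : A[X], IsUnit (aeval θ u) ∧ e * aeval θ u = aeval θ b := by
    intro e he
    obtain ⟨u, b, hu, hub⟩ := hgenE ⟨e, he⟩
    refine ⟨u, b, ?_, ?_⟩
    · rw [haevE]; exact hu.map _
    · rw [haevE, haevE, ← hub, map_mul]; rfl
  obtain ⟨g, hg_monic, hg_pos, hgθ, hmin, hgint⟩ :=
    Groth.Agent.Lib.Helper69.HensSubfield2.exists_minimal_monic_of_isIntegrallyClosed L hAL D hD θ F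
      hF hFθS
  haveI := hlocal
  haveI := hDS
  haveI hEFD : Algebra.EssFiniteType A D :=
    Groth.Agent.Lib.Helper69.HensSubfield2.essFiniteType D E hDE θ hgen g hg_monic hgθ hmin
  haveI hAD : IsLocalHom (algebraMap A D) := ⟨fun a ha => by
    have h1 : IsUnit (algebraMap D S (algebraMap A D a)) := ha.map _
    rw [← IsScalarTower.algebraMap_apply A D S] at h1
    exact isUnit_of_map_unit (algebraMap A S) a h1⟩
  have hmD : Ideal.map (algebraMap A D) (IsLocalRing.maximalIdeal A) =
      IsLocalRing.maximalIdeal D := by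
    apply le_antisymm
    · exact IsLocalRing.map_maximalIdeal_le (algebraMap A D)
    · intro x hx
      apply Groth.Agent.Lib.Helper69.HensSubfield2.mem_map_of_mem_map D E hDE θ hgen g hg_monic
        hgθ hmin x
      rw [Algebra.FormallyUnramified.map_maximalIdeal (R := A) (S := E),
        IsLocalRing.mem_maximalIdeal, mem_nonunits_iff]
      intro hu
      have h1 : IsUnit (x : S) := hu.map (algebraMap E S)
      exact hx (key x h1)
  refine ⟨Groth.Agent.S16438.result A S D hmD,
    (Finset.range (g.natDegree + 1)).image g.coeff, ?_, ?_⟩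
  · intro c hc
    obtain ⟨i, -, rfl⟩ := Finset.mem_image.mp hc
    exact hgint i
  · have hgD₁ : ∀ i, g.coeff i ∈
        Algebra.adjoin A (((Finset.range (g.natDegree + 1)).image g.coeff : Finset D) : Set D) := by
      intro i
      by_cases hi : i < g.natDegree + 1
      · exact Algebra.subset_adjoin
          (Finset.mem_coe.mpr (Finset.mem_image_of_mem _ (Finset.mem_range.mpr hi)))
      · rw [coeff_eq_zero_of_natDegree_lt (by omega)]
        exact zero_mem _
    intro x
    exact Groth.Agent.Lib.Helper69.HensSubfield2.exists_unit_mul_mem D E hDE θ hgen g hg_monic hgθ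
      hmin _ hgD₁ x

/-- the canonical embedding `Frac D → Frac S` for a subalgebra `D` of a domain `S`. -/
noncomputable def fracEmb {A S : Type u} [CommRing A] [CommRing S] [IsDomain S] [Algebra A S]
    (D : Subalgebra A S) : FractionRing D →+* FractionRing S :=
  IsFractionRing.lift (g := (algebraMap S (FractionRing S)).comp (algebraMap D S))
    ((IsFractionRing.injective S (FractionRing S)).comp Subtype.val_injective)

theorem fracEmb_algebraMap {A S : Type u} [CommRing A] [CommRing S] [IsDomain S] [Algebra A S]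
    (D : Subalgebra A S) (d : D) :
    fracEmb D (algebraMap D (FractionRing D) d) = algebraMap S (FractionRing S) (d : S) := by
  unfold fracEmb
  rw [IsFractionRing.lift_algebraMap]; rfl

/-- an element of `S` lying in the fraction field of an integrally closed subalgebra `D` and
integral over `A` lies in `D`. -/
theorem mem_of_isIntegral {A S : Type u} [CommRing A] [CommRing S] [IsDomain S] [Algebra A S]
    (D : Subalgebra A S) [IsIntegrallyClosed D] (c : S)
    (hc : algebraMap S (FractionRing S) c ∈
      Subfield.closure ((algebraMap S (FractionRing S)) '' (D : Set S)))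
    (hint : IsIntegral A c) : c ∈ D := by
  classical
  let ι : S →+* FractionRing S := algebraMap S (FractionRing S)
  have hι : Function.Injective ι := IsFractionRing.injective S (FractionRing S)
  rw [Subfield.mem_closure_iff] at hc
  obtain ⟨y, hy, z, hz, hyz⟩ := hc
  have hcl : ∀ w ∈ Subring.closure (ι '' (D : Set S)), ∃ e ∈ D, ι e = w := by
    intro w hw
    have hle : Subring.closure (ι '' (D : Set S)) ≤ (D.toSubring.map ι) :=
      Subring.closure_le.mpr (by rintro _ ⟨e, he, rfl⟩; exact ⟨e, he, rfl⟩)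
    obtain ⟨e, he, rfl⟩ := hle hw
    exact ⟨e, he, rfl⟩
  obtain ⟨d₁, hd₁, rfl⟩ := hcl y hy
  obtain ⟨d₂, hd₂, rfl⟩ := hcl z hz
  let j := fracEmb D
  have hj : Function.Injective j := j.injective
  set w : FractionRing D := algebraMap D (FractionRing D) ⟨d₁, hd₁⟩ /
    algebraMap D (FractionRing D) ⟨d₂, hd₂⟩ with hw
  have hjw : j w = ι c := by
    rw [hw, map_div₀, fracEmb_algebraMap, fracEmb_algebraMap]
    exact hyz
  obtain ⟨p, hp_monic, hp⟩ := hint
  have hcomp : (j.comp (algebraMap D (FractionRing D))).comp (algebraMap A D) =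
      ι.comp (algebraMap A S) := by
    ext a
    change j (algebraMap D (FractionRing D) (algebraMap A D a)) = ι (algebraMap A S a)
    rw [fracEmb_algebraMap]; rfl
  have hwint : IsIntegral D w := by
    refine ⟨p.map (algebraMap A D), hp_monic.map _, ?_⟩
    apply hj
    rw [map_zero, hom_eval₂, eval₂_map, hcomp, hjw, ← hom_eval₂, hp, map_zero]
  obtain ⟨d, hd⟩ := IsIntegrallyClosed.algebraMap_eq_of_integral hwint
  have h1 : ι (d : S) = ι c := by
    rw [← fracEmb_algebraMap, hd]; exact hjw
  have h2 : (d : S) = c := hι h1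
  rw [← h2]; exact d.2

theorem le_of_isIntegrallyClosed {A S : Type u} [CommRing A] [CommRing S] [IsDomain S]
    [IsLocalRing S] [Algebra A S]
    (D D' : Subalgebra A S) [IsLocalRing D] [IsLocalHom (algebraMap D S)] [IsIntegrallyClosed D]
    (s : Finset S) (hs : (s : Set S) ⊆ (D : Set S))
    (hD' : ∀ x : S, x ∈ D' ↔ algebraMap S (FractionRing S) x ∈
        Subfield.closure (Set.range (algebraMap A (FractionRing S)) ∪
          (algebraMap S (FractionRing S)) '' (s : Set S)))
    (σ : Finset D') (hσint : ∀ c ∈ σ, IsIntegral A ((c : D') : S))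
    (hσ : ∀ x : D', ∃ t ∈ Algebra.adjoin A (σ : Set D'), IsUnit t ∧
          x * t ∈ Algebra.adjoin A (σ : Set D')) : D' ≤ D := by
  classical
  let ι : S →+* FractionRing S := algebraMap S (FractionRing S)
  have hLKD : Subfield.closure (Set.range (algebraMap A (FractionRing S)) ∪ ι '' (s : Set S)) ≤
      Subfield.closure (ι '' (D : Set S)) := by
    rw [Subfield.closure_le]
    rintro y (⟨a, rfl⟩ | ⟨x, hx, rfl⟩)
    · refine Subfield.subset_closure ⟨algebraMap A S a, D.algebraMap_mem a, ?_⟩
      exact (IsScalarTower.algebraMap_apply A S (FractionRing S) a).symm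
    · exact Subfield.subset_closure ⟨x, hs hx, rfl⟩
  have step2 : ∀ y ∈ Algebra.adjoin A (σ : Set D'), ((y : D') : S) ∈ D := by
    intro y hy
    induction hy using Algebra.adjoin_induction with
    | mem c hc =>
      exact mem_of_isIntegral D _ (hLKD ((hD' _).mp c.2)) (hσint c (Finset.mem_coe.mp hc))
    | algebraMap r => exact D.algebraMap_mem r
    | add x y _ _ hx hy => exact D.add_mem hx hy
    | mul x y _ _ hx hy => exact D.mul_mem hx hy
  intro x hx
  obtain ⟨t, ht, htu, hxt⟩ := hσ ⟨x, hx⟩
  have htD : ((t : D') : S) ∈ D := step2 t ht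
  have hbD : x * ((t : D') : S) ∈ D := step2 _ hxt
  have htS : IsUnit ((t : D') : S) := htu.map D'.val
  have htDu : IsUnit (⟨_, htD⟩ : D) := isUnit_of_map_unit (algebraMap D S) _ htS
  obtain ⟨v, hv⟩ := htDu
  have hv' : ((t : D') : S) * (((v⁻¹ : Dˣ) : D) : S) = 1 := by
    have h1 : (v : D) * ((v⁻¹ : Dˣ) : D) = 1 := Units.mul_inv v
    have h2 := congrArg Subtype.val h1
    rw [hv] at h2
    exact h2
  have : x = (x * ((t : D') : S)) * (((v⁻¹ : Dˣ) : D) : S) := by
    rw [mul_assoc, hv', mul_one]
  rw [this]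
  exact D.mul_mem hbD ((v⁻¹ : Dˣ) : D).2

end Groth.Agent.Lib.Helper69.HensNormalMain
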