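import Mathlib
import Groth.Prelude.Def_EssEt
import Groth.Prelude.Def_Hensel
import Groth.Agent.Lib.Helper69.HensStage2
import Groth.Agent.Lib.Helper87.HensNoethStrict
import Groth.Agent.Lib.Helper87.HensStrictProps

/-!
# Quotients of a strict henselization by a minimal prime (helper69)
-/

set_option autoImplicit false
set_option linter.style.haveILetI false
set_option linter.unusedSectionVars false
universe u

namespace Groth.Agent.Lib.Helper69.HensQuot

open IsLocalRing

theorem isNoetherianRing_strict (A S : Type u) [CommRing A] [IsLocalRing A] [IsNoetherianRing A]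
    [CommRing S] [IsLocalRing S] [Algebra A S] [IsLocalHom (algebraMap A S)]
    [Hensel.IsStrictHenselization A S] : IsNoetherianRing S := by
  obtain ⟨e⟩ := Groth.Agent.Lib.Helper87.Hens.nonempty_algEquiv_Hsh A S
  haveI : IsNoetherianRing (Groth.Agent.Lib.Helper87.Hens.Hsh A) :=
    Groth.Agent.Lib.Helper87.Hens.H.isNoetherianRing
  exact isNoetherianRing_of_ringEquiv _ e.symm.toRingEquiv

theorem isLocalRing_quotient (S : Type u) [CommRing S] [IsLocalRing S] (Q : Ideal S)
    [Q.IsPrime] : IsLocalRing (S ⧸ Q) :=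
  IsLocalRing.of_surjective' (Ideal.Quotient.mk Q) Ideal.Quotient.mk_surjective

theorem isLocalHom_mk (S : Type u) [CommRing S] [IsLocalRing S] (Q : Ideal S) [Q.IsPrime] :
    IsLocalHom (Ideal.Quotient.mk Q) := by
  refine ⟨fun a ha => ?_⟩
  by_contra hna
  have ham : a ∈ maximalIdeal S := hna
  obtain ⟨b, hb⟩ := ha.exists_right_inv
  obtain ⟨b, rfl⟩ := Ideal.Quotient.mk_surjective b
  rw [← map_mul, ← map_one (Ideal.Quotient.mk Q), Ideal.Quotient.eq] at hb
  have hQ : Q ≤ maximalIdeal S := IsLocalRing.le_maximalIdeal (Ideal.IsPrime.ne_top inferInstance)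
  have h1 : a * b - 1 ∈ maximalIdeal S := hQ hb
  have h2 : a * b ∈ maximalIdeal S := Ideal.mul_mem_right _ _ ham
  have h3 : (1 : S) ∈ maximalIdeal S := by
    have := Ideal.sub_mem _ h2 h1
    simpa using this
  exact (Ideal.ne_top_iff_one _).mp (maximalIdeal.isMaximal S).ne_top h3

/-- `S` faithfully flat over `E`, `Q` a prime of `S` generated by `Q ∩ E`: then
`S/Q ∩ Frac(E/(Q ∩ E)) = E/(Q ∩ E)`. -/
theorem exists_sub_mem_of_mul_sub_mem (A S : Type u) [CommRing A] [IsLocalRing A]
    [CommRing S] [IsLocalRing S] [Algebra A S] [IsLocalHom (algebraMap A S)]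
    [Hensel.IsStrictHenselization A S]
    (E : Subalgebra A S) (hE : EGA4loc.IsEssentiallyEtale A E)
    [IsLocalRing E] (hloc : ∀ x : E, IsUnit (x : S) → IsUnit x) (Q : Ideal S) [Q.IsPrime]
    (hQE : Q ≤ Ideal.map (algebraMap E S) (Q.comap (algebraMap E S)))
    (x : S) (e₁ e₂ : E) (he₂ : (e₂ : S) ∉ Q) (h : (e₂ : S) * x - (e₁ : S) ∈ Q) :
    ∃ e : E, x - (e : S) ∈ Q := by
  obtain ⟨-, -, hEF, hFU⟩ := Groth.Agent.Lib.Helper69.HensStage2.props_of_isEssentiallyEtale A E hE
  haveI : Module.Flat A S := Groth.Agent.Lib.Helper87.Hens.flat_of_isStrictHenselization A S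
  haveI : Module.Flat E S := Groth.Agent.Lib.Helper87.flat_of_unramified_of_flat (R := A)
  haveI : IsLocalHom (algebraMap E S) := ⟨fun a ha => hloc a ha⟩
  haveI : Module.FaithfullyFlat E S := Module.FaithfullyFlat.of_flat_of_isLocalHom
  set I : Ideal E := Ideal.span {e₂} ⊔ Q.comap (algebraMap E S) with hI
  have h1 : e₁ ∈ I := by
    rw [← Ideal.comap_map_eq_self_of_faithfullyFlat (B := S) I, Ideal.mem_comap]
    have h2 : (e₂ : S) * x ∈ Ideal.map (algebraMap E S) I :=
      Ideal.mul_mem_right _ _ (Ideal.mem_map_of_mem _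
        (Ideal.mem_sup_left (Ideal.mem_span_singleton_self e₂)))
    have h3 : (e₂ : S) * x - (e₁ : S) ∈ Ideal.map (algebraMap E S) I :=
      Ideal.map_mono le_sup_right (hQE h)
    have h4 : (e₁ : S) = (e₂ : S) * x - ((e₂ : S) * x - (e₁ : S)) := by ring
    change (e₁ : S) ∈ _
    rw [h4]
    exact Ideal.sub_mem _ h2 h3
  obtain ⟨a, ha, q, hq, haq⟩ := Submodule.mem_sup.mp h1
  obtain ⟨c, rfl⟩ := Ideal.mem_span_singleton'.mp ha
  refine ⟨c, ?_⟩
  have hq' : (q : S) ∈ Q := hq
  have h5 : (e₂ : S) * (x - (c : S)) ∈ Q := by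
    have h6 : (e₂ : S) * (x - (c : S)) = ((e₂ : S) * x - (e₁ : S)) + (q : S) := by
      have h7 : (e₁ : S) = (c : S) * (e₂ : S) + (q : S) := by
        rw [← haq]; rfl
      rw [h7]; ring
    rw [h6]
    exact Ideal.add_mem _ h hq'
  exact (Ideal.IsPrime.mem_or_mem inferInstance h5).resolve_left he₂

theorem isSeparable_residueField_quotient (A S : Type u) [CommRing A] [IsLocalRing A]
    [CommRing S] [IsLocalRing S] [Algebra A S] [IsLocalHom (algebraMap A S)] (Q : Ideal S)
    [IsLocalRing (S ⧸ Q)] [IsLocalHom (algebraMap A (S ⧸ Q))] [IsLocalHom (Ideal.Quotient.mk Q)]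
    [Algebra.IsSeparable (ResidueField A) (ResidueField S)] :
    Algebra.IsSeparable (ResidueField A) (ResidueField (S ⧸ Q)) := by
  let φ : ResidueField S →+* ResidueField (S ⧸ Q) := ResidueField.map (Ideal.Quotient.mk Q)
  let φₐ : ResidueField S →ₐ[ResidueField A] ResidueField (S ⧸ Q) :=
    { φ with
      commutes' := fun r => by
        obtain ⟨a, rfl⟩ := residue_surjective r
        rfl }
  refine ⟨fun z => ?_⟩
  obtain ⟨sb, rfl⟩ := residue_surjective z
  obtain ⟨s, rfl⟩ := Ideal.Quotient.mk_surjective sb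
  have h1 : residue (S ⧸ Q) (Ideal.Quotient.mk Q s) = φₐ (residue S s) := rfl
  rw [h1]
  exact IsSeparable.map φₐ φₐ.injective (Algebra.IsSeparable.isSeparable _ _)

end Groth.Agent.Lib.Helper69.HensQuot
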