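import Mathlib
import Groth.Prelude.Def_KZero
import Groth.Prelude.Def_DCoh2
import Groth.Agent.Lib.Helper62.K0Derived

/-!
# K1 for helper53's S1029: transport of `K0tr` along a fully faithful triangulated functor
-/

set_option autoImplicit false
universe u v₁ v₂ u₁ u₂

open CategoryTheory CategoryTheory.Limits AlgebraicGeometry Pretriangulated

namespace Groth.Agent.Lib.Helper69.K0TrK1

open Groth.Agent.Lib.Helper62.K0D

open ZeroObject in
theorem exists_k0tr_equiv {D : Type u₁} [Category.{v₁} D] [Preadditive D] [HasZeroObject D]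
    [HasShift D ℤ] [∀ n : ℤ, (shiftFunctor D n).Additive] [Pretriangulated D]
    {D' : Type u₂} [Category.{v₂} D'] [Preadditive D'] [HasZeroObject D'] [HasShift D' ℤ]
    [∀ n : ℤ, (shiftFunctor D' n).Additive] [Pretriangulated D']
    (Φ : D ⥤ D') [Φ.CommShift ℤ] [Φ.IsTriangulated] [Φ.Full] [Φ.Faithful]
    (P : ObjectProperty D) (P' : ObjectProperty D')
    (hP : ∀ K : D, P K ↔ P' (Φ.obj K))
    (hiso : ∀ {K' L' : D'}, (K' ≅ L') → P' K' → P' L')
    (hess : ∀ K' : D', P' K' → ∃ K : D, Nonempty (Φ.obj K ≅ K'))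
    (h0 : P' (0 : D')) :
    ∃ ψ : KZero.K0tr P ≃+ KZero.K0tr P', ∀ K : D, P K → ψ (KZero.clTr P K) = KZero.clTr P' (Φ.obj K) := by
  classical
  -- `P 0`
  have hΦ0 : IsZero (Φ.obj (0 : D)) := Φ.map_isZero (isZero_zero D)
  have hP0 : P (0 : D) := (hP 0).2 (hiso (hΦ0.iso (isZero_zero D')).symm h0)
  -- choices
  choose sel hsel using hess
  have hselP : ∀ (K' : D') (h' : P' K'), P (sel K' h') := fun K' h' =>
    (hP _).2 (hiso (hsel K' h').some.symm h')
  -- forward map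
  let fwd₀ : FreeAbelianGroup (Subtype P) →+ KZero.K0tr P' :=
    FreeAbelianGroup.lift (fun X => KZero.clTr P' (Φ.obj X.1))
  have hfwd : KZero.relTr P ≤ fwd₀.ker := by
    refine (AddSubgroup.closure_le _).2 ?_
    rintro x ⟨T, h₁, h₂, h₃, hT, rfl⟩
    have hT' := Φ.map_distinguished T hT
    have := clTr_triangle P' _ hT' ((hP _).1 h₁) ((hP _).1 h₂) ((hP _).1 h₃)
    change KZero.clTr P' (Φ.obj T.obj₂) = KZero.clTr P' (Φ.obj T.obj₁) +
      KZero.clTr P' (Φ.obj T.obj₃) at this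
    have e1 : fwd₀ (FreeAbelianGroup.of ⟨T.obj₁, h₁⟩) = KZero.clTr P' (Φ.obj T.obj₁) :=
      FreeAbelianGroup.lift_apply_of _ _
    have e2 : fwd₀ (FreeAbelianGroup.of ⟨T.obj₂, h₂⟩) = KZero.clTr P' (Φ.obj T.obj₂) :=
      FreeAbelianGroup.lift_apply_of _ _
    have e3 : fwd₀ (FreeAbelianGroup.of ⟨T.obj₃, h₃⟩) = KZero.clTr P' (Φ.obj T.obj₃) :=
      FreeAbelianGroup.lift_apply_of _ _
    rw [SetLike.mem_coe, AddMonoidHom.mem_ker, map_sub, map_sub, e1, e2, e3, this]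
    abel
  let fwd : KZero.K0tr P →+ KZero.K0tr P' := QuotientAddGroup.lift (KZero.relTr P) fwd₀ hfwd
  -- backward map
  let bwd₀ : FreeAbelianGroup (Subtype P') →+ KZero.K0tr P :=
    FreeAbelianGroup.lift (fun X' => KZero.clTr P (sel X'.1 X'.2))
  have hbwd : KZero.relTr P' ≤ bwd₀.ker := by
    refine (AddSubgroup.closure_le _).2 ?_
    rintro x ⟨T', h₁, h₂, h₃, hT', rfl⟩
    let e₁ := (hsel _ h₁).some
    let e₂ := (hsel _ h₂).some
    let e₃ := (hsel _ h₃).some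
    let f : sel _ h₁ ⟶ sel _ h₂ := Φ.preimage (e₁.hom ≫ T'.mor₁ ≫ e₂.inv)
    obtain ⟨C, g, h, hdist⟩ := distinguished_cocone_triangle f
    have hΦdist := Φ.map_distinguished _ hdist
    have comm : (Φ.mapTriangle.obj (Triangle.mk f g h)).mor₁ ≫ e₂.hom = e₁.hom ≫ T'.mor₁ := by
      change Φ.map f ≫ e₂.hom = e₁.hom ≫ T'.mor₁
      simp only [f, Functor.map_preimage, Category.assoc, Iso.inv_hom_id, Category.comp_id]
    let ι := isoTriangleOfIso₁₂ _ _ hΦdist hT' e₁ e₂ comm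
    let e₃' : Φ.obj C ≅ T'.obj₃ := Triangle.π₃.mapIso ι
    have hC' : P' (Φ.obj C) := hiso e₃'.symm h₃
    have hC : P C := (hP _).2 hC'
    have hCK : C ≅ sel _ h₃ := Φ.preimageIso (e₃' ≪≫ e₃.symm)
    have h1 := clTr_triangle P _ hdist (hselP _ h₁) (hselP _ h₂) hC
    change KZero.clTr P (sel _ h₂) = KZero.clTr P (sel _ h₁) + KZero.clTr P C at h1
    have h2 := clTr_iso P hP0 hCK hC (hselP _ h₃)
    have e1 : bwd₀ (FreeAbelianGroup.of ⟨T'.obj₁, h₁⟩) = KZero.clTr P (sel _ h₁) :=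
      FreeAbelianGroup.lift_apply_of _ _
    have e2 : bwd₀ (FreeAbelianGroup.of ⟨T'.obj₂, h₂⟩) = KZero.clTr P (sel _ h₂) :=
      FreeAbelianGroup.lift_apply_of _ _
    have e3 : bwd₀ (FreeAbelianGroup.of ⟨T'.obj₃, h₃⟩) = KZero.clTr P (sel _ h₃) :=
      FreeAbelianGroup.lift_apply_of _ _
    rw [SetLike.mem_coe, AddMonoidHom.mem_ker, map_sub, map_sub, e1, e2, e3, h1, h2]
    abel
  let bwd : KZero.K0tr P' →+ KZero.K0tr P := QuotientAddGroup.lift (KZero.relTr P') bwd₀ hbwd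
  -- values on classes
  have hfwd_cl : ∀ (K : D) (hK : P K), fwd (KZero.clTr P K) = KZero.clTr P' (Φ.obj K) := by
    intro K hK
    rw [clTr_eq P hK]
    exact FreeAbelianGroup.lift_apply_of _ _
  have hbwd_cl : ∀ (K' : D') (hK' : P' K'), bwd (KZero.clTr P' K') = KZero.clTr P (sel K' hK') := by
    intro K' hK'
    rw [clTr_eq P' hK']
    exact FreeAbelianGroup.lift_apply_of _ _
  have h₁ : bwd.comp fwd = AddMonoidHom.id _ := by
    apply QuotientAddGroup.addMonoidHom_ext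
    apply FreeAbelianGroup.lift_ext
    rintro ⟨K, hK⟩
    change bwd (fwd (QuotientAddGroup.mk (FreeAbelianGroup.of ⟨K, hK⟩))) =
      QuotientAddGroup.mk (FreeAbelianGroup.of ⟨K, hK⟩)
    rw [← clTr_eq P hK, hfwd_cl K hK, hbwd_cl _ ((hP K).1 hK)]
    exact clTr_iso P hP0 (Φ.preimageIso (hsel _ ((hP K).1 hK)).some) (hselP _ _) hK
  have h₂ : fwd.comp bwd = AddMonoidHom.id _ := by
    apply QuotientAddGroup.addMonoidHom_ext
    apply FreeAbelianGroup.lift_ext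
    rintro ⟨K', hK'⟩
    change fwd (bwd (QuotientAddGroup.mk (FreeAbelianGroup.of ⟨K', hK'⟩))) =
      QuotientAddGroup.mk (FreeAbelianGroup.of ⟨K', hK'⟩)
    rw [← clTr_eq P' hK', hbwd_cl K' hK', hfwd_cl _ (hselP _ hK')]
    exact clTr_iso P' h0 (hsel K' hK').some ((hP _).1 (hselP _ hK')) hK'
  exact ⟨AddMonoidHom.toAddEquiv fwd bwd h₁ h₂, fun K hK => hfwd_cl K hK⟩

end Groth.Agent.Lib.Helper69.K0TrK1
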