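import Mathlib

/-!
# Pointwise fpqc descent at stalks (for S13749)
-/

universe u

open CategoryTheory CategoryTheory.Limits AlgebraicGeometry TopologicalSpace

namespace Groth.Agent.Lib.Helper69.NeronDescP

set_option backward.isDefEq.respectTransparency.types false in
/-- The stalk map of a flat morphism induces a flat surjective morphism of local spectra. -/
theorem flat_surjective_SpecMap_stalkMap {Y Y' : Scheme.{u}} (π : Y' ⟶ Y) [Flat π] (y' : Y') :
    Flat (Spec.map (π.stalkMap y')) ∧ Surjective (Spec.map (π.stalkMap y')) := by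
  rw [flat_and_surjective_SpecMap_iff]
  algebraize [(π.stalkMap y').hom]
  have : Module.FaithfullyFlat (Y.presheaf.stalk (π y')) (Y'.presheaf.stalk y') :=
    @Module.FaithfullyFlat.of_flat_of_isLocalHom _ _ _ _ _ _ _
      (Flat.stalkMap π y') (π.toLRSHom.prop y')
  exact ‹RingHom.FaithfullyFlat _›

/-- fpqc descent at stalks: a morphism `h' : Y' ⟶ N` equalizing the two projections of
`Y' ×_Y Y'` descends along `Spec 𝒪_{Y',y'} ⟶ Spec 𝒪_{Y,π y'}`. -/
theorem exists_desc_stalk {Y Y' N : Scheme.{u}} (π : Y' ⟶ Y) [Flat π]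
    (h' : Y' ⟶ N) (hdesc : pullback.fst π π ≫ h' = pullback.snd π π ≫ h') (y' : Y') :
    ∃ φ : Spec (Y.presheaf.stalk (π y')) ⟶ N,
      Spec.map (π.stalkMap y') ≫ φ = Y'.fromSpecStalk y' ≫ h' := by
  obtain ⟨hfl, hsurj⟩ := flat_surjective_SpecMap_stalkMap π y'
  have : EffectiveEpi (Spec.map (π.stalkMap y')) := inferInstance
  have key : ∀ {Z : Scheme.{u}} (g₁ g₂ : Z ⟶ Spec (Y'.presheaf.stalk y')),
      g₁ ≫ Spec.map (π.stalkMap y') = g₂ ≫ Spec.map (π.stalkMap y') →
        g₁ ≫ Y'.fromSpecStalk y' ≫ h' = g₂ ≫ Y'.fromSpecStalk y' ≫ h' := by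
    intro Z g₁ g₂ hg
    have hcomm : (g₁ ≫ Y'.fromSpecStalk y') ≫ π = (g₂ ≫ Y'.fromSpecStalk y') ≫ π := by
      rw [Category.assoc, Category.assoc, ← Scheme.SpecMap_stalkMap_fromSpecStalk,
        reassoc_of% hg]
    have h1 := congr(pullback.lift _ _ hcomm ≫ $hdesc)
    rw [pullback.lift_fst_assoc, pullback.lift_snd_assoc] at h1
    simpa using h1
  exact ⟨EffectiveEpi.desc (Spec.map (π.stalkMap y')) (Y'.fromSpecStalk y' ≫ h') key,
    EffectiveEpi.fac _ _ key⟩

end Groth.Agent.Lib.Helper69.NeronDescP
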