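import Mathlib
import Groth.Agent.Lib.Helper45.NeronDescT
import Groth.Agent.Lib.Helper69.NeronDescP

/-!
# Local extension at a point (for S13749)
-/

universe u

open CategoryTheory CategoryTheory.Limits AlgebraicGeometry TopologicalSpace

namespace Groth.Agent.Lib.Helper69.NeronDescL

open Groth.Agent.Lib.Helper69

/-- Topological lemma on a locally Noetherian scheme. -/
theorem exists_nhd_inter_le {Y : Scheme.{u}} [IsLocallyNoetherian Y] (O O₀ : Y.Opens)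
    (h₀ : O₀ ≤ O) (y : Y) (hy : ∀ ξ : Y, ξ ∈ O → ξ ⤳ y → ξ ∈ O₀) :
    ∃ W' : Y.Opens, y ∈ W' ∧ W' ⊓ O ≤ O₀ := by
  obtain ⟨_, ⟨A : Y.Opens, hA, rfl⟩, hyA, -⟩ :=
    Y.isBasis_affineOpens.exists_subset_of_mem_open (Set.mem_univ y) isOpen_univ
  have : IsNoetherianRing Γ(Y, A) := IsLocallyNoetherian.component_noetherian ⟨A, hA⟩
  have hN : NoetherianSpace A := noetherianSpace_of_isAffineOpen A hA
  have hQ : QuasiSober A := inferInstanceAs (QuasiSober A.toScheme)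
  obtain ⟨W', hW'o, hyW', hW'⟩ :=
    @Groth.Agent.Lib.Helper45.NeronDescT.exists_open_nhd_inter_subset
      A _ hN hQ (Subtype.val ⁻¹' (O : Set Y)) (Subtype.val ⁻¹' (O₀ : Set Y))
      (O.2.preimage continuous_subtype_val) (O₀.2.preimage continuous_subtype_val)
      (Set.preimage_mono h₀) ⟨y, hyA⟩
      (fun ξ hξ hsp => hy ξ.1 hξ ((subtype_specializes_iff ξ ⟨y, hyA⟩).1 hsp))
  refine ⟨⟨Subtype.val '' W', A.2.isOpenMap_subtype_val _ hW'o⟩, ⟨⟨y, hyA⟩, hyW', rfl⟩, ?_⟩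
  rintro x ⟨⟨z, hz, rfl⟩, hxO⟩
  exact hW' ⟨hz, hxO⟩

/-- Two morphisms which agree locally agree. -/
theorem eq_of_locally_eq {X N : Scheme.{u}} (α β : X ⟶ N)
    (h : ∀ x : X, ∃ T : X.Opens, x ∈ T ∧ T.ι ≫ α = T.ι ≫ β) : α = β := by
  choose T hxT hT using h
  have hcov : IsOpenCover T := eq_top_iff.2 fun x _ => Opens.mem_iSup.2 ⟨x, hxT x⟩
  exact Scheme.Cover.hom_ext (X.openCoverOfIsOpenCover T hcov) _ _ (fun x => hT x)

/-- Agreement of germs at generizations. -/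
theorem germ_agree {Y Y' N : Scheme.{u}} (V W₁ : Y.Opens) (a : V.toScheme ⟶ N)
    (ψ : W₁.toScheme ⟶ N) (p : Y' ⟶ Y) [Flat p] (h' : Y' ⟶ N)
    (hagree : (p ⁻¹ᵁ V).ι ≫ h' = (p ∣_ V) ≫ a)
    (y' : Y') (hyW₁ : p y' ∈ W₁) (φ₀ : Spec (Y.presheaf.stalk (p y')) ⟶ N)
    (hφ₀ : Spec.map (p.stalkMap y') ≫ φ₀ = Y'.fromSpecStalk y' ≫ h')
    (hψ : φ₀ = W₁.fromSpecStalkOfMem (p y') hyW₁ ≫ ψ)
    (ξ' : Y') (hξ' : ξ' ⤳ y') (hξW : p ξ' ∈ W₁) (hξV : p ξ' ∈ V) :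
    W₁.fromSpecStalkOfMem (p ξ') hξW ≫ ψ = V.fromSpecStalkOfMem (p ξ') hξV ≫ a := by
  obtain ⟨hfl, hsurj⟩ := NeronDescP.flat_surjective_SpecMap_stalkMap p ξ'
  have hepi : Epi (Spec.map (p.stalkMap ξ')) := Flat.epi_of_flat_of_surjective _
  rw [← cancel_epi (Spec.map (p.stalkMap ξ'))]
  have hR : Spec.map (p.stalkMap ξ') ≫ V.fromSpecStalkOfMem (p ξ') hξV ≫ a =
      Y'.fromSpecStalk ξ' ≫ h' := by
    have h1 : Spec.map (p.stalkMap ξ') ≫ V.fromSpecStalkOfMem (p ξ') hξV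
        = (p ⁻¹ᵁ V).fromSpecStalkOfMem ξ' hξV ≫ (p ∣_ V) := by
      rw [← cancel_mono V.ι]
      simp only [Category.assoc, Scheme.Opens.fromSpecStalkOfMem_ι, morphismRestrict_ι,
        Scheme.Opens.fromSpecStalkOfMem_ι_assoc, Scheme.SpecMap_stalkMap_fromSpecStalk]
    rw [reassoc_of% h1, ← hagree, Scheme.Opens.fromSpecStalkOfMem_ι_assoc]
  have hL : Spec.map (p.stalkMap ξ') ≫ W₁.fromSpecStalkOfMem (p ξ') hξW ≫ ψ =
      Y'.fromSpecStalk ξ' ≫ h' := by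
    have hsp : p ξ' ⤳ p y' := p.base.hom.map_specializes hξ'
    have h2 : W₁.fromSpecStalkOfMem (p ξ') hξW =
        Spec.map (Y.presheaf.stalkSpecializes hsp) ≫ W₁.fromSpecStalkOfMem (p y') hyW₁ := by
      rw [← cancel_mono W₁.ι]
      simp only [Category.assoc, Scheme.Opens.fromSpecStalkOfMem_ι,
        Scheme.SpecMap_stalkSpecializes_fromSpecStalk]
    have h3 : Spec.map (p.stalkMap ξ') ≫ Spec.map (Y.presheaf.stalkSpecializes hsp) =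
        Spec.map (Y'.presheaf.stalkSpecializes hξ') ≫ Spec.map (p.stalkMap y') := by
      rw [← Spec.map_comp, ← Spec.map_comp, Scheme.Hom.stalkSpecializes_stalkMap]
    rw [h2, Category.assoc, ← hψ, reassoc_of% h3, hφ₀,
      Scheme.SpecMap_stalkSpecializes_fromSpecStalk_assoc]
  rw [hL, hR]


set_option maxHeartbeats 800000 in
/-- The local extension at a point: exactly the `hloc` hypothesis of helper65's `[G]`. -/
theorem exists_local_extension {Y Y' N S : Scheme.{u}} [IsLocallyNoetherian Y]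
    (q : Y ⟶ S) (πN : N ⟶ S) [LocallyOfFiniteType πN]
    (V : Y.Opens) (a : V.toScheme ⟶ N)
    (p : Y' ⟶ Y) [Flat p] [Surjective p] (h' : Y' ⟶ N) (hh' : h' ≫ πN = p ≫ q)
    (hagree : (p ⁻¹ᵁ V).ι ≫ h' = (p ∣_ V) ≫ a)
    (hdesc : pullback.fst p p ≫ h' = pullback.snd p p ≫ h') (y : Y) :
    ∃ (W : Y.Opens) (_ : y ∈ W) (f : W.toScheme ⟶ N), f ≫ πN = W.ι ≫ q ∧
      Y.homOfLE (inf_le_left : W ⊓ V ≤ W) ≫ f = Y.homOfLE (inf_le_right : W ⊓ V ≤ V) ≫ a := by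
  obtain ⟨y', rfl⟩ := p.surjective y
  obtain ⟨φ₀, hφ₀⟩ := NeronDescP.exists_desc_stalk p h' hdesc y'
  obtain ⟨hfl, hsurj⟩ := NeronDescP.flat_surjective_SpecMap_stalkMap p y'
  have hepi : Epi (Spec.map (p.stalkMap y')) := Flat.epi_of_flat_of_surjective _
  have hφ₀S : φ₀ ≫ πN = Y.fromSpecStalk (p y') ≫ q := by
    rw [← cancel_epi (Spec.map (p.stalkMap y')), reassoc_of% hφ₀, hh',
      Scheme.SpecMap_stalkMap_fromSpecStalk_assoc]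
  obtain ⟨W₁, hyW₁, ψ, hψ, hψS⟩ := spread_out_of_isGermInjective' q πN φ₀ hφ₀S
  -- the two morphisms on `Z = W₁ ⊓ V`
  let Z : Y.Opens := W₁ ⊓ V
  let α : Z.toScheme ⟶ N := Y.homOfLE (inf_le_left : Z ≤ W₁) ≫ ψ
  let β : Z.toScheme ⟶ N := Y.homOfLE (inf_le_right : Z ≤ V) ≫ a
  let E : Z.toScheme.Opens := sSup {T : Z.toScheme.Opens | T.ι ≫ α = T.ι ≫ β}
  let O₀ : Y.Opens := Z.ι ''ᵁ E
  have hO₀Z : O₀ ≤ Z := by
    rintro x ⟨w, -, rfl⟩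
    exact w.2
  have hgen : ∀ ξ : Y, ξ ∈ Z → ξ ⤳ p y' → ξ ∈ O₀ := by
    intro ξ hξZ hξy
    obtain ⟨ξ', hξ', rfl⟩ := (Flat.generalizingMap p) hξy
    have key := germ_agree V W₁ a ψ p h' hagree y' hyW₁ φ₀ hφ₀ hψ ξ' hξ' hξZ.1 hξZ.2
    have e1 : Z.fromSpecStalkOfMem (p ξ') hξZ ≫ Y.homOfLE (inf_le_left : Z ≤ W₁) =
        W₁.fromSpecStalkOfMem (p ξ') hξZ.1 := by
      rw [← cancel_mono W₁.ι]
      simp only [Category.assoc, Scheme.homOfLE_ι, Scheme.Opens.fromSpecStalkOfMem_ι]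
    have e2 : Z.fromSpecStalkOfMem (p ξ') hξZ ≫ Y.homOfLE (inf_le_right : Z ≤ V) =
        V.fromSpecStalkOfMem (p ξ') hξZ.2 := by
      rw [← cancel_mono V.ι]
      simp only [Category.assoc, Scheme.homOfLE_ι, Scheme.Opens.fromSpecStalkOfMem_ι]
    have e3 : Z.fromSpecStalkOfMem (p ξ') hξZ ≫ α = Z.fromSpecStalkOfMem (p ξ') hξZ ≫ β := by
      simp only [α, β]
      rw [reassoc_of% e1, reassoc_of% e2, key]
    have e4 : Z.toScheme.fromSpecStalk ⟨p ξ', hξZ⟩ ≫ α =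
        Z.toScheme.fromSpecStalk ⟨p ξ', hξZ⟩ ≫ β := by
      unfold Scheme.Opens.fromSpecStalkOfMem at e3
      rw [Category.assoc, Category.assoc] at e3
      exact (cancel_epi _).1 e3
    obtain ⟨T, hT, hTe⟩ := spread_out_unique_of_isGermInjective' α β e4
    exact ⟨⟨p ξ', hξZ⟩, Opens.mem_sSup.2 ⟨T, hTe, hT⟩, rfl⟩
  obtain ⟨W', hyW', hW'⟩ := exists_nhd_inter_le Z O₀ hO₀Z (p y') hgen
  refine ⟨W₁ ⊓ W', ⟨hyW₁, hyW'⟩, Y.homOfLE (inf_le_left : W₁ ⊓ W' ≤ W₁) ≫ ψ, ?_, ?_⟩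
  · rw [Category.assoc, hψS, Scheme.homOfLE_ι_assoc]
  · have hle : W₁ ⊓ W' ⊓ V ≤ Z := fun x hx => ⟨hx.1.1, hx.2⟩
    have hα : Y.homOfLE (inf_le_left : W₁ ⊓ W' ⊓ V ≤ W₁ ⊓ W') ≫
        Y.homOfLE (inf_le_left : W₁ ⊓ W' ≤ W₁) ≫ ψ = Y.homOfLE hle ≫ α := by
      simp only [α, Scheme.homOfLE_homOfLE_assoc]
    have hβ : Y.homOfLE (inf_le_right : W₁ ⊓ W' ⊓ V ≤ V) ≫ a = Y.homOfLE hle ≫ β := by
      simp only [β, Scheme.homOfLE_homOfLE_assoc]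
    rw [hα, hβ]
    apply eq_of_locally_eq
    intro x
    have hx0 : x.1 ∈ O₀ := hW' ⟨x.2.1.2, x.2.1.1, x.2.2⟩
    obtain ⟨w, hwE, hwx⟩ := hx0
    obtain ⟨T, hTe, hwT⟩ := Opens.mem_sSup.1 hwE
    have hwj : (Y.homOfLE hle) x = w := by
      apply Z.ι.isOpenEmbedding.injective
      have h5 := congr($(Y.homOfLE_ι hle) x)
      rw [Scheme.Hom.comp_apply] at h5
      exact h5.trans hwx.symm
    refine ⟨(Y.homOfLE hle) ⁻¹ᵁ T, by show (Y.homOfLE hle) x ∈ T; rw [hwj]; exact hwT, ?_⟩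
    rw [← morphismRestrict_ι_assoc, ← morphismRestrict_ι_assoc, hTe]

end Groth.Agent.Lib.Helper69.NeronDescL
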