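import Mathlib
import Groth.Agent.Lib.Helper51.NeronDescD
import Groth.Agent.Lib.Helper71.NeronDescG
import Groth.Agent.Lib.Helper14.NeronDescC
import Groth.Agent.Lib.Helper69.NeronDescL

/-!
# Plain-scheme form of the descent of the Néron mapping property (for S13749)
-/

universe u

open CategoryTheory CategoryTheory.Limits AlgebraicGeometry TopologicalSpace

namespace Groth.Agent.Lib.Helper69.NeronDescM

/-- Uniqueness of extensions from the (schematically dense) preimage of `U`. -/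
theorem ext_of_restrict {S Y N : Scheme.{u}} [IsLocallyNoetherian S] (U : S.Opens)
    (hU : CInt.IsSchematicallyDense U) (q : Y ⟶ S) [Flat q]
    (πN : N ⟶ S) [IsSeparated πN] (b₁ b₂ : Y ⟶ N) (h₁ : b₁ ≫ πN = q) (h₂ : b₂ ≫ πN = q)
    (h : (q ⁻¹ᵁ U).ι ≫ b₁ = (q ⁻¹ᵁ U).ι ≫ b₂) : b₁ = b₂ := by
  haveI : QuasiCompact U.ι := inferInstance
  haveI : IsSchemeTheoreticallyDominant U.ι :=
    Groth.Agent.Lib.Helper72.SchDense.dominant_of_isSchematicallyDense U hU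
  haveI : IsSchemeTheoreticallyDominant (q ⁻¹ᵁ U).ι :=
    IsSchemeTheoreticallyDominant.of_isPullback (isPullback_morphismRestrict q U)
  exact Groth.Agent.Lib.Helper71.NeronDescG.ext_of_schDominant_of_isSeparated πN
    (h₁.trans h₂.symm) (q ⁻¹ᵁ U).ι h

/-- Existence and uniqueness of the extension in plain-scheme form. -/
theorem existsUnique_extension {S Y Y' N : Scheme.{u}} [IsLocallyNoetherian S] (U : S.Opens)
    (hU : CInt.IsSchematicallyDense U) (q : Y ⟶ S) [Flat q] [LocallyOfFiniteType q]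
    (πN : N ⟶ S) [IsSeparated πN] [LocallyOfFiniteType πN]
    (p : Y' ⟶ Y) [Flat p] [Surjective p]
    (a : (q ⁻¹ᵁ U).toScheme ⟶ N) (ha : a ≫ πN = (q ⁻¹ᵁ U).ι ≫ q)
    (h' : Y' ⟶ N) (hh' : h' ≫ πN = p ≫ q)
    (hagree : (p ⁻¹ᵁ q ⁻¹ᵁ U).ι ≫ h' = (p ∣_ (q ⁻¹ᵁ U)) ≫ a) :
    ∃! b : Y ⟶ N, b ≫ πN = q ∧ (q ⁻¹ᵁ U).ι ≫ b = a := by
  have : IsLocallyNoetherian Y := LocallyOfFiniteType.isLocallyNoetherian q
  have hdesc := Groth.Agent.Lib.Helper14.NeronDescC.cocycle U hU q p πN a h' hh' hagree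
  obtain ⟨b, hb₁, hb₂⟩ := Groth.Agent.Lib.Helper71.NeronDescG.glue_of_local q πN (q ⁻¹ᵁ U)
    (Groth.Agent.Lib.Helper51.NeronDescD.dominant_homOfLE_of_flat q U hU) a ha
    (fun y => Groth.Agent.Lib.Helper69.NeronDescL.exists_local_extension q πN (q ⁻¹ᵁ U) a p h'
      hh' hagree hdesc y)
  refine ⟨b, ⟨hb₁, hb₂⟩, ?_⟩
  rintro b' ⟨hb'₁, hb'₂⟩
  exact ext_of_restrict U hU q πN b' b hb'₁ hb₁ (hb'₂.trans hb₂.symm)

end Groth.Agent.Lib.Helper69.NeronDescM
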