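import Mathlib
import Groth.Agent.Lib.Helper69.NeronDescM

/-!
# Final assembly for S13749 (statement-shaped)
-/

universe u

open CategoryTheory CategoryTheory.Limits AlgebraicGeometry

namespace Groth.Agent.Lib.Helper69.NeronDescF

open Groth.Agent.Lib.Helper69

set_option maxHeartbeats 1600000 in
theorem main
    {S S' : Scheme.{u}} [IsLocallyNoetherian S] (g : S' ⟶ S) [Flat g] [Surjective g]
    (U : S.Opens) (hU : CInt.IsSchematicallyDense U)
    (N : Over S) [Smooth N.hom] [IsSeparated N.hom] [QuasiCompact N.hom]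
    (hN' : ∀ Y' : Over S', Smooth Y'.hom →
      Function.Bijective (fun f : Y' ⟶ (Over.pullback g).obj N => (Over.pullback (g ⁻¹ᵁ U).ι).map f))
    (Y : Over S) [Smooth Y.hom] :
    Function.Bijective (fun f : Y ⟶ N => (Over.pullback U.ι).map f) := by
  constructor
  · -- injectivity
    intro f₁ f₂ h
    have h1 : pullback.fst Y.hom U.ι ≫ f₁.left = pullback.fst Y.hom U.ι ≫ f₂.left := by
      have := congr(($h).left ≫ pullback.fst N.hom U.ι)
      simp only [Over.pullback_map_left] at this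
      erw [pullback.lift_fst, pullback.lift_fst] at this
      exact this
    have h2 : (Y.hom ⁻¹ᵁ U).ι ≫ f₁.left = (Y.hom ⁻¹ᵁ U).ι ≫ f₂.left := by
      rw [← pullbackRestrictIsoRestrict_inv_fst, Category.assoc, Category.assoc, h1]
    apply Over.OverMorphism.ext
    exact NeronDescM.ext_of_restrict U hU Y.hom N.hom f₁.left f₂.left (Over.w f₁) (Over.w f₂) h2
  · -- surjectivity
    intro v
    let a : (Y.hom ⁻¹ᵁ U).toScheme ⟶ N.left :=
      (pullbackRestrictIsoRestrict Y.hom U).inv ≫ v.left ≫ pullback.fst N.hom U.ι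
    have hvw : v.left ≫ pullback.snd N.hom U.ι = pullback.snd Y.hom U.ι := Over.w v
    have ha : a ≫ N.hom = (Y.hom ⁻¹ᵁ U).ι ≫ Y.hom := by
      simp only [a, Category.assoc]
      rw [pullback.condition, reassoc_of% hvw, ← pullback.condition,
        pullbackRestrictIsoRestrict_inv_fst_assoc]
    -- base change to `S'`
    let Y' : Over S' := (Over.pullback g).obj Y
    have hsm : Smooth Y'.hom := by
      show Smooth (pullback.snd Y.hom g)
      infer_instance
    let p : pullback Y.hom g ⟶ Y.left := pullback.fst Y.hom g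
    let j' : (g ⁻¹ᵁ U).toScheme ⟶ S' := (g ⁻¹ᵁ U).ι
    have e_op : (pullback.snd Y.hom g) ⁻¹ᵁ (g ⁻¹ᵁ U) = p ⁻¹ᵁ Y.hom ⁻¹ᵁ U := by
      rw [← Scheme.Hom.comp_preimage, ← Scheme.Hom.comp_preimage, pullback.condition]
    let ℓ : pullback (pullback.snd Y.hom g) j' ≅ (p ⁻¹ᵁ Y.hom ⁻¹ᵁ U).toScheme :=
      pullbackRestrictIsoRestrict (pullback.snd Y.hom g) (g ⁻¹ᵁ U) ≪≫ Scheme.isoOfEq _ e_op
    have hℓ : ℓ.hom ≫ (p ⁻¹ᵁ Y.hom ⁻¹ᵁ U).ι = pullback.fst (pullback.snd Y.hom g) j' := by
      simp [ℓ, j']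
    let α : pullback (pullback.snd Y.hom g) j' ⟶ N.left := ℓ.hom ≫ (p ∣_ (Y.hom ⁻¹ᵁ U)) ≫ a
    have c₁ : α ≫ N.hom =
        (pullback.fst (pullback.snd Y.hom g) j' ≫ pullback.snd Y.hom g) ≫ g := by
      simp only [α, Category.assoc]
      rw [ha, morphismRestrict_ι_assoc, reassoc_of% hℓ, pullback.condition]
    have c₂ : pullback.lift α (pullback.fst (pullback.snd Y.hom g) j' ≫ pullback.snd Y.hom g) c₁ ≫
        pullback.snd N.hom g = pullback.snd (pullback.snd Y.hom g) j' ≫ j' := by
      rw [pullback.lift_snd, pullback.condition]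
    let v' : (Over.pullback j').obj Y' ⟶ (Over.pullback j').obj ((Over.pullback g).obj N) :=
      Over.homMk (pullback.lift (pullback.lift α
        (pullback.fst (pullback.snd Y.hom g) j' ≫ pullback.snd Y.hom g) c₁)
        (pullback.snd (pullback.snd Y.hom g) j') c₂) (by
          exact pullback.lift_snd _ _ _)
    obtain ⟨f', hf'⟩ := (hN' Y' hsm).2 v'
    have key : pullback.fst (pullback.snd Y.hom g) j' ≫ f'.left ≫ pullback.fst N.hom g = α := by
      have := congr(($hf').left ≫ pullback.fst (pullback.snd N.hom g) j' ≫ pullback.fst N.hom g)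
      simp only [Over.pullback_map_left, v', Over.homMk_left] at this
      erw [pullback.lift_fst_assoc, pullback.lift_fst_assoc, pullback.lift_fst] at this
      exact this
    let h' : pullback Y.hom g ⟶ N.left := f'.left ≫ pullback.fst N.hom g
    have hw' : f'.left ≫ pullback.snd N.hom g = pullback.snd Y.hom g := Over.w f'
    have hh' : h' ≫ N.hom = p ≫ Y.hom := by
      simp only [h', p, Category.assoc]
      rw [pullback.condition, reassoc_of% hw', ← pullback.condition]
    have hagree : (p ⁻¹ᵁ Y.hom ⁻¹ᵁ U).ι ≫ h' = (p ∣_ (Y.hom ⁻¹ᵁ U)) ≫ a := by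
      rw [← cancel_epi ℓ.hom, reassoc_of% hℓ]
      exact key
    obtain ⟨b, ⟨hb₁, hb₂⟩, -⟩ :=
      NeronDescM.existsUnique_extension U hU Y.hom N.hom p a ha h' hh' hagree
    refine ⟨Over.homMk b hb₁, ?_⟩
    apply Over.OverMorphism.ext
    show ((Over.pullback U.ι).map (Over.homMk b hb₁)).left = v.left
    simp only [Over.pullback_map_left, Over.homMk_left]
    apply pullback.hom_ext
    · rw [pullback.lift_fst, ← pullbackRestrictIsoRestrict_hom_ι, Category.assoc, hb₂]
      simp [a]
    · rw [pullback.lift_snd]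
      exact hvw.symm

end Groth.Agent.Lib.Helper69.NeronDescF
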