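import Mathlib
import Groth.Agent.Lib.Helper73.DimFormula.QuasiSection
import Groth.Agent.Lib.Helper47.Cyc1941FIN

/-!
# [FC] for helper52's S13422: every nonempty closed subset of a scheme locally of finite type over `S`
contains a point with finite residue field extension (a point closed in its fibre).
-/

set_option autoImplicit false
universe u
open CategoryTheory CategoryTheory.Limits AlgebraicGeometry

namespace Groth.Agent.Lib.Helper69.NeronUnqFC

open Groth.Agent.Lib.Helper73

theorem exists_mem_closed_in_fiber {Z S : Scheme.{u}} (q : Z ⟶ S) [LocallyOfFiniteType q]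
    (C : Set Z) (hC : IsClosed C) (hne : C.Nonempty) :
    ∃ c ∈ C, ∀ x' : Z, q x' = q c → c ⤳ x' → x' = c := by
  obtain ⟨z, hz⟩ := hne
  haveI : LocallyOfFiniteType (q.fiberToSpecResidueField (q z)) := inferInstance
  haveI : JacobsonSpace (q.fiber (q z)) :=
    LocallyOfFiniteType.jacobsonSpace (q.fiberToSpecResidueField (q z))
  have hC' : IsClosed ((q.fiberι (q z)) ⁻¹' C) := hC.preimage (q.fiberι (q z)).continuous
  have hne' : ((q.fiberι (q z)) ⁻¹' C).Nonempty := ⟨q.asFiber z, by
    change q.fiberι (q z) (q.asFiber z) ∈ C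
    rw [q.fiberι_asFiber z]; exact hz⟩
  obtain ⟨c', hc'C, hc'cl⟩ := nonempty_inter_closedPoints hne' hC'.isLocallyClosed
  have hqc : q (q.fiberι (q z) c') = q z := by
    have : q.fiberι (q z) c' ∈ Set.range (q.fiberι (q z)) := ⟨c', rfl⟩
    rw [q.range_fiberι (q z)] at this
    exact this
  refine ⟨q.fiberι (q z) c', hc'C, ?_⟩
  intro x' hfx' hsp
  let c'' : q.fiber (q z) := (q.fiberHomeo (q z)).symm ⟨x', hfx'.trans hqc⟩
  have hc'' : q.fiberι (q z) c'' = x' := q.fiberι_fiberHomeo_symm _ ⟨x', hfx'.trans hqc⟩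
  have h1 : c' ⤳ c'' := by
    rw [← (q.fiberι (q z)).isEmbedding.isInducing.specializes_iff, hc'']
    exact hsp
  have h2 : c'' ∈ closure {c'} := h1.mem_closed isClosed_closure (subset_closure rfl)
  have h3 : IsClosed ({c'} : Set (q.fiber (q z))) := hc'cl
  rw [h3.closure_eq] at h2
  rw [← hc'', h2]

theorem exists_mem_finite_residueFieldMap {Z S : Scheme.{u}} (q : Z ⟶ S) [LocallyOfFiniteType q]
    (C : Set Z) (hC : IsClosed C) (hne : C.Nonempty) :
    ∃ c ∈ C, (q.residueFieldMap c).hom.Finite := by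
  obtain ⟨c, hcC, hcl⟩ := exists_mem_closed_in_fiber q C hC hne
  refine ⟨c, hcC, ?_⟩
  have h0 := resTrdegNat_eq_zero_of_closed_in_fiber q c hcl
  have h1 : resTrdeg q c = 0 := by
    rw [resTrdeg_eq_resTrdegNat q c, h0]; simp
  exact Groth.Agent.Lib.Helper47.Cyc1941FIN.finite_residueField_of_trdeg_eq_zero q c h1

end Groth.Agent.Lib.Helper69.NeronUnqFC
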