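import Mathlib
import Groth.Agent.Lib.Helper80.Node.Defs

set_option autoImplicit false
universe u
open Groth.Agent.Lib.Helper80.Node

namespace Groth.Agent.Lib.Helper69.NodeDES

lemma exists_eq_mul_mul {B : Type u} [CommRing B] (x y : B) (hy : (Ideal.span {y}).IsPrime)
    (hyx : x ∉ Ideal.span {y}) (z : B) (hzx : z ∈ Ideal.span {x}) (hzy : z ∈ Ideal.span {y}) :
    ∃ z₂, z = x * y * z₂ := by
  obtain ⟨z₁, rfl⟩ := Ideal.mem_span_singleton'.mp hzx
  have : z₁ ∈ Ideal.span {y} := (hy.mem_or_mem hzy).resolve_right hyx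
  obtain ⟨z₂, rfl⟩ := Ideal.mem_span_singleton'.mp this
  exact ⟨z₂, by ring⟩

theorem des {B : Type u} [CommRing B] (x y : B) (hx : (Ideal.span {x}).IsPrime)
    (hy : (Ideal.span {y}).IsPrime) (hxy : y ∉ Ideal.span {x}) (hyx : x ∉ Ideal.span {y})
    (hxr : x ∈ nonZeroDivisors B) (hyr : y ∈ nonZeroDivisors B)
    (hm : Ideal.span ({x, y} : Set B) ≠ ⊤) (a b : B) (m : ℕ) (c c' e e' : B)
    (h1 : (x * y) ^ m - c * a = e * y) (h2 : -(c * b) = e * x) (h3 : -(c' * a) = e' * y)
    (h4 : (x * y) ^ m - c' * b = e' * x) : b ∈ Ideal.span {x} ∨ a ∈ Ideal.span {y} := by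
  have memx : ∀ z w : B, z = w * x → z ∈ Ideal.span {x} := fun z w h =>
    Ideal.mem_span_singleton'.mpr ⟨w, h.symm⟩
  have memy : ∀ z w : B, z = w * y → z ∈ Ideal.span {y} := fun z w h =>
    Ideal.mem_span_singleton'.mpr ⟨w, h.symm⟩
  induction m generalizing c c' e e' with
  | zero =>
    exfalso
    apply hm
    rw [Ideal.eq_top_iff_one]
    have h : (1 : B) = e' * x + e * y := by
      simp only [pow_zero] at h1 h4
      linear_combination (c' * b) * h1 + (1 - e * y) * h4 + (e * x) * h3 - (c' * a) * h2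
    rw [h]
    exact Ideal.add_mem _ (Ideal.mul_mem_left _ _ (Ideal.subset_span (by simp)))
      (Ideal.mul_mem_left _ _ (Ideal.subset_span (by simp)))
  | succ m ih =>
    by_contra hcon
    push Not at hcon
    obtain ⟨hb, ha⟩ := hcon
    have hpx : (x * y) ^ (m + 1) ∈ Ideal.span {x} :=
      memx _ (y * (x * y) ^ m) (by ring)
    have hpy : (x * y) ^ (m + 1) ∈ Ideal.span {y} :=
      memy _ (x * (x * y) ^ m) (by ring)
    -- modulo x
    have hcx : c ∈ Ideal.span {x} := by
      have : c * b ∈ Ideal.span {x} := memx _ (-e) (by linear_combination (-1 : B) * h2)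
      exact (hx.mem_or_mem this).resolve_right hb
    have hc'x : c' ∈ Ideal.span {x} := by
      have : c' * b ∈ Ideal.span {x} := by
        have h : c' * b = (x * y) ^ (m + 1) - e' * x := by linear_combination (-1 : B) * h4
        rw [h]
        exact Ideal.sub_mem _ hpx (memx _ e' rfl)
      exact (hx.mem_or_mem this).resolve_right hb
    have hex : e ∈ Ideal.span {x} := by
      have : e * y ∈ Ideal.span {x} := by
        rw [← h1]
        exact Ideal.sub_mem _ hpx (Ideal.mul_mem_right _ _ hcx)
      exact (hx.mem_or_mem this).resolve_right hxy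
    have he'x : e' ∈ Ideal.span {x} := by
      have : e' * y ∈ Ideal.span {x} := by
        rw [← h3]
        exact Ideal.neg_mem_iff _ |>.mpr (Ideal.mul_mem_right _ _ hc'x)
      exact (hx.mem_or_mem this).resolve_right hxy
    -- modulo y
    have hcy : c ∈ Ideal.span {y} := by
      have : c * a ∈ Ideal.span {y} := by
        have h : c * a = (x * y) ^ (m + 1) - e * y := by linear_combination (-1 : B) * h1
        rw [h]
        exact Ideal.sub_mem _ hpy (memy _ e rfl)
      exact (hy.mem_or_mem this).resolve_right ha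
    have hc'y : c' ∈ Ideal.span {y} := by
      have : c' * a ∈ Ideal.span {y} := memy _ (-e') (by linear_combination (-1 : B) * h3)
      exact (hy.mem_or_mem this).resolve_right ha
    have hey : e ∈ Ideal.span {y} := by
      have : e * x ∈ Ideal.span {y} := by
        rw [← h2]
        exact Ideal.neg_mem_iff _ |>.mpr (Ideal.mul_mem_right _ _ hcy)
      exact (hy.mem_or_mem this).resolve_right hyx
    have he'y : e' ∈ Ideal.span {y} := by
      have : e' * x ∈ Ideal.span {y} := by
        rw [← h4]
        exact Ideal.sub_mem _ hpy (Ideal.mul_mem_right _ _ hc'y)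
      exact (hy.mem_or_mem this).resolve_right hyx
    obtain ⟨c₂, rfl⟩ := exists_eq_mul_mul x y hy hyx c hcx hcy
    obtain ⟨c'₂, rfl⟩ := exists_eq_mul_mul x y hy hyx c' hc'x hc'y
    obtain ⟨e₂, rfl⟩ := exists_eq_mul_mul x y hy hyx e hex hey
    obtain ⟨e'₂, rfl⟩ := exists_eq_mul_mul x y hy hyx e' he'x he'y
    have hreg : ∀ z : B, (x * y) * z = 0 → z = 0 :=
      mem_nonZeroDivisors_iff_left.mp (Submonoid.mul_mem _ hxr hyr)
    have k1 : (x * y) ^ m - c₂ * a = e₂ * y := by
      have := hreg ((x * y) ^ m - c₂ * a - e₂ * y) (by linear_combination h1)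
      linear_combination this
    have k2 : -(c₂ * b) = e₂ * x := by
      have := hreg (-(c₂ * b) - e₂ * x) (by linear_combination h2)
      linear_combination this
    have k3 : -(c'₂ * a) = e'₂ * y := by
      have := hreg (-(c'₂ * a) - e'₂ * y) (by linear_combination h3)
      linear_combination this
    have k4 : (x * y) ^ m - c'₂ * b = e'₂ * x := by
      have := hreg ((x * y) ^ m - c'₂ * b - e'₂ * x) (by linear_combination h4)
      linear_combination this
    rcases ih c₂ c'₂ e₂ e'₂ k1 k2 k3 k4 with h | h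
    · exact hb h
    · exact ha h

end Groth.Agent.Lib.Helper69.NodeDES
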