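import Mathlib
/-!
# Normal local domains with separably closed fraction field are strictly henselian (helper69)

* `natDegree_eq_one_of_irreducible` : over an integrally closed domain `A` with separably closed
  fraction field, monic irreducible polynomials with nonzero derivative are linear.
* `henselianLocalRing`, `isSepClosed_residueField` : if moreover `A` is local then `A` is henselian
  with separably closed residue field.
-/
set_option autoImplicit false
open Polynomial IsLocalRing
universe u

namespace Groth.Agent.Lib.Helper69.NormalSepClosed

variable (A K : Type u) [CommRing A] [IsDomain A] [IsIntegrallyClosed A]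
  [Field K] [Algebra A K] [IsFractionRing A K] [IsSepClosed K]

include K in
/-- Over an integrally closed domain with separably closed fraction field, a monic irreducible
polynomial with nonzero derivative has degree one. -/
theorem natDegree_eq_one_of_irreducible {f : A[X]} (hf : f.Monic) (hirr : Irreducible f)
    (hder : derivative f ≠ 0) : f.natDegree = 1 := by
  have h1 : Irreducible (f.map (algebraMap A K)) :=
    (Monic.irreducible_iff_irreducible_map_fraction_map (K := K) hf).mp hirr
  have h2 : (f.map (algebraMap A K)).Separable := by
    rw [separable_iff_derivative_ne_zero h1, derivative_map]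
    intro h
    apply hder
    exact Polynomial.map_injective _ (IsFractionRing.injective A K) (by rw [h, Polynomial.map_zero])
  have h3 := IsSepClosed.degree_eq_one_of_irreducible K h1 h2
  have h4 : (f.map (algebraMap A K)).natDegree = 1 := natDegree_eq_of_degree_eq_some h3
  rwa [hf.natDegree_map] at h4

variable [IsLocalRing A]

include K in
theorem exists_root_aux (n : ℕ) : ∀ (f : A[X]), f.natDegree ≤ n → f.Monic → ∀ (a₀ : A),
    f.eval a₀ ∈ maximalIdeal A → IsUnit (f.derivative.eval a₀) →
    ∃ a : A, f.IsRoot a ∧ a - a₀ ∈ maximalIdeal A := by
  induction n with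
  | zero =>
    intro f hn hf a₀ h1 h2
    exfalso
    have : f = 1 := by
      have := hf.natDegree_eq_zero.mp (Nat.le_zero.mp hn)
      exact this
    rw [this, eval_one] at h1
    exact (Ideal.ne_top_iff_one _).mp (maximalIdeal.isMaximal A).ne_top h1
  | succ n ih =>
    intro f hn hf a₀ h1 h2
    by_cases hirr : Irreducible f
    · have hder : derivative f ≠ 0 := by
        intro h
        rw [h, eval_zero] at h2
        exact not_isUnit_zero h2
      have hdeg := natDegree_eq_one_of_irreducible A K hf hirr hder
      -- f = X + C b
      have hfeq : f = X + C (f.coeff 0) := by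
        have := hf.eq_X_add_C hdeg
        exact this
      refine ⟨-f.coeff 0, ?_, ?_⟩
      · rw [IsRoot.def, hfeq]; simp
      · have : f.eval a₀ = a₀ + f.coeff 0 := by
          conv_lhs => rw [hfeq]
          simp
        rw [this] at h1
        have h3 : -f.coeff 0 - a₀ = -(a₀ + f.coeff 0) := by ring
        rw [h3]
        exact neg_mem h1
    · rw [hf.irreducible_iff_natDegree'] at hirr
      push Not at hirr
      have hne : f ≠ 1 := by
        rintro rfl
        rw [eval_one] at h1
        exact (Ideal.ne_top_iff_one _).mp (maximalIdeal.isMaximal A).ne_top h1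
      obtain ⟨g, h, hg, hh, hgh, hdeg⟩ := hirr hne
      rw [Finset.mem_Ioc] at hdeg
      have hnat : f.natDegree = g.natDegree + h.natDegree := by
        rw [← hgh, hg.natDegree_mul hh]
      have hgn : g.natDegree ≤ n := by omega
      have hhn : h.natDegree ≤ n := by omega
      have hev : f.eval a₀ = g.eval a₀ * h.eval a₀ := by rw [← hgh, eval_mul]
      have hder : f.derivative.eval a₀ =
          g.derivative.eval a₀ * h.eval a₀ + g.eval a₀ * h.derivative.eval a₀ := by
        rw [← hgh, derivative_mul, eval_add, eval_mul, eval_mul]
      rw [hev] at h1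
      rcases (maximalIdeal.isMaximal A).isPrime.mem_or_mem h1 with hgm | hhm
      · have hu : IsUnit (g.derivative.eval a₀ * h.eval a₀) := by
          have h3 : g.derivative.eval a₀ * h.eval a₀ =
              f.derivative.eval a₀ - g.eval a₀ * h.derivative.eval a₀ := by rw [hder]; ring
          rw [h3]
          by_contra hnu
          have h4 : f.derivative.eval a₀ - g.eval a₀ * h.derivative.eval a₀ ∈ maximalIdeal A :=
            (mem_maximalIdeal _).mpr hnu
          have h5 : f.derivative.eval a₀ ∈ maximalIdeal A := by
            have := Ideal.add_mem _ h4 (Ideal.mul_mem_right (h.derivative.eval a₀) _ hgm)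
            rwa [sub_add_cancel] at this
          exact (mem_maximalIdeal _).mp h5 h2
        obtain ⟨a, ha, ha'⟩ := ih g hgn hg a₀ hgm (isUnit_of_mul_isUnit_left hu)
        refine ⟨a, ?_, ha'⟩
        rw [IsRoot.def, ← hgh, eval_mul, ha, zero_mul]
      · have hu : IsUnit (g.eval a₀ * h.derivative.eval a₀) := by
          have h3 : g.eval a₀ * h.derivative.eval a₀ =
              f.derivative.eval a₀ - g.derivative.eval a₀ * h.eval a₀ := by rw [hder]; ring
          rw [h3]
          by_contra hnu
          have h4 : f.derivative.eval a₀ - g.derivative.eval a₀ * h.eval a₀ ∈ maximalIdeal A :=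
            (mem_maximalIdeal _).mpr hnu
          have h5 : f.derivative.eval a₀ ∈ maximalIdeal A := by
            have := Ideal.add_mem _ h4 (Ideal.mul_mem_left _ (g.derivative.eval a₀) hhm)
            rwa [sub_add_cancel] at this
          exact (mem_maximalIdeal _).mp h5 h2
        obtain ⟨a, ha, ha'⟩ := ih h hhn hh a₀ hhm (isUnit_of_mul_isUnit_right hu)
        refine ⟨a, ?_, ha'⟩
        rw [IsRoot.def, ← hgh, eval_mul, ha, mul_zero]

include K in
theorem henselianLocalRing : HenselianLocalRing A :=
  { is_henselian := fun f hf a₀ h1 h2 => exists_root_aux A K f.natDegree f le_rfl hf a₀ h1 h2 }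

include K in
theorem isSepClosed_residueField : IsSepClosed (ResidueField A) := by
  refine IsSepClosed.of_exists_root _ fun p hp hirr hsep => ?_
  obtain ⟨P, hPmap, hPdeg, hP⟩ := lifts_and_natDegree_eq_and_monic
    (p := p) (f := residue A)
    ((mem_lifts p).mpr (Polynomial.map_surjective _ residue_surjective p)) hp
  -- `P` is irreducible
  have hPirr : Irreducible P := by
    rw [hP.irreducible_iff_natDegree]
    refine ⟨?_, fun g h hg hh hgh => ?_⟩
    · rintro rfl
      rw [Polynomial.map_one] at hPmap
      exact hirr.not_isUnit (hPmap ▸ isUnit_one)
    · have h1 : g.map (residue A) * h.map (residue A) = p := by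
        rw [← Polynomial.map_mul, hgh, hPmap]
      rcases hirr.isUnit_or_isUnit h1.symm with hu | hu
      · left
        have := natDegree_eq_zero_of_isUnit hu
        rwa [hg.natDegree_map] at this
      · right
        have := natDegree_eq_zero_of_isUnit hu
        rwa [hh.natDegree_map] at this
  have hder : derivative P ≠ 0 := by
    intro h
    have h1 : derivative p = 0 := by
      rw [← hPmap, derivative_map, h, Polynomial.map_zero]
    have h2 := hsep
    rw [Polynomial.separable_def, h1] at h2
    exact hirr.not_isUnit (isCoprime_zero_right.mp h2)
  have hdeg := natDegree_eq_one_of_irreducible A K hP hPirr hder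
  have hpdeg : p.degree = 1 := by
    rw [degree_eq_natDegree hp.ne_zero, ← hPdeg, hdeg]; rfl
  obtain ⟨x, hx⟩ := exists_root_of_degree_eq_one hpdeg
  exact ⟨x, hx⟩

end Groth.Agent.Lib.Helper69.NormalSepClosed
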