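import Groth.Agent.Lib.Helper69.FEtGalois
import Groth.Agent.Lib.Helper50.TopConn

set_option linter.style.haveILetI false
set_option linter.unusedSectionVars false
set_option backward.isDefEq.respectTransparency false
set_option backward.defeqAttrib.useBackward true
open CategoryTheory Limits AlgebraicGeometry MorphismProperty Opposite TopologicalSpace

universe u
namespace Groth.Agent.Lib.Helper69.Pi0FF

section top

/-- lifting clopen sets along a map injective on connected components, Noetherian target -/
lemma exists_clopen_lift {A B : Type*} [TopologicalSpace A] [TopologicalSpace B]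
    [NoetherianSpace B] (p : A → B) (hp : Continuous p)
    (hinj : Function.Injective hp.connectedComponentsMap) (C₀ : Set A) (hC₀ : IsClopen C₀) :
    ∃ C : Set B, IsClopen C ∧ p ⁻¹' C = C₀ := by
  let C : Set B := ⋃ w₀ ∈ C₀, connectedComponent (p w₀)
  have hopen : ∀ b : B, IsOpen (connectedComponent b) :=
    Groth.Agent.Lib.Helper50.isOpen_connectedComponent_of_noetherianSpace
  have hCopen : IsOpen C := isOpen_biUnion (fun w₀ _ => hopen _)
  have hCc : Cᶜ = ⋃ y ∈ Cᶜ, connectedComponent y := by
    ext y
    constructor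
    · intro hy
      exact Set.mem_biUnion hy mem_connectedComponent
    · intro hy
      simp only [Set.mem_iUnion, exists_prop] at hy
      obtain ⟨z, hz, hyz⟩ := hy
      intro hyC
      apply hz
      simp only [C, Set.mem_iUnion, exists_prop] at hyC ⊢
      obtain ⟨w₀, hw₀, hyw⟩ := hyC
      refine ⟨w₀, hw₀, ?_⟩
      rw [connectedComponent_eq hyw, ← connectedComponent_eq hyz]
      exact mem_connectedComponent
  have hCclosed : IsClosed C := by
    rw [← isOpen_compl_iff, hCc]
    exact isOpen_biUnion (fun y _ => hopen _)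
  refine ⟨C, ⟨hCclosed, hCopen⟩, ?_⟩
  ext a
  constructor
  · intro ha
    simp only [C, Set.mem_preimage, Set.mem_iUnion, exists_prop] at ha
    obtain ⟨w₀, hw₀, haw⟩ := ha
    have h1 : hp.connectedComponentsMap (a : ConnectedComponents A) =
        hp.connectedComponentsMap (w₀ : ConnectedComponents A) := by
      show ((p a : B) : ConnectedComponents B) = ((p w₀ : B) : ConnectedComponents B)
      rw [ConnectedComponents.coe_eq_coe]
      exact (connectedComponent_eq haw).symm
    have h2 := hinj h1
    rw [ConnectedComponents.coe_eq_coe] at h2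
    have h3 : connectedComponent w₀ ⊆ C₀ := hC₀.connectedComponent_subset hw₀
    apply h3
    rw [← h2]
    exact mem_connectedComponent
  · intro ha
    exact Set.mem_biUnion ha mem_connectedComponent

end top

section sch

variable {X : Scheme.{u}}

/-- monomorphisms in `FEt.Cat X` are open immersions with closed range -/
lemma fet_mono_openImm {Y Z : FEt.Cat X} (i : Y ⟶ Z) [Mono i] :
    IsOpenImmersion i.left ∧ IsClosed (Set.range i.left) := by
  have hi := fet_left_prop i
  have : IsFinite i.left := hi.1
  have : Etale i.left := hi.2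
  have : Mono i.left := fet_mono_left i
  exact ⟨IsOpenImmersion.of_flat_of_mono i.left, i.left.isClosedMap.isClosed_range⟩

/-- a clopen set as an open subscheme -/
def clopenOpens (W : FEt.Cat X) (C : Set W.left) (hC : IsClopen C) : W.left.Opens :=
  ⟨C, hC.isOpen⟩

/-- the clopen subobject -/
noncomputable def ofClopen (W : FEt.Cat X) (C : Set W.left) (hC : IsClopen C) : FEt.Cat X :=
  MorphismProperty.Over.mk ⊤ ((clopenOpens W C hC).ι ≫ W.hom)
    (FEt.prop.comp_mem _ _
      ⟨Groth.Agent.Lib.Helper82.Pi0FEt.isFinite_ι_of_isClosed (clopenOpens W C hC) hC.isClosed,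
        inferInstance⟩ W.prop)

/-- the inclusion of the clopen subobject -/
noncomputable def ofClopenι (W : FEt.Cat X) (C : Set W.left) (hC : IsClopen C) :
    ofClopen W C hC ⟶ W :=
  MorphismProperty.Over.homMk (clopenOpens W C hC).ι rfl trivial

lemma range_ofClopenι (W : FEt.Cat X) (C : Set W.left) (hC : IsClopen C) :
    Set.range (ofClopenι W C hC).left = C :=
  Scheme.Opens.range_ι (clopenOpens W C hC)

variable {X₀ : Scheme.{u}} (i : X₀ ⟶ X)

lemma restrict_map_left_fst {A B : FEt.Cat X} (m : A ⟶ B) :
    ((FEt.restrict i).map m).left ≫ pullback.fst B.hom i = pullback.fst A.hom i ≫ m.left :=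
  (isPullback_overPullback_map i m).w

lemma range_restrict_map_left {A B : FEt.Cat X} (m : A ⟶ B) :
    Set.range ((FEt.restrict i).map m).left = (pullback.fst B.hom i) ⁻¹' Set.range m.left := by
  have h := Scheme.image_preimage_eq_of_isPullback (isPullback_overPullback_map i m).flip Set.univ
  rw [Set.preimage_univ, Set.image_univ, Set.image_univ] at h
  exact h

/-- a monomorphism whose restriction is an isomorphism is an isomorphism, given surjectivity on
connected components -/
lemma isIso_of_mono_of_isIso_restrict {A B : FEt.Cat X} (m : A ⟶ B) [Mono m]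
    (hsurj : Function.Surjective (pullback.fst B.hom i).continuous.connectedComponentsMap)
    (h : IsIso ((FEt.restrict i).map m)) : IsIso m := by
  obtain ⟨hopen, hclosed⟩ := fet_mono_openImm m
  have hcl : IsClopen (Set.range m.left) := ⟨hclosed, m.left.isOpenEmbedding.isOpen_range⟩
  have hiso' : IsIso ((FEt.restrict i).map m).left :=
    (inferInstance : IsIso ((fetForget X₀).map ((FEt.restrict i).map m)))
  have hs : Function.Surjective ((FEt.restrict i).map m).left :=
    (ConcreteCategory.bijective_of_isIso ((FEt.restrict i).map m).left.base).2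
  have huniv : Set.range m.left = Set.univ := by
    rw [Set.eq_univ_iff_forall]
    intro b
    obtain ⟨c₀, hc₀⟩ := hsurj (b : _root_.ConnectedComponents B.left)
    obtain ⟨b₀, rfl⟩ := ConnectedComponents.surjective_coe c₀
    have h1 : connectedComponent ((pullback.fst B.hom i) b₀) = connectedComponent b :=
      ConnectedComponents.coe_eq_coe.mp hc₀
    obtain ⟨a₀, rfl⟩ := hs b₀
    have h2 : (pullback.fst B.hom i) (((FEt.restrict i).map m).left a₀) ∈ Set.range m.left :=
      ⟨pullback.fst A.hom i a₀, by
        have hsq := congrArg (fun (k : ((FEt.restrict i).obj A).left ⟶ B.left) => k a₀)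
          (restrict_map_left_fst i m)
        exact hsq.symm⟩
    have h3 := hcl.connectedComponent_subset h2
    apply h3
    rw [h1]
    exact mem_connectedComponent
  have : IsIso m.left := by
    rw [isIso_iff_isOpenImmersion_and_surjective]
    exact ⟨hopen, ⟨by rw [← Set.range_eq_univ]; exact huniv⟩⟩
  haveI : IsIso ((fetForget X).map m) := this
  exact isIso_of_reflects_iso m (fetForget X)

end sch

section abstractIso

variable {C D : Type*} [Category C] [Category D] [HasPullbacks C] (R : C ⥤ D)
  [PreservesLimitsOfShape WalkingCospan R]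
  (L : ∀ {A B : C} (m : A ⟶ B) [Mono m], IsIso (R.map m) → IsIso m)

include L in
lemma isIso_of_isIso_map' {Y Z : C} (φ : Y ⟶ Z) (h : IsIso (R.map φ)) : IsIso φ := by
  have hpb := IsPullback.of_hasPullback φ φ
  have hpbR := hpb.map R
  have h1 : IsIso (R.map (pullback.fst φ φ)) := hpbR.isIso_fst_of_isIso
  let Δ : Y ⟶ pullback φ φ := pullback.lift (𝟙 _) (𝟙 _) rfl
  have hΔ : Δ ≫ pullback.fst φ φ = 𝟙 _ := pullback.lift_fst _ _ _
  have : IsSplitMono Δ := ⟨⟨⟨pullback.fst φ φ, hΔ⟩⟩⟩
  have h2 : IsIso (R.map Δ) := by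
    have h3 : R.map Δ ≫ R.map (pullback.fst φ φ) = 𝟙 _ := by
      rw [← R.map_comp, hΔ, R.map_id]
    have : IsIso (R.map Δ ≫ R.map (pullback.fst φ φ)) := by rw [h3]; infer_instance
    exact IsIso.of_isIso_comp_right (R.map Δ) (R.map (pullback.fst φ φ))
  have h4 : IsIso Δ := L Δ h2
  have h5 : IsIso (pullback.fst φ φ) := by
    have : pullback.fst φ φ = inv Δ := by
      rw [← cancel_epi Δ, hΔ, IsIso.hom_inv_id]
    rw [this]; infer_instance
  have : Mono φ := IsKernelPair.mono_of_isIso_fst hpb
  exact L φ h

end abstractIso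

section main

variable {X X₀ : Scheme.{u}} [IsNoetherian X] (i : X₀ ⟶ X)
  (h : ∀ Y : FEt.Cat X,
    Function.Bijective (pullback.fst Y.hom i).continuous.connectedComponentsMap)

include h in
lemma reflects_iso {Y Z : FEt.Cat X} (φ : Y ⟶ Z) (hφ : IsIso ((FEt.restrict i).map φ)) :
    IsIso φ :=
  isIso_of_isIso_map' (FEt.restrict i)
    (fun {_ B} m _ hm => isIso_of_mono_of_isIso_restrict i m (h B).2 hm) φ hφ

include h in
theorem faithful : (FEt.restrict i).Faithful := by
  refine ⟨fun {Y Z} f g hfg => ?_⟩
  have hiso : IsIso (equalizer.ι f g) := by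
    apply isIso_of_mono_of_isIso_restrict i _ (h Y).2
    have hlim := isLimitForkMapOfIsLimit (FEt.restrict i) (equalizer.condition f g)
      (equalizerIsEqualizer f g)
    exact isIso_limit_cone_parallelPair_of_eq hfg hlim
  exact eq_of_epi_equalizer

include h in
theorem full : (FEt.restrict i).Full := by
  refine ⟨fun {Y Z} h₀ => ?_⟩
  let R := FEt.restrict i
  let W : FEt.Cat X := Y ⨯ Z
  let π₁ : W ⟶ Y := prod.fst
  let π₂ : W ⟶ Z := prod.snd
  let γ₀ : R.obj Y ⟶ R.obj W := prod.lift (𝟙 _) h₀ ≫ inv (prodComparison R Y Z)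
  have hγ1 : γ₀ ≫ R.map π₁ = 𝟙 _ := by
    show (prod.lift (𝟙 _) h₀ ≫ inv (prodComparison R Y Z)) ≫ R.map prod.fst = 𝟙 _
    rw [Category.assoc, inv_prodComparison_map_fst, prod.lift_fst]
  have hγ2 : γ₀ ≫ R.map π₂ = h₀ := by
    show (prod.lift (𝟙 _) h₀ ≫ inv (prodComparison R Y Z)) ≫ R.map prod.snd = h₀
    rw [Category.assoc, inv_prodComparison_map_snd, prod.lift_snd]
  haveI : Mono γ₀ := mono_of_mono_fac hγ1
  obtain ⟨hopen₀, hclosed₀⟩ := fet_mono_openImm γ₀
  have hC₀ : IsClopen (Set.range γ₀.left) := ⟨hclosed₀, γ₀.left.isOpenEmbedding.isOpen_range⟩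
  haveI : IsFinite W.hom := W.prop.1
  haveI : Etale W.hom := W.prop.2
  haveI : IsNoetherian W.left :=
    { __ := LocallyOfFiniteType.isLocallyNoetherian (X := W.left) (Y := X) W.hom
      __ := QuasiCompact.compactSpace_of_compactSpace (X := W.left) (Y := X) W.hom }
  haveI : NoetherianSpace W.left := IsNoetherian.noetherianSpace
  obtain ⟨C, hC, hpC⟩ := exists_clopen_lift (B := W.left) (pullback.fst W.hom i)
    (pullback.fst W.hom i).continuous (h W).1 _ hC₀
  let m := ofClopenι W C hC
  haveI : Mono m := by
    have : Mono ((fetForget X).map m) := (inferInstance : Mono (clopenOpens W C hC).ι)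
    exact (fetForget X).mono_of_mono_map this
  have hrange : Set.range (R.map m).left = Set.range γ₀.left := by
    rw [range_restrict_map_left, range_ofClopenι, hpC]
  haveI : Mono (R.map m) := inferInstance
  obtain ⟨hopen₁, -⟩ := fet_mono_openImm (R.map m)
  let k := IsOpenImmersion.isoOfRangeEq (R.map m).left γ₀.left hrange
  have hk : k.hom ≫ γ₀.left = (R.map m).left := IsOpenImmersion.isoOfRangeEq_hom_fac _ _ _
  have hkw : k.hom ≫ (R.obj Y).hom = (R.obj (ofClopen W C hC)).hom := by
    rw [← MorphismProperty.Over.w γ₀, ← Category.assoc, hk, MorphismProperty.Over.w]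
  let k' : R.obj (ofClopen W C hC) ⟶ R.obj Y := MorphismProperty.Over.homMk k.hom hkw trivial
  have hk' : k' ≫ γ₀ = R.map m := by
    apply MorphismProperty.Over.Hom.ext
    exact hk
  haveI : IsIso k' := by
    haveI : IsIso ((fetForget X₀).map k') := (inferInstance : IsIso k.hom)
    exact isIso_of_reflects_iso k' (fetForget X₀)
  have hu : R.map (m ≫ π₁) = k' := by
    rw [R.map_comp, ← hk', Category.assoc, hγ1, Category.comp_id]
  have hiso : IsIso (m ≫ π₁) := reflects_iso i h _ (by rw [hu]; infer_instance)
  refine ⟨inv (m ≫ π₁) ≫ m ≫ π₂, ?_⟩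
  show R.map (inv (m ≫ π₁) ≫ m ≫ π₂) = h₀
  rw [R.map_comp, Functor.map_inv, IsIso.inv_comp_eq, hu, R.map_comp, ← hk', Category.assoc, hγ2]

end main

end Groth.Agent.Lib.Helper69.Pi0FF
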