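import Groth.Agent.Lib.Helper69.Pi0FF

set_option linter.style.haveILetI false
set_option linter.unusedSectionVars false
set_option backward.isDefEq.respectTransparency false
set_option backward.defeqAttrib.useBackward true
open CategoryTheory Limits AlgebraicGeometry MorphismProperty Opposite TopologicalSpace

universe u
namespace Groth.Agent.Lib.Helper69.Pi0FF

section general

variable {X X₀ : Scheme.{u}} (i : X₀ ⟶ X)

/-- a monomorphism whose restriction is an isomorphism is an isomorphism, when the base change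
maps are surjective -/
lemma isIso_of_mono_of_isIso_restrict_of_surjective {A B : FEt.Cat X} (m : A ⟶ B) [Mono m]
    (hsurj : Function.Surjective (pullback.fst B.hom i))
    (h : IsIso ((FEt.restrict i).map m)) : IsIso m := by
  obtain ⟨hopen, hclosed⟩ := fet_mono_openImm m
  have hiso' : IsIso ((FEt.restrict i).map m).left :=
    (inferInstance : IsIso ((fetForget X₀).map ((FEt.restrict i).map m)))
  have hs : Function.Surjective ((FEt.restrict i).map m).left :=
    (ConcreteCategory.bijective_of_isIso ((FEt.restrict i).map m).left.base).2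
  have huniv : Set.range m.left = Set.univ := by
    rw [Set.eq_univ_iff_forall]
    intro b
    obtain ⟨b₀, rfl⟩ := hsurj b
    have h1 : b₀ ∈ Set.range ((FEt.restrict i).map m).left := hs b₀
    rw [range_restrict_map_left] at h1
    exact h1
  have : IsIso m.left := by
    rw [isIso_iff_isOpenImmersion_and_surjective]
    exact ⟨hopen, ⟨by rw [← Set.range_eq_univ]; exact huniv⟩⟩
  haveI : IsIso ((fetForget X).map m) := this
  exact isIso_of_reflects_iso m (fetForget X)

variable (hs : ∀ B : FEt.Cat X, Function.Surjective (pullback.fst B.hom i))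
  (hl : ∀ (W : FEt.Cat X) (C₀ : Set ↥(pullback W.hom i)), IsClopen C₀ →
    ∃ C : Set W.left, IsClopen C ∧ (pullback.fst W.hom i) ⁻¹' C = C₀)

include hs in
lemma reflects_iso_of_surjective {Y Z : FEt.Cat X} (φ : Y ⟶ Z)
    (hφ : IsIso ((FEt.restrict i).map φ)) : IsIso φ :=
  isIso_of_isIso_map' (FEt.restrict i)
    (fun {_ B} m _ hm => isIso_of_mono_of_isIso_restrict_of_surjective i m (hs B) hm) φ hφ

include hs in
theorem faithful_of_surjective : (FEt.restrict i).Faithful := by
  refine ⟨fun {Y Z} f g hfg => ?_⟩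
  have hiso : IsIso (equalizer.ι f g) := by
    apply isIso_of_mono_of_isIso_restrict_of_surjective i _ (hs Y)
    have hlim := isLimitForkMapOfIsLimit (FEt.restrict i) (equalizer.condition f g)
      (equalizerIsEqualizer f g)
    exact isIso_limit_cone_parallelPair_of_eq hfg hlim
  exact eq_of_epi_equalizer

include hs hl in
theorem full_of_clopen_lift : (FEt.restrict i).Full := by
  refine ⟨fun {Y Z} h₀ => ?_⟩
  let R := FEt.restrict i
  let W : FEt.Cat X := Y ⨯ Z
  let π₁ : W ⟶ Y := prod.fst
  let π₂ : W ⟶ Z := prod.snd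
  let γ₀ : R.obj Y ⟶ R.obj W := prod.lift (𝟙 _) h₀ ≫ inv (prodComparison R Y Z)
  have hγ1 : γ₀ ≫ R.map π₁ = 𝟙 _ := by
    show (prod.lift (𝟙 _) h₀ ≫ inv (prodComparison R Y Z)) ≫ R.map prod.fst = 𝟙 _
    rw [Category.assoc, inv_prodComparison_map_fst, prod.lift_fst]
  have hγ2 : γ₀ ≫ R.map π₂ = h₀ := by
    show (prod.lift (𝟙 _) h₀ ≫ inv (prodComparison R Y Z)) ≫ R.map prod.snd = h₀
    rw [Category.assoc, inv_prodComparison_map_snd, prod.lift_snd]
  haveI : Mono γ₀ := mono_of_mono_fac hγ1
  obtain ⟨hopen₀, hclosed₀⟩ := fet_mono_openImm γ₀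
  have hC₀ : IsClopen (Set.range γ₀.left) := ⟨hclosed₀, γ₀.left.isOpenEmbedding.isOpen_range⟩
  obtain ⟨C, hC, hpC⟩ := hl W _ hC₀
  let m := ofClopenι W C hC
  haveI : Mono m := by
    have : Mono ((fetForget X).map m) := (inferInstance : Mono (clopenOpens W C hC).ι)
    exact (fetForget X).mono_of_mono_map this
  have hrange : Set.range (R.map m).left = Set.range γ₀.left := by
    rw [range_restrict_map_left, range_ofClopenι, hpC]
  haveI : Mono (R.map m) := inferInstance
  obtain ⟨hopen₁, -⟩ := fet_mono_openImm (R.map m)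
  let k := IsOpenImmersion.isoOfRangeEq (R.map m).left γ₀.left hrange
  have hk : k.hom ≫ γ₀.left = (R.map m).left := IsOpenImmersion.isoOfRangeEq_hom_fac _ _ _
  have hkw : k.hom ≫ (R.obj Y).hom = (R.obj (ofClopen W C hC)).hom := by
    rw [← MorphismProperty.Over.w γ₀, ← Category.assoc, hk, MorphismProperty.Over.w]
  let k' : R.obj (ofClopen W C hC) ⟶ R.obj Y := MorphismProperty.Over.homMk k.hom hkw trivial
  have hk' : k' ≫ γ₀ = R.map m := by
    apply MorphismProperty.Over.Hom.ext
    exact hk
  haveI : IsIso k' := by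
    haveI : IsIso ((fetForget X₀).map k') := (inferInstance : IsIso k.hom)
    exact isIso_of_reflects_iso k' (fetForget X₀)
  have hu : R.map (m ≫ π₁) = k' := by
    rw [R.map_comp, ← hk', Category.assoc, hγ1, Category.comp_id]
  have hiso : IsIso (m ≫ π₁) := reflects_iso_of_surjective i hs _ (by rw [hu]; infer_instance)
  refine ⟨inv (m ≫ π₁) ≫ m ≫ π₂, ?_⟩
  show R.map (inv (m ≫ π₁) ≫ m ≫ π₂) = h₀
  rw [R.map_comp, Functor.map_inv, IsIso.inv_comp_eq, hu, R.map_comp, ← hk', Category.assoc, hγ2]


end general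

end Groth.Agent.Lib.Helper69.Pi0FF
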