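import Groth.Agent.Lib.Helper69.Pi0FF2

set_option linter.style.haveILetI false
set_option linter.unusedSectionVars false
set_option backward.isDefEq.respectTransparency false
set_option backward.defeqAttrib.useBackward true
open CategoryTheory Limits AlgebraicGeometry MorphismProperty Opposite TopologicalSpace

universe u
namespace Groth.Agent.Lib.Helper69.Pi0FF

/-- For a continuous open surjection with connected fibres, clopen sets are saturated and have
clopen image (as in helper51 GeomConn). -/
theorem isClopen_image_of_connected_fibres' {α β : Type*} [TopologicalSpace α]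
    [TopologicalSpace β]
    {π : α → β} (ho : IsOpenMap π) (hsurj : Function.Surjective π)
    (hfib : ∀ b, IsPreconnected (π ⁻¹' {b})) {U : Set α} (hU : IsClopen U) :
    IsClopen (π '' U) ∧ π ⁻¹' (π '' U) = U := by
  have hsat : ∀ V : Set α, IsClopen V → π ⁻¹' (π '' V) = V := by
    intro V hV
    apply Set.Subset.antisymm
    · rintro a ⟨u, hu, hua⟩
      have h1 : π ⁻¹' {π a} ⊆ V :=
        (hfib (π a)).subset_isClopen hV ⟨u, hua, hu⟩
      exact h1 rfl
    · exact Set.subset_preimage_image π V
  refine ⟨⟨?_, ho U hU.isOpen⟩, hsat U hU⟩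
  have hc : (π '' U)ᶜ = π '' Uᶜ := by
    ext b
    constructor
    · intro hb
      obtain ⟨a, rfl⟩ := hsurj b
      exact ⟨a, fun ha => hb ⟨a, ha, rfl⟩, rfl⟩
    · rintro ⟨a, ha, rfl⟩ hb
      have : a ∈ π ⁻¹' (π '' U) := hb
      rw [hsat U hU] at this
      exact ha this
  rw [← isOpen_compl_iff, hc]
  exact ho _ hU.compl.isOpen

/-- geometric connectedness can be tested on algebraically closed fields -/
theorem geometricallyConnected_of_algClosed {X S : Scheme.{u}} (f : X ⟶ S)
    (hfib : ∀ (Ω : Type u) [Field Ω] [IsAlgClosed Ω] (s : Spec (CommRingCat.of Ω) ⟶ S),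
      ConnectedSpace ↥(pullback f s)) : GeometricallyConnected f := by
  refine ⟨geometrically_iff_of_isClosedUnderIsomorphisms.mpr fun K _ y => ?_⟩
  let a : Spec (CommRingCat.of (AlgebraicClosure K)) ⟶ Spec (CommRingCat.of K) :=
    Spec.map (CommRingCat.ofHom (algebraMap K (AlgebraicClosure K)))
  haveI := hfib (AlgebraicClosure K) (a ≫ y)
  let t : pullback f (a ≫ y) ⟶ pullback f y :=
    pullback.map f (a ≫ y) f y (𝟙 X) a (𝟙 S) (by simp) (by simp)
  have hpb : IsPullback t (pullback.snd f (a ≫ y)) (pullback.snd f y) a := by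
    refine IsPullback.of_right ?_ (pullback.lift_snd _ _ _) (IsPullback.of_hasPullback f y)
    have e1 : t ≫ pullback.fst f y = pullback.fst f (a ≫ y) := by
      simp [t]
    rw [e1]
    exact IsPullback.of_hasPullback f (a ≫ y)
  have hsa : Surjective a := ⟨Function.surjective_to_subsingleton _⟩
  have hst : Surjective t := MorphismProperty.of_isPullback hpb.flip hsa
  exact hst.surj.connectedSpace t.continuous

theorem fullyFaithful_of_geometricallyConnected {X S : Scheme.{u}} (f : X ⟶ S)
    [GeometricallyConnected f] [UniversallyOpen f] :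
    (FEt.restrict f).Full ∧ (FEt.restrict f).Faithful := by
  have hs : ∀ B : FEt.Cat S, Function.Surjective (pullback.fst B.hom f) := fun B =>
    (pullback.fst B.hom f).surjective
  have hl : ∀ (W : FEt.Cat S) (C₀ : Set ↥(pullback W.hom f)), IsClopen C₀ →
      ∃ C : Set W.left, IsClopen C ∧ (pullback.fst W.hom f) ⁻¹' C = C₀ := by
    intro W C₀ hC₀
    obtain ⟨h1, h2⟩ := isClopen_image_of_connected_fibres' (pullback.fst W.hom f).isOpenMap (hs W)
      (fun b => ((pullback.fst W.hom f).isConnected_preimage_singleton b).isPreconnected) hC₀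
    exact ⟨_, h1, h2⟩
  exact ⟨full_of_clopen_lift f hs hl, faithful_of_surjective f hs⟩

end Groth.Agent.Lib.Helper69.Pi0FF
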