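import Groth.Agent.Lib.Helper69.Pi0FF3
import Groth.Agent.Lib.Helper51.GeomConn
import Groth.Agent.Lib.Helper51.GeomIrr
import Groth.Agent.Lib.Helper58.FEtHens

set_option linter.style.haveILetI false
set_option linter.unusedSectionVars false
set_option backward.isDefEq.respectTransparency false
set_option backward.defeqAttrib.useBackward true
open CategoryTheory Limits AlgebraicGeometry MorphismProperty Opposite TopologicalSpace

universe u
namespace Groth.Agent.Lib.Helper69.Pi0FF

/-- a connected scheme over an algebraically closed field is geometrically connected -/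
theorem geomConn_of_algClosed (k : Type u) [Field k] [IsAlgClosed k] {X : Scheme.{u}}
    (f : X ⟶ Spec (CommRingCat.of k)) [ConnectedSpace X] : GeometricallyConnected f := by
  obtain ⟨x⟩ := (inferInstance : Nonempty X)
  let φ : CommRingCat.of k ⟶ X.residueField x := Spec.preimage (X.fromSpecResidueField x ≫ f)
  letI : Algebra k (X.residueField x) := φ.hom.toAlgebra
  have hφ : Spec.map (CommRingCat.ofHom (algebraMap k (X.residueField x))) =
      X.fromSpecResidueField x ≫ f := by
    have : CommRingCat.ofHom (algebraMap k (X.residueField x)) = φ := rfl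
    rw [this, Spec.map_preimage]
  refine Groth.Agent.Lib.Helper51.geometricallyConnected_of_relSepClosed_point f x hφ ?_
  intro a ha
  have hint : IsIntegral k a := ha.isIntegral
  have hdeg : (minpoly k a).degree = 1 :=
    IsAlgClosed.degree_eq_one_of_irreducible k (minpoly.irreducible hint)
  exact minpoly.mem_range_of_degree_eq_one k a hdeg

/-- a scheme over a field which is connected after base change to an algebraically closed
extension is geometrically connected -/
theorem geomConn_of_connected_algClosure (k K : Type u) [Field k] [Field K] [Algebra k K]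
    [IsAlgClosed K] {X : Scheme.{u}} (f : X ⟶ Spec (CommRingCat.of k))
    [ConnectedSpace ↥(pullback f (Spec.map (CommRingCat.ofHom (algebraMap k K))))] :
    GeometricallyConnected f := by
  haveI : GeometricallyConnected
      (pullback.snd f (Spec.map (CommRingCat.ofHom (algebraMap k K)))) :=
    geomConn_of_algClosed K _
  exact Groth.Agent.Lib.Helper51.geometricallyConnected_of_isPullback f
    (pullback.snd f (Spec.map (CommRingCat.ofHom (algebraMap k K))))
    (pullback.fst f (Spec.map (CommRingCat.ofHom (algebraMap k K))))
    (IsPullback.of_hasPullback f _)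

section faith

variable {X X₀ : Scheme.{u}} (i : X₀ ⟶ X)
  (h : ∀ Y : FEt.Cat X,
    Function.Surjective (pullback.fst Y.hom i).continuous.connectedComponentsMap)

include h in
theorem faithful_of_pi0_surjective : (FEt.restrict i).Faithful := by
  refine ⟨fun {Y Z} f g hfg => ?_⟩
  have hiso : IsIso (equalizer.ι f g) := by
    apply isIso_of_mono_of_isIso_restrict i _ (h Y)
    have hlim := isLimitForkMapOfIsLimit (FEt.restrict i) (equalizer.condition f g)
      (equalizerIsEqualizer f g)
    exact isIso_limit_cone_parallelPair_of_eq hfg hlim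
  exact eq_of_epi_equalizer

end faith

section completeLocal

variable (A : Type u) [CommRing A] [IsLocalRing A]
  {X : Scheme.{u}} (f : X ⟶ Spec (CommRingCat.of A)) [IsProper f]

/-- the closed point as a morphism -/
noncomputable abbrev ιA : Spec (CommRingCat.of (IsLocalRing.ResidueField A)) ⟶
    Spec (CommRingCat.of A) :=
  Spec.map (CommRingCat.ofHom (IsLocalRing.residue A))

lemma restrict_ιA_isEquivalence [IsAdicComplete (IsLocalRing.maximalIdeal A) A] :
    (FEt.restrict (ιA A)).IsEquivalence :=
  Groth.Agent.Lib.Helper58.FEtHens.restrict_isEquivalence (IsLocalRing.maximalIdeal A)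

lemma pi0_surjective_closedFibre (W : FEt.Cat X) :
    Function.Surjective
      (pullback.fst W.hom (pullback.fst f (ιA A))).continuous.connectedComponentsMap := by
  intro c
  obtain ⟨w, rfl⟩ := ConnectedComponents.surjective_coe c
  haveI : IsFinite W.hom := W.prop.1
  let g : W.left ⟶ Spec (CommRingCat.of A) := W.hom ≫ f
  haveI : IsProper g := by
    haveI : IsProper (W.hom : W.left ⟶ X) := inferInstance
    exact (inferInstance : IsProper ((W.hom : W.left ⟶ X) ≫ f))
  have hcl : IsClosed (g '' connectedComponent w) := g.isClosedMap _ isClosed_connectedComponent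
  have hcp : IsLocalRing.closedPoint A ∈ g '' connectedComponent w :=
    (IsLocalRing.specializes_closedPoint (g w)).mem_closed hcl ⟨w, mem_connectedComponent, rfl⟩
  obtain ⟨d, hd, hgd⟩ := hcp
  let pt : Spec (CommRingCat.of (IsLocalRing.ResidueField A)) :=
    IsLocalRing.closedPoint (IsLocalRing.ResidueField A)
  have hpt : (ιA A) pt = IsLocalRing.closedPoint A :=
    IsLocalRing.comap_closedPoint (IsLocalRing.residue A)
  obtain ⟨x₀, hx₀1, hx₀2⟩ := Scheme.Pullback.exists_preimage_pullback (f := f) (g := ιA A)
    (W.hom d) pt (by rw [hpt]; exact hgd)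
  obtain ⟨w₀, hw₀1, hw₀2⟩ := Scheme.Pullback.exists_preimage_pullback (f := W.hom)
    (g := pullback.fst f (ιA A)) d x₀ hx₀1.symm
  refine ⟨ConnectedComponents.mk w₀, ?_⟩
  show ConnectedComponents.mk (α := W.left) ((pullback.fst W.hom (pullback.fst f (ιA A))) w₀) =
    ConnectedComponents.mk (α := W.left) w
  rw [hw₀1, ConnectedComponents.coe_eq_coe]
  exact (connectedComponent_eq hd).symm

include A in
theorem fullyFaithful_of_proper_completeLocal [IsNoetherianRing A]
    [IsAdicComplete (IsLocalRing.maximalIdeal A) A]
    [ConnectedSpace ↥(pullback f (Spec.map (CommRingCat.ofHom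
      ((algebraMap (IsLocalRing.ResidueField A)
        (AlgebraicClosure (IsLocalRing.ResidueField A))).comp (IsLocalRing.residue A)))))] :
    (FEt.restrict f).Full ∧ (FEt.restrict f).Faithful := by
  let k := IsLocalRing.ResidueField A
  let a : Spec (CommRingCat.of (AlgebraicClosure k)) ⟶ Spec (CommRingCat.of k) :=
    Spec.map (CommRingCat.ofHom (algebraMap k (AlgebraicClosure k)))
  let q := pullback.fst f (ιA A)
  let fk := pullback.snd f (ιA A)
  have hξ : Spec.map (CommRingCat.ofHom ((algebraMap k (AlgebraicClosure k)).comp
      (IsLocalRing.residue A))) = a ≫ ιA A := by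
    rw [← Spec.map_comp]
    rfl
  haveI : ConnectedSpace ↥(pullback f (a ≫ ιA A)) := by
    rw [← hξ]
    infer_instance
  haveI : ConnectedSpace ↥(pullback fk a) :=
    (pullbackLeftPullbackSndIso f (ιA A) a).hom.homeomorph.connectedSpace_iff.mpr inferInstance
  haveI : GeometricallyConnected fk := geomConn_of_connected_algClosure k (AlgebraicClosure k) fk
  haveI : IsProper fk := inferInstance
  haveI : Flat fk := inferInstance
  haveI : LocallyOfFinitePresentation fk := inferInstance
  haveI : UniversallyOpen fk := inferInstance
  obtain ⟨hG1, hG2⟩ := fullyFaithful_of_geometricallyConnected fk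
  haveI hE := restrict_ιA_isEquivalence A
  haveI hq : (FEt.restrict q).Faithful :=
    faithful_of_pi0_surjective q (pi0_surjective_closedFibre A f)
  let iso₁ : FEt.restrict (q ≫ f) ≅ FEt.restrict f ⋙ FEt.restrict q :=
    MorphismProperty.Over.pullbackComp q f
  let iso₂ : FEt.restrict (q ≫ f) ≅ FEt.restrict (ιA A) ⋙ FEt.restrict fk :=
    MorphismProperty.Over.pullbackComp fk (ιA A) (q ≫ f) pullback.condition
  haveI : (FEt.restrict (ιA A) ⋙ FEt.restrict fk).Full := inferInstance
  haveI : (FEt.restrict (ιA A) ⋙ FEt.restrict fk).Faithful := inferInstance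
  haveI : (FEt.restrict f ⋙ FEt.restrict q).Full := Functor.Full.of_iso (iso₂.symm ≪≫ iso₁)
  haveI : (FEt.restrict f ⋙ FEt.restrict q).Faithful :=
    Functor.Faithful.of_iso (iso₂.symm ≪≫ iso₁)
  exact ⟨Functor.Full.of_comp_faithful (FEt.restrict f) (FEt.restrict q),
    Functor.Faithful.of_comp (FEt.restrict f) (FEt.restrict q)⟩

end completeLocal

end Groth.Agent.Lib.Helper69.Pi0FF
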