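import Groth.Agent.Lib.Helper69.Pi0FF2

/-!
# Faithfulness of `FEt.restrict i` when nonempty clopens meet the image (helper69)
-/

set_option linter.style.haveILetI false
set_option linter.unusedSectionVars false
set_option backward.isDefEq.respectTransparency false
set_option backward.defeqAttrib.useBackward true
open CategoryTheory Limits AlgebraicGeometry MorphismProperty Opposite TopologicalSpace

universe u
namespace Groth.Agent.Lib.Helper69.Pi0FF

section meets

variable {X X₀ : Scheme.{u}} (i : X₀ ⟶ X)

/-- a monomorphism whose restriction is an isomorphism is an isomorphism, when every nonempty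
clopen subset of the target meets the image of the base change map -/
lemma isIso_of_mono_of_isIso_restrict_of_meets {A B : FEt.Cat X} (m : A ⟶ B) [Mono m]
    (hm : ∀ C : Set B.left, IsClopen C → C.Nonempty →
      (C ∩ Set.range (pullback.fst B.hom i)).Nonempty)
    (h : IsIso ((FEt.restrict i).map m)) : IsIso m := by
  obtain ⟨hopen, hclosed⟩ := fet_mono_openImm m
  have hiso' : IsIso ((FEt.restrict i).map m).left :=
    (inferInstance : IsIso ((fetForget X₀).map ((FEt.restrict i).map m)))
  have hs : Function.Surjective ((FEt.restrict i).map m).left :=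
    (ConcreteCategory.bijective_of_isIso ((FEt.restrict i).map m).left.base).2
  have hsub : Set.range (pullback.fst B.hom i) ⊆ Set.range m.left := by
    rintro _ ⟨b₀, rfl⟩
    have h1 : b₀ ∈ Set.range ((FEt.restrict i).map m).left := hs b₀
    rw [range_restrict_map_left] at h1
    exact h1
  have hclopen : IsClopen (Set.range m.left)ᶜ :=
    ⟨m.left.isOpenEmbedding.isOpen_range.isClosed_compl, hclosed.isOpen_compl⟩
  have huniv : Set.range m.left = Set.univ := by
    by_contra hne
    have hne' : ((Set.range m.left)ᶜ).Nonempty := by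
      rw [Set.nonempty_compl]
      exact hne
    obtain ⟨b, hb1, hb2⟩ := hm _ hclopen hne'
    exact hb1 (hsub hb2)
  have : IsIso m.left := by
    rw [isIso_iff_isOpenImmersion_and_surjective]
    exact ⟨hopen, ⟨by rw [← Set.range_eq_univ]; exact huniv⟩⟩
  haveI : IsIso ((fetForget X).map m) := this
  exact isIso_of_reflects_iso m (fetForget X)

theorem faithful_of_clopen_meets
    (hm : ∀ (B : FEt.Cat X) (C : Set B.left), IsClopen C → C.Nonempty →
      (C ∩ Set.range (pullback.fst B.hom i)).Nonempty) : (FEt.restrict i).Faithful := by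
  refine ⟨fun {Y Z} f g hfg => ?_⟩
  have hiso : IsIso (equalizer.ι f g) := by
    apply isIso_of_mono_of_isIso_restrict_of_meets i _ (hm Y)
    have hlim := isLimitForkMapOfIsLimit (FEt.restrict i) (equalizer.condition f g)
      (equalizerIsEqualizer f g)
    exact isIso_limit_cone_parallelPair_of_eq hfg hlim
  exact eq_of_epi_equalizer

/-- it suffices that nonempty clopens of the base meet the image of `i`. -/
theorem faithful_of_clopen_meets_base
    (hm : ∀ E : Set X, IsClopen E → E.Nonempty → (E ∩ Set.range i).Nonempty) :
    (FEt.restrict i).Faithful := by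
  apply faithful_of_clopen_meets
  intro B C hC hne
  haveI : IsFinite B.hom := B.prop.1
  haveI : Etale B.hom := B.prop.2
  have hE : IsClopen (B.hom '' C) :=
    ⟨B.hom.isClosedMap _ hC.isClosed, B.hom.isOpenMap _ hC.isOpen⟩
  obtain ⟨_, ⟨c, hc, rfl⟩, ⟨x₀, hx₀⟩⟩ := hm _ hE (hne.image _)
  obtain ⟨z, hz1, -⟩ := Scheme.Pullback.exists_preimage_pullback (f := B.hom) (g := i) c x₀
    hx₀.symm
  exact ⟨c, hc, ⟨z, hz1⟩⟩

end meets

end Groth.Agent.Lib.Helper69.Pi0FF
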