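import Mathlib

/-!
# [KR] Krull step for helper55's S4899 (SA): `⋂_n im(k' ⊗_k 𝔪ⁿV) = 0` in `k' ⊗_k V`
-/

set_option autoImplicit false
universe u
open TensorProduct IsLocalRing

namespace Groth.Agent.Lib.Helper69.PrimKR

/-- Over a field, `k' ⊗ -` commutes with intersections of a decreasing (or any) family of subspaces
with zero intersection: an element of `k' ⊗ V` lying in the image of every `k' ⊗ U n` is zero. -/
theorem kr_general {k : Type u} [Field k] (k' : Type u) [AddCommGroup k'] [Module k k']
    (V : Type u) [AddCommGroup V] [Module k V] (U : ℕ → Submodule k V) (hU : ⨅ n, U n = ⊥)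
    (w : k' ⊗[k] V) (hw : ∀ n, w ∈ LinearMap.range ((U n).subtype.lTensor k')) : w = 0 := by
  classical
  let b := Module.Free.chooseBasis k k'
  let e := TensorProduct.equivFinsuppOfBasisLeft (R := k) (N := V) b
  have key : ∀ (n : ℕ) (x : k' ⊗[k] (U n)) (i), e ((U n).subtype.lTensor k' x) i ∈ U n := by
    intro n x i
    induction x using TensorProduct.induction_on with
    | zero => simp
    | tmul m u =>
      rw [LinearMap.lTensor_tmul, TensorProduct.equivFinsuppOfBasisLeft_apply_tmul_apply]
      exact (U n).smul_mem _ u.2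
    | add x y hx hy =>
      rw [map_add, map_add, Finsupp.add_apply]
      exact (U n).add_mem hx hy
  have h0 : e w = 0 := by
    ext i
    have hmem : e w i ∈ ⨅ n, U n := by
      rw [Submodule.mem_iInf]
      intro n
      obtain ⟨x, rfl⟩ := hw n
      exact key n x i
    rw [hU] at hmem
    simpa using hmem
  exact e.injective (by rw [h0, map_zero])

theorem kr {k : Type u} [Field k] {R : Type u} [CommRing R] [IsLocalRing R] [IsNoetherianRing R]
    [Algebra k R] (k' : Type u) [AddCommGroup k'] [Module k k'] (V : Type u) [AddCommGroup V]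
    [Module R V] [Module k V] [IsScalarTower k R V] [Module.Finite R V] (w : k' ⊗[k] V)
    (hw : ∀ n : ℕ, w ∈ LinearMap.range
      (((maximalIdeal R ^ n • (⊤ : Submodule R V)).restrictScalars k).subtype.lTensor k')) :
    w = 0 := by
  refine kr_general k' V
    (fun n => (maximalIdeal R ^ n • (⊤ : Submodule R V)).restrictScalars k) ?_ w hw
  have hK : (⨅ i : ℕ, maximalIdeal R ^ i • ⊤ : Submodule R V) = ⊥ :=
    Ideal.iInf_pow_smul_eq_bot_of_isLocalRing (maximalIdeal R) Ideal.IsPrime.ne_top'
  rw [eq_bot_iff]
  intro v hv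
  rw [Submodule.mem_iInf] at hv
  have : v ∈ (⨅ i : ℕ, maximalIdeal R ^ i • ⊤ : Submodule R V) := by
    rw [Submodule.mem_iInf]
    intro n
    exact hv n
  rw [hK] at this
  simpa using this

end Groth.Agent.Lib.Helper69.PrimKR
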