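import Groth.Agent.Lib.Helper69.PruferSerreT7b

set_option autoImplicit false
universe u

open AlgebraicGeometry CategoryTheory CategoryTheory.Limits TensorProduct Opposite

namespace Groth.Agent.Lib.Helper69.PruferSerreT2

open Groth.Agent.Lib.Helper69.PruferSerreT7

/-- **T2**: `P^n_R` over a Prüfer domain `R` is locally coherent (standard charts). -/
theorem coherent_chart (R : Type u) [CommRing R] [IsDomain R]
    (hR : ∀ (p : Ideal R) [p.IsPrime], ValuationRing (Localization.AtPrime p)) (n : ℕ)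
    (x : CohB1.ProjSpace n R) :
    ∃ U : (CohB1.ProjSpace n R).Opens, IsAffineOpen U ∧ x ∈ U ∧
      ∀ I : Ideal Γ(CohB1.ProjSpace n R, U), I.FG →
        Module.FinitePresentation Γ(CohB1.ProjSpace n R, U) I := by
  obtain ⟨i, hi⟩ := exists_mem_U R n x
  refine ⟨Groth.Agent.Lib.Helper93.PnCoh.U n R i, isAffineOpen_U R n i, hi, ?_⟩
  intro I hI
  letI : Algebra R Γ(CohB1.ProjSpace n R, Groth.Agent.Lib.Helper93.PnCoh.U n R i) :=
    (chartMap R (CohB1.ProjSpace.toSpec n R) (Groth.Agent.Lib.Helper93.PnCoh.U n R i)).toAlgebra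
  haveI : Algebra.FinitePresentation R
      Γ(CohB1.ProjSpace n R, Groth.Agent.Lib.Helper93.PnCoh.U n R i) :=
    finitePresentation_chartMap_U R n i
  exact Groth.Agent.S14742.result R hR _ I hI

end Groth.Agent.Lib.Helper69.PruferSerreT2
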