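import Groth.Agent.S14742
import Groth.Agent.Lib.Helper63.PruferFP
import Groth.Prelude.Def_CohB1

set_option autoImplicit false
universe u

open AlgebraicGeometry CategoryTheory CategoryTheory.Limits TensorProduct Opposite

namespace Groth.Agent.Lib.Helper69.PruferSerreT7

/-- A flat quotient of a finitely presented algebra over a Prüfer domain is finitely presented. -/
theorem finitePresentation_of_surjective_flat (R : Type u) [CommRing R] [IsDomain R]
    (hR : ∀ (p : Ideal R) [p.IsPrime], ValuationRing (Localization.AtPrime p))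
    (A B : Type u) [CommRing A] [CommRing B] [Algebra R A] [Algebra.FinitePresentation R A]
    [Algebra R B] [Algebra A B] [IsScalarTower R A B]
    (hq : Function.Surjective (algebraMap A B)) [Module.Flat R B] :
    Module.FinitePresentation A B ∧ Algebra.FinitePresentation R B := by
  haveI : Module.Finite A B := Module.Finite.of_surjective (Algebra.linearMap A B) hq
  have htf : ∀ a : R, a ≠ 0 → ∀ m : B, a • m = 0 → m = 0 := by
    intro a ha m hm
    have hreg : IsSMulRegular B a :=
      Module.Flat.isSMulRegular_of_nonZeroDivisors (mem_nonZeroDivisors_of_ne_zero ha)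
    exact hreg (by simpa using hm)
  haveI hfp : Module.FinitePresentation A B :=
    Groth.Agent.Lib.Helper63.PruferFP.finitePresentation_of_torsionFree R hR A B htf
  refine ⟨hfp, ?_⟩
  have hker : (LinearMap.ker (Algebra.linearMap A B)).FG :=
    Module.FinitePresentation.fg_ker (Algebra.linearMap A B) hq
  refine Algebra.FinitePresentation.of_surjective (f := IsScalarTower.toAlgHom R A B) hq ?_
  have : RingHom.ker (IsScalarTower.toAlgHom R A B).toRingHom =
      LinearMap.ker (Algebra.linearMap A B) := by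
    ext x
    simp [RingHom.mem_ker, LinearMap.mem_ker]
  rw [this]
  exact hker

/-- Over a Prüfer domain, a flat quotient of a finitely presented algebra is a coherent ring. -/
theorem coherent_of_surjective_flat (R : Type u) [CommRing R] [IsDomain R]
    (hR : ∀ (p : Ideal R) [p.IsPrime], ValuationRing (Localization.AtPrime p))
    (A B : Type u) [CommRing A] [CommRing B] [Algebra R A] [Algebra.FinitePresentation R A]
    [Algebra R B] [Algebra A B] [IsScalarTower R A B]
    (hq : Function.Surjective (algebraMap A B)) [Module.Flat R B]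
    (I : Ideal B) (hI : I.FG) : Module.FinitePresentation B I := by
  haveI := (finitePresentation_of_surjective_flat R hR A B hq).2
  exact Groth.Agent.S14742.result R hR B I hI

section chart

variable (R : Type u) [CommRing R] {P X : Scheme.{u}} (π : P ⟶ Spec (CommRingCat.of R))
  (ι : X ⟶ P) (V : P.Opens)

/-- The structure map `R → Γ(P, V)` induced by `π : P ⟶ Spec R`. -/
noncomputable def chartMap : R →+* Γ(P, V) :=
  ((Scheme.ΓSpecIso (CommRingCat.of R)).inv ≫ π.appLE ⊤ V le_top).hom

/-- The structure map `R → Γ(X, ι⁻¹ V)` induced by `ι ≫ π`. -/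
noncomputable def chartMapX : R →+* Γ(X, ι ⁻¹ᵁ V) :=
  ((Scheme.ΓSpecIso (CommRingCat.of R)).inv ≫ (ι ≫ π).appLE ⊤ (ι ⁻¹ᵁ V) le_top).hom

theorem chartMapX_eq : chartMapX R π ι V = (ι.app V).hom.comp (chartMap R π V) := by
  unfold chartMapX chartMap
  rw [← CommRingCat.hom_comp, Category.assoc]
  congr 2
  rw [← Scheme.Hom.appLE_eq_app (f := ι), Scheme.Hom.appLE_comp_appLE]

theorem isAffineOpen_preimage [IsClosedImmersion ι] (hV : IsAffineOpen V) :
    IsAffineOpen (ι ⁻¹ᵁ V) := hV.preimage ι

theorem app_surjective [IsClosedImmersion ι] (hV : IsAffineOpen V) :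
    Function.Surjective (ι.app V).hom := ι.app_surjective V hV

theorem flat_chartMapX [IsClosedImmersion ι] [Flat (ι ≫ π)] (hV : IsAffineOpen V) :
    (chartMapX R π ι V).Flat := by
  unfold chartMapX
  rw [CommRingCat.hom_comp]
  refine RingHom.Flat.comp ?_ ?_
  · exact RingHom.Flat.of_bijective
      (ConcreteCategory.bijective_of_isIso (Scheme.ΓSpecIso (CommRingCat.of R)).inv)
  · exact Scheme.Hom.flat_appLE (ι ≫ π) (isAffineOpen_top _) (hV.preimage ι) le_top

/-- **Generic chart statement**: if `V ⊆ P` is an affine open whose coordinate ring is a finitely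
presented `R`-algebra (`R` Prüfer), and `ι : X ⟶ P` is a closed immersion with `X` flat over `R`,
then `ι⁻¹ V` is affine with coherent coordinate ring. -/
theorem coherent_chart_of_finitePresentation [IsDomain R]
    (hR : ∀ (p : Ideal R) [p.IsPrime], ValuationRing (Localization.AtPrime p))
    [IsClosedImmersion ι] [Flat (ι ≫ π)] (hV : IsAffineOpen V)
    (hfp : (chartMap R π V).FinitePresentation)
    (I : Ideal Γ(X, ι ⁻¹ᵁ V)) (hI : I.FG) : Module.FinitePresentation Γ(X, ι ⁻¹ᵁ V) I := by
  letI : Algebra R Γ(P, V) := (chartMap R π V).toAlgebra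
  letI : Algebra R Γ(X, ι ⁻¹ᵁ V) := (chartMapX R π ι V).toAlgebra
  letI : Algebra Γ(P, V) Γ(X, ι ⁻¹ᵁ V) := (ι.app V).hom.toAlgebra
  haveI : IsScalarTower R Γ(P, V) Γ(X, ι ⁻¹ᵁ V) :=
    IsScalarTower.of_algebraMap_eq' (chartMapX_eq R π ι V)
  haveI : Algebra.FinitePresentation R Γ(P, V) := hfp
  haveI : Module.Flat R Γ(X, ι ⁻¹ᵁ V) := flat_chartMapX R π ι V hV
  exact coherent_of_surjective_flat R hR Γ(P, V) Γ(X, ι ⁻¹ᵁ V) (app_surjective ι V hV) I hI

/-- Chart fact for T5: under the same hypotheses, `Γ(X, ι⁻¹ V)` is a finitely presented module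
over `Γ(P, V)` (via `ι.app V`), and a finitely presented `R`-algebra (via `chartMapX`). -/
theorem finitePresentation_chart [IsDomain R]
    (hR : ∀ (p : Ideal R) [p.IsPrime], ValuationRing (Localization.AtPrime p))
    [IsClosedImmersion ι] [Flat (ι ≫ π)] (hV : IsAffineOpen V)
    (hfp : (chartMap R π V).FinitePresentation) :
    (letI : Algebra Γ(P, V) Γ(X, ι ⁻¹ᵁ V) := (ι.app V).hom.toAlgebra
     Module.FinitePresentation Γ(P, V) Γ(X, ι ⁻¹ᵁ V)) ∧
    (chartMapX R π ι V).FinitePresentation := by
  letI : Algebra R Γ(P, V) := (chartMap R π V).toAlgebra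
  letI : Algebra R Γ(X, ι ⁻¹ᵁ V) := (chartMapX R π ι V).toAlgebra
  letI : Algebra Γ(P, V) Γ(X, ι ⁻¹ᵁ V) := (ι.app V).hom.toAlgebra
  haveI : IsScalarTower R Γ(P, V) Γ(X, ι ⁻¹ᵁ V) :=
    IsScalarTower.of_algebraMap_eq' (chartMapX_eq R π ι V)
  haveI : Algebra.FinitePresentation R Γ(P, V) := hfp
  haveI : Module.Flat R Γ(X, ι ⁻¹ᵁ V) := flat_chartMapX R π ι V hV
  have h := finitePresentation_of_surjective_flat R hR Γ(P, V) Γ(X, ι ⁻¹ᵁ V)
    (app_surjective ι V hV)
  exact ⟨h.1, h.2⟩

end chart

end Groth.Agent.Lib.Helper69.PruferSerreT7
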