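import Groth.Agent.Lib.Helper69.PruferSerreT7
import Groth.Agent.Lib.Helper69.AwayFP
import Groth.Agent.Lib.Helper93.PnCoh3

set_option autoImplicit false
universe u

open AlgebraicGeometry CategoryTheory CategoryTheory.Limits TensorProduct Opposite
open HomogeneousLocalization

namespace Groth.Agent.Lib.Helper69.PruferSerreT7

section proj

variable {R A : Type u} [CommRing R] [CommRing A] [Algebra R A] (𝒜 : ℕ → Submodule R A)
  [GradedAlgebra 𝒜]

/-- The structure morphism `Proj 𝒜 ⟶ Spec R`. -/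
noncomputable def projToSpec : Proj 𝒜 ⟶ Spec (CommRingCat.of R) :=
  Proj.toSpecZero 𝒜 ≫ Spec.map (CommRingCat.ofHom (algebraMap R (𝒜 0)))

variable {f : A} {m : ℕ} (f_deg : f ∈ 𝒜 m) (hm : 0 < m)

theorem awayι_projToSpec :
    Proj.awayι 𝒜 f f_deg hm ≫ projToSpec 𝒜 =
      Spec.map (CommRingCat.ofHom (Groth.Agent.Lib.Helper69.AwayFP.awayStructMap 𝒜 f)) := by
  unfold projToSpec Groth.Agent.Lib.Helper69.AwayFP.awayStructMap
  rw [Proj.awayι_toSpecZero_assoc, ← Spec.map_comp]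
  rfl

include f_deg hm in
/-- If `R → A_(f)` is finitely presented, then `R → Γ(Proj 𝒜, D₊(f))` is finitely presented. -/
theorem finitePresentation_chartMap_basicOpen
    (hfp : (Groth.Agent.Lib.Helper69.AwayFP.awayStructMap 𝒜 f).FinitePresentation) :
    (chartMap R (projToSpec 𝒜) (Proj.basicOpen 𝒜 f)).FinitePresentation := by
  have hjV : (Proj.awayι 𝒜 f f_deg hm) ''ᵁ ⊤ = Proj.basicOpen 𝒜 f := by
    rw [Scheme.Hom.image_top_eq_opensRange, Proj.opensRange_awayι]
  rw [← hjV]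
  set j := Proj.awayι 𝒜 f f_deg hm with hj
  haveI : IsIso (j.appLE (j ''ᵁ ⊤) ⊤ (j.preimage_image_eq _).ge) := by
    rw [← Scheme.Hom.appIso_hom']
    infer_instance
  unfold chartMap
  have key : ((Scheme.ΓSpecIso (CommRingCat.of R)).inv ≫
      (projToSpec 𝒜).appLE ⊤ (j ''ᵁ ⊤) le_top) ≫
        j.appLE (j ''ᵁ ⊤) ⊤ (j.preimage_image_eq _).ge =
      CommRingCat.ofHom (Groth.Agent.Lib.Helper69.AwayFP.awayStructMap 𝒜 f) ≫
        (Scheme.ΓSpecIso (CommRingCat.of (Away 𝒜 f))).inv := by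
    rw [Category.assoc, Scheme.Hom.appLE_comp_appLE, Scheme.ΓSpecIso_inv_naturality]
    congr 1
    have h2 := awayι_projToSpec 𝒜 f_deg hm
    rw [← hj] at h2
    have key2 : ∀ (g g' : Spec (CommRingCat.of (Away 𝒜 f)) ⟶ Spec (CommRingCat.of R))
        (h : g = g') (e : (⊤ : (Spec (CommRingCat.of (Away 𝒜 f))).Opens) ≤ g ⁻¹ᵁ ⊤),
        g.appLE ⊤ ⊤ e = g'.appTop := by
      rintro g _ rfl e
      simp [Scheme.Hom.appLE]
    exact key2 _ _ h2 _
  rw [← RingHom.finitePresentation_respectsIso.cancel_right_isIso _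
    (j.appLE (j ''ᵁ ⊤) ⊤ (j.preimage_image_eq _).ge), ← CommRingCat.hom_comp, key,
    CommRingCat.hom_comp, RingHom.finitePresentation_respectsIso.cancel_right_isIso]
  exact hfp

end proj

section final

variable (R : Type u) [CommRing R] (n : ℕ)

theorem toSpec_eq : CohB1.ProjSpace.toSpec n R = projToSpec (CohB1.polyGrading n R) := rfl

theorem finitePresentation_chartMap_U (i : Groth.Agent.Lib.Helper93.PnCoh.Idx.{u} n) :
    (chartMap R (CohB1.ProjSpace.toSpec n R)
      (Groth.Agent.Lib.Helper93.PnCoh.U n R i)).FinitePresentation := by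
  have hdeg : (MvPolynomial.X i.down : MvPolynomial (Fin (n + 1)) R) ∈ CohB1.polyGrading n R 1 :=
    MvPolynomial.isHomogeneous_X R i.down
  exact finitePresentation_chartMap_basicOpen (CohB1.polyGrading n R) hdeg Nat.one_pos
    (Groth.Agent.Lib.Helper69.AwayFP.finitePresentation_awayStructMap (CohB1.polyGrading n R) hdeg)

theorem isAffineOpen_U (i : Groth.Agent.Lib.Helper93.PnCoh.Idx.{u} n) :
    IsAffineOpen (Groth.Agent.Lib.Helper93.PnCoh.U n R i) := by
  have hdeg : (MvPolynomial.X i.down : MvPolynomial (Fin (n + 1)) R) ∈ CohB1.polyGrading n R 1 :=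
    MvPolynomial.isHomogeneous_X R i.down
  exact Proj.isAffineOpen_basicOpen (CohB1.polyGrading n R) _ hdeg Nat.one_pos

theorem exists_mem_U (y : Proj (CohB1.polyGrading n R)) :
    ∃ i, y ∈ Groth.Agent.Lib.Helper93.PnCoh.U n R i := by
  have h : y ∈ (⨆ i, Groth.Agent.Lib.Helper93.PnCoh.U n R i) := by
    rw [Groth.Agent.Lib.Helper93.PnCoh.iSup_U n R]; trivial
  exact TopologicalSpace.Opens.mem_iSup.mp h

/-- **T7**: a closed subscheme of `P^n_R`, flat over the Prüfer domain `R`, is locally coherent. -/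
theorem coherent_chart_X [IsDomain R]
    (hR : ∀ (p : Ideal R) [p.IsPrime], ValuationRing (Localization.AtPrime p)) (n : ℕ)
    (X : Scheme.{u}) (ι : X ⟶ CohB1.ProjSpace n R) [IsClosedImmersion ι]
    [Flat (ι ≫ CohB1.ProjSpace.toSpec n R)] (x : X) :
    ∃ U : X.Opens, IsAffineOpen U ∧ x ∈ U ∧
      ∀ I : Ideal Γ(X, U), I.FG → Module.FinitePresentation Γ(X, U) I := by
  obtain ⟨i, hi⟩ := exists_mem_U R n (ι x)
  refine ⟨ι ⁻¹ᵁ (Groth.Agent.Lib.Helper93.PnCoh.U n R i),
    isAffineOpen_preimage (P := CohB1.ProjSpace n R) ι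
      (Groth.Agent.Lib.Helper93.PnCoh.U n R i) (isAffineOpen_U R n i), hi, ?_⟩
  intro I hI
  exact coherent_chart_of_finitePresentation R (CohB1.ProjSpace.toSpec n R) ι
    (Groth.Agent.Lib.Helper93.PnCoh.U n R i) hR (isAffineOpen_U R n i)
    (finitePresentation_chartMap_U R n i) I hI

end final

end Groth.Agent.Lib.Helper69.PruferSerreT7
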