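import Mathlib
import Groth.Agent.Lib.Helper19.UnramifiedBaseChange
import Groth.Agent.Lib.Helper69.FinFlatPurity

/-!
# Purity of the branch locus for flat quasi-finite algebras (helper69)

* `exists_prime_height_eq_one`: in a Noetherian ring, an element of a prime of height `≥ 1` lies
  in a prime of height exactly one contained in it.
* `etale_localization'`: local purity for finite flat algebras (hypotheses only over height one
  primes contained in `p`).
* `height_eq_of_flat_of_quasiFiniteAt`: heights are preserved along flat maps at quasi-finite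
  primes.
* `mem_unramifiedLocus_of_isPushout`: base change preserves unramifiedness at a prime.
* `isUnramifiedAt_of_height_one`: **purity for flat quasi-finite algebras** via étale
  localization (Stacks 00UJ).
-/

set_option autoImplicit false
set_option linter.style.haveILetI false

namespace Groth.Agent.Lib.Helper69.QFPurity

open TensorProduct
open Groth.Agent.Lib.Helper27.DiscEtale Groth.Agent.Lib.Helper27.DiscLocal
open Groth.Agent.Lib.Helper69.FinFlatPurity

universe u

/-- In a Noetherian ring, an element of a prime of height at least one lies in a prime of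
height exactly one contained in it. -/
theorem exists_prime_height_eq_one {R : Type*} [CommRing R] [IsNoetherianRing R] (d : R) :
    ∀ (n : ℕ) (P : Ideal R) [P.IsPrime], P.height = n → 1 ≤ n → d ∈ P →
      ∃ Q : Ideal R, Q.IsPrime ∧ d ∈ Q ∧ Q ≤ P ∧ Q.height = 1 := by
  intro n
  induction n using Nat.strong_induction_on with
  | _ n IH =>
    intro P hP hn h1 hd
    by_cases hn1 : n = 1
    · subst hn1
      exact ⟨P, hP, hd, le_rfl, by simpa using hn⟩
    have hn2 : 2 ≤ n := by omega
    -- a prime `P₁ < P` of height at least one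
    have hnot : ¬ P.height ≤ (1 : ℕ) := by
      rw [hn]; simp only [Nat.cast_le]; omega
    rw [Ideal.height_le_iff] at hnot
    push Not at hnot
    obtain ⟨P₁, hP₁, hP₁P, hP₁h⟩ := hnot
    have hP₁fin : P₁.height < n := by
      rw [← hn]; exact Ideal.height_strict_mono_of_isPrime_of_isPrime hP₁P
    obtain ⟨m₁, hm₁⟩ := ENat.ne_top_iff_exists.mp (ne_top_of_lt hP₁fin)
    have hm₁n : m₁ < n := by rw [← hm₁] at hP₁fin; exact_mod_cast hP₁fin
    have hm₁1 : 1 ≤ m₁ := by rw [← hm₁] at hP₁h; exact_mod_cast hP₁h
    -- a prime `P₀ < P₁`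
    have hnot0 : ¬ P₁.height ≤ (0 : ℕ) := by
      rw [← hm₁]; simp only [Nat.cast_le]; omega
    rw [Ideal.height_le_iff] at hnot0
    push Not at hnot0
    obtain ⟨P₀, hP₀, hP₀P₁, -⟩ := hnot0
    by_cases hd0 : d ∈ P₀
    · obtain ⟨Q, hQ, hdQ, hQP₁, hQh⟩ := IH m₁ hm₁n P₁ hm₁.symm hm₁1 (hP₀P₁.le hd0)
      exact ⟨Q, hQ, hdQ, hQP₁.trans hP₁P.le, hQh⟩
    · have hle : P₀ ⊔ Ideal.span {d} ≤ P :=
        sup_le (hP₀P₁.le.trans hP₁P.le) ((Ideal.span_singleton_le_iff_mem _).mpr hd)
      obtain ⟨Q, hQ, hQP⟩ := Ideal.exists_minimalPrimes_le hle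
      have hQp : Q.IsPrime := hQ.1.1
      have hdQ : d ∈ Q := hQ.1.2 (le_sup_right (a := P₀) (Ideal.subset_span rfl))
      have hP₀Q : P₀ < Q := by
        refine lt_of_le_of_ne (le_sup_left.trans hQ.1.2) ?_
        rintro rfl
        exact hd0 hdQ
      have hQneP : Q ≠ P := by
        rintro rfl
        have hspan : Ideal.span (insert d (P₀ : Set R)) = P₀ ⊔ Ideal.span {d} := by
          rw [Ideal.span_insert, Ideal.span_eq, sup_comm]
        have hmin := Ideal.mem_minimalPrimes_span_of_mem_minimalPrimes_span_insert hP₁P d
          (P₀ : Set R) (hspan ▸ hQ) (P₀ : Set R) hP₀P₁.le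
          (fun x hx => Ideal.le_radical (Ideal.subset_span (Set.mem_insert_of_mem _ hx)))
        rw [Ideal.span_eq] at hmin
        exact hP₀P₁.not_ge (hmin.2 ⟨hP₀, le_rfl⟩ hP₀P₁.le)
      have hQltP : Q < P := lt_of_le_of_ne hQP hQneP
      have hQfin : Q.height < n := by
        rw [← hn]; exact Ideal.height_strict_mono_of_isPrime_of_isPrime hQltP
      obtain ⟨m, hm⟩ := ENat.ne_top_iff_exists.mp (ne_top_of_lt hQfin)
      have hmn : m < n := by rw [← hm] at hQfin; exact_mod_cast hQfin
      have hm1 : 1 ≤ m := by
        have := Ideal.height_add_one_le_of_lt_of_isPrime hP₀Q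
        rw [← hm] at this
        have h2 : (1 : ℕ∞) ≤ (m : ℕ∞) := le_trans (by simp) this
        exact_mod_cast h2
      obtain ⟨Q', hQ', hdQ', hQ'Q, hQ'h⟩ := IH m hmn Q hm.symm hm1 hdQ
      exact ⟨Q', hQ', hdQ', hQ'Q.trans hQP, hQ'h⟩

section
variable (R B : Type u) [CommRing R] [CommRing B] [Algebra R B] (p : Ideal R) [p.IsPrime]
variable [IsNoetherianRing R] [Module.Finite R B] [Module.Flat R B]

/-- Local purity for finite flat algebras: if `ht p ≥ 1` and `B` is unramified at all primes
lying over primes of height exactly one contained in `p`, then `B_p` is étale over `R_p`. -/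
theorem etale_localization'
    (hp : 1 ≤ p.height)
    (H : ∀ (n : Ideal B) [n.IsPrime], n.comap (algebraMap R B) ≤ p →
      (n.comap (algebraMap R B)).height = 1 → Algebra.IsUnramifiedAt R n) :
    Algebra.Etale (Localization.AtPrime p)
      (Localization (Algebra.algebraMapSubmonoid B p.primeCompl)) := by
  classical
  set R' := Localization.AtPrime p with hR'
  set B' := Localization (Algebra.algebraMapSubmonoid B p.primeCompl) with hB'
  haveI : Module.Finite R' B' := Module.Finite.of_isLocalization R B p.primeCompl
  haveI : Module.Flat R B' := Module.Flat.trans R B B'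
  haveI : Module.Flat R' B' := (Module.flat_iff_of_isLocalization R' p.primeCompl B').mpr inferInstance
  haveI : Module.Free R' B' := Module.free_of_flat_of_isLocalRing
  let b := Module.Free.chooseBasis R' B'
  rw [etale_iff_isUnit_discr b]
  by_contra hd
  have hdm : Algebra.discr R' b ∈ IsLocalRing.maximalIdeal R' := hd
  have hmh : (IsLocalRing.maximalIdeal R').height = p.height := by
    have := IsLocalization.height_under p.primeCompl (IsLocalRing.maximalIdeal R')
    rw [Localization.AtPrime.under_maximalIdeal] at this
    exact this.symm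
  obtain ⟨k, hk⟩ := ENat.ne_top_iff_exists.mp
    (Ideal.height_ne_top_of_isPrime (I := IsLocalRing.maximalIdeal R'))
  have hk1 : 1 ≤ k := by
    have : (1 : ℕ∞) ≤ (k : ℕ∞) := by rw [hk, hmh]; exact hp
    exact_mod_cast this
  obtain ⟨q, hqp, hdq, hqm, hht⟩ := exists_prime_height_eq_one (Algebra.discr R' b) k
    (IsLocalRing.maximalIdeal R') hk.symm hk1 hdm
  refine discr_notMem_of_isUnramifiedAt b q ?_ hdq
  intro n' hn' hn'q
  -- the prime of B below n'
  have hcomap : (n'.comap (algebraMap B B')).comap (algebraMap R B) = q.comap (algebraMap R R') := by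
    rw [Ideal.comap_comap, ← IsScalarTower.algebraMap_eq, ← hn'q, Ideal.comap_comap,
      ← IsScalarTower.algebraMap_eq]
  have hht' : ((n'.comap (algebraMap B B')).comap (algebraMap R B)).height = 1 := by
    rw [hcomap]
    have := IsLocalization.height_under p.primeCompl q
    rw [Ideal.under_def] at this
    rw [this]; exact hht
  have hle' : (n'.comap (algebraMap B B')).comap (algebraMap R B) ≤ p := by
    rw [hcomap]
    have h1 : q.comap (algebraMap R R') ≤ (IsLocalRing.maximalIdeal R').comap (algebraMap R R') :=
      Ideal.comap_mono hqm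
    have h2 := Localization.AtPrime.under_maximalIdeal (I := p)
    rw [Ideal.under_def] at h2
    rwa [h2] at h1
  have h1 := H (n'.comap (algebraMap B B')) hle' hht'
  have h2 : Algebra.FormallyUnramified R (Localization.AtPrime n') :=
    formallyUnramified_atPrime_of_comap R B p n' h1
  exact Algebra.FormallyUnramified.of_restrictScalars R R' (Localization.AtPrime n')

end

/-- Heights are preserved under flat maps at quasi-finite primes. -/
theorem height_eq_of_flat_of_quasiFiniteAt {R S : Type*} [CommRing R] [CommRing S] [Algebra R S]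
    [IsNoetherianRing R] [IsNoetherianRing S] [Module.Flat R S] (P : Ideal S) [P.IsPrime] [Algebra.QuasiFiniteAt R P] :
    P.height = (P.comap (algebraMap R S)).height := by
  set p := P.comap (algebraMap R S) with hp
  haveI : p.IsPrime := Ideal.comap_isPrime _ _
  haveI : P.LiesOver p := ⟨rfl⟩
  rw [Ideal.height_eq_height_add_of_liesOver_of_hasGoingDown p P]
  suffices h : (P.map (Ideal.Quotient.mk (p.map (algebraMap R S)))).height = 0 by
    rw [h, add_zero]
  set f := Ideal.Quotient.mk (p.map (algebraMap R S)) with hf
  have hfs : Function.Surjective f := Ideal.Quotient.mk_surjective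
  have hker : RingHom.ker f ≤ P := by
    rw [hf, Ideal.mk_ker, Ideal.map_le_iff_le_comap]
  haveI : (P.map f).IsPrime := Ideal.map_isPrime_of_surjective hfs hker
  rw [Ideal.height_eq_zero_iff]
  refine ⟨⟨inferInstance, bot_le⟩, ?_⟩
  rintro J ⟨hJ, -⟩ hJP
  -- the preimage of J
  haveI : (J.comap f).IsPrime := Ideal.comap_isPrime _ _
  have h1 : J.comap f ≤ P := by
    have := Ideal.comap_mono (f := f) hJP
    rwa [Ideal.comap_map_of_surjective f hfs, ← RingHom.ker_eq_comap_bot,
      sup_eq_left.mpr hker] at this
  have h2 : (J.comap f).under R = P.under R := by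
    apply le_antisymm (Ideal.comap_mono h1)
    change p ≤ _
    rw [← Ideal.map_le_iff_le_comap]
    intro x hx
    rw [Ideal.mem_comap]
    have : f x = 0 := by rw [hf]; exact Ideal.Quotient.eq_zero_iff_mem.mpr hx
    rw [this]; exact zero_mem _
  have h3 := Algebra.QuasiFiniteAt.eq_of_le_of_under_eq (R := R) h1 h2
  rw [← h3, Ideal.map_comap_of_surjective f hfs]

theorem notMem_support_baseChange {A B M : Type*} [CommRing A] [CommRing B] [Algebra A B]
    [AddCommGroup M] [Module A M] (P : PrimeSpectrum B)
    (h : PrimeSpectrum.comap (algebraMap A B) P ∉ Module.support A M) :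
    P ∉ Module.support B (B ⊗[A] M) := by
  rw [Module.notMem_support_iff'] at h ⊢
  intro z
  induction z using TensorProduct.induction_on with
  | zero => exact ⟨1, P.2.one_notMem, by simp⟩
  | tmul b m =>
    obtain ⟨r, hr, hrm⟩ := h m
    refine ⟨algebraMap A B r, hr, ?_⟩
    have : algebraMap A B r • (b ⊗ₜ[A] m) = r • (b ⊗ₜ[A] m) := by
      rw [algebraMap_smul]
    rw [this, TensorProduct.smul_tmul', TensorProduct.smul_tmul, hrm, TensorProduct.tmul_zero]
  | add x y hx hy =>
    obtain ⟨r, hr, hrx⟩ := hx
    obtain ⟨s, hs, hsy⟩ := hy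
    refine ⟨r * s, fun hrs => (P.2.mem_or_mem hrs).elim hr hs, ?_⟩
    rw [smul_add, mul_smul r s y, hsy, smul_zero, mul_comm, mul_smul, hrx, smul_zero, add_zero]

/-- Base change preserves unramifiedness at a prime. -/
theorem mem_unramifiedLocus_of_isPushout {A A' B B' : Type u} [CommRing A] [CommRing A']
    [CommRing B] [CommRing B'] [Algebra A A'] [Algebra A B] [Algebra A' B'] [Algebra B B']
    [Algebra A B'] [IsScalarTower A A' B'] [IsScalarTower A B B'] [Algebra.IsPushout A A' B B']
    (P' : PrimeSpectrum B')
    (h : PrimeSpectrum.comap (algebraMap B B') P' ∈ Algebra.unramifiedLocus A B) :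
    P' ∈ Algebra.unramifiedLocus A' B' := by
  rw [Algebra.unramifiedLocus_eq_compl_support] at h ⊢
  intro hmem
  rw [← (KaehlerDifferential.tensorKaehlerEquiv A A' B B').support_eq] at hmem
  exact notMem_support_baseChange _ h hmem

theorem isUnramifiedAt_localization_iff (R T : Type*) [CommRing R] [CommRing T] [Algebra R T]
    (M : Submonoid T) (n : Ideal (Localization M)) [n.IsPrime] :
    Algebra.IsUnramifiedAt R n ↔
      Algebra.IsUnramifiedAt R (n.comap (algebraMap T (Localization M))) := by
  constructor
  · intro h
    have h' : Algebra.FormallyUnramified R (Localization.AtPrime n) := h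
    change Algebra.FormallyUnramified R (Localization.AtPrime
      (n.comap (algebraMap T (Localization M))))
    exact Algebra.FormallyUnramified.of_equiv
      ((IsLocalization.localizationLocalizationAtPrimeIsoLocalization M n).restrictScalars R).symm
  · intro h
    have h' : Algebra.FormallyUnramified R (Localization.AtPrime
      (n.comap (algebraMap T (Localization M)))) := h
    change Algebra.FormallyUnramified R (Localization.AtPrime n)
    exact Algebra.FormallyUnramified.of_equiv
      ((IsLocalization.localizationLocalizationAtPrimeIsoLocalization M n).restrictScalars R)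

/-- If `B_p` is étale over `R_p`, then `B` is unramified at every prime over a prime `≤ p`. -/
theorem isUnramifiedAt_of_etale_localization (R B : Type u) [CommRing R] [CommRing B] [Algebra R B]
    (p : Ideal R) [p.IsPrime]
    (het : Algebra.Etale (Localization.AtPrime p)
      (Localization (Algebra.algebraMapSubmonoid B p.primeCompl)))
    (n : Ideal B) [hn : n.IsPrime] (hnp : n.comap (algebraMap R B) ≤ p) :
    Algebra.IsUnramifiedAt R n := by
  set B' := Localization (Algebra.algebraMapSubmonoid B p.primeCompl) with hB'
  have hdisj : Disjoint (Algebra.algebraMapSubmonoid B p.primeCompl : Set B) (n : Set B) := by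
    rw [Set.disjoint_left]
    rintro _ ⟨r, hr, rfl⟩ hrn
    exact hr (hnp hrn)
  have hn' : (n.map (algebraMap B B')).IsPrime :=
    IsLocalization.isPrime_of_isPrime_disjoint _ B' n hn hdisj
  have hcomap : (n.map (algebraMap B B')).comap (algebraMap B B') = n :=
    IsLocalization.under_map_of_isPrime_disjoint _ B' hn hdisj
  haveI : Algebra.FormallyUnramified R (Localization.AtPrime p) :=
    Algebra.FormallyUnramified.of_isLocalization p.primeCompl
  haveI : Algebra.FormallyUnramified R B' :=
    Algebra.FormallyUnramified.comp R (Localization.AtPrime p) B'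
  haveI : Algebra.FormallyUnramified B' (Localization.AtPrime (n.map (algebraMap B B'))) :=
    Algebra.FormallyUnramified.of_isLocalization (n.map (algebraMap B B')).primeCompl
  have h1 : Algebra.FormallyUnramified R (Localization.AtPrime (n.map (algebraMap B B'))) :=
    Algebra.FormallyUnramified.comp R B' _
  have h2 := (isUnramifiedAt_localization_iff R B _ (n.map (algebraMap B B'))).mp h1
  exact isUnramifiedAt_congr _ _ hcomap h2

attribute [local instance] Algebra.TensorProduct.rightAlgebra in
/-- **Purity for flat quasi-finite algebras** (ring level). -/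
theorem isUnramifiedAt_of_height_one {R S : Type u} [CommRing R] [CommRing S] [Algebra R S]
    [IsNoetherianRing R] [Algebra.FiniteType R S] [Module.Flat R S]
    (q : Ideal S) [q.IsPrime] [Algebra.QuasiFiniteAt R q] (h1 : 1 ≤ q.height)
    (H : ∀ (q' : Ideal S) [q'.IsPrime], q' ≤ q → q'.height = 1 → Algebra.IsUnramifiedAt R q') :
    Algebra.IsUnramifiedAt R q := by
  haveI : IsNoetherianRing S := Algebra.FiniteType.isNoetherianRing R S
  set p := q.under R with hp
  haveI : q.LiesOver p := ⟨rfl⟩
  obtain ⟨R', _, _, het, P, _, _, e, he, P', _, _, hP'q, heP', hres, hfin, huniq⟩ :=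
    Algebra.exists_etale_isIdempotentElem_forall_liesOver_eq p q
  haveI : IsNoetherianRing R' := Algebra.FiniteType.isNoetherianRing R R'
  haveI : IsNoetherianRing (R' ⊗[R] S) := Algebra.FiniteType.isNoetherianRing R' (R' ⊗[R] S)
  haveI : Module.Flat R' (Localization.Away e) := Module.Flat.trans R' (R' ⊗[R] S) _
  haveI : Algebra.QuasiFiniteAt R P := inferInstance
  -- heights
  have hqh : q.height = p.height := height_eq_of_flat_of_quasiFiniteAt (R := R) q
  have hPh : P.height = p.height := by
    rw [height_eq_of_flat_of_quasiFiniteAt (R := R) P, ← Ideal.under_def, ← P.over_def p]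
  have hP1 : 1 ≤ P.height := by rw [hPh, ← hqh]; exact h1
  have hqP' : P'.comap (algebraMap S (R' ⊗[R] S)) = q := hP'q
  -- key: primes of `C` over primes below `P` contract into `P'`
  have key : ∀ (n : Ideal (Localization.Away e)) [n.IsPrime], n.comap (algebraMap R' (Localization.Away e)) ≤ P →
      n.comap (algebraMap (R' ⊗[R] S) (Localization.Away e)) ≤ P' := by
    intro n hn hnP
    obtain ⟨n'', hn'', hn''p, hn''c⟩ := Ideal.exists_ideal_over_prime_of_isIntegral P n hnP
    have hN'' : (n''.comap (algebraMap (R' ⊗[R] S) (Localization.Away e))).IsPrime := Ideal.comap_isPrime _ _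
    have hlies : (n''.comap (algebraMap (R' ⊗[R] S) (Localization.Away e))).LiesOver P := ⟨by
      rw [Ideal.under_def, Ideal.comap_comap, ← IsScalarTower.algebraMap_eq, hn''c]⟩
    have heN'' : e ∉ n''.comap (algebraMap (R' ⊗[R] S) (Localization.Away e)) := by
      intro hmem
      rw [Ideal.mem_comap] at hmem
      exact hn''p.ne_top (Ideal.eq_top_of_isUnit_mem _ hmem
        (IsLocalization.Away.algebraMap_isUnit e))
    have := huniq _ hN'' hlies heN''
    rw [← this]
    exact Ideal.comap_mono hn''
  have HC : ∀ (n : Ideal (Localization.Away e)) [n.IsPrime], n.comap (algebraMap R' (Localization.Away e)) ≤ P →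
      (n.comap (algebraMap R' (Localization.Away e))).height = 1 → Algebra.IsUnramifiedAt R' n := by
    intro n hn hnP hnh
    have hNP' := key n hnP
    set N := n.comap (algebraMap (R' ⊗[R] S) (Localization.Away e)) with hN
    haveI : N.IsPrime := Ideal.comap_isPrime _ _
    set q' := N.comap (algebraMap S (R' ⊗[R] S)) with hq'
    haveI : q'.IsPrime := Ideal.comap_isPrime _ _
    have hq'q : q' ≤ q := by rw [← hqP']; exact Ideal.comap_mono hNP'
    haveI : Algebra.QuasiFiniteAt R q' := Algebra.QuasiFiniteAt.of_le hq'q
    haveI : (n.comap (algebraMap R' (Localization.Away e))).IsPrime := Ideal.comap_isPrime _ _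
    have hq'h : q'.height = 1 := by
      rw [height_eq_of_flat_of_quasiFiniteAt (R := R) q', ← hnh,
        height_eq_of_flat_of_quasiFiniteAt (R := R) (n.comap (algebraMap R' (Localization.Away e)))]
      congr 1
      rw [hq', hN]
      simp only [Ideal.comap_comap, ← IsScalarTower.algebraMap_eq]
    have hunr := H q' hq'q hq'h
    have h2 : (⟨N, inferInstance⟩ : PrimeSpectrum (R' ⊗[R] S)) ∈ Algebra.unramifiedLocus R' (R' ⊗[R] S) :=
      mem_unramifiedLocus_of_isPushout (A := R) (A' := R') (B := S) (B' := R' ⊗[R] S) ⟨N, inferInstance⟩ hunr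
    exact (isUnramifiedAt_localization_iff R' (R' ⊗[R] S) (Submonoid.powers e) n).mpr h2
  have hetC := etale_localization' R' (Localization.Away e) P hP1 HC
  -- the prime of `C` corresponding to `P'`
  have hdisj : Disjoint (Submonoid.powers e : Set (R' ⊗[R] S)) (P' : Set (R' ⊗[R] S)) := by
    rw [Ideal.disjoint_powers_iff_notMem_of_isPrime]; exact heP'
  have hPC : (P'.map (algebraMap (R' ⊗[R] S) (Localization.Away e))).IsPrime :=
    IsLocalization.isPrime_of_isPrime_disjoint (Submonoid.powers e) _ P' inferInstance hdisj
  have hPCc : (P'.map (algebraMap (R' ⊗[R] S) (Localization.Away e))).comap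
      (algebraMap (R' ⊗[R] S) (Localization.Away e)) = P' :=
    IsLocalization.under_map_of_isPrime_disjoint (Submonoid.powers e) _ inferInstance hdisj
  have hPCP : (P'.map (algebraMap (R' ⊗[R] S) (Localization.Away e))).comap
      (algebraMap R' (Localization.Away e)) ≤ P := by
    rw [IsScalarTower.algebraMap_eq R' (R' ⊗[R] S) (Localization.Away e), ← Ideal.comap_comap,
      hPCc, ← Ideal.under_def, ← P'.over_def P]
  have h3 := isUnramifiedAt_of_etale_localization R' (Localization.Away e) P hetC
    (P'.map (algebraMap (R' ⊗[R] S) (Localization.Away e))) hPCP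
  have h4 := (isUnramifiedAt_localization_iff R' (R' ⊗[R] S) (Submonoid.powers e) _).mp h3
  have h5 : Algebra.IsUnramifiedAt R' P' := isUnramifiedAt_congr _ _ hPCc h4
  have h6 := Groth.Agent.Lib.Helper19.comap_mem_unramifiedLocus_of_isPushout (A := R) (A' := R')
    (B := S) (B' := R' ⊗[R] S) ⟨P', inferInstance⟩ h5
  exact isUnramifiedAt_congr _ _ hqP' h6

end Groth.Agent.Lib.Helper69.QFPurity
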