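import Groth.Agent.Lib.Helper69.RatSec
import Mathlib.AlgebraicGeometry.Morphisms.FlatMono

/-!
# Extending rational sections of unramified morphisms at geometrically unibranch points (helper69)
-/

set_option autoImplicit false
set_option linter.style.haveILetI false
set_option linter.unusedSectionVars false
universe u
open CategoryTheory CategoryTheory.Limits AlgebraicGeometry TopologicalSpace

namespace Groth.Agent.Lib.Helper69.RatSec

/-- the stalk of a reduced scheme at a geometrically unibranch point is a domain. -/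
theorem isDomain_stalk_of_isGeomUnibranch {Y : Scheme.{u}} [IsReduced Y] (y : Y)
    (hy : CAlg2.IsGeomUnibranch (Y.presheaf.stalk y)) : IsDomain (Y.presheaf.stalk y) := by
  have h1 : IsDomain (CAlg2.red (Y.presheaf.stalk y)) := hy.1.1
  have hprime : (nilradical (Y.presheaf.stalk y)).IsPrime :=
    (Ideal.Quotient.isDomain_iff_prime _).mp h1
  have hnil : nilradical (Y.presheaf.stalk y) = ⊥ := nilradical_eq_zero _
  rw [hnil] at hprime
  exact IsDomain.of_bot_isPrime _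

/-- irreducible open neighbourhood of a geometrically unibranch point, with its generic point. -/
theorem exists_irreducible_nhd_generic {Y : Scheme.{u}} [IsReduced Y]
    (hcomp : LocallyFinite (fun Z : ↥(irreducibleComponents ↥Y) => (Z : Set ↥Y)))
    (U : Y.Opens) (hU : Dense (U : Set ↥Y)) (y : Y)
    (hy : CAlg2.IsGeomUnibranch (Y.presheaf.stalk y)) :
    ∃ (Y₀ : Y.Opens) (η : Y), y ∈ Y₀ ∧ IsIrreducible (Y₀ : Set Y) ∧ η ∈ Y₀ ∧ η ∈ U ∧
      (Y₀ : Set Y) ⊆ closure {η} := by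
  haveI := isDomain_stalk_of_isGeomUnibranch y hy
  obtain ⟨Y₀, hyY₀, hY₀irr⟩ := exists_irreducible_open_nhd hcomp y
  haveI : IrreducibleSpace ↥Y₀.toScheme := Subtype.irreducibleSpace hY₀irr
  have hsub : (Y₀ : Set Y) ⊆ closure {(genericPoint Y₀.toScheme).1} := by
    intro z hz
    have h2 : (⟨z, hz⟩ : Y₀.toScheme) ∈ closure {genericPoint Y₀.toScheme} := by
      rw [(genericPoint_spec Y₀.toScheme).def]; trivial
    rw [Y₀.ι.isOpenEmbedding.isInducing.closure_eq_preimage_closure_image,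
      Set.image_singleton] at h2
    exact h2
  refine ⟨Y₀, (genericPoint Y₀.toScheme).1, hyY₀, hY₀irr, (genericPoint Y₀.toScheme).2, ?_, hsub⟩
  obtain ⟨z, hzY₀, hzU⟩ := hU.inter_open_nonempty Y₀ Y₀.isOpen ⟨y, hyY₀⟩
  have hsp : (genericPoint Y₀.toScheme).1 ⤳ z := specializes_iff_mem_closure.mpr (hsub hzY₀)
  exact hsp.mem_open U.isOpen hzU

theorem apply_section {X Y : Scheme.{u}} (f : X ⟶ Y) (U : Y.Opens) (u : (U : Scheme.{u}) ⟶ X)
    (hu : u ≫ f = U.ι) (t : U.toScheme) : f (u t) = t.1 := by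
  have := congrArg (fun φ : U.toScheme ⟶ Y => φ t) hu
  exact this

theorem extend_section {X Y : Scheme.{u}} [IsReduced Y]
    (hcomp : LocallyFinite (fun Z : ↥(irreducibleComponents ↥Y) => (Z : Set ↥Y)))
    (f : X ⟶ Y) [IsSeparated f] [LocallyOfFiniteType f] [FormallyUnramified f]
    (U : Y.Opens) (hU : Dense (U : Set ↥Y)) (u : (U : Scheme.{u}) ⟶ X) (hu : u ≫ f = U.ι)
    (x₀ : X) (hy : CAlg2.IsGeomUnibranch (Y.presheaf.stalk (f x₀)))
    (hx₀cl : x₀ ∈ closure (Set.range u)) :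
    ∃ (V : Y.Opens) (v : (V : Scheme.{u}) ⟶ X), f x₀ ∈ V ∧ v ≫ f = V.ι ∧
      Y.homOfLE (inf_le_left : U ⊓ V ≤ U) ≫ u = Y.homOfLE (inf_le_right : U ⊓ V ≤ V) ≫ v := by
  have hdom := isDomain_stalk_of_isGeomUnibranch (f x₀) hy
  obtain ⟨Y₀, η, hyY₀, hY₀irr, hηY₀, hηU, hηgen⟩ :=
    exists_irreducible_nhd_generic hcomp U hU (f x₀) hy
  haveI : IrreducibleSpace ↥Y₀.toScheme := Subtype.irreducibleSpace hY₀irr
  haveI : IsIntegral Y₀.toScheme := isIntegral_of_irreducibleSpace_of_isReduced _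
  set ηU : U.toScheme := ⟨η, hηU⟩ with hηU'
  set ξ := u ηU with hξ
  have hfξ : f ξ = η := apply_section f U u hu ηU
  -- ξ specializes to x₀
  have hξx₀ : ξ ⤳ x₀ := by
    rw [specializes_iff_mem_closure]
    have h1 : x₀ ∈ closure (Set.range u ∩ f ⁻¹' (Y₀ : Set Y)) := by
      rw [mem_closure_iff]
      intro o ho hxo
      obtain ⟨z, ⟨hzo, hzY⟩, hzr⟩ := mem_closure_iff.mp hx₀cl (o ∩ f ⁻¹' (Y₀ : Set Y))
        (ho.inter (Y₀.isOpen.preimage f.continuous)) ⟨hxo, hyY₀⟩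
      exact ⟨z, hzo, hzr, hzY⟩
    refine closure_minimal ?_ isClosed_closure h1
    rintro _ ⟨⟨t, rfl⟩, htY⟩
    have hft : f (u t) = t.1 := apply_section f U u hu t
    have htY' : t.1 ∈ (Y₀ : Set Y) := by
      have : f (u t) ∈ (Y₀ : Set Y) := htY
      rwa [hft] at this
    have hsp : η ⤳ t.1 := specializes_iff_mem_closure.mpr (hηgen htY')
    have hsp' : ηU ⤳ t := (U.ι.isOpenEmbedding.isInducing.specializes_iff).mp hsp
    exact (hsp'.map u.continuous).mem_closure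
  -- étale neighbourhood, irreducible
  obtain ⟨W, hxW, hWY₀, hWet⟩ := exists_etale_nhd f Y₀ x₀ ξ hyY₀ hy hξx₀
    (by rw [hfξ]; exact hηgen)
  haveI := hWet
  obtain ⟨W₁, hxW₁, hW₁W, hW₁irr, hW₁et⟩ :=
    exists_irreducible_etale_nhd f hcomp W x₀ hxW hdom hy
  haveI := hW₁et
  set g₁ := W₁.ι ≫ f with hg₁
  haveI : IrreducibleSpace W₁.toScheme := Subtype.irreducibleSpace hW₁irr
  haveI : IsSeparated g₁ := inferInstance
  haveI : IsOpenImmersion u := by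
    haveI : IsOpenImmersion (u ≫ f) := by rw [hu]; infer_instance
    exact isOpenImmersion_of_comp_unramified u f
  set s := u ∣_ W₁ with hs
  haveI : IsOpenImmersion s := inferInstance
  have hsg : s ≫ g₁ = (u ⁻¹ᵁ W₁).ι ≫ U.ι := by
    rw [hg₁, ← Category.assoc, morphismRestrict_ι, Category.assoc, hu]
  haveI : Mono (s ≫ g₁) := by rw [hsg]; infer_instance
  have hξW₁ : ξ ∈ W₁ := hξx₀.mem_open W₁.isOpen hxW₁
  haveI : Nonempty (u ⁻¹ᵁ W₁).toScheme := ⟨⟨ηU, hξW₁⟩⟩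
  haveI : Mono g₁ := mono_of_section g₁ s
  haveI : IsOpenImmersion g₁ := IsOpenImmersion.of_flat_of_mono g₁
  -- the open `V` and the section `v`
  have hVrange : Set.range g₁.opensRange.ι ⊆ Set.range g₁ := by
    rw [Scheme.Opens.range_ι]; rfl
  set v' : g₁.opensRange.toScheme ⟶ W₁.toScheme :=
    IsOpenImmersion.lift g₁ g₁.opensRange.ι hVrange with hv'def
  have hv' : v' ≫ g₁ = g₁.opensRange.ι := IsOpenImmersion.lift_fac _ _ _
  have hVY₀ : (g₁.opensRange : Set Y) ⊆ Y₀ := by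
    rintro _ ⟨w, rfl⟩
    exact hWY₀ (hW₁W w.2)
  have hηV : η ∈ g₁.opensRange := ⟨⟨ξ, hξW₁⟩, hfξ⟩
  refine ⟨g₁.opensRange, v' ≫ W₁.ι, ⟨⟨x₀, hxW₁⟩, rfl⟩, by rw [Category.assoc]; exact hv', ?_⟩
  -- agreement on `U ⊓ V`
  have haf : (Y.homOfLE (inf_le_left : U ⊓ g₁.opensRange ≤ U) ≫ u) ≫ f =
      (U ⊓ g₁.opensRange).ι := by
    rw [Category.assoc, hu]; simp
  have hbf : (Y.homOfLE (inf_le_right : U ⊓ g₁.opensRange ≤ g₁.opensRange) ≫ v' ≫ W₁.ι) ≫ f =
      (U ⊓ g₁.opensRange).ι := by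
    rw [Category.assoc, Category.assoc, ← hg₁, hv']; simp
  have hηO : η ∈ U ⊓ g₁.opensRange := ⟨hηU, hηV⟩
  have hOirr : IsIrreducible ((U ⊓ g₁.opensRange : Y.Opens) : Set Y) :=
    ⟨⟨η, hηO⟩, hY₀irr.2.open_subset (U ⊓ g₁.opensRange).isOpen
      (fun z hz => hVY₀ hz.2)⟩
  haveI : IrreducibleSpace ↥(U ⊓ g₁.opensRange).toScheme := Subtype.irreducibleSpace hOirr
  set a := Y.homOfLE (inf_le_left : U ⊓ g₁.opensRange ≤ U) ≫ u with ha
  have haη : a ⟨η, hηO⟩ = ξ := by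
    show u (Y.homOfLE _ ⟨η, hηO⟩) = u ηU
    rw [Scheme.homOfLE_apply']
  haveI : IsDominant (a ⁻¹ᵁ W₁).ι := by
    refine ⟨?_⟩
    rw [DenseRange, Scheme.Opens.range_ι]
    exact (a ⁻¹ᵁ W₁).isOpen.dense ⟨⟨η, hηO⟩, by
      show a ⟨η, hηO⟩ ∈ W₁
      rw [haη]; exact hξW₁⟩
  refine ext_of_isDominant_of_isSeparated f (haf.trans hbf.symm) (a ⁻¹ᵁ W₁).ι ?_
  have key : a ∣_ W₁ = (a ⁻¹ᵁ W₁).ι ≫
      Y.homOfLE (inf_le_right : U ⊓ g₁.opensRange ≤ g₁.opensRange) ≫ v' := by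
    rw [← cancel_mono g₁]
    have h1 : a ∣_ W₁ ≫ g₁ = (a ⁻¹ᵁ W₁).ι ≫ (U ⊓ g₁.opensRange).ι := by
      show a ∣_ W₁ ≫ W₁.ι ≫ f = _
      rw [← Category.assoc, morphismRestrict_ι, Category.assoc, haf]
    rw [h1, Category.assoc, Category.assoc, hv']
    simp
  rw [← morphismRestrict_ι, key]
  simp

end Groth.Agent.Lib.Helper69.RatSec
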