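import Mathlib
import Groth.Agent.Lib.Helper51.EtaleLocusSch
import Groth.Prelude.Def_CInt

set_option autoImplicit false
set_option linter.style.haveILetI false
set_option linter.unusedSectionVars false
set_option backward.isDefEq.respectTransparency false
set_option backward.defeqAttrib.useBackward true
universe u
open CategoryTheory CategoryTheory.Limits AlgebraicGeometry TopologicalSpace

namespace Groth.Agent.Lib.Helper69.RatSec

/-- ring level: a smooth algebra which is unramified at a dense set of primes is étale. -/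
theorem etale_of_smooth_of_dense_unramified (A B : Type u) [CommRing A] [CommRing B] [Algebra A B]
    [Algebra.Smooth A B] (D : Set (PrimeSpectrum B)) (hD : Dense D)
    (hDu : D ⊆ Algebra.unramifiedLocus A B) : Algebra.Etale A B := by
  haveI : Module.Finite B Ω[B⁄A] := inferInstance
  haveI : Module.FinitePresentation B Ω[B⁄A] := Module.finitePresentation_of_projective B _
  have hlc := Module.isLocallyConstant_rankAtStalk (R := B) (M := Ω[B⁄A])
  have hcl : IsClosed {q : PrimeSpectrum B | Module.rankAtStalk Ω[B⁄A] q = 0} :=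
    (hlc.isClopen_fiber 0).1
  have hsub : D ⊆ {q : PrimeSpectrum B | Module.rankAtStalk Ω[B⁄A] q = 0} := by
    intro q hq
    have := hDu hq
    rw [Algebra.unramifiedLocus_eq_compl_support] at this
    exact (Module.rankAtStalk_eq_zero_iff_notMem_support q).mpr this
  have huniv : {q : PrimeSpectrum B | Module.rankAtStalk Ω[B⁄A] q = 0} = Set.univ := by
    rw [← hcl.closure_eq]
    exact (hD.mono hsub).closure_eq
  haveI : Module.Flat B Ω[B⁄A] := inferInstance
  have hsubs : Subsingleton Ω[B⁄A] := by
    rw [← Module.rankAtStalk_eq_zero_iff_subsingleton (R := B)]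
    funext q
    have : q ∈ {q : PrimeSpectrum B | Module.rankAtStalk Ω[B⁄A] q = 0} := huniv ▸ Set.mem_univ q
    exact this
  haveI : Algebra.FormallyUnramified A B := (Algebra.formallyUnramified_iff _ _).mpr hsubs
  exact ⟨Algebra.FormallyEtale.iff_formallyUnramified_and_formallySmooth.mpr
    ⟨inferInstance, inferInstance⟩, inferInstance⟩

end Groth.Agent.Lib.Helper69.RatSec

namespace Groth.Agent.Lib.Helper69.RatSec

/-- a smooth morphism which is unramified over a dense open of the source is étale. -/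
theorem etale_of_smooth_of_dense {N N' S : Scheme.{u}} (f : N ⟶ S) [Smooth f] (j : N' ⟶ N)
    [IsOpenImmersion j] (hd : Dense (Set.range j)) [FormallyUnramified (j ≫ f)] : Etale f := by
  rw [HasRingHomProperty.iff_appLE (P := @Etale)]
  intro U V e
  have h1 : (f.appLE U V e).hom.Smooth :=
    HasRingHomProperty.appLE (P := @Smooth) f inferInstance U V e
  algebraize [(f.appLE U V e).hom]
  have hV : IsAffineOpen V.1 := V.2
  have hD : Dense (hV.fromSpec ⁻¹' (Set.range j)) :=
    hd.preimage hV.fromSpec.isOpenEmbedding.isOpenMap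
  have hDu : hV.fromSpec ⁻¹' (Set.range j) ⊆ Algebra.unramifiedLocus Γ(S, U) Γ(N, V) := by
    intro q hq
    have hxV : hV.fromSpec q ∈ V.1 := by
      have : hV.fromSpec q ∈ Set.range hV.fromSpec := ⟨q, rfl⟩
      rwa [hV.range_fromSpec] at this
    have hq' : hV.primeIdealOf ⟨hV.fromSpec q, hxV⟩ = q :=
      hV.fromSpec.isOpenEmbedding.injective (hV.fromSpec_primeIdealOf _)
    rw [← hq']
    refine (Groth.Agent.Lib.Helper51.formallyUnramified_stalkMap_iff U.1 U.2 V.1 hV e hxV).mp ?_
    obtain ⟨x', hx''⟩ := hq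
    rw [← hx'']
    have h2 := FormallyUnramified.stalkMap (j ≫ f) x'
    have h5 := Scheme.Hom.stalkMap_comp j f x'
    haveI : IsIso (j.stalkMap x') := inferInstance
    have h6 : f.stalkMap (j x') =
        (j ≫ f).stalkMap x' ≫ inv (j.stalkMap x') := by
      rw [h5, Category.assoc, IsIso.hom_inv_id, Category.comp_id]
    have h3 : (inv (j.stalkMap x')).hom.FormallyUnramified :=
      RingHom.FormallyUnramified.of_surjective
        (ConcreteCategory.bijective_of_isIso (inv (j.stalkMap x'))).2
    have h4 := h2.comp h3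
    rw [← CommRingCat.hom_comp, ← h6] at h4
    exact h4
  have := etale_of_smooth_of_dense_unramified Γ(S, U) Γ(N, V) _ hD hDu
  exact this

/-- A separated étale morphism which is a monomorphism on a dense open subscheme is a
monomorphism. -/
theorem mono_of_dense_section {W Y D : Scheme.{u}} (g : W ⟶ Y) [IsSeparated g] [Etale g]
    (s : D ⟶ W) [IsOpenImmersion s] (hs : Dense (Set.range s)) [Mono (s ≫ g)] :
    Mono g := by
  rw [← pullback.isIso_diagonal_iff, isIso_iff_isOpenImmersion_and_surjective]
  refine ⟨inferInstance, ⟨?_⟩⟩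
  by_contra hns
  rw [Function.Surjective] at hns
  push Not at hns
  obtain ⟨p, hp'⟩ := hns
  have hp : p ∈ (Set.range (pullback.diagonal g))ᶜ := by
    rintro ⟨a, ha⟩
    exact hp' a ha
  have hCopen : IsOpen (Set.range (pullback.diagonal g))ᶜ :=
    (pullback.diagonal g).isClosedEmbedding.isClosed_range.isOpen_compl
  have hW₂open : IsOpen (Set.range s) := s.isOpenEmbedding.isOpen_range
  have hfst : IsOpenMap (pullback.fst g g) := (pullback.fst g g).isOpenMap
  have hsnd : IsOpenMap (pullback.snd g g) := (pullback.snd g g).isOpenMap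
  obtain ⟨w₁, ⟨p₁, hp₁C, rfl⟩, hw₁⟩ := hs.inter_open_nonempty _
    (hfst _ hCopen) ⟨_, ⟨p, hp, rfl⟩⟩
  have hC₁open : IsOpen ((Set.range (pullback.diagonal g))ᶜ ∩
      (pullback.fst g g) ⁻¹' (Set.range s)) :=
    hCopen.inter (hW₂open.preimage (pullback.fst g g).continuous)
  obtain ⟨w₂, ⟨p₂, ⟨hp₂C, hp₂1⟩, rfl⟩, hw₂⟩ := hs.inter_open_nonempty _
    (hsnd _ hC₁open) ⟨_, ⟨p₁, ⟨hp₁C, hw₁⟩, rfl⟩⟩
  apply hp₂C
  set φ := (pullback g g).fromSpecResidueField p₂ with hφ
  have ha : Set.range (φ ≫ pullback.fst g g) ⊆ Set.range s := by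
    rintro _ ⟨z, rfl⟩
    rw [Scheme.Hom.comp_apply, hφ, Scheme.fromSpecResidueField_apply]
    exact hp₂1
  have hb : Set.range (φ ≫ pullback.snd g g) ⊆ Set.range s := by
    rintro _ ⟨z, rfl⟩
    rw [Scheme.Hom.comp_apply, hφ, Scheme.fromSpecResidueField_apply]
    exact hw₂
  have hab' : IsOpenImmersion.lift s _ ha = IsOpenImmersion.lift s _ hb := by
    rw [← cancel_mono (s ≫ g), ← Category.assoc, ← Category.assoc, IsOpenImmersion.lift_fac,
      IsOpenImmersion.lift_fac, Category.assoc, Category.assoc, pullback.condition]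
  have hab : φ ≫ pullback.fst g g = φ ≫ pullback.snd g g := by
    rw [← IsOpenImmersion.lift_fac s _ ha, ← IsOpenImmersion.lift_fac s _ hb, hab']
  have hφ₂ : φ = (φ ≫ pullback.fst g g) ≫ pullback.diagonal g := by
    apply pullback.hom_ext
    · simp
    · simp [hab]
  refine ⟨(φ ≫ pullback.fst g g) (IsLocalRing.closedPoint _), ?_⟩
  have := Scheme.fromSpecResidueField_apply p₂ (IsLocalRing.closedPoint _)
  rw [← hφ, hφ₂] at this
  exact this

/-- schematically dense opens are dense. -/
theorem dense_of_isSchematicallyDense {X : Scheme.{u}} (U : X.Opens)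
    (hU : CInt.IsSchematicallyDense U) : Dense (U : Set X) := by
  rw [dense_iff_inter_open]
  intro V hV hVne
  by_contra hemp
  rw [Set.not_nonempty_iff_eq_empty] at hemp
  have hbot : (⟨V, hV⟩ : X.Opens) ⊓ U = ⊥ := by
    ext x
    simp only [Opens.coe_inf, Opens.coe_mk, Opens.coe_bot, Set.mem_empty_iff_false, iff_false]
    intro hx
    exact (hemp ▸ hx : x ∈ (∅ : Set X))
  have hinj := hU ⟨V, hV⟩
  have hss : Subsingleton Γ(X, (⟨V, hV⟩ : X.Opens) ⊓ U) := by
    rw [hbot]; infer_instance
  have hsV : Subsingleton Γ(X, (⟨V, hV⟩ : X.Opens)) := hinj.subsingleton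
  obtain ⟨x, hx⟩ := hVne
  have : Nontrivial (X.presheaf.stalk x) := inferInstance
  have h01 : (0 : Γ(X, (⟨V, hV⟩ : X.Opens))) = 1 := Subsingleton.elim _ _
  have := congrArg (X.presheaf.germ ⟨V, hV⟩ x hx).hom h01
  rw [map_zero, map_one] at this
  exact zero_ne_one this

end Groth.Agent.Lib.Helper69.RatSec
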