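import Mathlib
import Groth.Agent.Lib.Helper96.GrpLikeCoeff

set_option autoImplicit false
universe u
open TensorProduct

namespace Groth.Agent.Lib.Helper69.S2982_A2

open Groth.Agent.Lib.Helper96.GrpLikeCoeff

/-- **[A2]**: if all `b`-coefficients of the image of a bialgebra map into a group algebra lie in
`I`, they lie in `I * I`. -/
theorem coeff_mem_sq {K : Type u} [CommRing K] {M : Type u} [CommGroup M] {C : Type u}
    [CommRing C] [Bialgebra K C] (f : C →ₐc[K] MonoidAlgebra K M) (b : M) (I : Ideal K)
    (h : ∀ c : C, (f c).coeff b ∈ I) (c : C) : (f c).coeff b ∈ I * I := by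
  classical
  have key : ∀ t : C ⊗[K] C,
      ev2 b b (TensorProduct.map (f : C →ₗ[K] MonoidAlgebra K M)
        (f : C →ₗ[K] MonoidAlgebra K M) t) ∈ I * I := by
    intro t
    induction t using TensorProduct.induction_on with
    | zero => simp
    | tmul l r =>
      rw [TensorProduct.map_tmul, ev2_tmul]
      exact Ideal.mul_mem_mul (h l) (h r)
    | add t₁ t₂ h₁ h₂ =>
      rw [map_add, map_add]
      exact Ideal.add_mem _ h₁ h₂
  have h1 := CoalgHomClass.map_comp_comul_apply f c
  have h2 := ev2_comul (K := K) b b (f c)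
  rw [if_pos rfl] at h2
  rw [← h2, ← h1]
  exact key _

end Groth.Agent.Lib.Helper69.S2982_A2
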