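import Mathlib
import Groth.Agent.Lib.Helper96.GrpLikeCoeff

set_option autoImplicit false
universe u
open TensorProduct

namespace Groth.Agent.Lib.Helper69.S2982_B

/-- **[B]**: if the coefficients outside a subgroup `M'` of the images of a generating set lie in
an ideal `I`, the same holds for all elements. -/
theorem coeff_mem_of_generators {K : Type u} [CommRing K] {M : Type u} [CommGroup M] {C : Type u}
    [CommRing C] [Algebra K C] (f : C →ₐ[K] MonoidAlgebra K M) (s : Set C)
    (hs : Algebra.adjoin K s = ⊤) (M' : Subgroup M) (I : Ideal K)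
    (h : ∀ x ∈ s, ∀ m : M, m ∉ M' → (f x).coeff m ∈ I) :
    ∀ (c : C) (m : M), m ∉ M' → (f c).coeff m ∈ I := by
  classical
  intro c
  have hc : c ∈ Algebra.adjoin K s := by rw [hs]; trivial
  induction hc using Algebra.adjoin_induction with
  | mem x hx => exact h x hx
  | algebraMap r =>
    intro m hm
    rw [AlgHom.commutes, MonoidAlgebra.coe_algebraMap]
    have hm1 : (1 : M) ≠ m := fun h1 => hm (h1 ▸ M'.one_mem)
    simp [MonoidAlgebra.coeff_single_apply, hm1]
  | add x y _ _ hx hy =>
    intro m hm
    rw [map_add, MonoidAlgebra.coeff_add, Finsupp.add_apply]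
    exact I.add_mem (hx m hm) (hy m hm)
  | mul x y _ _ hx hy =>
    intro m hm
    rw [map_mul, MonoidAlgebra.coeff_mul]
    unfold Finsupp.sum
    refine Ideal.sum_mem _ (fun m₁ _ => Ideal.sum_mem _ (fun m₂ _ => ?_))
    beta_reduce
    split_ifs with h12
    · by_cases h1 : m₁ ∈ M'
      · have h2 : m₂ ∉ M' := fun h2 => hm (h12 ▸ M'.mul_mem h1 h2)
        exact I.mul_mem_left _ (hy m₂ h2)
      · exact I.mul_mem_right _ (hx m₁ h1)
    · exact I.zero_mem

end Groth.Agent.Lib.Helper69.S2982_B
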