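import Mathlib
import Groth.Prelude.Def_Hensel
import Groth.Agent.Lib.Helper69.HensQFinite
import Groth.Agent.S9459
import Groth.Agent.S9460

set_option autoImplicit false
set_option linter.style.haveILetI false
universe u

/-!
# Integrality of strict henselizations of ind-quasi-finite algebras (helper69)

* `isIntegral_of_quasiFinite_chart`: an element of a local algebra `T` over a henselian local ring
  `Rh` which is a fraction of images of elements of a finite-type quasi-finite `Rh`-algebra is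
  integral over `Rh`.
* `isIntegral_and_isPurelyInseparable`: in the context of S9460, if `(Rh ⊗[R] S)_Q` is integral
  over `Rh` then `Sh` is integral over `Rh` with purely inseparable residue field extension.
-/

namespace Groth.Agent.Lib.Helper69.ShIntegral

open IsLocalRing TensorProduct

/-- Lemma Y. -/
theorem isIntegral_of_quasiFinite_chart (Rh : Type u) [CommRing Rh] [HenselianLocalRing Rh]
    (T : Type u) [CommRing T] [IsLocalRing T] [Algebra Rh T] [IsLocalHom (algebraMap Rh T)]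
    (x : T) (C₀ : Type u) [CommRing C₀] [Algebra Rh C₀] [Algebra.FiniteType Rh C₀]
    [Algebra.QuasiFinite Rh C₀] (φ : C₀ →ₐ[Rh] T) (c₀ t₀ : C₀) (ht : IsUnit (φ t₀))
    (hx : x * φ t₀ = φ c₀) : IsIntegral Rh x := by
  set Q₀ : Ideal C₀ := (maximalIdeal T).comap φ.toRingHom with hQ₀
  haveI hQp : Q₀.IsPrime := Ideal.comap_isPrime _ _
  haveI hQlo : Q₀.LiesOver (maximalIdeal Rh) := by
    constructor
    rw [Ideal.under, hQ₀, Ideal.comap_comap]
    have : φ.toRingHom.comp (algebraMap Rh C₀) = algebraMap Rh T := φ.comp_algebraMap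
    rw [this]
    have h4 : (maximalIdeal T).comap (algebraMap Rh T) = maximalIdeal Rh :=
      ((local_hom_TFAE (algebraMap Rh T)).out 0 4).mp
        (inferInstance : IsLocalHom (algebraMap Rh T))
    exact h4.symm
  have hfin : Module.Finite Rh (Localization.AtPrime Q₀) :=
    Groth.Agent.Lib.Helper69.HensQFinite.finite_atPrime_of_quasiFiniteAt Rh C₀ Q₀
  have hunits : ∀ y : Q₀.primeCompl, IsUnit (φ.toRingHom (y : C₀)) := by
    intro y
    by_contra hy
    exact y.2 ((mem_maximalIdeal _).mpr hy)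
  let φ' : Localization.AtPrime Q₀ →+* T :=
    IsLocalization.lift (M := Q₀.primeCompl) (g := φ.toRingHom) hunits
  have hφ' : ∀ c, φ' (algebraMap C₀ _ c) = φ c := fun c => IsLocalization.lift_eq _ _
  have ht₀ : t₀ ∈ Q₀.primeCompl := by
    intro h
    exact ((mem_maximalIdeal _).mp h) ht
  have hxeq : x = φ' (IsLocalization.mk' (Localization.AtPrime Q₀) c₀ ⟨t₀, ht₀⟩) := by
    have h1 : φ' (IsLocalization.mk' (Localization.AtPrime Q₀) c₀ ⟨t₀, ht₀⟩) * φ t₀ = φ c₀ := by
      rw [← hφ', ← map_mul, IsLocalization.mk'_spec, hφ']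
    exact ht.mul_right_cancel (hx.trans h1.symm)
  rw [hxeq]
  have hint : IsIntegral Rh (IsLocalization.mk' (Localization.AtPrime Q₀) c₀ ⟨t₀, ht₀⟩) :=
    Algebra.IsIntegral.isIntegral _
  refine hint.map_of_comp_eq (RingHom.id Rh) φ' ?_
  refine RingHom.ext fun r => ?_
  rw [RingHom.comp_apply, RingHom.comp_apply, RingHom.id_apply,
    IsScalarTower.algebraMap_apply Rh C₀ (Localization.AtPrime Q₀), hφ', AlgHom.commutes]

section ctx
variable (R : Type u) [CommRing R] (S : Type u)
    [CommRing S] [Algebra R S] (p : Ideal R) [p.IsPrime] (q : Ideal S) [q.IsPrime] [q.LiesOver p]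
    (Rh : Type u) [CommRing Rh] [IsLocalRing Rh] [Algebra (Localization.AtPrime p) Rh]
    [IsLocalHom (algebraMap (Localization.AtPrime p) Rh)]
    [Hensel.IsStrictHenselization (Localization.AtPrime p) Rh] [Algebra R Rh]
    [IsScalarTower R (Localization.AtPrime p) Rh]
    (Sh : Type u) [CommRing Sh] [IsLocalRing Sh] [Algebra (Localization.AtPrime q) Sh]
    [IsLocalHom (algebraMap (Localization.AtPrime q) Sh)]
    [Hensel.IsStrictHenselization (Localization.AtPrime q) Sh] [Algebra S Sh]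
    [IsScalarTower S (Localization.AtPrime q) Sh] [Algebra R Sh] [IsScalarTower R S Sh]
    [Algebra Rh Sh] [IsScalarTower R Rh Sh] [IsLocalHom (algebraMap Rh Sh)]

open Groth.Agent.S9459

omit [q.LiesOver p] [IsLocalHom (algebraMap (Localization.AtPrime p) Rh)]
  [Hensel.IsStrictHenselization (Localization.AtPrime p) Rh] [IsScalarTower R (Localization.AtPrime p) Rh]
  [IsLocalHom (algebraMap (Localization.AtPrime q) Sh)]
  [Hensel.IsStrictHenselization (Localization.AtPrime q) Sh]
  [IsScalarTower S (Localization.AtPrime q) Sh] [Algebra (Localization.AtPrime q) Sh]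
  [Algebra (Localization.AtPrime p) Rh] [p.IsPrime] [q.IsPrime] in
theorem QQ_liesOver : (QQ R S Rh Sh).LiesOver (maximalIdeal Rh) := by
  have hφl : ∀ a : Rh, phi R S Rh Sh (a ⊗ₜ 1) = algebraMap Rh Sh a := by intro a; simp [phi]
  constructor
  ext a
  rw [Ideal.mem_comap, Ideal.mem_comap, Algebra.TensorProduct.algebraMap_apply,
    Algebra.algebraMap_self, RingHom.id_apply]
  change _ ↔ phi R S Rh Sh (a ⊗ₜ 1) ∈ _
  rw [hφl]
  have h4 : (maximalIdeal Sh).comap (algebraMap Rh Sh) = maximalIdeal Rh :=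
    ((local_hom_TFAE (algebraMap Rh Sh)).out 0 4).mp
      (inferInstance : IsLocalHom (algebraMap Rh Sh))
  rw [← h4, Ideal.mem_comap]

omit [q.LiesOver p] [IsLocalHom (algebraMap (Localization.AtPrime p) Rh)]
  [Hensel.IsStrictHenselization (Localization.AtPrime p) Rh] [IsScalarTower R (Localization.AtPrime p) Rh]
  [Hensel.IsStrictHenselization (Localization.AtPrime q) Sh]
  [Algebra (Localization.AtPrime p) Rh] [p.IsPrime] [IsLocalHom (algebraMap Rh Sh)] [IsLocalRing Rh] in
theorem QQ_comap : q = (QQ R S Rh Sh).comap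
    (Algebra.TensorProduct.includeRight : S →ₐ[R] Rh ⊗[R] S).toRingHom := by
  have hφr : ∀ s : S, phi R S Rh Sh (1 ⊗ₜ s) = algebraMap S Sh s := by intro s; simp [phi]
  ext s
  rw [Ideal.mem_comap, Ideal.mem_comap]
  change _ ↔ phi R S Rh Sh (1 ⊗ₜ s) ∈ _
  rw [hφr, IsScalarTower.algebraMap_apply S (Localization.AtPrime q) Sh]
  have h4 : (maximalIdeal Sh).comap (algebraMap (Localization.AtPrime q) Sh) =
      maximalIdeal (Localization.AtPrime q) :=
    ((local_hom_TFAE (algebraMap (Localization.AtPrime q) Sh)).out 0 4).mp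
      (inferInstance : IsLocalHom (algebraMap (Localization.AtPrime q) Sh))
  rw [← Ideal.mem_comap, h4]
  exact (IsLocalization.AtPrime.to_map_mem_maximal_iff _ q _).symm

theorem isLocalHom_Rh_atPrime :
    IsLocalHom (algebraMap Rh (Localization.AtPrime (QQ R S Rh Sh))) := by
  have hlo := QQ_liesOver R S Rh Sh
  refine ((local_hom_TFAE _).out 0 4).mpr ?_
  have h5 : Ideal.comap (algebraMap (Rh ⊗[R] S) (Localization.AtPrime (QQ R S Rh Sh)))
      (maximalIdeal (Localization.AtPrime (QQ R S Rh Sh))) = QQ R S Rh Sh :=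
    Localization.AtPrime.comap_maximalIdeal
  rw [IsScalarTower.algebraMap_eq Rh (Rh ⊗[R] S) (Localization.AtPrime (QQ R S Rh Sh)),
    ← Ideal.comap_comap, h5]
  exact hlo.over.symm

include p q in
/-- Lemma X. -/
theorem isIntegral_and_isPurelyInseparable
    (h : ∀ x : Localization.AtPrime (QQ R S Rh Sh), IsIntegral Rh x) :
    Algebra.IsIntegral Rh Sh ∧
      IsPurelyInseparable (ResidueField Rh) (ResidueField Sh) := by
  have hφl : ∀ a : Rh, phi R S Rh Sh (a ⊗ₜ 1) = algebraMap Rh Sh a := by intro a; simp [phi]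
  haveI hRhh : HenselianLocalRing Rh :=
    Hensel.IsStrictHenselization.henselian (Localization.AtPrime p)
  have hsc : IsSepClosure (ResidueField (Localization.AtPrime p)) (ResidueField Rh) :=
    Hensel.IsStrictHenselization.isSepClosure
  haveI : IsSepClosed (ResidueField Rh) := hsc.sep_closed
  haveI hint : Algebra.IsIntegral Rh (Localization.AtPrime (QQ R S Rh Sh)) := ⟨h⟩
  haveI : HenselianLocalRing (Localization.AtPrime (QQ R S Rh Sh)) :=
    Groth.Agent.Lib.Helper69.HensFinite.henselianLocalRing_of_isIntegral Rh _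
  haveI : IsLocalHom (algebraMap Rh (Localization.AtPrime (QQ R S Rh Sh))) :=
    isLocalHom_Rh_atPrime R S Rh Sh
  haveI : Algebra.IsIntegral Rh (ResidueField (Localization.AtPrime (QQ R S Rh Sh))) :=
    Algebra.IsIntegral.trans (Localization.AtPrime (QQ R S Rh Sh))
  haveI : Algebra.IsIntegral (ResidueField Rh)
      (ResidueField (Localization.AtPrime (QQ R S Rh Sh))) := Algebra.IsIntegral.tower_top Rh
  haveI : Algebra.IsAlgebraic (ResidueField Rh)
      (ResidueField (Localization.AtPrime (QQ R S Rh Sh))) := Algebra.IsIntegral.isAlgebraic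
  haveI : IsSepClosed (ResidueField (Localization.AtPrime (QQ R S Rh Sh))) :=
    Algebra.IsAlgebraic.isSepClosed (F := ResidueField Rh)
  haveI := Groth.Agent.Lib.Helper69.HensQFinite.isStrictHenselization_self
    (Localization.AtPrime (QQ R S Rh Sh))
  obtain ⟨e, he⟩ := Groth.Agent.S9460.result R S p q Rh Sh (Localization.AtPrime (QQ R S Rh Sh))
  have hcomp : (algebraMap Rh Sh) = (e : _ →+* Sh).comp
      (algebraMap Rh (Localization.AtPrime (QQ R S Rh Sh))) := by
    refine RingHom.ext fun r => ?_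
    rw [RingHom.comp_apply,
      IsScalarTower.algebraMap_apply Rh (Rh ⊗[R] S) (Localization.AtPrime (QQ R S Rh Sh))]
    have := he (algebraMap Rh (Rh ⊗[R] S) r)
    rw [Algebra.algebraMap_self, RingHom.id_apply] at this
    change _ = e _
    rw [this, Algebra.TensorProduct.algebraMap_apply, Algebra.algebraMap_self, RingHom.id_apply]
    exact (hφl r).symm
  have hSh : Algebra.IsIntegral Rh Sh := by
    constructor
    intro y
    obtain ⟨x, rfl⟩ := e.surjective y
    exact (h x).map_of_comp_eq (RingHom.id Rh) (e : _ →+* Sh) (by rw [hcomp]; rfl)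
  refine ⟨hSh, ?_⟩
  haveI : Algebra.IsIntegral Rh (ResidueField Sh) := Algebra.IsIntegral.trans Sh
  haveI : Algebra.IsIntegral (ResidueField Rh) (ResidueField Sh) := Algebra.IsIntegral.tower_top Rh
  haveI : Algebra.IsAlgebraic (ResidueField Rh) (ResidueField Sh) := Algebra.IsIntegral.isAlgebraic
  infer_instance

end ctx

section Case1
variable (R : Type u) [CommRing R] (S : Type u)
    [CommRing S] [Algebra R S] (p : Ideal R) [p.IsPrime] (q : Ideal S) [q.IsPrime] [q.LiesOver p]
    (Rh : Type u) [CommRing Rh] [IsLocalRing Rh] [Algebra (Localization.AtPrime p) Rh]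
    [IsLocalHom (algebraMap (Localization.AtPrime p) Rh)]
    [Hensel.IsStrictHenselization (Localization.AtPrime p) Rh] [Algebra R Rh]
    [IsScalarTower R (Localization.AtPrime p) Rh]
    (Sh : Type u) [CommRing Sh] [IsLocalRing Sh] [Algebra (Localization.AtPrime q) Sh]
    [IsLocalHom (algebraMap (Localization.AtPrime q) Sh)]
    [Hensel.IsStrictHenselization (Localization.AtPrime q) Sh] [Algebra S Sh]
    [IsScalarTower S (Localization.AtPrime q) Sh] [Algebra R Sh] [IsScalarTower R S Sh]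
    [Algebra Rh Sh] [IsScalarTower R Rh Sh] [IsLocalHom (algebraMap Rh Sh)]

open Groth.Agent.S9459

omit [IsLocalRing Rh] in
theorem exists_finset_mem_range (c : Rh ⊗[R] S) : ∃ s : Finset S, ∀ B₀ : Subalgebra R S,
    (↑s : Set S) ⊆ ↑B₀ → c ∈ (Algebra.TensorProduct.map (AlgHom.id Rh Rh) B₀.val).range := by
  classical
  induction c with
  | zero => exact ⟨∅, fun B₀ _ => zero_mem _⟩
  | tmul r b =>
    refine ⟨{b}, fun B₀ hB₀ => ?_⟩
    have hb : b ∈ B₀ := hB₀ (by simp)
    exact ⟨r ⊗ₜ ⟨b, hb⟩, by simp⟩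
  | add x y hx hy =>
    obtain ⟨s₁, h₁⟩ := hx
    obtain ⟨s₂, h₂⟩ := hy
    refine ⟨s₁ ∪ s₂, fun B₀ hB₀ => ?_⟩
    have e1 : (↑s₁ : Set S) ⊆ ↑B₀ := fun z hz => hB₀ (by simp [hz])
    have e2 : (↑s₂ : Set S) ⊆ ↑B₀ := fun z hz => hB₀ (by simp [hz])
    exact add_mem (h₁ B₀ e1) (h₂ B₀ e2)

include p in
theorem isIntegral_atPrime_of_indQuasiFinite
    (hB : ∀ s : Finset S, ∃ B₀ : Subalgebra R S, (↑s : Set S) ⊆ ↑B₀ ∧
      Algebra.FiniteType R ↥B₀ ∧ Algebra.QuasiFinite R ↥B₀) :
    ∀ x : Localization.AtPrime (QQ R S Rh Sh), IsIntegral Rh x := by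
  classical
  intro x
  haveI hRhh : HenselianLocalRing Rh :=
    Hensel.IsStrictHenselization.henselian (Localization.AtPrime p)
  haveI : IsLocalHom (algebraMap Rh (Localization.AtPrime (QQ R S Rh Sh))) :=
    isLocalHom_Rh_atPrime R S Rh Sh
  obtain ⟨c, t, rfl⟩ := IsLocalization.exists_mk'_eq (QQ R S Rh Sh).primeCompl x
  obtain ⟨s₁, h₁⟩ := exists_finset_mem_range R S Rh c
  obtain ⟨s₂, h₂⟩ := exists_finset_mem_range R S Rh (t : Rh ⊗[R] S)
  obtain ⟨B₀, hsB, hft, hqf⟩ := hB (s₁ ∪ s₂)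
  have e1 : (↑s₁ : Set S) ⊆ ↑B₀ := fun z hz => hsB (by simp [hz])
  have e2 : (↑s₂ : Set S) ⊆ ↑B₀ := fun z hz => hsB (by simp [hz])
  obtain ⟨c₀, hc₀⟩ := h₁ B₀ e1
  obtain ⟨t₀, ht₀⟩ := h₂ B₀ e2
  let φ : Rh ⊗[R] B₀ →ₐ[Rh] Localization.AtPrime (QQ R S Rh Sh) :=
    (IsScalarTower.toAlgHom Rh (Rh ⊗[R] S) (Localization.AtPrime (QQ R S Rh Sh))).comp
      (Algebra.TensorProduct.map (AlgHom.id Rh Rh) B₀.val)
  have hφc : φ c₀ = algebraMap _ _ c := by
    change algebraMap _ _ (Algebra.TensorProduct.map (AlgHom.id Rh Rh) B₀.val c₀) = _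
    rw [show Algebra.TensorProduct.map (AlgHom.id Rh Rh) B₀.val c₀ = c from hc₀]
  have hφt : φ t₀ = algebraMap _ _ (t : Rh ⊗[R] S) := by
    change algebraMap _ _ (Algebra.TensorProduct.map (AlgHom.id Rh Rh) B₀.val t₀) = _
    rw [show Algebra.TensorProduct.map (AlgHom.id Rh Rh) B₀.val t₀ = (t : Rh ⊗[R] S) from ht₀]
  refine isIntegral_of_quasiFinite_chart Rh _ _ (Rh ⊗[R] B₀) φ c₀ t₀ ?_ ?_
  · rw [hφt]; exact IsLocalization.map_units _ t
  · rw [hφt, hφc, IsLocalization.mk'_spec]

end Case1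

section Case2
variable (R : Type u) [CommRing R] (S : Type u)
    [CommRing S] [Algebra R S] (p : Ideal R) [p.IsPrime] (q : Ideal S) [q.IsPrime] [q.LiesOver p]
    (Rh : Type u) [CommRing Rh] [IsLocalRing Rh] [Algebra (Localization.AtPrime p) Rh]
    [IsLocalHom (algebraMap (Localization.AtPrime p) Rh)]
    [Hensel.IsStrictHenselization (Localization.AtPrime p) Rh] [Algebra R Rh]
    [IsScalarTower R (Localization.AtPrime p) Rh]
    (Sh : Type u) [CommRing Sh] [IsLocalRing Sh] [Algebra (Localization.AtPrime q) Sh]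
    [IsLocalHom (algebraMap (Localization.AtPrime q) Sh)]
    [Hensel.IsStrictHenselization (Localization.AtPrime q) Sh] [Algebra S Sh]
    [IsScalarTower S (Localization.AtPrime q) Sh] [Algebra R Sh] [IsScalarTower R S Sh]
    [Algebra Rh Sh] [IsScalarTower R Rh Sh] [IsLocalHom (algebraMap Rh Sh)]
    [Algebra (Localization.AtPrime p) (Localization.AtPrime q)]
    [IsScalarTower R (Localization.AtPrime p) (Localization.AtPrime q)]

open Groth.Agent.S9459

omit [q.LiesOver p] [IsLocalHom (algebraMap (Localization.AtPrime p) Rh)]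
  [Hensel.IsStrictHenselization (Localization.AtPrime p) Rh]
  [IsScalarTower R (Localization.AtPrime p) Rh]
  [Hensel.IsStrictHenselization (Localization.AtPrime q) Sh]
  [Algebra (Localization.AtPrime p) Rh] [p.IsPrime] [IsLocalHom (algebraMap Rh Sh)] [IsLocalRing Rh]
  [Algebra (Localization.AtPrime p) (Localization.AtPrime q)]
  [IsScalarTower R (Localization.AtPrime p) (Localization.AtPrime q)] in
theorem isUnit_psi0 (y : q.primeCompl) :
    IsUnit ((algebraMap (Rh ⊗[R] S) (Localization.AtPrime (QQ R S Rh Sh))).comp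
      (Algebra.TensorProduct.includeRight : S →ₐ[R] Rh ⊗[R] S).toRingHom (y : S)) := by
  have hq := QQ_comap R S q Rh Sh
  have hy : (Algebra.TensorProduct.includeRight : S →ₐ[R] Rh ⊗[R] S).toRingHom (y : S) ∈
      (QQ R S Rh Sh).primeCompl := by
    intro h
    apply y.2
    have h' : (y : S) ∈ (QQ R S Rh Sh).comap
        (Algebra.TensorProduct.includeRight : S →ₐ[R] Rh ⊗[R] S).toRingHom := h
    rw [← hq] at h'
    exact h'
  exact IsLocalization.map_units _ (⟨_, hy⟩ : (QQ R S Rh Sh).primeCompl)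

/-- the map `S_q → T`. -/
noncomputable def psi' : Localization.AtPrime q →+* Localization.AtPrime (QQ R S Rh Sh) :=
  IsLocalization.lift (M := q.primeCompl)
    (g := (algebraMap (Rh ⊗[R] S) (Localization.AtPrime (QQ R S Rh Sh))).comp
      (Algebra.TensorProduct.includeRight : S →ₐ[R] Rh ⊗[R] S).toRingHom)
    (isUnit_psi0 R S q Rh Sh)

omit [q.LiesOver p] [IsLocalHom (algebraMap (Localization.AtPrime p) Rh)]
  [Hensel.IsStrictHenselization (Localization.AtPrime p) Rh]
  [IsScalarTower R (Localization.AtPrime p) Rh]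
  [Hensel.IsStrictHenselization (Localization.AtPrime q) Sh]
  [Algebra (Localization.AtPrime p) Rh] [p.IsPrime] [IsLocalHom (algebraMap Rh Sh)] [IsLocalRing Rh]
  [Algebra (Localization.AtPrime p) (Localization.AtPrime q)]
  [IsScalarTower R (Localization.AtPrime p) (Localization.AtPrime q)] in
theorem psi'_algebraMap (b : S) :
    psi' R S q Rh Sh (algebraMap S (Localization.AtPrime q) b) =
      algebraMap (Rh ⊗[R] S) (Localization.AtPrime (QQ R S Rh Sh)) ((1 : Rh) ⊗ₜ[R] b) := by
  rw [psi', IsLocalization.lift_eq]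
  rfl

omit [q.LiesOver p] [IsLocalHom (algebraMap (Localization.AtPrime p) Rh)]
  [Hensel.IsStrictHenselization (Localization.AtPrime p) Rh]
  [Hensel.IsStrictHenselization (Localization.AtPrime q) Sh]
  [IsLocalHom (algebraMap Rh Sh)] [IsLocalRing Rh] in
theorem psi'_comp :
    (psi' R S q Rh Sh).comp (algebraMap (Localization.AtPrime p) (Localization.AtPrime q)) =
      algebraMap (Localization.AtPrime p) (Localization.AtPrime (QQ R S Rh Sh)) := by
  refine IsLocalization.ringHom_ext p.primeCompl (RingHom.ext fun a => ?_)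
  rw [RingHom.comp_apply, RingHom.comp_apply, RingHom.comp_apply,
    ← IsScalarTower.algebraMap_apply R (Localization.AtPrime p) (Localization.AtPrime q),
    IsScalarTower.algebraMap_apply R S (Localization.AtPrime q), psi'_algebraMap]
  change _ = algebraMap Rh _ (algebraMap (Localization.AtPrime p) Rh (algebraMap R _ a))
  rw [← IsScalarTower.algebraMap_apply R (Localization.AtPrime p) Rh,
    IsScalarTower.algebraMap_apply Rh (Rh ⊗[R] S) (Localization.AtPrime (QQ R S Rh Sh)),
    Algebra.TensorProduct.algebraMap_apply, Algebra.algebraMap_self, RingHom.id_apply]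
  congr 1
  rw [Algebra.algebraMap_eq_smul_one, Algebra.algebraMap_eq_smul_one (R := R) (A := Rh),
    smul_tmul]

/-- `psi'` as an `R_p`-algebra map. -/
noncomputable def psiL :
    Localization.AtPrime q →ₐ[Localization.AtPrime p] Localization.AtPrime (QQ R S Rh Sh) :=
  { psi' R S q Rh Sh with
    commutes' := fun a => congr($(psi'_comp R S p q Rh Sh) a) }

/-- the chart attached to a subalgebra `B₀ ⊆ S_q`. -/
noncomputable def chart (B₀ : Subalgebra (Localization.AtPrime p) (Localization.AtPrime q)) :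
    Rh ⊗[Localization.AtPrime p] B₀ →ₐ[Rh] Localization.AtPrime (QQ R S Rh Sh) :=
  Algebra.TensorProduct.lift (Algebra.ofId Rh _) ((psiL R S p q Rh Sh).comp B₀.val)
    (fun _ _ => Commute.all _ _)

omit [q.LiesOver p] [IsLocalHom (algebraMap (Localization.AtPrime p) Rh)]
  [Hensel.IsStrictHenselization (Localization.AtPrime p) Rh]
  [Hensel.IsStrictHenselization (Localization.AtPrime q) Sh]
  [IsLocalHom (algebraMap Rh Sh)] [IsLocalRing Rh] in
theorem chart_tmul (B₀ : Subalgebra (Localization.AtPrime p) (Localization.AtPrime q)) (r : Rh)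
    (b : B₀) : chart R S p q Rh Sh B₀ (r ⊗ₜ b) =
      algebraMap Rh _ r * psi' R S q Rh Sh (b : Localization.AtPrime q) := by
  rw [chart, Algebra.TensorProduct.lift_tmul]
  rfl

omit [q.LiesOver p] [IsLocalHom (algebraMap (Localization.AtPrime p) Rh)]
  [Hensel.IsStrictHenselization (Localization.AtPrime p) Rh]
  [Hensel.IsStrictHenselization (Localization.AtPrime q) Sh]
  [IsLocalHom (algebraMap Rh Sh)] [IsLocalRing Rh] in
theorem exists_finset_chart (c : Rh ⊗[R] S) : ∃ s : Finset (Localization.AtPrime q),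
    ∀ B₀ : Subalgebra (Localization.AtPrime p) (Localization.AtPrime q),
      (↑s : Set (Localization.AtPrime q)) ⊆ ↑B₀ →
      ∃ c₀ : Rh ⊗[Localization.AtPrime p] B₀, chart R S p q Rh Sh B₀ c₀ =
        algebraMap (Rh ⊗[R] S) (Localization.AtPrime (QQ R S Rh Sh)) c := by
  classical
  induction c with
  | zero => exact ⟨∅, fun B₀ _ => ⟨0, by simp⟩⟩
  | tmul r b =>
    refine ⟨{algebraMap S (Localization.AtPrime q) b}, fun B₀ hB₀ => ?_⟩
    have hb : algebraMap S (Localization.AtPrime q) b ∈ B₀ := hB₀ (by simp)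
    refine ⟨r ⊗ₜ ⟨_, hb⟩, ?_⟩
    rw [chart_tmul, psi'_algebraMap,
      IsScalarTower.algebraMap_apply Rh (Rh ⊗[R] S) (Localization.AtPrime (QQ R S Rh Sh)),
      ← map_mul, Algebra.TensorProduct.algebraMap_apply, Algebra.algebraMap_self,
      RingHom.id_apply, Algebra.TensorProduct.tmul_mul_tmul, mul_one, one_mul]
  | add x y hx hy =>
    obtain ⟨s₁, h₁⟩ := hx
    obtain ⟨s₂, h₂⟩ := hy
    refine ⟨s₁ ∪ s₂, fun B₀ hB₀ => ?_⟩
    have e1 : (↑s₁ : Set (Localization.AtPrime q)) ⊆ ↑B₀ := fun z hz => hB₀ (by simp [hz])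
    have e2 : (↑s₂ : Set (Localization.AtPrime q)) ⊆ ↑B₀ := fun z hz => hB₀ (by simp [hz])
    obtain ⟨x₀, hx₀⟩ := h₁ B₀ e1
    obtain ⟨y₀, hy₀⟩ := h₂ B₀ e2
    exact ⟨x₀ + y₀, by rw [map_add, map_add, hx₀, hy₀]⟩

omit [q.LiesOver p] in
theorem isIntegral_atPrime_of_indQuasiFinite_loc
    (hB : ∀ s : Finset (Localization.AtPrime q),
      ∃ B₀ : Subalgebra (Localization.AtPrime p) (Localization.AtPrime q),
        (↑s : Set (Localization.AtPrime q)) ⊆ ↑B₀ ∧
          Algebra.FiniteType (Localization.AtPrime p) ↥B₀ ∧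
            Algebra.QuasiFinite (Localization.AtPrime p) ↥B₀) :
    ∀ x : Localization.AtPrime (QQ R S Rh Sh), IsIntegral Rh x := by
  classical
  intro x
  haveI hRhh : HenselianLocalRing Rh :=
    Hensel.IsStrictHenselization.henselian (Localization.AtPrime p)
  haveI : IsLocalHom (algebraMap Rh (Localization.AtPrime (QQ R S Rh Sh))) :=
    isLocalHom_Rh_atPrime R S Rh Sh
  obtain ⟨c, t, rfl⟩ := IsLocalization.exists_mk'_eq (QQ R S Rh Sh).primeCompl x
  obtain ⟨s₁, h₁⟩ := exists_finset_chart R S p q Rh Sh c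
  obtain ⟨s₂, h₂⟩ := exists_finset_chart R S p q Rh Sh (t : Rh ⊗[R] S)
  obtain ⟨B₀, hsB, hft, hqf⟩ := hB (s₁ ∪ s₂)
  have e1 : (↑s₁ : Set (Localization.AtPrime q)) ⊆ ↑B₀ := fun z hz => hsB (by simp [hz])
  have e2 : (↑s₂ : Set (Localization.AtPrime q)) ⊆ ↑B₀ := fun z hz => hsB (by simp [hz])
  obtain ⟨c₀, hc₀⟩ := h₁ B₀ e1
  obtain ⟨t₀, ht₀⟩ := h₂ B₀ e2
  refine isIntegral_of_quasiFinite_chart Rh _ _ (Rh ⊗[Localization.AtPrime p] B₀)
    (chart R S p q Rh Sh B₀) c₀ t₀ ?_ ?_
  · rw [ht₀]; exact IsLocalization.map_units _ t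
  · rw [ht₀, hc₀, IsLocalization.mk'_spec]

end Case2

end Groth.Agent.Lib.Helper69.ShIntegral
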