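import Mathlib
import Groth.Prelude.Def_Hensel
import Groth.Agent.Lib.Helper69.HensFinite
import Groth.Agent.Lib.Helper87.PurelyInsepTensor
import Groth.Agent.S9459

set_option autoImplicit false
set_option linter.style.haveILetI false
universe u

/-!
# `B^sh ⊗_{A^sh} C^sh → D^sh` is bijective (helper69)

Abstract form: `Ash → Bsh` integral local with purely inseparable residue extension, `Csh`, `Dsh`
strictly henselian, a commutative square of local maps.
-/

namespace Groth.Agent.Lib.Helper69.ShTensor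

open IsLocalRing TensorProduct

attribute [local instance] Algebra.TensorProduct.rightAlgebra

section Part1

variable (Ash Bsh Csh Dsh : Type u) [CommRing Ash] [IsLocalRing Ash] [CommRing Bsh]
  [IsLocalRing Bsh] [CommRing Csh] [IsLocalRing Csh] [CommRing Dsh] [IsLocalRing Dsh]
  [Algebra Ash Bsh] [IsLocalHom (algebraMap Ash Bsh)] [Algebra Ash Csh]
  [IsLocalHom (algebraMap Ash Csh)]
  [Algebra Bsh Dsh] [IsLocalHom (algebraMap Bsh Dsh)] [Algebra Csh Dsh]
  [IsLocalHom (algebraMap Csh Dsh)]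
  [Algebra Ash Dsh] [IsScalarTower Ash Bsh Dsh] [IsScalarTower Ash Csh Dsh]
  [Algebra.IsIntegral Ash Bsh] [IsPurelyInseparable (ResidueField Ash) (ResidueField Bsh)]

/-- the comparison map `θ`. -/
noncomputable abbrev theta : Bsh ⊗[Ash] Csh →ₐ[Ash] Dsh :=
  Algebra.TensorProduct.lift (IsScalarTower.toAlgHom Ash Bsh Dsh)
    (IsScalarTower.toAlgHom Ash Csh Dsh) (fun _ _ => Commute.all _ _)

omit [IsLocalRing Dsh] [IsLocalHom (algebraMap Bsh Dsh)] [IsLocalHom (algebraMap Csh Dsh)]
  [IsLocalRing Ash] [IsLocalRing Bsh] [IsLocalRing Csh] [IsLocalHom (algebraMap Ash Bsh)]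
  [IsLocalHom (algebraMap Ash Csh)] [Algebra.IsIntegral Ash Bsh]
  [IsPurelyInseparable (ResidueField Ash) (ResidueField Bsh)] in
theorem theta_tmul (b : Bsh) (c : Csh) :
    theta Ash Bsh Csh Dsh (b ⊗ₜ c) = algebraMap Bsh Dsh b * algebraMap Csh Dsh c := by
  simp [theta]

omit [IsLocalRing Dsh] [IsLocalHom (algebraMap Bsh Dsh)] [IsLocalHom (algebraMap Csh Dsh)]
  [Algebra Bsh Dsh] [Algebra Csh Dsh] [Algebra Ash Dsh] [IsScalarTower Ash Bsh Dsh]
  [IsScalarTower Ash Csh Dsh] [CommRing Dsh] in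
theorem isLocalRing_E : IsLocalRing (Bsh ⊗[Ash] Csh) := by
  obtain ⟨h, -⟩ :=
    Groth.Agent.Lib.Helper87.PurelyInsepTensor.isLocalRing_tensor_of_isPurelyInseparable Ash Bsh Csh
  exact h

omit [IsLocalRing Dsh] [IsLocalHom (algebraMap Bsh Dsh)] [IsLocalHom (algebraMap Csh Dsh)]
  [Algebra Bsh Dsh] [Algebra Csh Dsh] [Algebra Ash Dsh] [IsScalarTower Ash Bsh Dsh]
  [IsScalarTower Ash Csh Dsh] [CommRing Dsh] in
theorem isLocalHom_right [IsLocalRing (Bsh ⊗[Ash] Csh)] :
    IsLocalHom (algebraMap Csh (Bsh ⊗[Ash] Csh)) := by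
  obtain ⟨_, h, -⟩ :=
    Groth.Agent.Lib.Helper87.PurelyInsepTensor.isLocalRing_tensor_of_isPurelyInseparable Ash Bsh Csh
  exact h

omit [IsLocalRing Dsh] [IsLocalHom (algebraMap Bsh Dsh)] [IsLocalHom (algebraMap Csh Dsh)]
  [Algebra Bsh Dsh] [Algebra Csh Dsh] [Algebra Ash Dsh] [IsScalarTower Ash Bsh Dsh]
  [IsScalarTower Ash Csh Dsh] [CommRing Dsh] [IsLocalRing Ash] [IsLocalRing Bsh] [IsLocalRing Csh]
  [IsLocalHom (algebraMap Ash Bsh)] [IsLocalHom (algebraMap Ash Csh)]
  [IsPurelyInseparable (ResidueField Ash) (ResidueField Bsh)] in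
theorem isIntegral_right : Algebra.IsIntegral Csh (Bsh ⊗[Ash] Csh) :=
  Groth.Agent.Lib.Helper87.HensIntegral.isIntegral_right Ash Bsh Csh

theorem isLocalHom_theta [IsLocalRing (Bsh ⊗[Ash] Csh)] :
    IsLocalHom (theta Ash Bsh Csh Dsh).toRingHom := by
  have hint := isIntegral_right Ash Bsh Csh
  set P : Ideal (Bsh ⊗[Ash] Csh) := (maximalIdeal Dsh).comap (theta Ash Bsh Csh Dsh).toRingHom
    with hP
  have hPp : P.IsPrime := Ideal.comap_isPrime _ _
  have h1 : P.comap (algebraMap Csh (Bsh ⊗[Ash] Csh)) = maximalIdeal Csh := by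
    rw [hP, Ideal.comap_comap]
    have : (theta Ash Bsh Csh Dsh).toRingHom.comp (algebraMap Csh (Bsh ⊗[Ash] Csh)) =
        algebraMap Csh Dsh := by
      refine RingHom.ext fun c => ?_
      rw [RingHom.comp_apply, Algebra.TensorProduct.right_algebraMap_apply]
      change theta Ash Bsh Csh Dsh (1 ⊗ₜ c) = _
      rw [theta_tmul, map_one, one_mul]
    rw [this]
    exact ((local_hom_TFAE (algebraMap Csh Dsh)).out 0 4).mp
      (inferInstance : IsLocalHom (algebraMap Csh Dsh))
  have h2 : P.IsMaximal :=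
    Ideal.isMaximal_of_isIntegral_of_isMaximal_comap P (by rw [h1]; infer_instance)
  exact ((local_hom_TFAE (theta Ash Bsh Csh Dsh).toRingHom).out 0 4).mpr
    (IsLocalRing.eq_maximalIdeal h2)

omit [IsLocalRing Dsh] [IsLocalHom (algebraMap Bsh Dsh)] [IsLocalHom (algebraMap Csh Dsh)]
  [Algebra Bsh Dsh] [Algebra Csh Dsh] [Algebra Ash Dsh] [IsScalarTower Ash Bsh Dsh]
  [IsScalarTower Ash Csh Dsh] [CommRing Dsh] in
theorem henselian_E (hC : HenselianLocalRing Csh) [IsLocalRing (Bsh ⊗[Ash] Csh)] :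
    HenselianLocalRing (Bsh ⊗[Ash] Csh) := by
  have hint := isIntegral_right Ash Bsh Csh
  exact Groth.Agent.Lib.Helper69.HensFinite.henselianLocalRing_of_isIntegral Csh _

omit [IsLocalRing Dsh] [IsLocalHom (algebraMap Bsh Dsh)] [IsLocalHom (algebraMap Csh Dsh)]
  [Algebra Bsh Dsh] [Algebra Csh Dsh] [Algebra Ash Dsh] [IsScalarTower Ash Bsh Dsh]
  [IsScalarTower Ash Csh Dsh] [CommRing Dsh] in
theorem isSepClosed_E [IsSepClosed (ResidueField Csh)] [IsLocalRing (Bsh ⊗[Ash] Csh)] :
    IsSepClosed (ResidueField (Bsh ⊗[Ash] Csh)) := by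
  have hint := isIntegral_right Ash Bsh Csh
  haveI := isLocalHom_right Ash Bsh Csh
  haveI : Algebra.IsIntegral Csh (ResidueField (Bsh ⊗[Ash] Csh)) :=
    Algebra.IsIntegral.trans (Bsh ⊗[Ash] Csh)
  haveI : Algebra.IsIntegral (ResidueField Csh) (ResidueField (Bsh ⊗[Ash] Csh)) :=
    Algebra.IsIntegral.tower_top Csh
  haveI : Algebra.IsAlgebraic (ResidueField Csh) (ResidueField (Bsh ⊗[Ash] Csh)) :=
    Algebra.IsIntegral.isAlgebraic
  exact Algebra.IsAlgebraic.isSepClosed (F := ResidueField Csh)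

end Part1

section Part2

variable (Ash Bsh Csh Dsh : Type u) [CommRing Ash] [IsLocalRing Ash] [CommRing Bsh]
  [IsLocalRing Bsh] [CommRing Csh] [IsLocalRing Csh] [CommRing Dsh] [IsLocalRing Dsh]
  [Algebra Ash Bsh] [IsLocalHom (algebraMap Ash Bsh)] [Algebra Ash Csh]
  [IsLocalHom (algebraMap Ash Csh)]
  [Algebra Bsh Dsh] [IsLocalHom (algebraMap Bsh Dsh)] [Algebra Csh Dsh]
  [IsLocalHom (algebraMap Csh Dsh)]
  [Algebra Ash Dsh] [IsScalarTower Ash Bsh Dsh] [IsScalarTower Ash Csh Dsh]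
  [Algebra.IsIntegral Ash Bsh] [IsPurelyInseparable (ResidueField Ash) (ResidueField Bsh)]
  (LB LC LD : Type u) [CommRing LB] [IsLocalRing LB] [CommRing LC] [IsLocalRing LC]
  [CommRing LD] [IsLocalRing LD]
  [Algebra LB Bsh] [IsLocalHom (algebraMap LB Bsh)] [Hensel.IsStrictHenselization LB Bsh]
  [Algebra LC Csh] [IsLocalHom (algebraMap LC Csh)] [Hensel.IsStrictHenselization LC Csh]
  [Algebra LD Dsh] [IsLocalHom (algebraMap LD Dsh)] [Hensel.IsStrictHenselization LD Dsh]
  (jB : LB →+* LD) (jC : LC →+* LD)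
  (hjB : (algebraMap LD Dsh).comp jB = (algebraMap Bsh Dsh).comp (algebraMap LB Bsh))
  (hjC : (algebraMap LD Dsh).comp jC = (algebraMap Csh Dsh).comp (algebraMap LC Csh))
  (f : LD →+* Bsh ⊗[Ash] Csh)
  (hf : (theta Ash Bsh Csh Dsh).toRingHom.comp f = algebraMap LD Dsh)
  (hfB : f.comp jB = (Algebra.TensorProduct.includeLeft : Bsh →ₐ[Ash] Bsh ⊗[Ash] Csh).toRingHom.comp
    (algebraMap LB Bsh))
  (hfC : f.comp jC = (Algebra.TensorProduct.includeRight : Csh →ₐ[Ash] Bsh ⊗[Ash] Csh).toRingHom.comp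
    (algebraMap LC Csh))

include hjB hjC hf hfB hfC in
theorem bijective_theta : Function.Bijective (theta Ash Bsh Csh Dsh) := by
  haveI hE : IsLocalRing (Bsh ⊗[Ash] Csh) := isLocalRing_E Ash Bsh Csh
  have hCh : HenselianLocalRing Csh := Hensel.IsStrictHenselization.henselian LC
  haveI hDh : HenselianLocalRing Dsh := Hensel.IsStrictHenselization.henselian LD
  haveI : IsSepClosed (ResidueField Csh) :=
    (Hensel.IsStrictHenselization.isSepClosure (R := LC) (S := Csh)).sep_closed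
  haveI hEh : HenselianLocalRing (Bsh ⊗[Ash] Csh) := henselian_E Ash Bsh Csh hCh
  haveI hEs : IsSepClosed (ResidueField (Bsh ⊗[Ash] Csh)) := isSepClosed_E Ash Bsh Csh
  haveI hθ : IsLocalHom (theta Ash Bsh Csh Dsh).toRingHom := isLocalHom_theta Ash Bsh Csh Dsh
  set θ : Bsh ⊗[Ash] Csh →+* Dsh := (theta Ash Bsh Csh Dsh).toRingHom with hθdef
  have hfx : ∀ x, θ (f x) = algebraMap LD Dsh x := fun x => congr($hf x)
  haveI hfl : IsLocalHom f := ⟨fun x hx => by
    have : IsUnit (algebraMap LD Dsh x) := by rw [← hfx]; exact hx.map _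
    exact isUnit_of_map_unit (algebraMap LD Dsh) x this⟩
  -- κ(θ) is bijective
  let kθ : ResidueField (Bsh ⊗[Ash] Csh) →+* ResidueField Dsh := ResidueField.map θ
  have hkθ : Function.Bijective kθ := by
    letI a1 : Algebra (ResidueField LD) (ResidueField (Bsh ⊗[Ash] Csh)) :=
      (ResidueField.map f).toAlgebra
    letI a2 : Algebra (ResidueField (Bsh ⊗[Ash] Csh)) (ResidueField Dsh) := kθ.toAlgebra
    haveI : IsScalarTower (ResidueField LD) (ResidueField (Bsh ⊗[Ash] Csh)) (ResidueField Dsh) :=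
      IsScalarTower.of_algebraMap_eq fun x => by
        obtain ⟨x, rfl⟩ := residue_surjective x
        change residue Dsh (algebraMap LD Dsh x) = kθ (ResidueField.map f (residue LD x))
        rw [ResidueField.map_residue, ResidueField.map_residue, hfx]
    haveI : Algebra.IsSeparable (ResidueField LD) (ResidueField Dsh) :=
      (Hensel.IsStrictHenselization.isSepClosure (R := LD) (S := Dsh)).separable
    haveI : Algebra.IsSeparable (ResidueField (Bsh ⊗[Ash] Csh)) (ResidueField Dsh) :=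
      Algebra.isSeparable_tower_top_of_isSeparable (ResidueField LD) _ _
    exact IsSepClosed.algebraMap_bijective (k := ResidueField (Bsh ⊗[Ash] Csh))
      (K := ResidueField Dsh)
  let ε : ResidueField (Bsh ⊗[Ash] Csh) ≃+* ResidueField Dsh := RingEquiv.ofBijective kθ hkθ
  let τ : ResidueField Dsh →+* ResidueField (Bsh ⊗[Ash] Csh) := ε.symm.toRingHom
  have hτk : ∀ z, τ (kθ z) = z := fun z => ε.symm_apply_apply z
  have hkτ : ∀ z, kθ (τ z) = z := fun z => ε.apply_symm_apply z
  have hkres : ∀ x, kθ (residue _ x) = residue Dsh (θ x) := fun x => ResidueField.map_residue θ x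
  have hcompat : τ.comp (ResidueField.map (algebraMap LD Dsh)) = ResidueField.map f := by
    refine RingHom.ext fun x => ?_
    obtain ⟨x, rfl⟩ := residue_surjective x
    apply hkθ.1
    rw [RingHom.comp_apply, hkτ, ResidueField.map_residue, ResidueField.map_residue, hkres, hfx]
  obtain ⟨ρ, ⟨hρ1, hρ2⟩, -⟩ := Hensel.IsStrictHenselization.universal (R := LD) (S := Dsh)
    (Bsh ⊗[Ash] Csh) f τ hcompat
  have hρf : ∀ x, ρ (algebraMap LD Dsh x) = f x := fun x => congr($hρ1 x)
  -- θ ∘ ρ = id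
  have h1 : θ.comp ρ = RingHom.id Dsh :=
    (Hensel.IsStrictHenselization.universal (R := LD) (S := Dsh) Dsh (algebraMap LD Dsh)
      (RingHom.id _) (by simp)).unique
      ⟨by rw [RingHom.comp_assoc, hρ1, hf], fun x => by
        rw [RingHom.comp_apply, ← hkres, hρ2, hkτ]; rfl⟩
      ⟨by simp, fun x => rfl⟩
  -- ρ ∘ θ = id
  have hθl : ∀ b : Bsh, θ (b ⊗ₜ 1) = algebraMap Bsh Dsh b := fun b => by
    change theta Ash Bsh Csh Dsh (b ⊗ₜ 1) = _
    rw [theta_tmul, map_one, mul_one]
  have hθr : ∀ c : Csh, θ (1 ⊗ₜ c) = algebraMap Csh Dsh c := fun c => by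
    change theta Ash Bsh Csh Dsh (1 ⊗ₜ c) = _
    rw [theta_tmul, map_one, one_mul]
  have h2 : ρ.comp θ = RingHom.id (Bsh ⊗[Ash] Csh) := by
    apply Groth.Agent.S9459.tensor_ringHom_ext
    · intro b
      rw [RingHom.comp_apply, hθl, RingHom.id_apply]
      let u₁ : Bsh →+* Bsh ⊗[Ash] Csh :=
        (Algebra.TensorProduct.includeLeft : Bsh →ₐ[Ash] Bsh ⊗[Ash] Csh).toRingHom
      let u₂ : Bsh →+* Bsh ⊗[Ash] Csh := ρ.comp (algebraMap Bsh Dsh)
      have hu₁ : ∀ y, θ (u₁ y) = algebraMap Bsh Dsh y := fun y => hθl y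
      haveI : IsLocalHom u₁ := ⟨fun y hy => by
        have : IsUnit (algebraMap Bsh Dsh y) := by rw [← hu₁]; exact hy.map _
        exact isUnit_of_map_unit (algebraMap Bsh Dsh) y this⟩
      let f₀ : LB →+* Bsh ⊗[Ash] Csh := u₁.comp (algebraMap LB Bsh)
      haveI : IsLocalHom f₀ := RingHom.isLocalHom_comp _ _
      have hcB : (ResidueField.map u₁).comp (ResidueField.map (algebraMap LB Bsh)) =
          ResidueField.map f₀ := (ResidueField.map_comp _ _).symm
      have key : u₂ = u₁ :=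
        (Hensel.IsStrictHenselization.universal (R := LB) (S := Bsh) (Bsh ⊗[Ash] Csh) f₀
          (ResidueField.map u₁) hcB).unique
          ⟨by
            refine RingHom.ext fun x => ?_
            change ρ (algebraMap Bsh Dsh (algebraMap LB Bsh x)) = u₁ (algebraMap LB Bsh x)
            have e1 : algebraMap Bsh Dsh (algebraMap LB Bsh x) = algebraMap LD Dsh (jB x) :=
              congr($hjB x).symm
            rw [e1, hρf]
            exact congr($hfB x), fun y => by
            change residue _ (ρ (algebraMap Bsh Dsh y)) = _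
            rw [hρ2, ← hu₁, ← hkres, hτk, ResidueField.map_residue]⟩
          ⟨rfl, fun y => (ResidueField.map_residue u₁ y).symm⟩
      exact congr($key b)
    · intro c
      rw [RingHom.comp_apply, hθr, RingHom.id_apply]
      let u₁ : Csh →+* Bsh ⊗[Ash] Csh :=
        (Algebra.TensorProduct.includeRight : Csh →ₐ[Ash] Bsh ⊗[Ash] Csh).toRingHom
      let u₂ : Csh →+* Bsh ⊗[Ash] Csh := ρ.comp (algebraMap Csh Dsh)
      have hu₁ : ∀ y, θ (u₁ y) = algebraMap Csh Dsh y := fun y => hθr y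
      haveI : IsLocalHom u₁ := ⟨fun y hy => by
        have : IsUnit (algebraMap Csh Dsh y) := by rw [← hu₁]; exact hy.map _
        exact isUnit_of_map_unit (algebraMap Csh Dsh) y this⟩
      let f₀ : LC →+* Bsh ⊗[Ash] Csh := u₁.comp (algebraMap LC Csh)
      haveI : IsLocalHom f₀ := RingHom.isLocalHom_comp _ _
      have hcB : (ResidueField.map u₁).comp (ResidueField.map (algebraMap LC Csh)) =
          ResidueField.map f₀ := (ResidueField.map_comp _ _).symm
      have key : u₂ = u₁ :=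
        (Hensel.IsStrictHenselization.universal (R := LC) (S := Csh) (Bsh ⊗[Ash] Csh) f₀
          (ResidueField.map u₁) hcB).unique
          ⟨by
            refine RingHom.ext fun x => ?_
            change ρ (algebraMap Csh Dsh (algebraMap LC Csh x)) = u₁ (algebraMap LC Csh x)
            have e1 : algebraMap Csh Dsh (algebraMap LC Csh x) = algebraMap LD Dsh (jC x) :=
              congr($hjC x).symm
            rw [e1, hρf]
            exact congr($hfC x), fun y => by
            change residue _ (ρ (algebraMap Csh Dsh y)) = _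
            rw [hρ2, ← hu₁, ← hkres, hτk, ResidueField.map_residue]⟩
          ⟨rfl, fun y => (ResidueField.map_residue u₁ y).symm⟩
      exact congr($key c)
  refine ⟨?_, ?_⟩
  · intro x y hxy
    have := congr(ρ $hxy)
    change ρ (θ x) = ρ (θ y) at this
    rwa [← RingHom.comp_apply, ← RingHom.comp_apply, h2] at this
  · intro y
    exact ⟨ρ y, congr($h1 y)⟩

end Part2

end Groth.Agent.Lib.Helper69.ShTensor
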