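import Mathlib
import Groth.Prelude.Def_Hensel
import Groth.Agent.Lib.Helper69.ShTensor

set_option autoImplicit false
set_option linter.style.haveILetI false
universe u

/-!
# `B^sh ⊗_{A^sh} C^sh → D^sh` is bijective: concrete form (helper69)

In the context of S9466/S9467/S9471/S9473, if `Bsh` is integral over `Ash` with purely inseparable
residue field extension, the comparison map is bijective.
-/

namespace Groth.Agent.Lib.Helper69.ShTensor

open IsLocalRing TensorProduct

section Part3

variable (A B C : Type u) [CommRing A] [CommRing B]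
    [CommRing C] [Algebra A B] [Algebra A C]
    (pA : Ideal A) [pA.IsPrime] (pB : Ideal B) [pB.IsPrime] [pB.LiesOver pA]
    (pC : Ideal C) [pC.IsPrime] [pC.LiesOver pA]
    (pD : Ideal (B ⊗[A] C)) [pD.IsPrime] [pD.LiesOver pB]
    (hDC : pD.comap (Algebra.TensorProduct.includeRight : C →ₐ[A] B ⊗[A] C).toRingHom = pC)
    (Ash : Type u) [CommRing Ash] [IsLocalRing Ash] [Algebra (Localization.AtPrime pA) Ash]
    [IsLocalHom (algebraMap (Localization.AtPrime pA) Ash)]
    [Hensel.IsStrictHenselization (Localization.AtPrime pA) Ash] [Algebra A Ash]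
    [IsScalarTower A (Localization.AtPrime pA) Ash]
    (Bsh : Type u) [CommRing Bsh] [IsLocalRing Bsh] [Algebra (Localization.AtPrime pB) Bsh]
    [IsLocalHom (algebraMap (Localization.AtPrime pB) Bsh)]
    [Hensel.IsStrictHenselization (Localization.AtPrime pB) Bsh] [Algebra B Bsh]
    [IsScalarTower B (Localization.AtPrime pB) Bsh] [Algebra A Bsh] [IsScalarTower A B Bsh]
    [Algebra Ash Bsh] [IsScalarTower A Ash Bsh] [IsLocalHom (algebraMap Ash Bsh)]
    (Csh : Type u) [CommRing Csh] [IsLocalRing Csh] [Algebra (Localization.AtPrime pC) Csh]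
    [IsLocalHom (algebraMap (Localization.AtPrime pC) Csh)]
    [Hensel.IsStrictHenselization (Localization.AtPrime pC) Csh] [Algebra C Csh]
    [IsScalarTower C (Localization.AtPrime pC) Csh] [Algebra A Csh] [IsScalarTower A C Csh]
    [Algebra Ash Csh] [IsScalarTower A Ash Csh] [IsLocalHom (algebraMap Ash Csh)]
    (Dsh : Type u) [CommRing Dsh] [IsLocalRing Dsh] [Algebra (Localization.AtPrime pD) Dsh]
    [IsLocalHom (algebraMap (Localization.AtPrime pD) Dsh)]
    [Hensel.IsStrictHenselization (Localization.AtPrime pD) Dsh] [Algebra (B ⊗[A] C) Dsh]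
    [IsScalarTower (B ⊗[A] C) (Localization.AtPrime pD) Dsh]
    [Algebra Bsh Dsh] [IsLocalHom (algebraMap Bsh Dsh)] [Algebra B Dsh] [IsScalarTower B Bsh Dsh]
    [IsScalarTower B (B ⊗[A] C) Dsh]
    [Algebra Csh Dsh] [IsLocalHom (algebraMap Csh Dsh)]
    (hC : ∀ c : C, algebraMap Csh Dsh (algebraMap C Csh c) = algebraMap (B ⊗[A] C) Dsh (1 ⊗ₜ[A] c))
    [Algebra Ash Dsh] [IsScalarTower Ash Bsh Dsh] [IsScalarTower Ash Csh Dsh]
    [Algebra.IsIntegral Ash Bsh] [IsPurelyInseparable (ResidueField Ash) (ResidueField Bsh)]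

include pA pB pC pD hDC hC in
theorem bijective_of_isIntegral :
    Function.Bijective (Algebra.TensorProduct.lift (IsScalarTower.toAlgHom Ash Bsh Dsh)
      (IsScalarTower.toAlgHom Ash Csh Dsh) (fun _ _ => Commute.all _ _)) := by
  haveI hE : IsLocalRing (Bsh ⊗[Ash] Csh) := isLocalRing_E Ash Bsh Csh
  haveI hθ : IsLocalHom (theta Ash Bsh Csh Dsh).toRingHom := isLocalHom_theta Ash Bsh Csh Dsh
  -- the maps `jB`, `jC`
  let jB : Localization.AtPrime pB →+* Localization.AtPrime pD :=
    Localization.localRingHom pB pD (algebraMap B (B ⊗[A] C)) (pD.over_def pB)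
  let jC : Localization.AtPrime pC →+* Localization.AtPrime pD :=
    Localization.localRingHom pC pD
      (Algebra.TensorProduct.includeRight : C →ₐ[A] B ⊗[A] C).toRingHom hDC.symm
  have hjB : (algebraMap (Localization.AtPrime pD) Dsh).comp jB =
      (algebraMap Bsh Dsh).comp (algebraMap (Localization.AtPrime pB) Bsh) := by
    refine IsLocalization.ringHom_ext pB.primeCompl (RingHom.ext fun b => ?_)
    simp only [RingHom.comp_apply, jB]
    rw [Localization.localRingHom_to_map, ← IsScalarTower.algebraMap_apply (B ⊗[A] C) _ Dsh,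
      ← IsScalarTower.algebraMap_apply B (B ⊗[A] C) Dsh,
      ← IsScalarTower.algebraMap_apply B (Localization.AtPrime pB) Bsh,
      ← IsScalarTower.algebraMap_apply B Bsh Dsh]
  have hjC : (algebraMap (Localization.AtPrime pD) Dsh).comp jC =
      (algebraMap Csh Dsh).comp (algebraMap (Localization.AtPrime pC) Csh) := by
    refine IsLocalization.ringHom_ext pC.primeCompl (RingHom.ext fun c => ?_)
    simp only [RingHom.comp_apply, jC]
    rw [Localization.localRingHom_to_map, ← IsScalarTower.algebraMap_apply (B ⊗[A] C) _ Dsh,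
      ← IsScalarTower.algebraMap_apply C (Localization.AtPrime pC) Csh, hC]
    rfl
  -- the map `f₀ : B ⊗ C → Bsh ⊗ Csh`
  let gB : B →ₐ[A] Bsh ⊗[Ash] Csh :=
    { toRingHom := (Algebra.TensorProduct.includeLeft : Bsh →ₐ[Ash] Bsh ⊗[Ash] Csh).toRingHom.comp
        (algebraMap B Bsh)
      commutes' := fun a => by
        change (algebraMap B Bsh (algebraMap A B a)) ⊗ₜ[Ash] (1 : Csh) =
          algebraMap A Bsh a ⊗ₜ[Ash] (1 : Csh)
        rw [← IsScalarTower.algebraMap_apply A B Bsh] }
  let gC : C →ₐ[A] Bsh ⊗[Ash] Csh :=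
    { toRingHom := (Algebra.TensorProduct.includeRight : Csh →ₐ[Ash] Bsh ⊗[Ash] Csh).toRingHom.comp
        (algebraMap C Csh)
      commutes' := fun a => by
        change (1 : Bsh) ⊗ₜ[Ash] (algebraMap C Csh (algebraMap A C a)) =
          algebraMap A Bsh a ⊗ₜ[Ash] (1 : Csh)
        rw [← IsScalarTower.algebraMap_apply A C Csh, IsScalarTower.algebraMap_apply A Ash Csh,
          IsScalarTower.algebraMap_apply A Ash Bsh, Algebra.algebraMap_eq_smul_one,
          Algebra.algebraMap_eq_smul_one (R := Ash) (A := Bsh), smul_tmul] }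
  let f₀ : B ⊗[A] C →+* Bsh ⊗[Ash] Csh :=
    (Algebra.TensorProduct.lift gB gC (fun _ _ => Commute.all _ _)).toRingHom
  have hf₀ : ∀ b c, f₀ (b ⊗ₜ c) = algebraMap B Bsh b ⊗ₜ[Ash] algebraMap C Csh c := fun b c => by
    change Algebra.TensorProduct.lift gB gC (fun _ _ => Commute.all _ _) (b ⊗ₜ c) = _
    rw [Algebra.TensorProduct.lift_tmul]
    change (algebraMap B Bsh b ⊗ₜ[Ash] (1 : Csh)) * ((1 : Bsh) ⊗ₜ[Ash] algebraMap C Csh c) = _
    rw [Algebra.TensorProduct.tmul_mul_tmul, mul_one, one_mul]
  have hθf₀ : (theta Ash Bsh Csh Dsh).toRingHom.comp f₀ = algebraMap (B ⊗[A] C) Dsh := by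
    apply Groth.Agent.S9459.tensor_ringHom_ext
    · intro b
      rw [RingHom.comp_apply, hf₀]
      change theta Ash Bsh Csh Dsh _ = _
      rw [theta_tmul, map_one, map_one, mul_one, ← IsScalarTower.algebraMap_apply B Bsh Dsh,
        IsScalarTower.algebraMap_apply B (B ⊗[A] C) Dsh]
      rfl
    · intro c
      rw [RingHom.comp_apply, hf₀]
      change theta Ash Bsh Csh Dsh _ = _
      rw [theta_tmul, map_one, map_one, one_mul, hC]
  have hunits : ∀ y : pD.primeCompl, IsUnit (f₀ (y : B ⊗[A] C)) := by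
    intro y
    have h1 : IsUnit (algebraMap (B ⊗[A] C) Dsh (y : B ⊗[A] C)) := by
      rw [IsScalarTower.algebraMap_apply (B ⊗[A] C) (Localization.AtPrime pD) Dsh]
      exact (IsLocalization.map_units (Localization.AtPrime pD) y).map _
    rw [← hθf₀] at h1
    exact isUnit_of_map_unit (theta Ash Bsh Csh Dsh).toRingHom _ h1
  let f : Localization.AtPrime pD →+* Bsh ⊗[Ash] Csh :=
    IsLocalization.lift (M := pD.primeCompl) (g := f₀) hunits
  have hff₀ : ∀ x, f (algebraMap (B ⊗[A] C) (Localization.AtPrime pD) x) = f₀ x :=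
    fun x => IsLocalization.lift_eq _ _
  have hf : (theta Ash Bsh Csh Dsh).toRingHom.comp f = algebraMap (Localization.AtPrime pD) Dsh := by
    refine IsLocalization.ringHom_ext pD.primeCompl (RingHom.ext fun x => ?_)
    rw [RingHom.comp_apply, RingHom.comp_apply, hff₀, ← RingHom.comp_apply, hθf₀,
      RingHom.comp_apply, ← IsScalarTower.algebraMap_apply]
  have hfB : f.comp jB =
      (Algebra.TensorProduct.includeLeft : Bsh →ₐ[Ash] Bsh ⊗[Ash] Csh).toRingHom.comp
        (algebraMap (Localization.AtPrime pB) Bsh) := by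
    refine IsLocalization.ringHom_ext pB.primeCompl (RingHom.ext fun b => ?_)
    simp only [RingHom.comp_apply, jB]
    rw [Localization.localRingHom_to_map, hff₀, Algebra.TensorProduct.algebraMap_apply,
      Algebra.algebraMap_self, RingHom.id_apply, hf₀, map_one,
      ← IsScalarTower.algebraMap_apply B (Localization.AtPrime pB) Bsh]
    rfl
  have hfC : f.comp jC =
      (Algebra.TensorProduct.includeRight : Csh →ₐ[Ash] Bsh ⊗[Ash] Csh).toRingHom.comp
        (algebraMap (Localization.AtPrime pC) Csh) := by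
    refine IsLocalization.ringHom_ext pC.primeCompl (RingHom.ext fun c => ?_)
    simp only [RingHom.comp_apply, jC]
    rw [Localization.localRingHom_to_map, hff₀]
    change f₀ (1 ⊗ₜ c) = _
    rw [hf₀, map_one, ← IsScalarTower.algebraMap_apply C (Localization.AtPrime pC) Csh]
    rfl
  exact bijective_theta Ash Bsh Csh Dsh (Localization.AtPrime pB) (Localization.AtPrime pC)
    (Localization.AtPrime pD) jB jC hjB hjC f hf hfB hfC

end Part3

end Groth.Agent.Lib.Helper69.ShTensor
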