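import Mathlib

/-!
# Total ring of fractions of a flat quasi-finite algebra over a reduced ring with finitely many
minimal primes (helper69)

Let `A` be a reduced ring with finitely many minimal primes, `K` its total ring of fractions.
* `isArtinianRing_fractionRing` : `K` is an artinian ring (a finite product of fields).
For a flat quasi-finite `A`-algebra `E` (e.g. a localisation of an etale algebra) and
`T = E[nzd(A)⁻¹]`:
* `finite_K_T` : `T` is a finite `K`-module;
* `isFractionRing_T` : `T` is the total ring of fractions of `E`;
* `isLocalization_fractionRing` : `FractionRing E` is the localisation of `E` at the image of the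
  non-zero-divisors of `A`;
* `exists_finset_span` : finiteness in "clear denominators" form;
* `exists_inv_mem_subalgebra` : an `A`-subalgebra `L` of `T` containing inverses of the nzd's of `A`
  is "inverse closed" (`L` is artinian).
-/

set_option autoImplicit false
universe u

namespace Groth.Agent.Lib.Helper69.TotFrac

section Base

variable (A : Type u) [CommRing A]

/-- In a reduced ring, every zero divisor lies in a minimal prime. -/
theorem exists_minimalPrime_mem [IsReduced A] (x : A) (hx : x ∉ nonZeroDivisors A) :
    ∃ p ∈ minimalPrimes A, x ∈ p := by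
  have h := Ideal.iUnion_minimalPrimes (I := (⊥ : Ideal A))
  have hrad : (⊥ : Ideal A).radical = ⊥ := by
    simp
  rw [hrad] at h
  have hx' : x ∈ {x : A | ∃ y ∉ (⊥ : Ideal A), x * y ∈ (⊥ : Ideal A)} := by
    rw [mem_nonZeroDivisors_iff_right] at hx
    push Not at hx
    obtain ⟨y, hy, hy0⟩ := hx
    exact ⟨y, by simpa using hy0, by simpa [mul_comm] using hy⟩
  rw [← h] at hx'
  simpa using hx'

/-- A prime ideal consisting of zero divisors, in a reduced ring with finitely many minimal primes,
is a minimal prime. -/
theorem mem_minimalPrimes_of_disjoint [IsReduced A] (hmin : (minimalPrimes A).Finite)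
    (p : Ideal A) [p.IsPrime] (hp : Disjoint (nonZeroDivisors A : Set A) (p : Set A)) :
    p ∈ minimalPrimes A := by
  classical
  have hsub : (p : Set A) ⊆ ⋃ q ∈ (hmin.toFinset : Set (Ideal A)), ((id q : Ideal A) : Set A) := by
    intro x hx
    have hx' : x ∉ nonZeroDivisors A := fun h => Set.disjoint_left.mp hp h hx
    obtain ⟨q, hq, hxq⟩ := exists_minimalPrime_mem A x hx'
    simp only [Set.mem_iUnion]
    exact ⟨q, by simpa using hq, hxq⟩
  by_cases hne : (hmin.toFinset).Nonempty
  · obtain ⟨a, ha⟩ := hne
    have := (Ideal.subset_union_prime (s := hmin.toFinset) (f := fun q => q) a a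
      (fun i hi _ _ => by
        have : i ∈ minimalPrimes A := by simpa using hi
        exact this.1.1) (I := p)).mp hsub
    obtain ⟨q, hq, hpq⟩ := this
    have hq' : q ∈ minimalPrimes A := by simpa using hq
    have : q ≤ p := hq'.2 ⟨inferInstance, bot_le⟩ hpq
    rwa [le_antisymm hpq this]
  · exfalso
    rw [Finset.not_nonempty_iff_eq_empty] at hne
    obtain ⟨q, hq, -⟩ := Ideal.exists_minimalPrimes_le (I := ⊥) (J := p) bot_le
    have : q ∈ hmin.toFinset := by simpa using hq
    rw [hne] at this
    simp at this

variable (K : Type u) [CommRing K] [Algebra A K] [IsLocalization (nonZeroDivisors A) K]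

include A in
theorem krullDimLE_zero [IsReduced A] (hmin : (minimalPrimes A).Finite) : Ring.KrullDimLE 0 K := by
  refine Ring.KrullDimLE.mk₀ fun I hI => ?_
  obtain ⟨m, hm, hIm⟩ := Ideal.exists_le_maximal I hI.ne_top
  have := hm.isPrime
  have h1 : I.comap (algebraMap A K) ∈ minimalPrimes A :=
    mem_minimalPrimes_of_disjoint A hmin _
      ((IsLocalization.isPrime_iff_isPrime_disjoint (nonZeroDivisors A) K I).mp hI).2
  have h2 : m.comap (algebraMap A K) ∈ minimalPrimes A :=
    mem_minimalPrimes_of_disjoint A hmin _
      ((IsLocalization.isPrime_iff_isPrime_disjoint (nonZeroDivisors A) K m).mp hm.isPrime).2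
  have h3 : m.comap (algebraMap A K) ≤ I.comap (algebraMap A K) :=
    h2.2 ⟨Ideal.comap_isPrime _ _, bot_le⟩ (Ideal.comap_mono hIm)
  have h4 : m ≤ I := by
    rw [← IsLocalization.map_under (nonZeroDivisors A) K m,
      ← IsLocalization.map_under (nonZeroDivisors A) K I]
    exact Ideal.map_mono h3
  rwa [le_antisymm hIm h4]

include A in
theorem finite_primeSpectrum [IsReduced A] (hmin : (minimalPrimes A).Finite) :
    Finite (PrimeSpectrum K) := by
  have : Finite (minimalPrimes A) := hmin
  let f : PrimeSpectrum K → minimalPrimes A := fun P =>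
    ⟨P.asIdeal.comap (algebraMap A K), mem_minimalPrimes_of_disjoint A hmin _
      ((IsLocalization.isPrime_iff_isPrime_disjoint (nonZeroDivisors A) K P.asIdeal).mp P.2).2⟩
  refine Finite.of_injective f fun P Q h => ?_
  have h' : P.asIdeal.comap (algebraMap A K) = Q.asIdeal.comap (algebraMap A K) :=
    congrArg Subtype.val h
  ext1
  rw [← IsLocalization.map_under (nonZeroDivisors A) K P.asIdeal,
    ← IsLocalization.map_under (nonZeroDivisors A) K Q.asIdeal]
  exact congrArg (Ideal.map (algebraMap A K)) h'

include A in
theorem discreteTopology [IsReduced A] (hmin : (minimalPrimes A).Finite) :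
    DiscreteTopology (PrimeSpectrum K) :=
  PrimeSpectrum.discreteTopology_iff_finite_and_krullDimLE_zero.mpr
    ⟨finite_primeSpectrum A K hmin, krullDimLE_zero A K hmin⟩

/-- A reduced ring with discrete spectrum is artinian (a finite product of fields). -/
theorem isArtinianRing_of_discrete (K : Type u) [CommRing K] [DiscreteTopology (PrimeSpectrum K)]
    [IsReduced K] : IsArtinianRing K := by
  have : Ring.KrullDimLE 0 K :=
    (PrimeSpectrum.discreteTopology_iff_finite_and_krullDimLE_zero.mp inferInstance).2
  have : Finite (PrimeSpectrum K) :=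
    (PrimeSpectrum.discreteTopology_iff_finite_and_krullDimLE_zero.mp inferInstance).1
  have : Finite (MaximalSpectrum K) :=
    Finite.of_injective MaximalSpectrum.toPrimeSpectrum MaximalSpectrum.toPrimeSpectrum_injective
  have key : ∀ I : MaximalSpectrum K, IsArtinianRing (Localization.AtPrime I.asIdeal) := by
    intro I
    have hI : I.asIdeal ∈ minimalPrimes K := by
      have := I.isMaximal.isPrime
      rw [Ring.KrullDimLE.minimalPrimes_eq_setOfPred_isPrime]
      exact this
    have : Ring.KrullDimLE 0 (Localization.AtPrime I.asIdeal) := .of_isLocalization _ hI _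
    have hf : IsField (Localization.AtPrime I.asIdeal) := Ring.KrullDimLE.isField_of_isReduced
    let _ := hf.toField
    infer_instance
  have : IsArtinianRing (MaximalSpectrum.PiLocalization K) := by
    unfold MaximalSpectrum.PiLocalization
    infer_instance
  exact (MaximalSpectrum.toPiLocalizationEquiv K).symm.toRingEquiv.isArtinianRing

include A in
/-- The total ring of fractions of a reduced ring with finitely many minimal primes is artinian. -/
theorem isArtinianRing_fractionRing [IsReduced A] (hmin : (minimalPrimes A).Finite) :
    IsArtinianRing K := by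
  have := discreteTopology A K hmin
  have : IsReduced K := (isReduced_localizationPreserves (nonZeroDivisors A) K inferInstance)
  exact isArtinianRing_of_discrete K

end Base

section Span

variable (A : Type u) [CommRing A] (M : Submonoid A)
variable (K : Type u) [CommRing K] [Algebra A K] [IsLocalization M K]
variable (T : Type u) [CommRing T] [Algebra A T] [Algebra K T] [IsScalarTower A K T]

include K in
/-- A finite module over a localisation `K = M⁻¹A` is, up to denominators in `M`, spanned over `A`
by a finite set. -/
theorem exists_finset_span [Module.Finite K T] :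
    ∃ t : Finset T, ∀ x : T, ∃ a ∈ M, algebraMap A T a * x ∈ Submodule.span A (t : Set T) := by
  obtain ⟨t, ht⟩ := (Module.Finite.fg_top : (⊤ : Submodule K T).FG)
  refine ⟨t, fun x => ?_⟩
  have hx : x ∈ Submodule.span K (t : Set T) := by rw [ht]; trivial
  induction hx using Submodule.span_induction with
  | mem y hy => exact ⟨1, M.one_mem, by simpa using Submodule.subset_span hy⟩
  | zero => exact ⟨1, M.one_mem, by simp⟩
  | add y z _ _ hy hz =>
    obtain ⟨a, ha, hay⟩ := hy
    obtain ⟨b, hb, hbz⟩ := hz
    refine ⟨a * b, M.mul_mem ha hb, ?_⟩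
    have : algebraMap A T (a * b) * (y + z) =
        b • (algebraMap A T a * y) + a • (algebraMap A T b * z) := by
      simp only [Algebra.smul_def, map_mul]; ring
    rw [this]
    exact Submodule.add_mem _ (Submodule.smul_mem _ _ hay) (Submodule.smul_mem _ _ hbz)
  | smul k y _ hy =>
    obtain ⟨a, ha, hay⟩ := hy
    obtain ⟨⟨b, m⟩, hbm⟩ := IsLocalization.surj M k
    refine ⟨m * a, M.mul_mem m.2 ha, ?_⟩
    have : algebraMap A T (m * a) * (k • y) = b • (algebraMap A T a * y) := by
      have h1 : algebraMap A T b = algebraMap K T k * algebraMap A T m := by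
        rw [IsScalarTower.algebraMap_apply A K T, IsScalarTower.algebraMap_apply A K T, ← map_mul]
        congr 1
        exact hbm.symm
      simp only [Algebra.smul_def, map_mul, h1]; ring
    rw [this]
    exact Submodule.smul_mem _ _ hay

end Span

section Ext

variable (A : Type u) [CommRing A]
variable (K : Type u) [CommRing K] [Algebra A K]
variable (E : Type u) [CommRing E] [Algebra A E]
variable (T : Type u) [CommRing T] [Algebra E T] [Algebra A T] [IsScalarTower A E T]
  [IsLocalization (Algebra.algebraMapSubmonoid E (nonZeroDivisors A)) T] [Algebra K T]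
  [IsScalarTower A K T]

include A K in
theorem finite_K_T [IsArtinianRing K] [Algebra.QuasiFinite A E] : Module.Finite K T := by
  have : Algebra.QuasiFinite A T :=
    Algebra.QuasiFinite.of_isLocalization (R := A) (S := E) (T := T)
      (Algebra.algebraMapSubmonoid E (nonZeroDivisors A))
  have : Algebra.QuasiFinite K T := Algebra.QuasiFinite.of_restrictScalars A K T
  exact Module.Finite.of_quasiFinite

omit [Algebra A T] [IsScalarTower A E T] [IsLocalization (Algebra.algebraMapSubmonoid E (nonZeroDivisors A)) T] [Algebra K T]
  [IsScalarTower A K T] [Algebra E T] in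
theorem le_nonZeroDivisors [Module.Flat A E] :
    Algebra.algebraMapSubmonoid E (nonZeroDivisors A) ≤ nonZeroDivisors E := by
  rintro _ ⟨a, ha, rfl⟩
  have h := Module.Flat.isSMulRegular_of_nonZeroDivisors (M := E) ha
  rw [mem_nonZeroDivisors_iff_right]
  intro x hx
  refine h ?_
  change a • x = a • (0 : E)
  rw [smul_zero, Algebra.smul_def, mul_comm, hx]

include A K in
theorem isArtinianRing_T [IsArtinianRing K] [Algebra.QuasiFinite A E] : IsArtinianRing T := by
  have := finite_K_T A K E T
  exact IsArtinianRing.of_finite K T

include A K in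
/-- `E[nzd(A)⁻¹]` is the total ring of fractions of `E`. -/
theorem isFractionRing_T [IsArtinianRing K] [Algebra.QuasiFinite A E] [Module.Flat A E] :
    IsLocalization (nonZeroDivisors E) T := by
  have : IsArtinianRing T := isArtinianRing_T A K E T
  refine IsLocalization.of_le (Algebra.algebraMapSubmonoid E (nonZeroDivisors A)) _
    (le_nonZeroDivisors A E) fun r hr => ?_
  apply IsArtinianRing.isUnit_of_mem_nonZeroDivisors
  exact IsLocalization.map_nonZeroDivisors_le (Algebra.algebraMapSubmonoid E (nonZeroDivisors A)) T
    ⟨r, hr, rfl⟩

end Ext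

section Frac

variable (A : Type u) [CommRing A] [IsReduced A]
variable (E : Type u) [CommRing E] [Algebra A E] [Algebra.QuasiFinite A E] [Module.Flat A E]

/-- `FractionRing E` is the localisation of `E` at the image of the non-zero-divisors of `A`. -/
theorem isLocalization_fractionRing (hmin : (minimalPrimes A).Finite) :
    IsLocalization (Algebra.algebraMapSubmonoid E (nonZeroDivisors A)) (FractionRing E) := by
  have : IsArtinianRing (FractionRing A) := isArtinianRing_fractionRing A (FractionRing A) hmin
  have h1 : IsLocalization (nonZeroDivisors E)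
      (Localization (Algebra.algebraMapSubmonoid E (nonZeroDivisors A))) :=
    isFractionRing_T A (FractionRing A) E _
  exact IsLocalization.isLocalization_of_algEquiv _
    (IsLocalization.algEquiv (nonZeroDivisors E)
      (Localization (Algebra.algebraMapSubmonoid E (nonZeroDivisors A))) (FractionRing E))

end Frac

section InvClosed

variable (A : Type u) [CommRing A] (M : Submonoid A)
variable (K : Type u) [CommRing K] [Algebra A K] [IsLocalization M K]
variable (T : Type u) [CommRing T] [Algebra A T] [Algebra K T] [IsScalarTower A K T]

include K in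
/-- An `A`-subalgebra of `T` containing inverses of the images of `M` is stable under the action of
`K = M⁻¹A`. -/
theorem algebraMap_mem_of_inv_mem (L : Subalgebra A T)
    (hL : ∀ s ∈ M, ∃ y ∈ L, algebraMap A T s * y = 1) (k : K) : algebraMap K T k ∈ L := by
  obtain ⟨⟨b, m⟩, hbm⟩ := IsLocalization.surj M k
  obtain ⟨y, hyL, hy⟩ := hL m m.2
  have h1 : algebraMap K T k * algebraMap A T m = algebraMap A T b := by
    rw [IsScalarTower.algebraMap_apply A K T, IsScalarTower.algebraMap_apply A K T, ← map_mul]
    congr 1
  have h2 : algebraMap K T k = algebraMap A T b * y := by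
    rw [← h1, mul_assoc, hy, mul_one]
  rw [h2]
  exact L.mul_mem (L.algebraMap_mem b) hyL

include K in
/-- If `K = M⁻¹A` is artinian and `T` is a finite `K`-algebra, then an `A`-subalgebra `L` of `T`
containing inverses of the images of `M` is inverse-closed in `T`. -/
theorem exists_inv_mem_subalgebra [IsArtinianRing K] [Module.Finite K T] (L : Subalgebra A T)
    (hL : ∀ s ∈ M, ∃ y ∈ L, algebraMap A T s * y = 1) (d : T) (hd : d ∈ L) (hu : IsUnit d) :
    ∃ l ∈ L, d * l = 1 := by
  let L' : Subalgebra K T :=
    { L.toSubsemiring with
      algebraMap_mem' := fun k => algebraMap_mem_of_inv_mem A M K T L hL k }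
  have hmem : ∀ x : T, x ∈ L' ↔ x ∈ L := fun x => Iff.rfl
  have : IsNoetherian K T := inferInstance
  have : Module.Finite K L' := Module.Finite.of_injective L'.val.toLinearMap Subtype.val_injective
  have : IsArtinianRing L' := IsArtinianRing.of_finite K L'
  have hnzd : (⟨d, hd⟩ : L') ∈ nonZeroDivisors L' := by
    rw [mem_nonZeroDivisors_iff_right]
    rintro ⟨x, hx⟩ h
    have h' : x * d = 0 := congrArg Subtype.val h
    have : x = 0 := by
      obtain ⟨u, rfl⟩ := hu
      simpa using h'
    exact Subtype.ext this
  obtain ⟨u, hu'⟩ := IsArtinianRing.isUnit_of_mem_nonZeroDivisors hnzd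
  refine ⟨((u⁻¹ : L'ˣ) : L').1, ((u⁻¹ : L'ˣ) : L').2, ?_⟩
  have : (u : L') * ((u⁻¹ : L'ˣ) : L') = 1 := by simp
  have h3 := congrArg Subtype.val this
  rw [hu'] at h3
  exact h3

end InvClosed

section Frac2

variable (A : Type u) [CommRing A] [IsReduced A]
variable (E : Type u) [CommRing E] [Algebra A E] [Algebra.QuasiFinite A E] [Module.Flat A E]

/-- Inverse-closedness of intermediate rings `K_A ⊆ L ⊆ K_E`. -/
theorem exists_inv_mem_subalgebra_fractionRing (hmin : (minimalPrimes A).Finite)
    (L : Subalgebra A (FractionRing E))
    (hL : ∀ s ∈ nonZeroDivisors A, ∃ y ∈ L, algebraMap A (FractionRing E) s * y = 1)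
    (d : FractionRing E) (hd : d ∈ L) (hu : IsUnit d) : ∃ l ∈ L, d * l = 1 := by
  have hloc : IsLocalization (Algebra.algebraMapSubmonoid E (nonZeroDivisors A)) (FractionRing E) :=
    isLocalization_fractionRing A E hmin
  have hArt : IsArtinianRing (FractionRing A) :=
    isArtinianRing_fractionRing A (FractionRing A) hmin
  letI : Algebra (FractionRing A) (FractionRing E) :=
    localizationAlgebra (nonZeroDivisors A) E
  have : IsScalarTower A (FractionRing A) (FractionRing E) :=
    isScalarTower_localizationAlgebra (nonZeroDivisors A) E
  have hfin : Module.Finite (FractionRing A) (FractionRing E) :=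
    finite_K_T A (FractionRing A) E (FractionRing E)
  exact exists_inv_mem_subalgebra A (nonZeroDivisors A) (FractionRing A) (FractionRing E) L hL d hd hu

end Frac2

end Groth.Agent.Lib.Helper69.TotFrac
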