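import Mathlib
import Groth.Agent.Lib.Helper69.TotFrac

/-!
# Subalgebras of flat quasi-finite algebras over a reduced ring with finitely many minimal primes
(helper69)

`A` reduced with finitely many minimal primes, `E` a flat quasi-finite `A`-algebra, `φ : D →ₐ[A] E`
an injective `A`-algebra map. Then
* `exists_mul_eq_algebraMap` : every non-zero-divisor `d` of `D` divides (in `D`) the image of a
  non-zero-divisor of `A`;
* `exists_finset_span_of_injective` : `D` is, up to denominators in `nzd(A)`, spanned over `A` by a
  finite set.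
-/

set_option autoImplicit false
set_option linter.style.haveILetI false
set_option linter.unusedSectionVars false
universe u

namespace Groth.Agent.Lib.Helper69.TotFrac2

open Groth.Agent.Lib.Helper69.TotFrac

section InvClosed

variable (A : Type u) [CommRing A] (M : Submonoid A)
variable (K : Type u) [CommRing K] [Algebra A K] [IsLocalization M K]
variable (T : Type u) [CommRing T] [Algebra A T] [Algebra K T] [IsScalarTower A K T]

include K in
/-- If `K = M⁻¹A` is artinian and `T` is a finite `K`-algebra, then in an `A`-subalgebra `L` of `T`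
containing inverses of the images of `M`, every non-zero-divisor of `L` is invertible in `L`. -/
theorem exists_inv_mem_subalgebra_of_nzd [IsArtinianRing K] [Module.Finite K T]
    (L : Subalgebra A T) (hL : ∀ s ∈ M, ∃ y ∈ L, algebraMap A T s * y = 1) (d : T) (hd : d ∈ L)
    (hu : ∀ x ∈ L, x * d = 0 → x = 0) : ∃ l ∈ L, d * l = 1 := by
  let L' : Subalgebra K T :=
    { L.toSubsemiring with
      algebraMap_mem' := fun k => algebraMap_mem_of_inv_mem A M K T L hL k }
  have : IsNoetherian K T := inferInstance
  have : Module.Finite K L' := Module.Finite.of_injective L'.val.toLinearMap Subtype.val_injective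
  have : IsArtinianRing L' := IsArtinianRing.of_finite K L'
  have hnzd : (⟨d, hd⟩ : L') ∈ nonZeroDivisors L' := by
    rw [mem_nonZeroDivisors_iff_right]
    rintro ⟨x, hx⟩ h
    have h' : x * d = 0 := congrArg Subtype.val h
    exact Subtype.ext (hu x hx h')
  obtain ⟨u, hu'⟩ := IsArtinianRing.isUnit_of_mem_nonZeroDivisors hnzd
  refine ⟨((u⁻¹ : L'ˣ) : L').1, ((u⁻¹ : L'ˣ) : L').2, ?_⟩
  have : (u : L') * ((u⁻¹ : L'ˣ) : L') = 1 := by simp
  have h3 := congrArg Subtype.val this
  rw [hu'] at h3
  exact h3

include K in
/-- clearing denominators in a `K`-span. -/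
theorem exists_smul_mem_span (s : Set T) (x : T) (hx : x ∈ Submodule.span K s) :
    ∃ a ∈ M, algebraMap A T a * x ∈ Submodule.span A s := by
  induction hx using Submodule.span_induction with
  | mem y hy => exact ⟨1, M.one_mem, by simpa using Submodule.subset_span hy⟩
  | zero => exact ⟨1, M.one_mem, by simp⟩
  | add y z _ _ hy hz =>
    obtain ⟨a, ha, hay⟩ := hy
    obtain ⟨b, hb, hbz⟩ := hz
    refine ⟨a * b, M.mul_mem ha hb, ?_⟩
    have : algebraMap A T (a * b) * (y + z) =
        b • (algebraMap A T a * y) + a • (algebraMap A T b * z) := by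
      simp only [Algebra.smul_def, map_mul]; ring
    rw [this]
    exact Submodule.add_mem _ (Submodule.smul_mem _ _ hay) (Submodule.smul_mem _ _ hbz)
  | smul k y _ hy =>
    obtain ⟨a, ha, hay⟩ := hy
    obtain ⟨⟨b, m⟩, hbm⟩ := IsLocalization.surj M k
    refine ⟨m * a, M.mul_mem m.2 ha, ?_⟩
    have : algebraMap A T (m * a) * (k • y) = b • (algebraMap A T a * y) := by
      have h1 : algebraMap A T b = algebraMap K T k * algebraMap A T m := by
        rw [IsScalarTower.algebraMap_apply A K T, IsScalarTower.algebraMap_apply A K T, ← map_mul]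
        congr 1
        exact hbm.symm
      simp only [Algebra.smul_def, map_mul, h1]; ring
    rw [this]
    exact Submodule.smul_mem _ _ hay

end InvClosed

section Frac

variable (A : Type u) [CommRing A] [IsReduced A]
variable (E : Type u) [CommRing E] [Algebra A E] [Algebra.QuasiFinite A E] [Module.Flat A E]
variable {D : Type u} [CommRing D] [Algebra A D]

/-- the `nzd(A)`-saturation in `FractionRing E` of the image of `φ : D → E`. -/
def sat (φ : D →ₐ[A] E) : Subalgebra A (FractionRing E) where
  carrier := {x | ∃ a ∈ nonZeroDivisors A, ∃ d : D,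
    algebraMap A (FractionRing E) a * x = algebraMap E (FractionRing E) (φ d)}
  mul_mem' := by
    rintro x y ⟨a, ha, d, hd⟩ ⟨b, hb, d', hd'⟩
    refine ⟨a * b, mul_mem ha hb, d * d', ?_⟩
    rw [map_mul, map_mul, map_mul, ← hd, ← hd']; ring
  add_mem' := by
    rintro x y ⟨a, ha, d, hd⟩ ⟨b, hb, d', hd'⟩
    refine ⟨a * b, mul_mem ha hb, algebraMap A D b * d + algebraMap A D a * d', ?_⟩
    have h1 : ∀ (r : A) (z : D), algebraMap E (FractionRing E) (φ (algebraMap A D r * z)) =
        algebraMap A (FractionRing E) r * algebraMap E (FractionRing E) (φ z) := by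
      intro r z
      rw [map_mul, map_mul, AlgHom.commutes, ← IsScalarTower.algebraMap_apply A E (FractionRing E)]
    rw [map_add, map_add, h1, h1, ← hd, ← hd', map_mul]; ring
  algebraMap_mem' := by
    intro r
    refine ⟨1, one_mem _, algebraMap A D r, ?_⟩
    rw [map_one, one_mul, AlgHom.commutes, ← IsScalarTower.algebraMap_apply A E (FractionRing E)]

theorem mem_sat (φ : D →ₐ[A] E) (x : FractionRing E) :
    x ∈ sat A E φ ↔ ∃ a ∈ nonZeroDivisors A, ∃ d : D,
      algebraMap A (FractionRing E) a * x = algebraMap E (FractionRing E) (φ d) := Iff.rfl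

theorem isUnit_algebraMap_fractionRing (hmin : (minimalPrimes A).Finite) (a : A)
    (ha : a ∈ nonZeroDivisors A) : IsUnit (algebraMap A (FractionRing E) a) := by
  have hloc : IsLocalization (Algebra.algebraMapSubmonoid E (nonZeroDivisors A)) (FractionRing E) :=
    isLocalization_fractionRing A E hmin
  rw [IsScalarTower.algebraMap_apply A E (FractionRing E)]
  exact IsLocalization.map_units (M := Algebra.algebraMapSubmonoid E (nonZeroDivisors A))
    (FractionRing E) ⟨algebraMap A E a, a, ha, rfl⟩

theorem sat_inv (hmin : (minimalPrimes A).Finite) (φ : D →ₐ[A] E) :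
    ∀ s ∈ nonZeroDivisors A, ∃ y ∈ sat A E φ, algebraMap A (FractionRing E) s * y = 1 := by
  intro s hs
  obtain ⟨u, hu⟩ := isUnit_algebraMap_fractionRing A E hmin s hs
  refine ⟨((u⁻¹ : (FractionRing E)ˣ) : FractionRing E), ⟨s, hs, 1, ?_⟩, ?_⟩
  · rw [← hu, map_one, map_one]; simp
  · rw [← hu]; simp

/-- Non-zero-divisors of intermediate rings `K_A ⊆ L ⊆ K_E` are invertible in `L`. -/
theorem exists_inv_mem_subalgebra_fractionRing_of_nzd (hmin : (minimalPrimes A).Finite)
    (L : Subalgebra A (FractionRing E))
    (hL : ∀ s ∈ nonZeroDivisors A, ∃ y ∈ L, algebraMap A (FractionRing E) s * y = 1)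
    (d : FractionRing E) (hd : d ∈ L) (hu : ∀ x ∈ L, x * d = 0 → x = 0) :
    ∃ l ∈ L, d * l = 1 := by
  have hloc : IsLocalization (Algebra.algebraMapSubmonoid E (nonZeroDivisors A)) (FractionRing E) :=
    isLocalization_fractionRing A E hmin
  have hArt : IsArtinianRing (FractionRing A) :=
    isArtinianRing_fractionRing A (FractionRing A) hmin
  letI : Algebra (FractionRing A) (FractionRing E) :=
    localizationAlgebra (nonZeroDivisors A) E
  have : IsScalarTower A (FractionRing A) (FractionRing E) :=
    isScalarTower_localizationAlgebra (nonZeroDivisors A) E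
  have hfin : Module.Finite (FractionRing A) (FractionRing E) :=
    finite_K_T A (FractionRing A) E (FractionRing E)
  exact exists_inv_mem_subalgebra_of_nzd A (nonZeroDivisors A) (FractionRing A) (FractionRing E)
    L hL d hd hu

/-- every non-zero-divisor of `D ⊆ E` divides a non-zero-divisor of `A`. -/
theorem exists_mul_eq_algebraMap (hmin : (minimalPrimes A).Finite) (φ : D →ₐ[A] E)
    (hφ : Function.Injective φ) (d : D) (hnzd : ∀ x : D, x * d = 0 → x = 0) :
    ∃ d' : D, ∃ b ∈ nonZeroDivisors A, d * d' = algebraMap A D b := by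
  have hinj : Function.Injective (algebraMap E (FractionRing E)) := IsFractionRing.injective _ _
  have hd : algebraMap E (FractionRing E) (φ d) ∈ sat A E φ :=
    ⟨1, one_mem _, d, by rw [map_one, one_mul]⟩
  have hu : ∀ x ∈ sat A E φ, x * algebraMap E (FractionRing E) (φ d) = 0 → x = 0 := by
    rintro x ⟨a, ha, d', hd'⟩ hx
    have h1 : algebraMap E (FractionRing E) (φ (d' * d)) = 0 := by
      rw [map_mul, map_mul, ← hd', mul_assoc, hx, mul_zero]
    have h2 : d' * d = 0 := by
      apply hφ
      apply hinj
      rw [h1, map_zero, map_zero]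
    have h3 : d' = 0 := hnzd d' h2
    rw [h3, map_zero, map_zero] at hd'
    exact (isUnit_algebraMap_fractionRing A E hmin a ha).mul_right_eq_zero.mp hd'
  obtain ⟨l, ⟨b, hb, d', hd'⟩, hl⟩ := exists_inv_mem_subalgebra_fractionRing_of_nzd A E hmin
    (sat A E φ) (sat_inv A E hmin φ) _ hd hu
  refine ⟨d', b, hb, ?_⟩
  apply hφ
  apply hinj
  rw [map_mul, map_mul, ← hd', AlgHom.commutes,
    ← IsScalarTower.algebraMap_apply A E (FractionRing E)]
  calc algebraMap E (FractionRing E) (φ d) * (algebraMap A (FractionRing E) b * l)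
      = algebraMap A (FractionRing E) b * (algebraMap E (FractionRing E) (φ d) * l) := by ring
    _ = algebraMap A (FractionRing E) b := by rw [hl, mul_one]

/-- `D ⊆ E` is, up to denominators in `nzd(A)`, spanned over `A` by a finite set. -/
theorem exists_finset_span_of_injective (hmin : (minimalPrimes A).Finite) (φ : D →ₐ[A] E)
    (hφ : Function.Injective φ) :
    ∃ t : Finset D, ∀ d : D, ∃ a ∈ nonZeroDivisors A, a • d ∈ Submodule.span A (t : Set D) := by
  classical
  have hinj : Function.Injective (algebraMap E (FractionRing E)) := IsFractionRing.injective _ _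
  have hloc : IsLocalization (Algebra.algebraMapSubmonoid E (nonZeroDivisors A)) (FractionRing E) :=
    isLocalization_fractionRing A E hmin
  have hArt : IsArtinianRing (FractionRing A) :=
    isArtinianRing_fractionRing A (FractionRing A) hmin
  letI : Algebra (FractionRing A) (FractionRing E) :=
    localizationAlgebra (nonZeroDivisors A) E
  have : IsScalarTower A (FractionRing A) (FractionRing E) :=
    isScalarTower_localizationAlgebra (nonZeroDivisors A) E
  have hfin : Module.Finite (FractionRing A) (FractionRing E) :=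
    finite_K_T A (FractionRing A) E (FractionRing E)
  have : IsNoetherian (FractionRing A) (FractionRing E) := inferInstance
  let ψ : D →ₐ[A] FractionRing E := (IsScalarTower.toAlgHom A E (FractionRing E)).comp φ
  have hψ : Function.Injective ψ := hinj.comp hφ
  have hfg : (Submodule.span (FractionRing A) (Set.range ψ)).FG := IsNoetherian.noetherian _
  obtain ⟨t₁, ht₁, hspan⟩ := (Submodule.fg_span_iff_fg_span_finset_subset _).mp hfg
  rw [← Set.image_univ] at ht₁
  obtain ⟨t, -, rfl⟩ := Finset.subset_set_image_iff.mp ht₁
  refine ⟨t, fun d => ?_⟩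
  have hd : ψ d ∈ Submodule.span (FractionRing A) ((t.image ψ : Finset _) : Set (FractionRing E)) := by
    rw [← hspan]; exact Submodule.subset_span ⟨d, rfl⟩
  obtain ⟨a, ha, hay⟩ := exists_smul_mem_span A (nonZeroDivisors A) (FractionRing A)
    (FractionRing E) _ _ hd
  refine ⟨a, ha, ?_⟩
  rw [Finset.coe_image] at hay
  change _ ∈ Submodule.span A (ψ.toLinearMap '' (t : Set D)) at hay
  rw [← Submodule.map_span ψ.toLinearMap] at hay
  obtain ⟨z, hz, hzd⟩ := hay
  have : z = a • d := by
    apply hψ
    rw [map_smul, Algebra.smul_def]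
    exact hzd
  rw [← this]
  exact hz

end Frac

end Groth.Agent.Lib.Helper69.TotFrac2
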