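import Mathlib
import Groth.Agent.Lib.Helper69.WEtFlat

set_option autoImplicit false
set_option linter.style.haveILetI false
set_option linter.unusedSectionVars false
universe u
open TensorProduct

namespace Groth.Agent.Lib.Helper69.WEtFlatGen

/-- a flat surjective ring map has pure kernel -/
lemma exists_eq_mul_of_flat_of_surjective {R S : Type*} [CommRing R] [CommRing S] (f : R →+* S)
    (hf : f.Flat) (hs : Function.Surjective f) {x : R} (hx : x ∈ RingHom.ker f) :
    ∃ y ∈ RingHom.ker f, x = x * y := by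
  algebraize [f]
  have e : (R ⧸ RingHom.ker (Algebra.ofId R S)) ≃ₐ[R] S :=
    Ideal.quotientKerAlgEquivOfSurjective (f := Algebra.ofId R S) hs
  haveI : (RingHom.ker (Algebra.ofId R S)).Pure := Module.Flat.of_linearEquiv e.toLinearEquiv
  exact Ideal.exists_eq_mul_of_pure (I := RingHom.ker (Algebra.ofId R S)) hx

section Key

variable {A B : Type u} [CommRing A] [CommRing B] [Algebra A B]
  (N : Type u) [AddCommGroup N] [Module A N] [Module B N] [IsScalarTower A B N]
  [Module Bᵐᵒᵖ N] [IsCentralScalar B N] [IsScalarTower A Bᵐᵒᵖ N]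
  (I : Ideal B)

/-- `N ⊗[A] I → (B ⊕ N) ⊗[A] B` -/
noncomputable def Psi : N ⊗[A] I →ₗ[B] TrivSqZeroExt B N ⊗[A] B :=
  TensorProduct.AlgebraTensorModule.map (TrivSqZeroExt.inrHom B N) (I.subtype.restrictScalars A)

/-- `N ⊗[A] I → N ⊗[B] I` -/
noncomputable def Phi : N ⊗[A] I →ₗ[B] N ⊗[B] I := TensorProduct.mapOfCompatibleSMul B A B N I

lemma Psi_tmul (n : N) (i : I) :
    Psi N I (n ⊗ₜ i) = (TrivSqZeroExt.inr n : TrivSqZeroExt B N) ⊗ₜ[A] (i : B) := rfl

lemma Phi_tmul (n : N) (i : I) : Phi (A := A) N I (n ⊗ₜ i) = n ⊗ₜ i := rfl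

lemma inr_mul_eq (n : N) (x : TrivSqZeroExt B N) :
    (TrivSqZeroExt.inr n : TrivSqZeroExt B N) * x = TrivSqZeroExt.inr (x.fst • n) := by
  ext <;> simp

lemma Psi_mul_gen (b : B) (e : TrivSqZeroExt B N) (b' : B) (w : N ⊗[A] I) :
    ∃ k ∈ LinearMap.ker (Phi (A := A) N I),
      Psi N I w * ((b • e) ⊗ₜ[A] b' - e ⊗ₜ[A] (b • b')) = Psi N I k := by
  induction w with
  | zero => exact ⟨0, by simp, by simp⟩
  | add x y hx hy =>
    obtain ⟨k1, hk1, e1⟩ := hx
    obtain ⟨k2, hk2, e2⟩ := hy
    exact ⟨k1 + k2, add_mem hk1 hk2, by rw [map_add, add_mul, e1, e2, map_add]⟩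
  | tmul n i =>
    let i' : I := ⟨i * b', I.mul_mem_right _ i.2⟩
    refine ⟨(b • (e.fst • n)) ⊗ₜ[A] i' - (e.fst • n) ⊗ₜ[A] (b • i'), ?_, ?_⟩
    · rw [LinearMap.mem_ker, map_sub, Phi_tmul, Phi_tmul, smul_tmul, sub_self]
    · rw [map_sub, Psi_tmul, Psi_tmul, Psi_tmul, mul_sub, Algebra.TensorProduct.tmul_mul_tmul,
        Algebra.TensorProduct.tmul_mul_tmul, inr_mul_eq, inr_mul_eq]
      simp [i', mul_smul, mul_comm b b', mul_left_comm]
      congr 1
      ring

/-- multiplying the image of `Psi` by an element of the kernel of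
`E ⊗[A] B → E ⊗[B] B` lands in `Psi (ker Phi)` -/
lemma Psi_mul_mem (y : TrivSqZeroExt B N ⊗[A] B)
    (hy : y ∈ LinearMap.ker (TensorProduct.mapOfCompatibleSMul B A B (TrivSqZeroExt B N) B)) :
    ∀ w : N ⊗[A] I, ∃ k ∈ LinearMap.ker (Phi (A := A) N I), Psi N I w * y = Psi N I k := by
  rw [TensorProduct.AlgebraTensorModule.ker_mapOfCompatibleSMul] at hy
  induction hy using Submodule.span_induction with
  | mem y hy =>
    obtain ⟨b, e, b', rfl⟩ := hy
    exact fun w => Psi_mul_gen N I b e b' w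
  | zero => exact fun w => ⟨0, by simp, by simp⟩
  | add y₁ y₂ _ _ h₁ h₂ =>
    intro w
    obtain ⟨k1, hk1, e1⟩ := h₁ w
    obtain ⟨k2, hk2, e2⟩ := h₂ w
    exact ⟨k1 + k2, add_mem hk1 hk2, by rw [mul_add, e1, e2, map_add]⟩
  | smul b y _ h =>
    intro w
    obtain ⟨k, hk, e⟩ := h w
    exact ⟨b • k, Submodule.smul_mem _ b hk, by rw [mul_smul_comm, e, map_smul]⟩

lemma Psi_injective [Module.Flat A N] : Function.Injective (Psi (A := A) N I) := by
  have h1 : Function.Injective ((I.subtype.restrictScalars A).lTensor N) :=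
    Module.Flat.lTensor_preserves_injective_linearMap _ I.subtype_injective
  have h2 : Function.LeftInverse (((TrivSqZeroExt.sndHom B N).restrictScalars A).rTensor B)
      (((TrivSqZeroExt.inrHom B N).restrictScalars A).rTensor B) := by
    intro x
    rw [← LinearMap.comp_apply, ← LinearMap.rTensor_comp]
    have : (TrivSqZeroExt.sndHom B N).restrictScalars A ∘ₗ
        (TrivSqZeroExt.inrHom B N).restrictScalars A = LinearMap.id := by
      ext n; simp
    rw [this, LinearMap.rTensor_id, LinearMap.id_apply]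
  have h3 : ∀ w, Psi (A := A) N I w = ((TrivSqZeroExt.inrHom B N).restrictScalars A).rTensor B
      (((I.subtype.restrictScalars A).lTensor N) w) := by
    intro w
    induction w with
    | zero => simp
    | add x y hx hy => simp only [map_add, hx, hy]
    | tmul n i => rfl
  intro w w' hww
  rw [h3, h3] at hww
  exact h1 (h2.injective hww)

end Key

/-- **Stacks 092C**: if `B ⊗[A] B → B` is flat and `N` is a `B`-module which is flat over `A`,
then `N` is flat over `B` (no flatness of `B` over `A` needed). -/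
theorem flat_of_flat_lmul' {A B : Type u} [CommRing A] [CommRing B] [Algebra A B]
    (h : (Algebra.TensorProduct.lmul' A (S := B)).Flat)
    (N : Type u) [AddCommGroup N] [Module A N] [Module B N] [IsScalarTower A B N]
    [Module.Flat A N] : Module.Flat B N := by
  letI : Module Bᵐᵒᵖ N := Module.compHom _ ((RingHom.id B).fromOpposite mul_comm)
  haveI : IsCentralScalar B N := ⟨fun r m => rfl⟩
  haveI : IsScalarTower A Bᵐᵒᵖ N := ⟨fun a b m => by
    show (a • b).unop • m = a • (b.unop • m)
    simp⟩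
  have hμ := h.mapOfCompatibleSMul (TrivSqZeroExt B N) B
  have hsurj := Algebra.TensorProduct.mapOfCompatibleSMul_surjective B A (TrivSqZeroExt B N)
    (TrivSqZeroExt B N) B
  rw [Module.Flat.iff_lTensor_injective']
  intro I
  rw [injective_iff_map_eq_zero]
  intro x hx
  obtain ⟨w₀, rfl⟩ := TensorProduct.mapOfCompatibleSMul_surjective B A B N I x
  -- `Psi w₀` lies in the kernel of `μ`
  have hz : Algebra.TensorProduct.mapOfCompatibleSMul B A (TrivSqZeroExt B N)
      (TrivSqZeroExt B N) B (Psi N I w₀) = 0 := by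
    have key : ∀ w : N ⊗[A] I, Algebra.TensorProduct.mapOfCompatibleSMul B A (TrivSqZeroExt B N)
        (TrivSqZeroExt B N) B (Psi N I w) =
        (TrivSqZeroExt.inrHom B N).rTensor B (I.subtype.lTensor N
          (TensorProduct.mapOfCompatibleSMul B A B N I w)) := by
      intro w
      induction w with
      | zero => simp
      | add x y hx hy => simp only [map_add, hx, hy]
      | tmul n i => rfl
    rw [key, hx, map_zero]
  obtain ⟨y, hy, hzy⟩ := exists_eq_mul_of_flat_of_surjective _ hμ hsurj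
    (x := Psi N I w₀) hz
  obtain ⟨k, hk, e⟩ := Psi_mul_mem N I y hy w₀
  have hwk : w₀ = k := Psi_injective N I (hzy.trans e)
  rw [hwk]
  exact hk

end Groth.Agent.Lib.Helper69.WEtFlatGen
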