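import Mathlib
import Groth.Agent.Lib.Helper69.WEtFlat
import Groth.Agent.S7129
import Groth.Agent.S7130

set_option autoImplicit false
set_option linter.style.haveILetI false
universe u
open TensorProduct

/-!
# Weakly étale algebras over absolutely flat / reduced rings (helper69)

* `absolutelyFlat_of_weaklyEtale`: weakly étale over absolutely flat is absolutely flat (Stacks 092F (1));
* `isReduced_of_weaklyEtale`: weakly étale over reduced is reduced (Stacks 092F (2)).
-/

namespace Groth.Agent.Lib.Helper69.WEtReduced

open Groth.Agent.Lib.Helper69.WEtFlat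

/-- weakly étale over an absolutely flat ring is absolutely flat -/
lemma absolutelyFlat_of_weaklyEtale (P B : Type u) [CommRing P] [CommRing B] [Algebra P B]
    [Algebra.WeaklyEtale P B]
    (hP : ∀ (M : Type u) [AddCommGroup M] [Module P M], Module.Flat P M)
    (M : Type u) [AddCommGroup M] [Module B M] : Module.Flat B M := by
  letI : Module P M := Module.compHom M (algebraMap P B)
  haveI : IsScalarTower P B M := IsScalarTower.of_algebraMap_smul fun r m => rfl
  haveI : Module.Flat P M := hP M
  exact flat_of_flat_lmul' (Algebra.WeaklyEtale.flat_lmul' P B) M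

lemma injective_algebraMap_pi_residueField (A : Type u) [CommRing A] [IsReduced A] :
    Function.Injective (algebraMap A (∀ p : PrimeSpectrum A, p.asIdeal.ResidueField)) := by
  rw [injective_iff_map_eq_zero]
  intro a ha
  have h : ∀ p : PrimeSpectrum A, a ∈ p.asIdeal := by
    intro p
    have := congrFun ha p
    rw [Pi.algebraMap_apply, Pi.zero_apply] at this
    rw [← Ideal.ker_algebraMap_residueField p.asIdeal]
    exact this
  have : a ∈ nilradical A := by
    rw [nilradical_eq_sInf, Ideal.mem_sInf]
    intro I hI
    exact h ⟨I, hI⟩
  rw [nilradical_eq_zero A] at this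
  exact this

/-- Stacks 092F: weakly étale over reduced is reduced. -/
theorem isReduced_of_weaklyEtale (A B : Type u) [CommRing A] [CommRing B] [Algebra A B]
    [IsReduced A] [Algebra.WeaklyEtale A B] : IsReduced B := by
  let P := ∀ p : PrimeSpectrum A, p.asIdeal.ResidueField
  have hP : ∀ (M : Type u) [AddCommGroup M] [Module P M], Module.Flat P M := fun M _ _ =>
    Groth.Agent.S7129.result (PrimeSpectrum A) (fun p => p.asIdeal.ResidueField) M
  have hB' : ∀ (M : Type u) [AddCommGroup M] [Module (P ⊗[A] B) M], Module.Flat (P ⊗[A] B) M :=
    fun M _ _ => absolutelyFlat_of_weaklyEtale P (P ⊗[A] B) hP M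
  have h01 := (Groth.Agent.S7130.result (P ⊗[A] B)).out 0 1
  haveI : IsReduced (P ⊗[A] B) := (h01.1 hB').1
  have hinj : Function.Injective (Algebra.TensorProduct.includeRight : B →ₐ[A] P ⊗[A] B) :=
    Algebra.TensorProduct.includeRight_injective (injective_algebraMap_pi_residueField A)
  exact isReduced_of_injective _ hinj

end Groth.Agent.Lib.Helper69.WEtReduced
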