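import Mathlib
import Groth.Agent.Lib.Helper69.WEtReduced
import Groth.Agent.S1967

set_option autoImplicit false
set_option linter.style.haveILetI false
universe u
open TensorProduct

namespace Groth.Agent.Lib.Helper69.WEtNormal

/-- a nontrivial von Neumann regular ring whose idempotents are trivial is a field -/
theorem isField_of_vnr_of_idempotent (T : Type*) [CommRing T] [Nontrivial T]
    (hvnr : ∀ z : T, ∃ w : T, z = z * (w * z))
    (hidem : ∀ e : T, IsIdempotentElem e → e = 0 ∨ e = 1) : IsField T := by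
  refine ⟨exists_pair_ne T, mul_comm, ?_⟩
  intro z hz
  obtain ⟨w, hzy⟩ := hvnr z
  have hid : IsIdempotentElem (w * z) := by
    change w * z * (w * z) = w * z
    calc w * z * (w * z) = w * (z * (w * z)) := by ring
      _ = w * z := by rw [← hzy]
  rcases hidem _ hid with h0 | h1
  · exfalso
    rw [h0, mul_zero] at hzy
    exact hz hzy
  · exact ⟨w, by rw [mul_comm]; exact h1⟩

theorem vnr_of_absolutelyFlat (T : Type u) [CommRing T]
    (h : ∀ (M : Type u) [AddCommGroup M] [Module T M], Module.Flat T M) (z : T) :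
    ∃ w : T, z = z * (w * z) := by
  haveI : (Ideal.span {z}).Pure := h _
  obtain ⟨y, hy, hzy⟩ := Ideal.exists_eq_mul_of_pure (I := Ideal.span {z}) (Ideal.subset_span rfl)
  obtain ⟨w, rfl⟩ := Ideal.mem_span_singleton'.mp hy
  exact ⟨w, hzy⟩

theorem idem_local {B : Type*} [CommRing B] [IsLocalRing B] (b : B) (hb : IsIdempotentElem b) :
    b = 0 ∨ b = 1 := by
  have h0 : b * (1 - b) = 0 := by
    rw [mul_sub, mul_one, hb.eq, sub_self]
  rcases IsLocalRing.isUnit_or_isUnit_one_sub_self b with h | h
  · right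
    have := h.mul_left_cancel (a := b) (b := b) (c := 1) (by rw [mul_one]; exact hb.eq)
    exact this
  · left
    exact (h.mul_left_eq_zero).mp h0

/-- Weakly étale local algebras over a normal domain are normal domains (Stacks 0950). -/
theorem isDomain_and_isIntegrallyClosed (A B : Type u) [CommRing A] [IsDomain A]
    [IsIntegrallyClosed A] [CommRing B] [IsLocalRing B] [Algebra A B] [Algebra.WeaklyEtale A B] :
    IsDomain B ∧ IsIntegrallyClosed B := by
  let K := FractionRing A
  have hic : IsIntegrallyClosedIn B (B ⊗[A] K) := Groth.Agent.S1967.result A K B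
  -- all modules over K ⊗ B are flat
  have hK : ∀ (M : Type u) [AddCommGroup M] [Module K M], Module.Flat K M := fun M _ _ =>
    inferInstance
  have hT' : ∀ (M : Type u) [AddCommGroup M] [Module (K ⊗[A] B) M], Module.Flat (K ⊗[A] B) M :=
    fun M _ _ => WEtReduced.absolutelyFlat_of_weaklyEtale K (K ⊗[A] B) hK M
  let e : B ⊗[A] K ≃ₐ[A] K ⊗[A] B := Algebra.TensorProduct.comm A B K
  have hinj : Function.Injective (algebraMap B (B ⊗[A] K)) :=
    Algebra.TensorProduct.includeLeft_injective (S := B)
      (IsFractionRing.injective A K)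
  haveI : Nontrivial (B ⊗[A] K) := hinj.nontrivial
  have hvnr : ∀ z : B ⊗[A] K, ∃ w : B ⊗[A] K, z = z * (w * z) := by
    intro z
    obtain ⟨w', hw'⟩ := vnr_of_absolutelyFlat (K ⊗[A] B) hT' (e z)
    refine ⟨e.symm w', ?_⟩
    apply e.injective
    rw [map_mul, map_mul, AlgEquiv.apply_symm_apply]
    exact hw'
  have hidem : ∀ t : B ⊗[A] K, IsIdempotentElem t → t = 0 ∨ t = 1 := by
    intro t ht
    have hint : IsIntegral B t := by
      refine ⟨Polynomial.X ^ 2 - Polynomial.X, Polynomial.monic_X_pow_sub (by simp), ?_⟩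
      simp [pow_two, ht.eq]
    obtain ⟨b, rfl⟩ := (isIntegrallyClosedIn_iff.mp hic).2 hint
    have hb : IsIdempotentElem b := by
      apply hinj
      rw [map_mul]
      exact ht
    rcases idem_local b hb with h | h
    · left; rw [h, map_zero]
    · right; rw [h, map_one]
  have hfield := isField_of_vnr_of_idempotent (B ⊗[A] K) hvnr hidem
  letI := hfield.toField
  have hdom : IsDomain B := hinj.isDomain (algebraMap B (B ⊗[A] K))
  refine ⟨hdom, ?_⟩
  rw [isIntegrallyClosed_iff (FractionRing B)]
  intro x hx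
  let φ : FractionRing B →ₐ[B] B ⊗[A] K :=
    IsFractionRing.liftAlgHom (g := Algebra.ofId B (B ⊗[A] K)) hinj
  have hφx : IsIntegral B (φ x) := hx.map φ
  obtain ⟨b, hb⟩ := (isIntegrallyClosedIn_iff.mp hic).2 hφx
  refine ⟨b, ?_⟩
  apply φ.toRingHom.injective
  change φ (algebraMap B (FractionRing B) b) = φ x
  rw [AlgHom.commutes, hb]

end Groth.Agent.Lib.Helper69.WEtNormal
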