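import Mathlib
import Groth.Prelude.Def_FlatCA
import Groth.Agent.Lib.Helper74.WeakAss
import Groth.Agent.Lib.Helper74.WeakAssFinite
import Groth.Agent.Lib.Helper82.IndEtale
import Groth.Agent.Lib.Helper69.TorAmpWEt
import Groth.Agent.S1233

/-!
# Weakly associated primes and ind-étale local extensions (helper69)

* `mem_weakAss_tensor_of_map_maximalIdeal`: for `R → B` flat local with `m_R B = m_B`,
  `m_R ∈ WeakAss(M)` implies `m_B ∈ WeakAss(B ⊗ M)`;
* `mem_weakAss_of_mem_weakAss_tensor`: conversely, for `R → B` local and ind-étale.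
-/

set_option autoImplicit false
set_option linter.style.haveILetI false
universe u

namespace Groth.Agent.Lib.Helper69.WeakAssHens

open FlatCA TensorProduct IsLocalRing Groth.Agent.Lib.Helper74.WeakAss
  Groth.Agent.Lib.Helper82 CategoryTheory

local macro "ann" R:term:max m:term:max : term =>
  `(Submodule.annihilator (Submodule.span $R (Singleton.singleton $m : Set _)))

section Ascent

variable {R B : Type u} [CommRing R] [CommRing B] [IsLocalRing R] [IsLocalRing B] [Algebra R B]
  [Module.Flat R B] (M : Type u) [AddCommGroup M] [Module R M]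

theorem mem_weakAss_tensor_of_map_maximalIdeal
    (hmB : (maximalIdeal R).map (algebraMap R B) = maximalIdeal B)
    (h : maximalIdeal R ∈ weakAss R M) : maximalIdeal B ∈ weakAss B (B ⊗[R] M) := by
  obtain ⟨x, hx⟩ := h
  refine ⟨(1 : B) ⊗ₜ[R] x, ?_⟩
  rw [Groth.Agent.Lib.Helper74.WeakAss.ann_one_tmul_of_flat]
  refine ⟨⟨inferInstance, (Ideal.map_mono hx.1.2).trans hmB.le⟩, ?_⟩
  rintro q ⟨hq, hle⟩ -
  have h1 : ann R x ≤ q.comap (algebraMap R B) := Ideal.map_le_iff_le_comap.mp hle
  haveI : (q.comap (algebraMap R B)).IsPrime := Ideal.IsPrime.comap _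
  have h2 : maximalIdeal R ≤ q.comap (algebraMap R B) :=
    hx.2 ⟨inferInstance, h1⟩ (le_maximalIdeal (Ideal.IsPrime.ne_top inferInstance))
  rw [← hmB]
  exact Ideal.map_le_iff_le_comap.mpr h2

end Ascent

section Descent

variable {R B : Type u} [CommRing R] [CommRing B] [Algebra R B] (d : IndEtData R B)
  (M : Type u) [AddCommGroup M] [Module R M]

/-- every element of `B ⊗ M` comes from a stage -/
theorem exists_stage (y : B ⊗[R] M) :
    ∃ (j : d.J) (yC : d.R j ⊗[R] M), (d.φ j).toLinearMap.rTensor M yC = y := by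
  induction y using TensorProduct.induction_on with
  | zero => exact ⟨Classical.choice IsFiltered.nonempty, 0, map_zero _⟩
  | tmul b m =>
    obtain ⟨j, c, rfl⟩ := d.surj b
    exact ⟨j, c ⊗ₜ m, rfl⟩
  | add z₁ z₂ h₁ h₂ =>
    obtain ⟨j₁, z₁', rfl⟩ := h₁
    obtain ⟨j₂, z₂', rfl⟩ := h₂
    refine ⟨IsFiltered.max j₁ j₂,
      (d.t (IsFiltered.leftToMax j₁ j₂)).toLinearMap.rTensor M z₁' +
      (d.t (IsFiltered.rightToMax j₁ j₂)).toLinearMap.rTensor M z₂', ?_⟩
    rw [map_add, ← LinearMap.comp_apply, ← LinearMap.comp_apply, ← LinearMap.rTensor_comp,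
      ← LinearMap.rTensor_comp, ← AlgHom.comp_toLinearMap, ← AlgHom.comp_toLinearMap,
      d.φ_comp_t, d.φ_comp_t]

include d in
/-- descent of weak associatedness of the closed point along a local ind-étale extension -/
theorem mem_weakAss_of_mem_weakAss_tensor [IsLocalRing R] [IsLocalRing B]
    [IsLocalHom (algebraMap R B)]
    (h : maximalIdeal B ∈ weakAss B (B ⊗[R] M)) : maximalIdeal R ∈ weakAss R M := by
  obtain ⟨y, hy⟩ := h
  obtain ⟨j, yC, rfl⟩ := exists_stage d M y
  letI : Algebra (d.R j) B := (d.φ j).toRingHom.toAlgebra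
  haveI : IsScalarTower R (d.R j) B :=
    IsScalarTower.of_algebraMap_eq fun r => ((d.φ j).commutes r).symm
  haveI := d.etale j
  haveI : Algebra.WeaklyEtale R B := d.weaklyEtale
  haveI : Module.Flat (d.R j) B :=
    Groth.Agent.Lib.Helper69.TorAmpWEt.flat_of_weaklyEtale_tower R (d.R j) B
  let u : Ideal (d.R j) := (maximalIdeal B).comap (algebraMap (d.R j) B)
  haveI hu : u.IsPrime := Ideal.IsPrime.comap _
  haveI : u.LiesOver (maximalIdeal R) := ⟨by
    show maximalIdeal R = (u.comap (algebraMap R (d.R j)))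
    rw [Ideal.comap_comap, ← IsScalarTower.algebraMap_eq, IsLocalRing.maximalIdeal_comap]⟩
  -- `B ⊗[C] (C ⊗[R] M) ≃ B ⊗[R] M`
  let e : B ⊗[d.R j] (d.R j ⊗[R] M) ≃ₗ[B] B ⊗[R] M :=
    TensorProduct.AlgebraTensorModule.cancelBaseChange R (d.R j) B B M
  have he : ∀ z : d.R j ⊗[R] M, e ((1 : B) ⊗ₜ[d.R j] z) = (d.φ j).toLinearMap.rTensor M z := by
    intro z
    induction z using TensorProduct.induction_on with
    | zero => simp
    | tmul c m =>
      rw [TensorProduct.AlgebraTensorModule.cancelBaseChange_tmul, LinearMap.rTensor_tmul,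
        Algebra.smul_def, mul_one]
      rfl
    | add z₁ z₂ h₁ h₂ => rw [TensorProduct.tmul_add, map_add, h₁, h₂, map_add]
  have hann : ann B ((d.φ j).toLinearMap.rTensor M yC) =
      (ann (d.R j) yC).map (algebraMap (d.R j) B) := by
    have h3 : ann B (e ((1 : B) ⊗ₜ[d.R j] yC)) = ann B ((1 : B) ⊗ₜ[d.R j] yC) :=
      ann_map_of_injective e.toLinearMap e.injective _
    rw [← he, h3, ann_one_tmul_of_flat]
  rw [hann] at hy
  have key : u ∈ (ann (d.R j) yC).minimalPrimes := by
    refine ⟨⟨hu, Ideal.map_le_iff_le_comap.mp hy.1.2⟩, ?_⟩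
    rintro q' ⟨hq', hle⟩ hq'u
    haveI := hq'
    obtain ⟨Q, hQle, hQprime, hQover⟩ :=
      Ideal.exists_ideal_le_liesOver_of_le (p := q') (q := u) (maximalIdeal B) hq'u
    have h1 : (ann (d.R j) yC).map (algebraMap (d.R j) B) ≤ Q := by
      rw [Ideal.map_le_iff_le_comap]
      refine hle.trans ?_
      rw [hQover.over]
    have h2 : maximalIdeal B ≤ Q := hy.2 ⟨hQprime, h1⟩ hQle
    intro c hc
    rw [hQover.over]
    exact h2 hc
  exact (Groth.Agent.S1233.result M (maximalIdeal R) u).1 ⟨yC, key⟩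

end Descent

end Groth.Agent.Lib.Helper69.WeakAssHens
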