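import Mathlib
import Groth.Prelude.Def_CohB1
import Groth.Prelude.Def_Flat
import Groth.Agent.Lib.Helper16.ProjSpaceSmooth
import Groth.Agent.Lib.Helper22.SmoothDim
import Groth.Agent.Lib.Helper54.AffineSpaceSmoothDim

/-!
# [WP3] for helper22's S19040: the fibres of `P^1_S ⟶ S` have dimension `≤ 1`

More generally `P^n_S ⟶ S` is smooth of relative dimension `n`, hence all fibre dimensions are `n`.
-/

set_option autoImplicit false
universe u
open CategoryTheory CategoryTheory.Limits AlgebraicGeometry

namespace Groth.Agent.Lib.Helper69.WidePBWP3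

open Groth.Agent.Lib.Helper16.ProjSpaceSmooth Groth.Agent.Lib.Helper60.PicPn
  Groth.Agent.Lib.Helper60.ProjUPLib

theorem locally_ρ (n : ℕ) (R : Type u) [CommRing R] (i : Fin (n + 1)) :
    RingHom.Locally (RingHom.IsStandardSmoothOfRelativeDimension n) (ρ n R i) := by
  apply RingHom.locally_of RingHom.isStandardSmoothOfRelativeDimension_respectsIso
  rw [ρ_eq]
  have hC : (MvPolynomial.C : R →+* MvPolynomial {j : Fin (n + 1) // j ≠ i} R).IsStandardSmoothOfRelativeDimension
      n := by
    have h := Groth.Agent.Lib.Helper54.AffineSpaceSmoothDim.isStandardSmoothOfRelativeDimension_mvPolynomial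
      R {j : Fin (n + 1) // j ≠ i}
    rw [← RingHom.isStandardSmoothOfRelativeDimension_algebraMap] at h
    have hcard : Nat.card {j : Fin (n + 1) // j ≠ i} = n := by
      rw [Nat.card_eq_fintype_card, Fintype.card_subtype_compl, Fintype.card_fin]
      simp
    rw [hcard] at h
    exact h
  exact RingHom.isStandardSmoothOfRelativeDimension_respectsIso.left _ (chartEquiv n R i).symm hC

/-- `P^n_R ⟶ Spec R` is smooth of relative dimension `n`. -/
theorem smoothOfRelativeDimension_toSpec (n : ℕ) (R : Type u) [CommRing R] :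
    SmoothOfRelativeDimension n (CohB1.ProjSpace.toSpec n R) := by
  let 𝒰 : (Proj (CohB1.polyGrading n R)).AffineOpenCover :=
    Proj.affineOpenCoverOfIrrelevantLESpan (CohB1.polyGrading n R)
      (fun i : Fin (n + 1) => (MvPolynomial.X i : MvPolynomial (Fin (n + 1)) R))
      (m := fun _ => 1) (fun i => hX n R i) (fun _ => one_pos) (by
        refine (Groth.Agent.Lib.Helper93.ProjOverIso.irrelevant_le_span_X n R).trans ?_
        rw [Set.image_univ])
  refine IsZariskiLocalAtSource.of_openCover (P := @SmoothOfRelativeDimension n) 𝒰.openCover ?_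
  intro i
  change SmoothOfRelativeDimension n (chart n R i ≫ CohB1.ProjSpace.toSpec n R)
  rw [awayι_toSpec, HasRingHomProperty.Spec_iff (P := @SmoothOfRelativeDimension n)]
  exact locally_ρ n R i

/-- `P^n_S ⟶ S` is smooth of relative dimension `n`. -/
theorem smoothOfRelativeDimension_toBase (n : ℕ) (S : Scheme.{u}) :
    SmoothOfRelativeDimension n (CohB1.ProjSpaceOver.toBase n S) := by
  unfold CohB1.ProjSpaceOver.toBase
  haveI := smoothOfRelativeDimension_toSpec n (ULift.{u} ℤ)
  haveI := smoothOfRelativeDimension_isStableUnderBaseChange n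
  exact MorphismProperty.IsStableUnderBaseChange.of_isPullback (P := @SmoothOfRelativeDimension n)
    (IsPullback.of_hasPullback _ _)
    (inferInstance : SmoothOfRelativeDimension n (CohB1.ProjSpace.toSpec n (ULift.{u} ℤ)))

theorem fibreDimAt_projSpace_eq (n : ℕ) (S : Scheme.{u}) (p : ↥(CohB1.ProjSpaceOver n S)) :
    FlatMor.fibreDimAt (CohB1.ProjSpaceOver.toBase n S) p = ((n : ℕ) : WithBot ℕ∞) := by
  haveI := smoothOfRelativeDimension_toBase n S
  exact Groth.Agent.Lib.Helper22.SmoothDim.fibreDimAt_eq_of_smoothOfRelativeDimension n _ p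

theorem fibreDimAt_projLine_le (S : Scheme.{u}) (p : ↥(CohB1.ProjSpaceOver 1 S)) :
    FlatMor.fibreDimAt (CohB1.ProjSpaceOver.toBase 1 S) p ≤ ((1 : ℕ) : WithBot ℕ∞) :=
  (fibreDimAt_projSpace_eq 1 S p).le

end Groth.Agent.Lib.Helper69.WidePBWP3
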